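import Cfsg.Agent.Lib.Push.Dich
import Cfsg.Agent.Lib.Exc.CIT5
import Cfsg.Agent.Lib.GW.Final
import Cfsg.Agent.Lib.ABG.QGrp
import Cfsg.Agent.Lib.BN.SzModel
import Cfsg.Agent.S0516
import Cfsg.Agent.S0486
import Cfsg.Agent.S1221

/-! Simple groups all of whose involution centralizers have normal `2`-complements. -/

set_option autoImplicit false
set_option linter.unusedSectionVars false

namespace Cfsg.Lib.Exc
open Subgroup Cfsg.Lib.Core Cfsg.Lib.Transfer Cfsg.Lib.Forms Cfsg.Lib.U3

universe u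

theorem dd_mul_nn {F : Type*} [Field F] {σ : F →+* F} {q : ℕ} (h : Forms.IsConj σ q) (c : Fˣ) (x y : Heis h)
    (ha : y.a = σ c * σ c / c * x.a) (hb : y.b = c * σ c * x.b) : dd h c * nn h x = nn h y * dd h c :=
  su_ext fun u => by
    have h1 := (map_ne_zero σ).2 c.ne_zero
    have h2 := c.ne_zero
    rw [su_mul_apply, su_mul_apply, dd_apply, nn_apply, nn_apply, dd_apply, ha, hb]
    ext i; fin_cases i <;> simp [h.σσ] <;> field_simp

theorem psu34_not_pnil {F : Type*} [Field F] [Fintype F] (hF : Fintype.card F = 16) :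
    ∃ t : PSU 3 F 4, orderOf t = 2 ∧ ¬ PNil 2 (centralizer ({t} : Set (PSU 3 F 4))) := by
  have := Invol.fact_two
  obtain ⟨σ, h⟩ := Forms.isConj_of_card (q := 4) hF
  obtain ⟨e⟩ := nonempty_psu h
  have h2 : (2 : F) = 0 := two_eq_zero h (n := 2) rfl
  suffices ∃ t : PSU3 h, orderOf t = 2 ∧ ¬ PNil 2 (centralizer ({t} : Set (PSU3 h))) by
    obtain ⟨t, h1, h3⟩ := this
    refine ⟨e.symm t, by rw [MulEquiv.orderOf_eq, h1], fun hp => h3 ((hp.map e.toMonoidHom).mono fun g hg => ?_)⟩
    exact ⟨e.symm g, mem_centralizer_singleton_iff.2 (by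
      rw [← map_mul, ← map_mul, mem_centralizer_singleton_iff.1 hg]), by simp⟩
  have : Fact (Nat.Prime 5) := ⟨by norm_num⟩
  classical
  obtain ⟨c, hc⟩ := exists_prime_orderOf_dvd_card (G := Fˣ) 5 (by rw [Fintype.card_units, hF]; norm_num)
  have hc5 : (c : F) ^ 5 = 1 := by rw [← Units.val_pow_eq_pow_val, ← hc, pow_orderOf_eq_one, Units.val_one]
  have hσ : σ c = (c : F) ^ 4 := h.apply _
  have hcc : c * σ c = 1 := by rw [hσ, ← pow_succ', hc5]
  obtain ⟨y, hy⟩ := Heis.exists_a (h := h) 1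
  have hx : (y * y).a = 0 := Heis.mul_self_a h2 y
  have hx1 : y * y ≠ 1 := fun e => one_ne_zero (hy.symm.trans ((Heis.mul_self_eq_one h2).1 e))
  have hcen := Heis.mem_center.2 hx
  set d : PSU3 h := QuotientGroup.mk' _ (dd h c)
  have key : ∀ x : Heis h, d * pn h x = pn h (Heis.dil h (Units.map σ.toMonoidHom c * Units.map σ.toMonoidHom c / c) x) * d :=
    fun x => by
      have := congrArg (QuotientGroup.mk' (center (SU3 h))) (dd_mul_nn h c x
        (Heis.dil h (Units.map σ.toMonoidHom c * Units.map σ.toMonoidHom c / c) x) (by simp) (by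
          have h1 := (map_ne_zero σ).2 c.ne_zero
          have h2 := c.ne_zero
          simp [h.σσ]; left; field_simp))
      rwa [map_mul, map_mul] at this
  refine ⟨pn h (y * y), ?_, fun hp => ?_⟩
  · rw [orderOf_injective _ (pn_injective h)]
    exact orderOf_eq_prime (by rw [sq]; exact (Heis.mul_self_eq_one h2).2 hx) hx1
  have hQ : IsPGroup 2 (pn h).range :=
    IsPGroup.of_card (n := 6) (by
      rw [← Nat.card_congr (MonoidHom.ofInjective (pn_injective h)).toEquiv, Heis.card]; norm_num)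
  have hd : d ∈ centralizer {pn h (y * y)} := mem_centralizer_singleton_iff.2 (by
    rw [key]
    congr 2
    refine Heis.ext (by rw [Heis.dil_a, hx, mul_zero]) ?_
    have h1 := (map_ne_zero σ).2 c.ne_zero
    have h2 := c.ne_zero
    rw [Heis.dil_b]
    simp only [Units.val_div_eq_div_val, Units.val_mul, Units.coe_map, RingHom.toMonoidHom_eq_coe, MonoidHom.coe_coe,
      map_div₀, map_mul, h.σσ]
    field_simp
    rw [mul_comm (σ c), hcc, one_mul])
  have hdo : (orderOf d).Coprime 2 := Nat.Coprime.coprime_dvd_left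
    ((orderOf_map_dvd ((QuotientGroup.mk' _).comp (dd h)) c).trans hc.dvd) (by norm_num)
  have h3 := hp.mem_centralizer hQ (by
      rintro _ ⟨x, rfl⟩
      exact mem_centralizer_singleton_iff.2 (by rw [← map_mul, ← map_mul, mem_center_iff.1 hcen]))
    (mem_resOf hd hdo) (mem_normalizer_of_cj_le (by
      rintro _ ⟨_, ⟨x, rfl⟩, rfl⟩
      exact ⟨_, by rw [MulEquiv.toMonoidHom_eq_coe, MonoidHom.coe_coe, MulAut.conj_apply, key, mul_inv_cancel_right]⟩))
  have h4 := (h3 _ ⟨y, rfl⟩).trans (key y)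
  have h5 := congrArg Heis.a (pn_injective h (mul_right_cancel h4))
  rw [Heis.dil_a, hy] at h5
  simp only [Units.val_div_eq_div_val, Units.val_mul, Units.coe_map, RingHom.toMonoidHom_eq_coe, MonoidHom.coe_coe,
    hσ, mul_one] at h5
  have h6 : c ^ 2 = 1 := Units.ext (by
    have h2 := c.ne_zero
    field_simp at h5
    rw [Units.val_pow_eq_pow_val, Units.val_one]
    linear_combination (-1) * h5 - (c : F) ^ 2 * hc5)
  have := orderOf_dvd_of_pow_eq_one h6
  rw [hc] at this
  norm_num at this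

variable {G : Type u} [Group G] [Finite G]

theorem solvable_of_pnil {H : Subgroup G} (h : PNil 2 H) : Group.IsSolvable H := by
  have := Invol.fact_two
  obtain ⟨P, N, hN, hc⟩ := hasNormalPComplement_iff.2 h
  have h1 : Group.IsSolvable N := FT.solvable_of_not_two_dvd _ (by rw [← hc.index_eq_card]; exact P.not_dvd_index)
  have h2 : Group.IsSolvable (H ⧸ N) := by
    have := (P.isPGroup'.of_equiv hc.symm.QuotientMulEquiv.symm).isNilpotent
    infer_instance
  exact Group.isSolvable_of_ker_le_range N.subtype (QuotientGroup.mk' N) (by simp)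

theorem twoNil_list [IsSimpleGroup G] (hG : ¬ IsMulCommutative G)
    (hI : ∀ t : G, orderOf t = 2 → PNil 2 (centralizer ({t} : Set G))) : CITList G ∨ GW.Known G := by
  have := Invol.fact_two
  by_cases hr : PRankLE 2 2 G
  · obtain ⟨S⟩ : Nonempty (Sylow 2 G) := inferInstance
    let : Fintype (GaloisField 2 4) := Fintype.ofFinite _
    have hF : Fintype.card (GaloisField 2 4) = 16 := by
      rw [← Nat.card_eq_fintype_card, GaloisField.card 2 4 (by norm_num)]; norm_num
    obtain ⟨P⟩ : Nonempty (Sylow 2 (PSU 3 (GaloisField 2 4) 4)) := inferInstance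
    obtain ⟨t, ht⟩ := exists_prime_orderOf_dvd_card' 2 (FT.even_card_of_simple G fun hh => hG ⟨⟨hh⟩⟩).two_dvd
    have key : ¬ ABG.QW (S : Subgroup G) := fun h => by
      obtain ⟨T, -, -, -, h4⟩ := ABG.exists_qg_centralizer (sylowIn_top S) h (index_ne_two hG) ht
      exact h4 (hasNormalPComplement_iff_top.1 (hasNormalPComplement_iff.2 (hI t ht)))
    rcases Cfsg.Agent.S0516.result hG hr S hF P with ⟨n, -, ⟨e⟩⟩ | h | h | h
    · exact Or.inr (GW.known_of_simple G hG (GW.dc2_of_dihedral S e))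
    · exact (key (Or.inl h)).elim
    · exact (key (Or.inr h)).elim
    · obtain ⟨e⟩ := Cfsg.Agent.S0486.result hF S P h
      obtain ⟨s, h1, h3⟩ := psu34_not_pnil hF
      refine (h3 (((hI (e.symm s) (by rw [MulEquiv.orderOf_eq, h1])).map e.toMonoidHom).mono fun g hg => ?_)).elim
      exact ⟨e.symm g, mem_centralizer_singleton_iff.2 (by
        rw [← map_mul, ← map_mul, mem_centralizer_singleton_iff.1 hg]), by simp⟩
  refine Or.inl (CIT.simple (fun t ht => ?_) hG)
  have h1 : centralizerPPrimeCore 2 t = ⊥ := Push.Dich.LC.th_eq_bot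
    (fun t ht => Layer.pLayerOf_eq_bot_of_solvable (solvable_of_pnil (hI t ht))) (index_ne_two hG)
    (fun H hH => Cfsg.Agent.S1221.result H hH) (oddCore_eq_bot hG) hr ht
  have h2 : resOf 2 (centralizer ({t} : Set G)) = ⊥ :=
    le_bot_iff.1 (h1 ▸ Layer.le_cpc (resOf_le _) (le_normalizer_resOf _) (hI t ht))
  intro x
  obtain ⟨k, hk⟩ := exists_pow_mem_resOf (p := 2) x.2
  exact ⟨k, Subtype.ext (by rwa [h2, mem_bot] at hk)⟩

end Cfsg.Lib.Exc
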