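import Cfsg.Agent.Lib.Pres.Alt0
import Cfsg.Agent.Lib.Linear.AltCover

/-! Degree bound for alternating sections of linear groups: statements and linear algebra. -/

set_option autoImplicit false

namespace Cfsg.Lib.AltDeg

open Module

universe u

/-- The bound for all groups of order less than `N`. -/
def T (N : ℕ) : Prop :=
  ∀ (p : ℕ) [Fact p.Prime] (k : Type) [Field k] [IsAlgClosed k] [CharP k p] (H : Type u) [Group H] [Finite H],
    Nat.card H < N → ∀ (r : ℕ), 9 ≤ r → ∀ π : H →* alternatingGroup (Fin r), Function.Surjective π →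
    ∀ (V : Type) [AddCommGroup V] [Module k V] [FiniteDimensional k V] (ρ : Representation k H V),
      ρ.ker ≤ π.ker → r - 1 - (if p ∣ r then 1 else 0) ≤ finrank k V

/-- The central case of the induction step. -/
def Cen : Prop :=
  ∀ (p : ℕ) [Fact p.Prime] (k : Type) [Field k] [IsAlgClosed k] [CharP k p] (H : Type u) [Group H] [Finite H],
    T.{u} (Nat.card H) → ∀ (r : ℕ), 9 ≤ r → ∀ π : H →* alternatingGroup (Fin r), Function.Surjective π →
    (∀ X : Subgroup H, X.map π = ⊤ → X = ⊤) → π.ker ≤ Subgroup.center H →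
    ∀ (V : Type) [AddCommGroup V] [Module k V] [FiniteDimensional k V] (ρ : Representation k H V),
      Function.Injective ρ → (∀ W : Submodule k V, (∀ g, ∀ v ∈ W, ρ g v ∈ W) → W = ⊥ ∨ W = ⊤) →
      r - 1 - (if p ∣ r then 1 else 0) ≤ finrank k V

variable {k V : Type*} [Field k] [AddCommGroup V] [Module k V]

theorem indep {I J : Type*} (c : J → End k V) (χ : I → J → k) (hχ : Function.Injective χ) (v : I → V)
    (hv : ∀ i, v i ≠ 0) (h : ∀ i j, c j (v i) = χ i j • v i) : LinearIndependent k v := by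
  classical
  rw [linearIndependent_iff']
  intro s
  induction s using Finset.induction_on with
  | empty => simp
  | insert a s ha ih =>
    intro g hg
    rw [Finset.sum_insert ha] at hg
    have h1 : ∀ i ∈ s, g i = 0 := fun i hi => by
      obtain ⟨j, hj⟩ := Function.ne_iff.1 (hχ.ne (show i ≠ a from fun e => ha (e ▸ hi)))
      have h2 := congrArg (c j - χ a j • (1 : End k V)) hg
      simp only [map_add, map_sum, map_smul, LinearMap.sub_apply, LinearMap.smul_apply, End.one_apply, h, sub_self,
        smul_zero, zero_add, map_zero, ← sub_smul, smul_smul] at h2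
      exact (mul_eq_zero.1 (ih _ h2 i hi)).resolve_right (sub_ne_zero.2 hj)
    rw [Finset.sum_eq_zero fun i hi => by rw [h1 i hi, zero_smul], add_zero] at hg
    intro i hi
    rcases Finset.mem_insert.1 hi with rfl | hi
    · exact (smul_eq_zero.1 hg).resolve_right (hv _)
    · exact h1 i hi

theorem card_le [FiniteDimensional k V] {I J : Type*} [Finite I] (c : J → End k V) (χ : I → J → k)
    (hχ : Function.Injective χ) (h : ∀ i, ∃ v ≠ 0, ∀ j, c j v = χ i j • v) : Nat.card I ≤ finrank k V := by
  choose v hv h using h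
  have := Fintype.ofFinite I
  rw [Nat.card_eq_fintype_card]
  exact (indep c χ hχ v hv h).fintype_card_le_finrank

theorem exists_joint [FiniteDimensional k V] [IsAlgClosed k] {J : Type*} (c : J → End k V)
    (hc : ∀ i j, c i * c j = c j * c i) (U : Submodule k V) (hU : U ≠ ⊥) (h : ∀ j, ∀ v ∈ U, c j v ∈ U) :
    ∃ v ∈ U, v ≠ 0 ∧ ∃ χ : J → k, ∀ j, c j v = χ j • v := by
  induction hn : finrank k U using Nat.strong_induction_on generalizing U with
  | _ n ih =>
  by_cases h1 : ∀ j, ∃ a : k, ∀ v ∈ U, c j v = a • v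
  · choose χ hχ using h1
    obtain ⟨v, hv, h0⟩ := (Submodule.ne_bot_iff _).1 hU
    exact ⟨v, hv, h0, χ, fun j => hχ j v hv⟩
  push Not at h1
  obtain ⟨j, hj⟩ := h1
  have : Nontrivial U := Submodule.nontrivial_iff_ne_bot.2 hU
  obtain ⟨a, ha⟩ := End.exists_eigenvalue ((c j).restrict (h j))
  obtain ⟨w, hw⟩ := ha.exists_hasEigenvector
  obtain ⟨v, hv, hv'⟩ := hj a
  have hlt : U ⊓ End.eigenspace (c j) a < U := lt_of_le_of_ne inf_le_left fun e => hv' (End.mem_eigenspace_iff.1 (e.ge hv).2)
  obtain ⟨x, hx, h2⟩ := ih _ (hn ▸ Submodule.finrank_lt_finrank_of_lt hlt) (U ⊓ End.eigenspace (c j) a)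
    ((Submodule.ne_bot_iff _).2 ⟨w, ⟨w.2, End.mem_eigenspace_iff.2 (congrArg Subtype.val hw.apply_eq_smul)⟩,
      fun e => hw.2 (Subtype.ext e)⟩)
    (fun i v hv => ⟨h i v hv.1, End.mem_eigenspace_iff.2 (by
      rw [← End.mul_apply, hc, End.mul_apply, End.mem_eigenspace_iff.1 hv.2, map_smul])⟩) rfl
  exact ⟨x, hx.1, h2⟩

/-- A fixed vector in the image of `c - 1` is killed by the order of `c`. -/
theorem fix_im {c : End k V} {l : ℕ} (hc : c ^ l = 1) {w : V} (h : c ((c - 1) w) = (c - 1) w) :
    (l : k) • (c - 1) w = 0 := by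
  have h1 : ∀ i, (c ^ i) ((c - 1) w) = (c - 1) w := fun i => by
    induction i with
    | zero => simp
    | succ i ih => rw [pow_succ, End.mul_apply, h, ih]
  have h2 := congrArg (fun f : End k V => f w) (geom_sum_mul c l)
  simp only [hc, sub_self, End.mul_apply, LinearMap.coe_sum, Finset.sum_apply, h1, LinearMap.zero_apply,
    Finset.sum_const, Finset.card_range] at h2
  rwa [Nat.cast_smul_eq_nsmul]

end Cfsg.Lib.AltDeg
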