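import Cfsg.Agent.Lib.Exc.AltDeg0

/-! Representations of alternating groups in which disjoint three-cycles annihilate each other. -/

set_option autoImplicit false

namespace Cfsg.Lib.AltDeg

open Module Cfsg.Lib.Pres Cfsg.Lib.Linear Equiv Subgroup

variable {α : Type*} [Fintype α] [DecidableEq α]

omit [DecidableEq α] in
theorem fresh (l : List α) (h : l.length < Fintype.card α) : ∃ x, x ∉ l := by
  classical
  by_contra h'
  push Not at h'
  have := (Finset.card_le_card (show Finset.univ ⊆ l.toFinset from fun x _ => List.mem_toFinset.2 (h' x))).trans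
    l.toFinset_card_le
  rw [Finset.card_univ] at this; omega

theorem tr (l l' : List α) (h : l.Nodup) (h' : l'.Nodup) (e : l.length = l'.length)
    (hk : l.length + 2 ≤ Fintype.card α) : ∃ g : alternatingGroup α, l.map g.1 = l' := by
  obtain ⟨g, hg⟩ := exists_alt' (f := l.get) (g := fun i => l'.get (i.cast e)) (List.nodup_iff_injective_get.1 h)
    ((List.nodup_iff_injective_get.1 h').comp (Fin.cast_injective e)) hk
  exact ⟨g, List.ext_get (by simpa) fun n h1 h2 => by simpa using hg ⟨n, by simpa using h1⟩⟩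

theorem conj_c3 (g : alternatingGroup α) (a b c : α) : g * c3 a b c = c3 (g.1 a) (g.1 b) (g.1 c) * g := by
  rw [← cj_c3, cj_coe, inv_mul_cancel_right]

theorem c3_rot {a b c : α} (h : [a, b, c].Nodup) : c3 a b c = c3 b c a := by
  simp only [List.nodup_cons, List.mem_cons, List.not_mem_nil, or_false, not_or] at h
  ext x
  rw [c3_val h.1.1 (Ne.symm h.2.1), c3_val h.2.1 h.1.2]
  simp only [cyc3, Perm.mul_apply, swap_apply_def]; grind

theorem c3_app {a b c : α} (h : [a, b, c].Nodup) : (c3 a b c).1 a = b ∧ (c3 a b c).1 b = c ∧ (c3 a b c).1 c = a := by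
  simp only [List.nodup_cons, List.mem_cons, List.not_mem_nil, or_false, not_or] at h
  rw [c3_val h.1.1 (Ne.symm h.2.1)]
  simp only [cyc3, Perm.mul_apply, swap_apply_def]; grind

theorem stab_gen {x y a b : α} (h : [x, y, a, b].Nodup) {X : Subgroup (alternatingGroup α)}
    (hX : ∀ i, i ∉ [x, y, a, b] → c3 a b i ∈ X) (g : alternatingGroup α) (hx : g.1 x = x) (hy : g.1 y = y) : g ∈ X := by
  simp only [List.nodup_cons, List.mem_cons, List.not_mem_nil, or_false, not_or] at h hX
  let f : alternatingGroup {i // i ≠ x ∧ i ≠ y} →* alternatingGroup α :=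
    (Perm.ofSubtype.comp (Subgroup.subtype _)).codRestrict _ fun g => (Perm.sign_ofSubtype g.1).trans g.2
  have h2 : ∀ i, (g.1 i ≠ x ∧ g.1 i ≠ y) ↔ i ≠ x ∧ i ≠ y := fun x => by
    have := @g.1.injective
    grind [Function.Injective]
  have h3 : ∀ i, g.1 i ≠ i → i ≠ x ∧ i ≠ y := by grind
  have ha : a ≠ x ∧ a ≠ y := by grind
  have hb : b ≠ x ∧ b ≠ y := by grind
  have hab : (⟨a, ha⟩ : {i // i ≠ x ∧ i ≠ y}) ≠ ⟨b, hb⟩ := fun e => h.2.2.1 (congrArg Subtype.val e)
  have h4 : X.comap f = ⊤ := alt_top hab fun i h1 h2 => by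
    have h1' : i.1 ≠ a := fun e => h1 (Subtype.ext e)
    have h2' : i.1 ≠ b := fun e => h2 (Subtype.ext e)
    have : f (c3 ⟨a, ha⟩ ⟨b, hb⟩ i) = c3 a b i := by
      apply Subtype.ext
      have : (f (c3 ⟨a, ha⟩ ⟨b, hb⟩ i)).1 = Perm.ofSubtype (c3 ⟨a, ha⟩ ⟨b, hb⟩ i).1 := rfl
      rw [this, c3_val hab h2, c3_val h.2.2.1 h2', cyc3, cyc3, map_mul, Perm.ofSubtype_swap_eq, Perm.ofSubtype_swap_eq]
    rw [mem_comap, this]
    exact hX i ⟨i.2.1, i.2.2, h1', h2'⟩
  obtain ⟨g', hg'⟩ : ∃ g', f g' = g := ⟨⟨g.1.subtypePerm h2, (Perm.sign_subtypePerm _ _ h3).trans g.2⟩,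
    Subtype.ext (Perm.ofSubtype_subtypePerm h2 h3)⟩
  exact hg' ▸ h4.ge (mem_top g')

variable {k V : Type*} [Field k] [AddCommGroup V] [Module k V]

/-- The stabiliser of a vector. -/
def fixS {G : Type*} [Group G] (σ : Representation k G V) (v : V) : Subgroup G where
  carrier := {g | σ g v = v}
  one_mem' := by simp
  mul_mem' := fun {a b} ha hb => by
    change σ (a * b) v = v
    rw [map_mul, End.mul_apply, hb, ha]
  inv_mem' := fun {a} ha => by
    change σ a⁻¹ v = v
    nth_rw 1 [← show σ a v = v from ha]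
    rw [← End.mul_apply, ← map_mul]; simp

theorem mul_ap {G : Type*} [Group G] (σ : Representation k G V) (a b : G) (v : V) : σ (a * b) v = σ a (σ b v) := by
  rw [map_mul, End.mul_apply]

theorem rho_inj {G : Type*} [Group G] (σ : Representation k G V) (g : G) {v : V} (h : σ g v = 0) : v = 0 := by
  have := congrArg (σ g⁻¹) h
  rwa [← mul_ap, inv_mul_cancel, map_one, map_zero] at this

variable (σ : Representation k (alternatingGroup α) V)

theorem exists_u (h9 : 9 ≤ Fintype.card α) (hfix : ∀ v, (∀ g, σ g v = v) → v = 0) [Nontrivial V]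
    (hR : ∀ a b c d e f : α, [a, b, c, d, e, f].Nodup → ∀ w,
      σ (c3 d e f) (σ (c3 a b c) w - w) = σ (c3 a b c) w - w) :
    ∃ (a b c : α) (u : V), [a, b, c].Nodup ∧ u ≠ 0 ∧ (∀ g : alternatingGroup α, g.1 a = a → g.1 c = c → σ g u = u) ∧
      u + σ (c3 a b c) u + σ (c3 a b c) (σ (c3 a b c) u) = 0 := by
  by_cases h : ∃ a b c d e : α, [a, b, c, d, e].Nodup ∧ ∃ w,
      σ (c3 a b c) (σ (c3 c d e) w - w) ≠ σ (c3 c d e) w - w
  · obtain ⟨a, b, c, d, e, hn, w, hw⟩ := h
    obtain ⟨x, hx⟩ := fresh [a, b, c, d, e] (by simp; omega)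
    obtain ⟨y, hy⟩ := fresh [x, a, b, c, d, e] (by simp; omega)
    simp only [List.nodup_cons, List.mem_cons, List.not_mem_nil, or_false, not_or] at hn hx hy
    have h3 : [a, b, c].Nodup := by simp; grind
    refine ⟨a, b, c, _, h3, sub_ne_zero.2 hw, fun g ha hc => ?_, ?_⟩
    · refine stab_gen (X := fixS σ _) (a := x) (b := y) (by simp; grind) (fun i hi => ?_) g ha hc
      simp only [List.mem_cons, List.not_mem_nil, or_false, not_or] at hi
      change σ _ _ = _
      by_cases hb : i = b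
      · have e1 : σ (c3 a b c) (σ (c3 c d e) w - w) = σ (c3 a d e) (σ (c3 a b c) w) - σ (c3 a b c) w := by
          rw [map_sub, ← mul_ap, conj_c3, mul_ap, (c3_app h3).2.2, c3_fix (by grind) (by grind) (by grind),
            c3_fix (by grind) (by grind) (by grind)]
        rw [map_sub, hR c d e x y i (by simp; grind), e1, hR a d e x y i (by simp; grind)]
      · exact hR a b c x y i (by simp; grind) _
    · have : σ (c3 a b c) (σ (c3 a b c) (σ (c3 a b c) (σ (c3 c d e) w - w))) = σ (c3 c d e) w - w := by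
        rw [← mul_ap, ← mul_ap, ← pow_three', c3_cube (by grind) (by grind) (by grind), map_one, End.one_apply]
      generalize σ (c3 c d e) w - w = z at this ⊢
      simp only [map_sub, this]; abel
  exfalso
  push Not at h
  have h1 : ∀ c d e : α, [c, d, e].Nodup → ∀ w, σ (c3 c d e) w = w := fun c d e hn w => by
    obtain ⟨x, hx⟩ := fresh [c, d, e] (by simp; omega)
    obtain ⟨y, hy⟩ := fresh [x, c, d, e] (by simp; omega)
    have r1 := c3_rot hn
    have r2 := c3_rot (show [d, e, c].Nodup by simp at hn ⊢; grind)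
    simp only [List.nodup_cons, List.mem_cons, List.not_mem_nil, or_false, not_or] at hn hx hy
    refine sub_eq_zero.1 (hfix _ fun g => ?_)
    refine (alt_top (H := fixS σ _) (a := x) (b := y) (by grind) fun i h1 h2 => ?_).ge (mem_top g)
    change σ _ _ = _
    by_cases hc : i = c
    · rw [hc]; exact h x y c d e (by simp; grind) w
    by_cases hd : i = d
    · rw [hd, r1]; exact h x y d e c (by simp; grind) w
    by_cases he : i = e
    · rw [he, r1, r2]; exact h x y e c d (by simp; grind) w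
    exact hR c d e x y i (by simp; grind) w
  obtain ⟨w, hw⟩ := exists_ne (0 : V)
  obtain ⟨x, y, hxy⟩ := Fintype.exists_pair_of_one_lt_card (show 1 < Fintype.card α by omega)
  exact hw (hfix w fun g => (alt_top (H := fixS σ w) hxy fun i h2 h3 => h1 x y i (by simp; grind) w).ge (mem_top g))

theorem exists_e (h9 : 9 ≤ Fintype.card α) (hfix : ∀ v, (∀ g, σ g v = v) → v = 0) [Nontrivial V]
    (hR : ∀ a b c d e f : α, [a, b, c, d, e, f].Nodup → ∀ w,
      σ (c3 d e f) (σ (c3 a b c) w - w) = σ (c3 a b c) w - w) :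
    ∃ e : α → V, Function.Injective e ∧ ∀ (g : alternatingGroup α) a b, σ g (e a - e b) = e (g.1 a) - e (g.1 b) := by
  obtain ⟨a, b, c, u, hn, hu, h1, h2⟩ := exists_u σ h9 hfix hR
  have hac : [a, c].Nodup := by simp at hn ⊢; grind
  have : ∀ i j : α, ∃ g : alternatingGroup α, i ≠ j → g.1 a = i ∧ g.1 c = j := fun i j => by
    by_cases h : i = j
    · exact ⟨1, by simp [h]⟩
    obtain ⟨g, hg⟩ := tr [a, c] [i, j] hac (by simpa) rfl (by simp; omega)
    exact ⟨g, fun _ => by simpa using hg⟩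
  choose G hG using this
  obtain ⟨U, hU⟩ : ∃ U : α → α → V, ∀ i j, U i j = σ (G i j) u := ⟨_, fun _ _ => rfl⟩
  have e0 : ∀ g : alternatingGroup α, σ g u = U (g.1 a) (g.1 c) := fun g => by
    have h3 := hG (g.1 a) (g.1 c) (g.1.injective.ne (by simpa using hac))
    have := h1 ((G (g.1 a) (g.1 c))⁻¹ * g) (Perm.inv_eq_iff_eq.2 h3.1.symm) (Perm.inv_eq_iff_eq.2 h3.2.symm)
    rw [hU, ← congrArg (σ (G (g.1 a) (g.1 c))) this, ← mul_ap, mul_inv_cancel_left]
  have e1 : ∀ (g : alternatingGroup α) i j, i ≠ j → σ g (U i j) = U (g.1 i) (g.1 j) := fun g i j h => by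
    rw [hU, ← mul_ap, e0, coe_mul, Perm.mul_apply, Perm.mul_apply, (hG i j h).1, (hG i j h).2]
  have e2 : ∀ i j l, [i, j, l].Nodup → U i j + U j l + U l i = 0 := fun i j l h => by
    obtain ⟨g, hg⟩ := tr [a, c, b] [i, j, l] (by simp at hn ⊢; grind) h rfl (by simp; omega)
    simp only [List.map_cons, List.map_nil, List.cons.injEq, and_true] at hg
    have := congrArg (σ g) h2
    obtain ⟨t1, t2, t3⟩ := c3_app hn
    simp only [map_add, ← mul_ap] at this
    simp only [e0, coe_mul, Perm.mul_apply, t1, t2, t3, hg.1, hg.2.1, hg.2.2, map_zero] at this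
    rw [← this]; abel
  have e3 : ∀ i j l m, [i, j, l, m].Nodup → U i l + U l i = U j m + U m j := fun i j l m h => by
    simp only [List.nodup_cons, List.mem_cons, List.not_mem_nil, or_false, not_or] at h
    have t1 := e2 i j l (by simp; grind)
    have t2 := e2 i l m (by simp; grind)
    have t3 := e2 j l m (by simp; grind)
    have t4 := e2 j m i (by simp; grind)
    rw [← sub_eq_zero, ← sub_eq_zero.2 ((congrArg₂ (· + ·) t1 t2).trans (congrArg₂ (· + ·) t3 t4).symm)]
    abel
  have e4 : ∀ i j, i ≠ j → U i j + U j i = 0 := fun i j h => hfix _ fun g => by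
    obtain ⟨x, hx⟩ := fresh [i, j, g.1 i, g.1 j] (by simp; omega)
    obtain ⟨y, hy⟩ := fresh [x, i, j, g.1 i, g.1 j] (by simp; omega)
    have := g.1.injective.ne h
    simp only [List.mem_cons, List.not_mem_nil, or_false, not_or] at hx hy
    rw [map_add, e1 _ _ _ h, e1 _ _ _ h.symm, e3 i x j y (by simp; grind), e3 (g.1 i) x (g.1 j) y (by simp; grind)]
  have e5 : ∀ i j, i ≠ j → U j i = (if i = a then 0 else U a i) - (if j = a then 0 else U a j) := fun i j h => by
    split_ifs with h1 h2 h2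
    · exact absurd (h1.trans h2.symm) h
    · rw [h1, zero_sub, eq_neg_iff_add_eq_zero, e4 _ _ h2]
    · rw [h2, sub_zero]
    · have t1 := e2 a j i (by simp; grind)
      have t2 := e4 a i (Ne.symm h1)
      rw [← sub_eq_zero, ← sub_eq_zero.2 (t1.trans t2.symm)]; abel
  refine ⟨fun i => if i = a then 0 else U a i, fun i j h => by_contra fun h' => hu ?_, fun g i j => ?_⟩
  · exact rho_inj σ (G j i) ((hU j i).symm.trans ((e5 i j h').trans (sub_eq_zero.2 h)))
  · by_cases h : i = j
    · simp [h]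
    rw [← e5 i j h, ← e5 _ _ (g.1.injective.ne h), e1 _ _ _ (Ne.symm h)]

theorem final [FiniteDimensional k V] (p : ℕ) [CharP k p] (h9 : 9 ≤ Fintype.card α)
    (hfix : ∀ v, (∀ g, σ g v = v) → v = 0) [Nontrivial V]
    (hR : ∀ a b c d e f : α, [a, b, c, d, e, f].Nodup → ∀ w,
      σ (c3 d e f) (σ (c3 a b c) w - w) = σ (c3 a b c) w - w) :
    Fintype.card α - 1 - (if p ∣ Fintype.card α then 1 else 0) ≤ finrank k V := by
  obtain ⟨e, he, h⟩ := exists_e σ h9 hfix hR
  obtain ⟨o, o', ho⟩ := Fintype.exists_pair_of_one_lt_card (show 1 < Fintype.card α by omega)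
  have h1 : ∀ c : α → k, ∑ i, c i = 0 → ∑ i, c i • (e i - e o) = ∑ i, c i • e i := fun c hc => by
    simp only [smul_sub, Finset.sum_sub_distrib, ← Finset.sum_smul, hc, zero_smul, sub_zero]
  have h2 : ∀ (g : alternatingGroup α) (c : α → k), (∑ i, c i = 0 ∧ ∑ i, c i • e i = 0) →
      (∑ i, (c i - c (g.1 i)) = 0 ∧ ∑ i, (c i - c (g.1 i)) • e i = 0) := fun g c hc => by
    have t1 : ∑ i, c (g.1 i) = 0 := (Equiv.sum_comp g.1 c).trans hc.1
    refine ⟨by rw [Finset.sum_sub_distrib, hc.1, t1, sub_self], ?_⟩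
    simp only [sub_smul, Finset.sum_sub_distrib, hc.2, zero_sub, neg_eq_zero]
    apply rho_inj σ g
    rw [← h1 _ t1, map_sum]
    simp only [map_smul, h]
    simp only [smul_sub, Finset.sum_sub_distrib, ← Finset.sum_smul, t1, zero_smul, sub_zero]
    exact (Equiv.sum_comp g.1 fun i => c i • e i).trans hc.2
  have h3 : ∀ c : α → k, ∑ i, c i = 0 → ∑ i, c i • e i = 0 → ∀ a b, c a = c b := fun c t1 t2 a b => by
    by_contra hab
    have hab' : a ≠ b := fun e => hab (e ▸ rfl)
    obtain ⟨x, hx⟩ := fresh [a, b] (by simp; omega)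
    obtain ⟨y, hy⟩ := fresh [x, a, b] (by simp; omega)
    obtain ⟨z, hz⟩ := fresh [y, x, a, b] (by simp; omega)
    simp only [List.mem_cons, List.not_mem_nil, or_false, not_or] at hx hy hz
    have t3 := (h2 (c3 a y z) _ (h2 (c3 a b x) c ⟨t1, t2⟩)).2
    obtain ⟨s1, s2, s3⟩ := c3_app (show [a, y, z].Nodup by simp; grind)
    obtain ⟨s4, -, -⟩ := c3_app (show [a, b, x].Nodup by simp; grind)
    have s5 : (c3 a b x).1 y = y := c3_fix (by grind) (by grind) (by grind)
    have s6 : (c3 a b x).1 z = z := c3_fix (by grind) (by grind) (by grind)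
    rw [Finset.sum_eq_add a z (by grind) (fun i _ hi => by
      by_cases hy : i = y
      · simp [hy, s2, s5, s6]
      · rw [c3_fix hi.1 hy hi.2, sub_self, zero_smul]) (by simp) (by simp)] at t3
    simp only [s1, s3, s4, s5, s6, sub_self, sub_zero, zero_sub, neg_smul, ← sub_eq_add_neg, ← smul_sub] at t3
    exact hz.2.2.1 (he (sub_eq_zero.1 ((smul_eq_zero.1 t3).resolve_left (sub_ne_zero.2 hab)))).symm
  let S : Finset α := if p ∣ Fintype.card α then {o, o'}ᶜ else {o}ᶜ
  have hS : S.card = Fintype.card α - 1 - (if p ∣ Fintype.card α then 1 else 0) := by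
    simp only [S]; split_ifs
    · rw [Finset.card_compl, Finset.card_pair ho]; omega
    · rw [Finset.card_compl, Finset.card_singleton]; omega
  have hoS : o ∉ S := by simp only [S]; split_ifs <;> simp
  rw [← hS, ← Fintype.card_coe]
  refine LinearIndependent.fintype_card_le_finrank (b := fun i : S => e i - e o) (Fintype.linearIndependent_iff.2 fun c hc => ?_)
  let d : α → k := fun i => if h : i ∈ S then c ⟨i, h⟩ else 0
  let d' : α → k := fun i => d i - if i = o then ∑ j, d j else 0
  have t1 : ∑ i, d' i = 0 := by simp [d', Finset.sum_sub_distrib]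
  have t2 : ∑ i, d' i • e i = 0 := by
    rw [← h1 _ t1, ← hc, ← Finset.sum_subset (Finset.subset_univ S) (fun i _ hi => by
      by_cases h : i = o <;> simp [d', d, hi, h]), ← Finset.sum_coe_sort]
    refine Finset.sum_congr rfl fun i _ => ?_
    have : i.1 ≠ o := fun h => hoS (h ▸ i.2)
    simp [d', d, this]
  have t3 := h3 _ t1 t2
  have t4 : d' o' = 0 := by
    by_cases hp : p ∣ Fintype.card α
    · simp [d', d, S, hp, ho.symm]
    · rw [Finset.sum_congr rfl fun i _ => t3 i o', Finset.sum_const, Finset.card_univ, nsmul_eq_mul] at t1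
      exact (mul_eq_zero.1 t1).resolve_left fun h => hp ((CharP.cast_eq_zero_iff k p _).1 h)
  intro i
  have : i.1 ≠ o := fun h => hoS (h ▸ i.2)
  simpa [d', d, this] using (t3 i o').trans t4

end Cfsg.Lib.AltDeg
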