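import Cfsg.Agent.Lib.Exc.AltDegA

/-! Central extensions of alternating groups by a group of exponent two: restriction to subsets, weights. -/

set_option autoImplicit false

namespace Cfsg.Lib.AltDeg

open Module Cfsg.Lib.Pres Cfsg.Lib.Linear Equiv Subgroup

universe u

/-- The kernel is central of exponent two. -/
def Z2 {H A : Type*} [Group H] [Group A] (π : H →* A) : Prop := ∀ z, π z = 1 → z ∈ center H ∧ z ^ 2 = 1

section
variable {H A : Type*} [Group H] [Group A] {π : H →* A} (hz : Z2 π)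
include hz

theorem Z2.dec {x y : H} (h : π x = π y) : ∃ z, z ∈ center H ∧ z ^ 2 = 1 ∧ y = x * z :=
  ⟨x⁻¹ * y, (hz _ (by simp [h])).1, (hz _ (by simp [h])).2, by simp⟩

theorem Z2.pow {x y : H} (h : π x = π y) {m : ℕ} (hm : Odd m) : x ^ (m + 1) = y ^ (m + 1) := by
  obtain ⟨z, h1, h2, rfl⟩ := hz.dec h
  obtain ⟨j, rfl⟩ := hm
  rw [Commute.mul_pow (mem_center_iff.1 h1 x), show 2 * j + 1 + 1 = 2 * (j + 1) by ring, pow_mul z, h2, one_pow, mul_one]

theorem Z2.uniq {x y : H} (h : π x = π y) {m : ℕ} (hm : Odd m) (hx : x ^ m = 1) (hy : y ^ m = 1) : x = y := by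
  simpa [pow_succ, hx, hy] using hz.pow h hm

theorem Z2.lift (hs : Function.Surjective π) {g : A} {m : ℕ} (hm : Odd m) (hg : g ^ m = 1) : ∃ x, π x = g ∧ x ^ m = 1 := by
  obtain ⟨x, rfl⟩ := hs g
  refine ⟨x ^ (m + 1), by rw [map_pow, pow_succ, hg, one_mul], ?_⟩
  obtain ⟨j, hj⟩ := hm
  rw [← pow_mul, mul_comm, pow_mul, show m + 1 = 2 * (j + 1) by omega, pow_mul, (hz _ (by rw [map_pow, hg])).2, one_pow]

theorem Z2.rel {x y g : H} {j m : ℕ} (hm : Odd m) (hx : x ^ m = 1) (hy : y ^ m = 1) (h : π x * π g = π g * π y ^ j) :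
    x * g = g * y ^ j := by
  rw [← mul_inv_eq_iff_eq_mul, hz.uniq (x := x) (y := g * y ^ j * g⁻¹) (by simp [← h]) hm hx (by
    rw [conj_pow, ← pow_mul, mul_comm j, pow_mul, hy]; simp)]
  group

theorem Z2.restr {B : Type*} [Group B] (ι : B →* A) (hι : Function.Injective ι) (hs : Function.Surjective π) :
    ∃ π' : ι.range.comap π →* B, Function.Surjective π' ∧ Z2 π' ∧ ∀ x, ι (π' x) = π x := by
  let π' : ι.range.comap π →* B := (MonoidHom.ofInjective hι).symm.toMonoidHom.comp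
    ((π.comp (ι.range.comap π).subtype).codRestrict _ fun x => x.2)
  have h : ∀ x, ι (π' x) = π x := fun x => MonoidHom.apply_ofInjective_symm hι _
  refine ⟨π', fun b => ?_, fun z h' => ?_, h⟩
  · obtain ⟨x, hx⟩ := hs (ι b)
    exact ⟨⟨x, b, hx.symm⟩, hι ((h _).trans hx)⟩
  · have := hz z (by rw [← h, h', map_one])
    exact ⟨mem_center_iff.2 fun g => Subtype.ext (mem_center_iff.1 this.1 g), Subtype.ext this.2⟩

theorem Z2.ker_le [IsSimpleGroup A] (hs : Function.Surjective π) (N : Subgroup H) [hN : N.Normal] {x : H} {m : ℕ} (hm : Odd m)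
    (hx : x ^ m = 1) (h : x ∉ N) : N ≤ π.ker := by
  rcases (hN.map π hs).eq_bot_or_eq_top with e | e
  · exact (Subgroup.map_eq_bot_iff _).1 e
  obtain ⟨y, hy, e'⟩ := e.ge (mem_top (π x))
  have := hz.pow e' hm
  rw [pow_succ x, hx, one_mul] at this
  exact absurd (this ▸ pow_mem hy _) h

end

section
variable {α β : Type*} [Fintype α] [DecidableEq α] [Fintype β] [DecidableEq β]

/-- The embedding of alternating groups along an embedding of sets. -/
noncomputable def emb (f : β ↪ α) : alternatingGroup β →* alternatingGroup α :=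
  ((Perm.viaEmbeddingHom f).comp (alternatingGroup _).subtype).codRestrict _ fun g => by
    rw [Perm.mem_alternatingGroup]
    change Perm.sign (Perm.viaEmbedding g.1 f) = 1
    rw [Perm.viaEmbedding, Perm.sign_extendDomain]
    exact g.2

theorem emb_inj (f : β ↪ α) : Function.Injective (emb f) := fun _ _ hab =>
  Subtype.ext (Perm.viaEmbeddingHom_injective f (congrArg Subtype.val hab))

theorem emb_fix (f : β ↪ α) {g : alternatingGroup α} (hg : g ∈ (emb f).range) (y : α) (hy : ∀ x, f x ≠ y) : g.1 y = y := by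
  obtain ⟨g, rfl⟩ := hg
  exact Perm.viaEmbedding_apply_of_notMem _ _ _ fun ⟨x, hx⟩ => hy x hx

theorem emb_eq (f : β ↪ α) (g : alternatingGroup β) {g' : alternatingGroup α} (h1 : ∀ x, g'.1 (f x) = f (g.1 x))
    (h2 : ∀ y, (∀ x, f x ≠ y) → g'.1 y = y) : emb f g = g' := by
  ext y
  by_cases h : ∃ x, f x = y
  · obtain ⟨x, rfl⟩ := h
    exact (Perm.viaEmbedding_apply _ _ _).trans (h1 x).symm
  · push Not at h
    rw [emb_fix f ⟨g, rfl⟩ y h, h2 y h]

theorem emb_c3 (f : β ↪ α) {a b c : β} (h : [a, b, c].Nodup) : emb f (c3 a b c) = c3 (f a) (f b) (f c) := by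
  refine emb_eq f _ (fun x => ?_) fun y hy => c3_fix (hy _).symm (hy _).symm (hy _).symm
  simp only [List.nodup_cons, List.mem_cons, List.not_mem_nil, or_false, not_or] at h
  rw [c3_val h.1.1 (Ne.symm h.2.1), c3_val (f.injective.ne h.1.1) (f.injective.ne (Ne.symm h.2.1))]
  simp [cyc3, f.injective.swap_apply]

end

/-- A degree bound for extensions of the alternating group of degree `m` of order less than `N`. -/
def Bd (k : Type) [Field k] (m d N : ℕ) : Prop :=
  ∀ (C : Type u) [Group C] [Finite C], Nat.card C < N → ∀ π : C →* alternatingGroup (Fin m), Function.Surjective π → Z2 π →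
    ∀ (W : Type) [AddCommGroup W] [Module k W] [FiniteDimensional k W] (ρ : Representation k C W),
      ρ.ker ≤ π.ker → d ≤ finrank k W

section
variable {k V : Type} [Field k] [AddCommGroup V] [Module k V] {H : Type u} [Group H] {α : Type*} [Fintype α] [DecidableEq α]
  {π : H →* alternatingGroup α} (hz : Z2 π) (hs : Function.Surjective π) (ρ : Representation k H V)
  {m : ℕ} (hm : 5 ≤ m) (f : Fin m ↪ α) (W : Submodule k V)
  (hW : ∀ h, (∀ y, (∀ x, f x ≠ y) → (π h).1 y = y) → ∀ v ∈ W, ρ h v ∈ W)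
include hz hs hm hW

theorem core {x : H} {q : ℕ} (hq : Odd q) (hx : x ^ q = 1) (hx' : π x ∈ (emb f).range) (h : ∃ v ∈ W, ρ x v ≠ v) :
    ∃ (π' : (emb f).range.comap π →* alternatingGroup (Fin m)) (ρ' : Representation k ((emb f).range.comap π) W),
      Function.Surjective π' ∧ Z2 π' ∧ (∀ x, emb f (π' x) = π x) ∧ (∀ x v, (ρ' x v).1 = ρ x v) ∧ ρ'.ker ≤ π'.ker := by
  obtain ⟨π', h1, h2, h3⟩ := hz.restr (emb f) (emb_inj f) hs
  let ρ' := Representation.subrepresentation (ρ.comp ((emb f).range.comap π).subtype) W fun g v hv =>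
    hW g (emb_fix f g.2) v hv
  have := alternatingGroup.isSimpleGroup (α := Fin m) (by simpa)
  obtain ⟨v, hv, h⟩ := h
  exact ⟨π', ρ', h1, h2, h3, fun _ _ => rfl, h2.ker_le h1 _ (x := ⟨x, hx'⟩) hq (Subtype.ext hx) fun e =>
    h (congrArg Subtype.val (LinearMap.congr_fun (show ρ' _ = 1 from e) ⟨v, hv⟩))⟩

theorem triv {y : H} (hy : π y ∈ (emb f).range) (hy1 : π y ≠ 1) (hy2 : ∀ v ∈ W, ρ y v = v)
    {x : H} {q : ℕ} (hq : Odd q) (hx : x ^ q = 1) (hx' : π x ∈ (emb f).range) : ∀ v ∈ W, ρ x v = v := by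
  by_contra h
  push Not at h
  obtain ⟨π', ρ', -, -, h3, h4, h5⟩ := core hz hs ρ hm f W hW hq hx hx' h
  have := h5 (show ρ' ⟨y, hy⟩ = 1 from LinearMap.ext fun v => Subtype.ext ((h4 _ _).trans (hy2 _ v.2)))
  exact hy1 ((h3 ⟨y, hy⟩).symm.trans (by rw [show π' _ = 1 from this, map_one]))

theorem bound [Finite H] [FiniteDimensional k V] {d : ℕ} (hB : Bd.{u} k m d (Nat.card H)) (hr : m < Fintype.card α)
    {x : H} {q : ℕ} (hq : Odd q) (hx : x ^ q = 1) (hx' : π x ∈ (emb f).range) (h : ∃ v ∈ W, ρ x v ≠ v) :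
    d ≤ finrank k W := by
  obtain ⟨π', ρ', h1, h2, -, -, h5⟩ := core hz hs ρ hm f W hW hq hx hx' h
  refine hB _ ?_ π' h1 h2 W ρ' h5
  obtain ⟨y, hy⟩ := fresh (List.ofFn f) (by simpa)
  obtain ⟨y', hy'⟩ := fresh [y] (by simp; omega)
  obtain ⟨g, hg⟩ := tr [y] [y'] (by simp) (by simp) rfl (by simp; omega)
  obtain ⟨h, rfl⟩ := hs g
  refine Finite.card_subtype_lt (x := h) fun e => hy' ?_
  have := emb_fix f e y fun x hx => hy (by simp [← hx])
  simp_all

end

section
variable {k V : Type*} [Field k] [AddCommGroup V] [Module k V] {H : Type*} [Group H] (ρ : Representation k H V)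
  {J : Type*} {l : ℕ} (c : J → H) (ω : k)

/-- Weights of a commuting family. -/
def Om (χ : J → ZMod l) : Prop := ∃ v ≠ 0, ∀ j, ρ (c j) v = ω ^ (χ j).val • v

variable {ρ c ω}

theorem pow_eig {x : H} {v : V} {a : k} (h : ρ x v = a • v) (n : ℕ) : ρ (x ^ n) v = a ^ n • v := by
  induction n with
  | zero => simp
  | succ n ih => rw [pow_succ, mul_ap, h, map_smul, ih, smul_smul, pow_succ']

theorem Om.step [NeZero l] (hω : ω ^ l = 1) {g : H} {s : J → J} {m : J → ℕ} (h : ∀ j, c j * g = g * c (s j) ^ m j)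
    {χ : J → ZMod l} (hχ : Om ρ c ω χ) : Om ρ c ω fun j => χ (s j) * (m j : ZMod l) := by
  obtain ⟨v, hv, h'⟩ := hχ
  refine ⟨ρ g v, fun e => hv (rho_inj ρ g e), fun j => ?_⟩
  rw [← mul_ap, h, mul_ap, pow_eig (h' _), map_smul, ZMod.val_mul, ZMod.val_natCast, Nat.mul_mod_mod, ← pow_eq_pow_mod _ hω,
    pow_mul]

theorem Om.card [NeZero l] [FiniteDimensional k V] (hω : IsPrimitiveRoot ω l) (S : Finset (J → ZMod l))
    (h : ∀ χ ∈ S, Om ρ c ω χ) : S.card ≤ finrank k V := by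
  have := card_le (I := S) (fun j => ρ (c j)) (fun χ j => ω ^ (χ.1 j).val) (fun χ χ' e => Subtype.ext (funext fun j =>
    ZMod.val_injective l (hω.pow_inj (ZMod.val_lt _) (ZMod.val_lt _) (congrFun e j)))) fun χ => h χ χ.2
  simpa using this

theorem Om.ex [NeZero l] [FiniteDimensional k V] [IsAlgClosed k] (hω : IsPrimitiveRoot ω l) (h1 : ∀ j, c j ^ l = 1)
    (h2 : ∀ i j, c i * c j = c j * c i) (T : End k V) (hT : T ≠ 0) (h3 : ∀ j, ρ (c j) * T = T * ρ (c j)) :
    ∃ χ : J → ZMod l, Om ρ c ω χ ∧ ∀ j, (∃ T', T = (ρ (c j) - 1) * T') → χ j ≠ 0 := by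
  obtain ⟨_, ⟨w, rfl⟩, hv, χ, hχ⟩ := exists_joint (fun j => ρ (c j)) (fun i j => by rw [← map_mul, h2, map_mul])
    (LinearMap.range T) (fun e => hT (LinearMap.range_eq_bot.1 e)) (by
      rintro j _ ⟨w, rfl⟩
      exact ⟨ρ (c j) w, by rw [← End.mul_apply, ← h3, End.mul_apply]⟩)
  have : ∀ j, ∃ i < l, ω ^ i = χ j := fun j => hω.eq_pow_of_pow_eq_one (by
    have := pow_eig (hχ j) l
    rw [h1, map_one, End.one_apply] at this
    exact (smul_left_injective k hv ((one_smul k _).trans this)).symm)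
  choose i hi hi' using this
  refine ⟨fun j => i j, ⟨_, hv, fun j => by rw [ZMod.val_cast_of_lt (hi j), hi', hχ]⟩, fun j ⟨T', hT'⟩ e => hv ?_⟩
  have e' : i j = 0 := by rw [← ZMod.val_cast_of_lt (hi j), show (i j : ZMod l) = 0 from e, ZMod.val_zero]
  have h4 := hχ j
  rw [← hi', e', pow_zero, one_smul, hT', End.mul_apply] at h4
  have := fix_im (c := ρ (c j)) (l := l) (by rw [← map_pow, h1, map_one]) h4
  rw [hT', End.mul_apply]
  exact (smul_eq_zero.1 this).resolve_left (hω.neZero').out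

theorem iter {X : Type*} {P : X → Prop} {f : X → X} (h : ∀ x, P x → P (f x)) {x : X} (hx : P x) (n : ℕ) : P (f^[n] x) :=
  Function.Iterate.rec P hx h n

theorem exists_root (k : Type*) [Field k] [IsAlgClosed k] (p l : ℕ) [Fact p.Prime] [CharP k p] (hl : l.Prime) (h : p ≠ l) :
    ∃ ω : k, IsPrimitiveRoot ω l := by
  have : NeZero (l : k) := ⟨fun e => h ((Nat.prime_dvd_prime_iff_eq Fact.out hl).1 ((CharP.cast_eq_zero_iff k p l).1 e))⟩
  exact HasEnoughRootsOfUnity.exists_primitiveRoot k l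

end

end Cfsg.Lib.AltDeg
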