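import Cfsg.Agent.Lib.Exc.AltDegB

/-! Small degrees: weight arguments for `3²`, `2³` and `5²`. -/

set_option autoImplicit false

namespace Cfsg.Lib.AltDeg

open Module Cfsg.Lib.Pres Cfsg.Lib.Linear Equiv Subgroup

universe u

variable {k : Type} [Field k] [IsAlgClosed k] (p : ℕ) [Fact p.Prime] [CharP k p]

theorem bd6 (hp : p ≠ 3) (N : ℕ) : Bd.{u} k 6 4 N := by
  intro C _ _ _ π hs hz W _ _ _ ρ hk
  obtain ⟨ω, hω⟩ := exists_root k p 3 Nat.prime_three hp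
  let a : Fin 2 → alternatingGroup (Fin 6) := ![⟨c[0, 1, 2], Perm.mem_alternatingGroup.2 (by decide +kernel)⟩, ⟨c[3, 4, 5], Perm.mem_alternatingGroup.2 (by decide +kernel)⟩]
  let γ : alternatingGroup (Fin 6) := ⟨c[0, 3] * c[1, 4, 2, 5], Perm.mem_alternatingGroup.2 (by decide +kernel)⟩
  have o3 : Odd 3 := by decide +kernel
  choose x hx hx3 using fun j => hz.lift hs (g := a j) o3 (by revert j; decide +kernel)
  obtain ⟨g, hg⟩ := hs γ
  have h2 : ∀ i j, x i * x j = x j * x i := fun i j => by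
    simpa using hz.rel (j := 1) (g := x j) o3 (hx3 i) (hx3 i) (by rw [hx, hx]; revert i j; decide +kernel)
  have h3 : ∀ j, x j * g = g * x (![1, 0] j) ^ (![2, 1] j) := fun j =>
    hz.rel o3 (hx3 _) (hx3 _) (by rw [hx, hx, hg]; revert j; decide +kernel)
  obtain ⟨χ, h4, h5⟩ := Om.ex (ρ := ρ) hω hx3 h2 (ρ (x 0) - 1) (fun e => absurd ((hx 0).symm.trans
    (hk (sub_eq_zero.1 e))) (by decide +kernel)) fun j => by rw [mul_sub, sub_mul, ← map_mul, h2, map_mul]; simp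
  let f : (Fin 2 → ZMod 3) → Fin 2 → ZMod 3 := fun χ j => χ (![1, 0] j) * ((![2, 1] j : ℕ) : ZMod 3)
  have h6 : ∀ χ : Fin 2 → ZMod 3, χ 0 ≠ 0 → ((Finset.range 4).image fun i => f^[i] χ).card = 4 := by decide +kernel
  rw [← h6 χ (h5 0 ⟨1, by simp⟩)]
  refine Om.card (ρ := ρ) (c := x) hω _ fun χ' h => ?_
  obtain ⟨i, -, rfl⟩ := Finset.mem_image.1 h
  exact iter (P := Om ρ x ω) (fun _ => Om.step hω.pow_eq_one h3) h4 i

theorem bd8 (hp : p ≠ 2) (N : ℕ) : Bd.{u} k 8 7 N := by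
  intro C _ _ _ π hs hz W _ _ _ ρ hk
  let γ : alternatingGroup (Fin 8) := ⟨c[0, 1, 2, 3, 4, 5, 6], Perm.mem_alternatingGroup.2 (by decide +kernel)⟩
  let e : alternatingGroup (Fin 8) := ⟨c[7, 0] * c[1, 3] * c[2, 6] * c[4, 5], Perm.mem_alternatingGroup.2 (by decide +kernel)⟩
  obtain ⟨x, hx, hx7⟩ := hz.lift hs (g := γ) (m := 7) (by decide +kernel) (by decide +kernel)
  obtain ⟨b, hb⟩ := hs e
  obtain ⟨a, ha⟩ : ∃ a : Fin 7 → C, ∀ j, a j = x ^ j.1 * b * (x ^ j.1)⁻¹ := ⟨_, fun _ => rfl⟩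
  have h0 : ∀ j, π (a j) = γ ^ j.1 * e * (γ ^ j.1)⁻¹ := fun j => by simp [ha, hx, hb]
  obtain ⟨hw, hw2⟩ := hz (b ^ 2) (by rw [map_pow, hb]; decide +kernel)
  have h1 : ∀ j, a j * a j = b ^ 2 := fun j => by
    rw [ha, ← sq, conj_pow, mem_center_iff.1 hw, mul_inv_cancel_right]
  have h2 : ∀ i j, i ≠ j → ∃ l z, z ∈ center C ∧ z ^ 2 = 1 ∧ (i = 1 → j = 2 → l = 4) ∧ a i * a j = a l * z := fun i j h => by
    obtain ⟨l, hl, hl'⟩ : ∃ l : Fin 7, γ ^ l.1 * e * (γ ^ l.1)⁻¹ = γ ^ i.1 * e * (γ ^ i.1)⁻¹ * (γ ^ j.1 * e * (γ ^ j.1)⁻¹) ∧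
        (i = 1 → j = 2 → l = 4) := by revert i j; decide +kernel
    obtain ⟨z, t1, t2, t3⟩ := hz.dec (x := a l) (y := a i * a j) (by rw [map_mul, h0, h0, h0, hl])
    exact ⟨l, z, t1, t2, hl', t3⟩
  have h3 : ∀ i j, i ≠ j → a j * a i = a i * a j * b ^ 2 := fun i j h => by
    obtain ⟨l, z, t1, t2, -, t3⟩ := h2 i j h
    have t4 : (a i * a j) ^ 2 = b ^ 2 := by rw [t3, Commute.mul_pow (mem_center_iff.1 t1 _), t2, mul_one, sq, h1]
    apply mul_left_cancel (a := a i)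
    apply mul_right_cancel (b := a j)
    calc a i * (a j * a i) * a j = b ^ 2 := by rw [← t4, sq]; group
      _ = (a i * a i) * (a j * a j) * b ^ 2 := by rw [h1, h1, ← sq, hw2, one_mul]
      _ = _ := by rw [mul_assoc (a i) _ (a j), mul_assoc _ (b ^ 2), ← mem_center_iff.1 hw]; group
  have h4 : b ^ 2 = 1 := by
    obtain ⟨l, z, t1, t2, t3, t4⟩ := h2 1 2 (by decide +kernel)
    rw [t3 rfl rfl] at t4
    have t5 : a 1 * a 2 * a 0 = a 0 * (a 1 * a 2) := by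
      rw [mul_assoc, h3 0 2 (by decide +kernel), ← mul_assoc, ← mul_assoc, h3 0 1 (by decide +kernel), mul_assoc _ (b ^ 2),
        ← mem_center_iff.1 hw, mul_assoc, mul_assoc (a 2), ← sq, hw2, mul_one, mul_assoc]
    rw [t4, mul_assoc, ← mem_center_iff.1 t1, ← mul_assoc, ← mul_assoc, mul_left_inj, h3 0 4 (by decide +kernel)] at t5
    simpa using t5
  have h5 : ∀ i j, a i * a j = a j * a i := fun i j => by
    by_cases h : i = j
    · rw [h]
    rw [h3 i j h, h4, mul_one]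
  have h6 : ∀ j, a j * x = x * a (j - 1) := fun j => by
    have : x ^ j.1 = x * x ^ (j - 1).1 := by
      rw [← pow_succ', pow_eq_pow_mod ((j - 1).1 + 1) hx7]; congr 1; revert j; decide +kernel
    rw [ha, ha, this]; group
  obtain ⟨_, ⟨w, rfl⟩, hv, χ, hχ⟩ := exists_joint (fun j => ρ (a j)) (fun i j => by rw [← map_mul, h5, map_mul])
    (LinearMap.range (ρ (a 0) - ρ (a 1))) (fun e' => by
      have t1 : ρ (a 0 * a 1) = 1 := by
        rw [map_mul, sub_eq_zero.1 (LinearMap.range_eq_bot.1 e'), ← map_mul, h1, h4, map_one]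
      have t2 : π (a 0 * a 1) = 1 := hk t1
      rw [map_mul, h0, h0] at t2
      exact absurd t2 (by decide +kernel)) (by
      rintro j _ ⟨w, rfl⟩
      exact ⟨ρ (a j) w, by simp only [LinearMap.sub_apply, map_sub, ← mul_ap, h5 j]⟩)
  have h7 : χ 0 ≠ χ 1 := fun e' => by
    have t1 : ρ (a 0) ((ρ (a 0) - ρ (a 1)) w) + ρ (a 1) ((ρ (a 0) - ρ (a 1)) w) = 0 := by
      simp only [LinearMap.sub_apply, map_sub, ← mul_ap, h1, h5 1 0]; abel
    rw [hχ, hχ, ← e', ← add_smul, ← two_mul] at t1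
    have t2 : (2 : k) ≠ 0 := fun e => hp ((Nat.prime_dvd_prime_iff_eq Fact.out Nat.prime_two).1
      ((CharP.cast_eq_zero_iff k p 2).1 (by exact_mod_cast e)))
    have t3 := (mul_eq_zero.1 ((smul_eq_zero.1 t1).resolve_right hv)).resolve_left t2
    exact hv (rho_inj ρ (a 0) (by rw [hχ, t3, zero_smul]))
  have h8 : ∀ n : ℕ, ∃ v ≠ 0, ∀ j, ρ (a j) v = χ ((· - 1)^[n] j) • v := fun n => by
    induction n with
    | zero => exact ⟨_, hv, hχ⟩
    | succ n ih =>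
      obtain ⟨v, t1, t2⟩ := ih
      exact ⟨ρ x v, fun e => t1 (rho_inj ρ x e), fun j => by rw [← mul_ap, h6, mul_ap, t2, map_smul]; rfl⟩
  have := card_le (I := Fin 7) (fun j => ρ (a j)) (fun i j => χ ((· - 1)^[i.1] j)) (fun i i' e' => by_contra fun h => h7 ?_)
    fun i => h8 i
  · simpa using this
  have t1 : ∀ i i' : Fin 7, i ≠ i' → ∃ d : Fin 7, (∀ j : Fin 7, ∃ j' : Fin 7, (· - 1)^[i.1] j' = j ∧ (· - 1)^[i'.1] j' = j + d) ∧
      ∃ n < 7, (· + d)^[n] 0 = 1 := by decide +kernel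
  obtain ⟨d, t2, n, -, t3⟩ := t1 i i' h
  rw [← t3]
  refine iter (P := fun j => χ 0 = χ j) (fun j hj => ?_) rfl n
  obtain ⟨j', t4, t5⟩ := t2 j
  have := congrFun e' j'
  simp only [t4, t5] at this
  exact hj.trans this

theorem five (hp : p ≠ 5) {V : Type} [AddCommGroup V] [Module k V] [FiniteDimensional k V] {H : Type u} [Group H]
    {π : H →* alternatingGroup (Fin 10)} (hz : Z2 π) (hs : Function.Surjective π) (ρ : Representation k H V)
    (h16 : finrank k V < 16) {x y : H} (hx : π x = c3 0 1 2) (hy : π y = c3 5 6 7) (hx3 : x ^ 3 = 1) (hy3 : y ^ 3 = 1) (w : V) :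
    ρ x (ρ y w - w) = ρ y w - w := by
  obtain ⟨ω, hω⟩ := exists_root k p 5 Nat.prime_five hp
  let a : Fin 2 → alternatingGroup (Fin 10) := ![⟨c[0, 1, 2, 3, 4], Perm.mem_alternatingGroup.2 (by decide +kernel)⟩, ⟨c[5, 6, 7, 8, 9], Perm.mem_alternatingGroup.2 (by decide +kernel)⟩]
  let γ : Fin 3 → alternatingGroup (Fin 10) := ![⟨c[1, 2, 4, 3] * c[6, 7, 9, 8], Perm.mem_alternatingGroup.2 (by decide +kernel)⟩, ⟨c[6, 9] * c[7, 8], Perm.mem_alternatingGroup.2 (by decide +kernel)⟩,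
    ⟨c[0, 5] * c[1, 6, 2, 7, 4, 9, 3, 8], Perm.mem_alternatingGroup.2 (by decide +kernel)⟩]
  let s : Fin 3 → Fin 2 → Fin 2 := ![![0, 1], ![0, 1], ![1, 0]]
  let m : Fin 3 → Fin 2 → ℕ := ![![3, 3], ![1, 4], ![3, 1]]
  have o5 : Odd 5 := by decide +kernel
  have o3 : Odd 3 := by decide +kernel
  choose c hc hc5 using fun j => hz.lift hs (g := a j) o5 (by revert j; decide +kernel)
  choose g hg using fun i => hs (γ i)
  have h2 : ∀ i j, c i * c j = c j * c i := fun i j => by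
    simpa using hz.rel (j := 1) (g := c j) o5 (hc5 i) (hc5 i) (by rw [hc, hc]; revert i j; decide +kernel)
  have h3 : ∀ i j, c j * g i = g i * c (s i j) ^ (m i j) := fun i j =>
    hz.rel o5 (hc5 _) (hc5 _) (by rw [hc, hc, hg]; revert i j; decide +kernel)
  have h2' : ∀ i j, ρ (c j) * (ρ (c i) - 1) = (ρ (c i) - 1) * ρ (c j) := fun i j => by
    rw [mul_sub, sub_mul, ← map_mul, h2, map_mul]; simp
  have h4 : (ρ (c 1) - 1) * (ρ (c 0) - 1) = 0 := by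
    by_contra h
    obtain ⟨χ, h4, h5⟩ := Om.ex (ρ := ρ) hω hc5 h2 _ h fun j => by rw [← mul_assoc, h2', mul_assoc, h2', mul_assoc]
    let f : Fin 3 → (Fin 2 → ZMod 5) → Fin 2 → ZMod 5 := fun i χ j => χ (s i j) * ((m i j : ℕ) : ZMod 5)
    have h6 : ∀ χ : Fin 2 → ZMod 5, χ 0 ≠ 0 → χ 1 ≠ 0 → (Finset.univ.image fun i : Fin 4 × Fin 2 × Fin 2 =>
      (f 0)^[i.1] ((f 1)^[i.2.1] ((f 2)^[i.2.2] χ))).card = 16 := by decide +kernel
    refine h16.not_ge ?_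
    rw [← h6 χ (h5 0 ⟨ρ (c 1) - 1, by rw [sub_mul, h2', mul_sub (ρ (c 0) - 1)]; simp⟩) (h5 1 ⟨_, rfl⟩)]
    refine Om.card (ρ := ρ) (c := c) hω _ fun χ' h => ?_
    obtain ⟨i, -, rfl⟩ := Finset.mem_image.1 h
    have := fun i => @iter _ (Om ρ c ω) (f i) (fun _ => Om.step hω.pow_eq_one (h3 i))
    exact this _ (this _ (this _ h4 _) _) _
  let f1 : Fin 5 ↪ Fin 10 := ⟨![0, 1, 2, 3, 4], by decide +kernel⟩
  let f2 : Fin 5 ↪ Fin 10 := ⟨![5, 6, 7, 8, 9], by decide +kernel⟩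
  let a0 : alternatingGroup (Fin 5) := ⟨c[0, 1, 2, 3, 4], Perm.mem_alternatingGroup.2 (by decide +kernel)⟩
  have inv : ∀ (z : H) (q : ℕ) (f : Fin 5 ↪ Fin 10), Odd q → z ^ q = 1 → (∀ i, (π z).1 (f i) = f i) →
      ∀ h, (∀ y, (∀ x, f x ≠ y) → (π h).1 y = y) → ∀ v ∈ LinearMap.range (ρ z - 1), ρ h v ∈ LinearMap.range (ρ z - 1) := by
    rintro z q f hq hz' t1 h t2 _ ⟨v, rfl⟩
    have : z * h = h * z := by
      simpa using hz.rel (j := 1) (g := h) hq hz' hz' (by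
        rw [pow_one]
        refine Subtype.ext (Perm.Disjoint.commute fun i => ?_)
        by_cases t : ∃ j, f j = i
        · obtain ⟨j, rfl⟩ := t; exact .inl (t1 j)
        · exact .inr (t2 i fun j e => t ⟨j, e⟩))
    exact ⟨ρ h v, by simp only [LinearMap.sub_apply, End.one_apply, map_sub, ← mul_ap, this]⟩
  have h5 := triv hz hs ρ le_rfl f2 _ (inv (c 0) 5 f2 o5 (hc5 0) (by rw [hc]; decide +kernel)) (y := c 1)
    ⟨a0, by rw [hc]; exact emb_eq _ _ (by decide +kernel) (by decide +kernel)⟩ (by rw [hc]; decide +kernel) (by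
      rintro _ ⟨v, rfl⟩
      simpa [sub_eq_zero] using LinearMap.congr_fun h4 v) o3 hy3 ⟨c3 0 1 2, by rw [hy, emb_c3 _ (by decide +kernel)]; rfl⟩
  have h6 : y * c 0 = c 0 * y := by
    simpa using hz.rel (j := 1) (g := c 0) o3 hy3 hy3 (by rw [hc, hy]; decide +kernel)
  refine triv hz hs ρ le_rfl f1 _ (inv y 3 f1 o3 hy3 (by rw [hy]; decide +kernel)) (y := c 0)
    ⟨a0, by rw [hc]; exact emb_eq _ _ (by decide +kernel) (by decide +kernel)⟩ (by rw [hc]; decide +kernel) ?_ o3 hx3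
    ⟨c3 0 1 2, by rw [hx, emb_c3 _ (by decide +kernel)]; rfl⟩ _ ⟨w, rfl⟩
  rintro _ ⟨v, rfl⟩
  have := h5 _ ⟨v, rfl⟩
  simp only [LinearMap.sub_apply, End.one_apply, map_sub, ← mul_ap, h6] at this ⊢
  rw [← sub_eq_zero, ← sub_eq_zero.2 this]; abel

end Cfsg.Lib.AltDeg
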