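import Cfsg.Agent.Lib.Exc.AltDegC

/-! The central case of the degree bound for alternating sections. -/

set_option autoImplicit false

namespace Cfsg.Lib.AltDeg

open Module Cfsg.Lib.Pres Cfsg.Lib.Linear Equiv Subgroup

universe u

variable {k : Type} [Field k] [IsAlgClosed k] (p : ℕ) [Fact p.Prime] [CharP k p]
  {V : Type} [AddCommGroup V] [Module k V] [FiniteDimensional k V] {H : Type u} [Group H]

theorem c3_pow {α : Type*} [Fintype α] [DecidableEq α] {a b c : α} (h : [a, b, c].Nodup) : c3 a b c ^ 3 = 1 := by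
  simp only [List.nodup_cons, List.mem_cons, List.not_mem_nil, or_false, not_or] at h
  exact c3_cube h.1.1 (Ne.symm h.1.2) (Ne.symm h.2.1)

theorem c3_inv {α : Type*} [Fintype α] [DecidableEq α] {a b c : α} (h : [a, b, c].Nodup) {g : alternatingGroup α}
    (h1 : g.1 a = b) (h2 : g.1 b = a) (h3 : g.1 c = c) : c3 a b c * g = g * c3 a b c ^ 2 := by
  have h4 := c3_pow h
  simp only [List.nodup_cons, List.mem_cons, List.not_mem_nil, or_false, not_or] at h
  rw [show c3 a b c ^ 2 = c3 b a c by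
    rw [c3_swap h.1.1 (Ne.symm h.1.2) (Ne.symm h.2.1), eq_inv_iff_mul_eq_one, ← pow_succ, h4], conj_c3, h1, h2, h3]

set_option maxHeartbeats 1000000 in
include p in
theorem two [Finite H] {m n : ℕ} {π : H →* alternatingGroup (Fin (m + 3))} (hz : Z2 π) (hs : Function.Surjective π)
    (ρ : Representation k H V) (hm : 5 ≤ m) (hB : Bd.{u} k m n (Nat.card H)) {a b c d e f : Fin (m + 3)}
    (hn : [a, b, c, d, e, f].Nodup) {x y : H} (hx : π x = c3 a b c) (hy : π y = c3 d e f) (hx3 : x ^ 3 = 1) (hy3 : y ^ 3 = 1)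
    {w : V} (hw : ρ y (ρ x w - w) ≠ ρ x w - w) : 2 * n ≤ finrank k V := by
  have o3 : Odd 3 := by decide
  obtain ⟨g', hg'⟩ := fresh [a, b, c, d, e, f] (by simp; omega)
  simp only [List.nodup_cons, List.mem_cons, List.not_mem_nil, or_false, not_or] at hn hg'
  have hS : ({a, b, c}ᶜ : Finset (Fin (m + 3))).card = m := by
    rw [Finset.card_compl, Finset.card_eq_three.2 ⟨a, b, c, by grind, by grind, by grind, rfl⟩]; simp
  let j : Fin m ↪ Fin (m + 3) := (Finset.orderEmbOfFin _ hS).toEmbedding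
  have hj : ∀ i, (∃ l, j l = i) ↔ i ≠ a ∧ i ≠ b ∧ i ≠ c := fun i => by
    refine (Set.ext_iff.1 (Finset.range_orderEmbOfFin _ hS) i).trans ?_
    simp; tauto
  have hr : ∀ d e f, [a, b, c, d, e, f].Nodup → c3 d e f ∈ (emb j).range := fun d e f h => by
    simp only [List.nodup_cons, List.mem_cons, List.not_mem_nil, or_false, not_or] at h
    obtain ⟨d, rfl⟩ := (hj d).2 (by grind)
    obtain ⟨e, rfl⟩ := (hj e).2 (by grind)
    obtain ⟨f, rfl⟩ := (hj f).2 (by grind)
    exact ⟨_, emb_c3 _ (by simp; grind)⟩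
  have hc : ∀ h, (∀ y, (∀ x, j x ≠ y) → (π h).1 y = y) → ∀ v, ρ x (ρ h v) = ρ h (ρ x v) := fun h t v => by
    have t' : ∀ i, i = a ∨ i = b ∨ i = c → (π h).1 i = i := fun i hi => t i fun l e => by
      have := (hj i).1 ⟨l, e⟩; grind
    have := hz.rel (j := 1) (g := h) o3 hx3 hx3 (by
      rw [pow_one, hx, conj_c3, t' a (by simp), t' b (by simp), t' c (by simp)])
    rw [← mul_ap, this, pow_one, mul_ap]
  have hy' : π y ∈ (emb j).range := hy ▸ hr d e f (by simp; grind)
  have hb := fun W hW => bound hz hs ρ hm j W hW hB (by simp) o3 hy3 hy'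
  have hE : ∀ η : k, ∀ h, (∀ y, (∀ x, j x ≠ y) → (π h).1 y = y) →
      ∀ v ∈ End.eigenspace (ρ x) η, ρ h v ∈ End.eigenspace (ρ x) η := fun η h t v hv => by
    rw [End.mem_eigenspace_iff] at hv ⊢
    rw [hc h t, hv, map_smul]
  have hxx : ∀ v, ρ x (ρ x (ρ x v)) = v := fun v => by rw [← mul_ap, ← mul_ap, ← pow_three', hx3, map_one, End.one_apply]
  by_cases hp : p = 3
  · have h3 : (3 : k) = 0 := by subst hp; exact CharP.cast_eq_zero k 3
    have hU : ∀ h, (∀ y, (∀ x, j x ≠ y) → (π h).1 y = y) →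
        ∀ v ∈ LinearMap.range (ρ x - 1), ρ h v ∈ LinearMap.range (ρ x - 1) := by
      rintro h t _ ⟨v, rfl⟩
      exact ⟨ρ h v, by simp [hc h t]⟩
    have e1 : End.eigenspace (ρ x) 1 = LinearMap.ker (ρ x - 1) := by rw [End.eigenspace_def, one_smul]
    have t1 := hb _ hU ⟨_, ⟨w, rfl⟩, hw⟩
    have t2 := hb _ (hE 1) (by
      by_contra h
      push Not at h
      have hy1 : π y ≠ 1 := fun t => hn.2.2.2.1.1 (by
        rw [← (c3_app (show [d, e, f].Nodup by simp; grind)).1, ← hy, t]; rfl)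
      obtain ⟨y', hy2, hy4⟩ := hz.lift hs o3 (c3_pow (show [d, e, g'].Nodup by simp; grind))
      have hy5 : π y' ∈ (emb j).range := hy2 ▸ hr d e g' (by simp; grind)
      have h' := triv hz hs ρ hm j _ (hE 1) hy' hy1 h o3 hy4 hy5
      have t3 : ∀ z, π z ∈ (emb j).range → (∀ v ∈ End.eigenspace (ρ x) 1, ρ z v = v) →
          ∀ u ∈ LinearMap.range (ρ x - 1), ρ z u - u ∈ End.eigenspace (ρ x) 1 := by
        rintro z t1 t2 _ ⟨v, rfl⟩
        have := t2 ((ρ x - 1) ((ρ x - 1) v)) (by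
          rw [End.mem_eigenspace_iff, one_smul, ← sub_eq_zero]
          simp only [LinearMap.sub_apply, End.one_apply, map_sub, hxx]
          rw [← zero_smul k (ρ x v - ρ x (ρ x v)), ← h3]; module)
        generalize (ρ x - 1) v = u at this ⊢
        rw [End.mem_eigenspace_iff, one_smul, map_sub, hc z (emb_fix j t1), ← sub_eq_zero, ← sub_eq_zero.2 this]
        simp only [LinearMap.sub_apply, End.one_apply, map_sub]; abel
      refine hw (triv hz hs ρ hm j _ hU (y := y * y' * (y' * y)⁻¹) (by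
        simp only [map_mul, map_inv]
        exact mul_mem (mul_mem hy' hy5) (inv_mem (mul_mem hy5 hy'))) (fun t => ?_) (fun u hu => ?_) o3 hy3 hy' _ ⟨w, rfl⟩)
      · rw [map_mul, map_inv, mul_inv_eq_one, map_mul, map_mul, hy, hy2] at t
        have := congrArg (fun g : alternatingGroup _ => g.1 d) t
        obtain ⟨s1, s2, -⟩ := c3_app (show [d, e, f].Nodup by simp; grind)
        obtain ⟨s3, s4, -⟩ := c3_app (show [d, e, g'].Nodup by simp; grind)
        simp only [coe_mul, Perm.mul_apply, s1, s2, s3, s4] at this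
        grind
      · have hu' := hU (y' * y)⁻¹ (emb_fix j (by rw [map_inv, map_mul]; exact inv_mem (mul_mem hy5 hy'))) u hu
        have s1 := h _ (t3 y' hy5 h' _ hu')
        have s2 := h' _ (t3 y hy' h _ hu')
        have s3 : ρ y' (ρ y (ρ (y' * y)⁻¹ u)) = u := by rw [← mul_ap, ← mul_ap, mul_inv_cancel, map_one, End.one_apply]
        rw [mul_ap, mul_ap]
        generalize ρ (y' * y)⁻¹ u = u' at s1 s2 s3 ⊢
        rw [map_sub] at s1 s2
        rw [← s3, ← sub_eq_zero, ← sub_eq_zero.2 (congrArg₂ (· - ·) s1 s2)]; abel)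
    have := LinearMap.finrank_range_add_finrank_ker (ρ x - 1)
    rw [e1] at t2; omega
  obtain ⟨ω, hω⟩ := exists_root k p 3 Nat.prime_three hp
  obtain ⟨g, hg⟩ := hs ⟨swap a b * swap d e, sign_swap_mul_swap (by grind) (by grind)⟩
  have g1 : x * g = g * x ^ 2 := hz.rel o3 hx3 hx3 (by
    rw [hx]; exact c3_inv (by simp; grind) (by simp [hg, swap_apply_def]; grind) (by simp [hg, swap_apply_def]; grind)
      (by simp [hg, swap_apply_def]; grind))
  have g2 : y * g = g * y ^ 2 := hz.rel o3 hy3 hy3 (by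
    rw [hy]; exact c3_inv (by simp; grind) (by simp [hg, swap_apply_def]; grind) (by simp [hg, swap_apply_def]; grind)
      (by simp [hg, swap_apply_def]; grind))
  have t1 : ∀ η : k, (∃ v ∈ End.eigenspace (ρ x) η, ρ y v ≠ v) → ∃ v ∈ End.eigenspace (ρ x) (η ^ 2), ρ y v ≠ v := by
    rintro η ⟨v, hv, h⟩
    rw [End.mem_eigenspace_iff] at hv
    refine ⟨ρ g v, End.mem_eigenspace_iff.2 (by rw [← mul_ap, g1, mul_ap, pow_eig hv, map_smul]), fun t => h ?_⟩
    rw [← mul_ap, g2, mul_ap, ← sub_eq_zero, ← map_sub] at t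
    rw [← congrArg (ρ y) (sub_eq_zero.1 (rho_inj ρ g t)), ← mul_ap, ← pow_succ', hy3, map_one, End.one_apply]
  have w3 := hω.pow_eq_one
  have w1 : ω ^ 2 ≠ ω := fun t => absurd (hω.pow_inj (i := 2) (j := 1) (by decide) (by decide) (by simpa)) (by decide)
  have w2 : ω ^ 2 + ω + 1 = 0 := by
    have := hω.geom_sum_eq_zero (by decide)
    simp only [Finset.sum_range_succ, Finset.range_zero, Finset.sum_empty] at this
    linear_combination this
  have t2 : ∃ v ∈ End.eigenspace (ρ x) ω, ρ y v ≠ v := by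
    by_contra h
    have h' : ¬ ∃ v ∈ End.eigenspace (ρ x) (ω ^ 2), ρ y v ≠ v := fun t => h (by
      have := t1 _ t
      rwa [show (ω ^ 2) ^ 2 = ω by linear_combination ω * w3] at this)
    push Not at h h'
    have s0 := hxx w
    have s1 := h (ρ x (ρ x w - w) - ω ^ 2 • (ρ x w - w)) (by
      simp only [End.mem_eigenspace_iff, map_sub, map_smul, s0]
      linear_combination (norm := module) (-w2) • (ρ x (ρ x w)) + (w3 + w2) • ρ x w - w3 • w)
    have s2 := h' (ρ x (ρ x w - w) - ω • (ρ x w - w)) (by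
      simp only [End.mem_eigenspace_iff, map_sub, map_smul, s0]
      linear_combination (norm := module) (-w2) • (ρ x (ρ x w)) + (w3 + w2) • ρ x w - w3 • w)
    generalize ρ x w - w = u at s1 s2 hw
    rw [map_sub, map_smul] at s1 s2
    refine hw (smul_right_injective V (sub_ne_zero.2 w1) ?_)
    linear_combination (norm := module) s2 - s1
  have := Submodule.finrank_add_finrank_le_of_disjoint (s := End.eigenspace (ρ x) ω) (t := End.eigenspace (ρ x) (ω ^ 2))
    ((End.eigenspaces_iSupIndep (ρ x)).pairwiseDisjoint w1.symm)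
  have := hb _ (hE ω) t2
  have := hb _ (hE _) (t1 _ t2)
  omega

omit [IsAlgClosed k] [Fact p.Prime] in
theorem of_R {r : ℕ} (hr : 9 ≤ r) {π : H →* alternatingGroup (Fin r)} (hz : Z2 π) (hs : Function.Surjective π)
    (hmin : ∀ X : Subgroup H, X.map π = ⊤ → X = ⊤) (ρ : Representation k H V) (hρ : Function.Injective ρ)
    (hirr : ∀ W : Submodule k V, (∀ g, ∀ v ∈ W, ρ g v ∈ W) → W = ⊥ ∨ W = ⊤)
    {a b c d e f : Fin r} (hn : [a, b, c, d, e, f].Nodup) {x y : H} (hx : π x = c3 a b c) (hy : π y = c3 d e f)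
    (hx3 : x ^ 3 = 1) (hy3 : y ^ 3 = 1) (hw : ∀ w, ρ y (ρ x w - w) = ρ x w - w) :
    r - 1 - (if p ∣ r then 1 else 0) ≤ finrank k V := by
  have o3 : Odd 3 := by decide
  have hR : ∀ a' b' c' d' e' f' : Fin r, [a', b', c', d', e', f'].Nodup → ∀ x' y', π x' = c3 a' b' c' → π y' = c3 d' e' f' →
      x' ^ 3 = 1 → y' ^ 3 = 1 → ∀ w, ρ y' (ρ x' w - w) = ρ x' w - w := fun a' b' c' d' e' f' hn' x' y' t1 t2 t3 t4 w => by
    obtain ⟨g, hg⟩ := tr _ _ hn hn' rfl (by simp; omega)
    obtain ⟨g, rfl⟩ := hs g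
    simp only [List.map_cons, List.map_nil, List.cons.injEq, and_true] at hg
    have s1 := hz.rel (j := 1) (g := g) o3 t3 hx3 (by rw [pow_one, hx, conj_c3, t1]; simp only [hg])
    have s2 := hz.rel (j := 1) (g := g) o3 t4 hy3 (by rw [pow_one, hy, conj_c3, t2]; simp only [hg])
    obtain ⟨w, rfl⟩ : ∃ w', ρ g w' = w := ⟨ρ g⁻¹ w, by rw [← mul_ap, mul_inv_cancel, map_one, End.one_apply]⟩
    rw [← mul_ap, s1, mul_ap, ← map_sub, ← mul_ap, s2, mul_ap, pow_one, pow_one, hw]
  have hx1 : ∀ {a b c : Fin r} {x : H}, [a, b, c].Nodup → π x = c3 a b c → ∃ w, ρ x w - w ≠ 0 := fun {a b c x} h t => by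
    by_contra h'
    push Not at h'
    have : x = 1 := hρ (LinearMap.ext fun w => by simpa [sub_eq_zero] using h' w)
    have s := (c3_app h).1
    rw [← t, this, map_one] at s
    simp at h s; grind
  simp only [List.nodup_cons, List.mem_cons, List.not_mem_nil, or_false, not_or] at hn
  have hab : a ≠ b := by grind
  have : ∀ i, ∃ X : H, i ≠ a → i ≠ b → π X = c3 a b i ∧ X ^ 3 = 1 := fun i => by
    by_cases h : i ≠ a ∧ i ≠ b
    · obtain ⟨X, hX⟩ := hz.lift hs o3 (c3_cube hab h.1 h.2)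
      exact ⟨X, fun _ _ => hX⟩
    · exact ⟨1, by grind⟩
  choose X hX using this
  obtain ⟨φ, hφ⟩ := exists_hom_c3 hab X (fun i h1 h2 => (hX i h1 h2).2) fun i j h1 h2 h3 h4 h5 => by
    obtain ⟨d', t1⟩ := fresh [a, b, i, j] (by simp; omega)
    obtain ⟨e', t2⟩ := fresh [d', a, b, i, j] (by simp; omega)
    obtain ⟨f', t3⟩ := fresh [e', d', a, b, i, j] (by simp; omega)
    simp only [List.mem_cons, List.not_mem_nil, or_false, not_or] at t1 t2 t3
    have t4 : [d', e', f'].Nodup := by simp; grind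
    obtain ⟨y', t5, t6⟩ := hz.lift hs o3 (c3_pow t4)
    obtain ⟨w, t7⟩ := hx1 t4 t5
    have s1 := hR d' e' f' a b i (by simp; grind) _ _ t5 (hX i h1 h2).1 t6 (hX i h1 h2).2 w
    have s2 := hR d' e' f' a b j (by simp; grind) _ _ t5 (hX j h3 h4).1 t6 (hX j h3 h4).2 w
    have s3 := (hz ((X i * X j) ^ 2) (by
      rw [map_pow, map_mul, (hX i h1 h2).1, (hX j h3 h4).1]; exact c3_pr hab h1 h2 h3 h4 h5)).1
    rcases hirr (LinearMap.ker (ρ ((X i * X j) ^ 2) - 1)) (fun g v hv => by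
      simp only [LinearMap.mem_ker, LinearMap.sub_apply, End.one_apply, sub_eq_zero] at hv ⊢
      rw [← mul_ap, ← mem_center_iff.1 s3, mul_ap, hv]) with h | h
    · exact absurd (h.le (show ρ y' w - w ∈ LinearMap.ker _ by
        rw [LinearMap.mem_ker, LinearMap.sub_apply, sq, mul_ap, mul_ap, mul_ap, s2, s1, s2, s1]; simp)) t7
    · exact hρ ((sub_eq_zero.1 (LinearMap.ker_eq_top.1 h)).trans (map_one ρ).symm)
  have h1 : ∀ g, π (φ g) = g := alt_ext (φ := π.comp φ) (ψ := MonoidHom.id _) hab fun i t1 t2 => by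
    simp [hφ i t1 t2, (hX i t1 t2).1]
  have h2 : φ.range = ⊤ := hmin _ (eq_top_iff.2 fun g _ => ⟨φ g, ⟨g, rfl⟩, h1 g⟩)
  obtain ⟨w0, hw0⟩ := hx1 (show [a, b, c].Nodup by simp; grind) hx
  have : Nontrivial V := ⟨⟨_, _, hw0⟩⟩
  have := final (ρ.comp φ) p (by simpa) (fun v hv => ?_) fun a b c d e f hn w => hR a b c d e f hn _ _ (h1 _) (h1 _)
    (by rw [← map_pow, c3_pow (by simp at hn ⊢; grind), map_one]) (by rw [← map_pow, c3_pow (by simp at hn ⊢; grind), map_one]) w
  · simpa using this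
  have hv' : ∀ g, ρ g v = v := fun g => by
    obtain ⟨g, rfl⟩ := h2.ge (mem_top g)
    exact hv g
  rcases hirr (Submodule.span k {v}) (fun g u hu => by
    obtain ⟨t, rfl⟩ := Submodule.mem_span_singleton.1 hu
    rwa [map_smul, hv']) with h | h
  · exact Submodule.span_singleton_eq_bot.1 h
  obtain ⟨t, rfl⟩ := Submodule.mem_span_singleton.1 (h.ge (Submodule.mem_top (x := w0)))
  simp [hv'] at hw0

theorem cen : Cen.{u} := by
  intro p _ k _ _ _ H _ _ ih r hr π hs hmin hc V _ _ _ ρ hρ hirr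
  have o3 : Odd 3 := by decide
  have hsim := alternatingGroup.isSimpleGroup (α := Fin r) (by simp; omega)
  have hz : Z2 π := by
    have h1 : commutator H = ⊤ := hmin _ (by
      rw [commutator_def, map_commutator, map_top_of_surjective _ hs]
      exact commutator_alternatingGroup_eq_top (by simp; omega))
    have h2 := card_ker_le_two π (by simp; omega) (by simp; omega) (by simp; omega) hs hc (h1 ▸ le_top)
    refine fun z h => ⟨hc h, ?_⟩
    have h3 : z ^ Nat.card π.ker = 1 := congrArg Subtype.val (pow_card_eq_one' (x := (⟨z, h⟩ : π.ker)))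
    have h4 : 0 < Nat.card π.ker := Nat.card_pos
    rcases (show Nat.card π.ker = 1 ∨ Nat.card π.ker = 2 by omega) with e | e <;> rw [e] at h3
    · rw [pow_one] at h3; simp [h3]
    · exact h3
  have hB : ∀ m, 9 ≤ m → Bd.{u} k m (m - 1 - (if p ∣ m then 1 else 0)) (Nat.card H) := fun m hm C _ _ h π' t1 _ W _ _ _ ρ' t2 =>
    ih p k C h m hm π' t1 W ρ' t2
  have hres : ∀ m d, 5 ≤ m → m < r → Bd.{u} k m d (Nat.card H) → d ≤ finrank k V := fun m d h1 h2 h3 => by
    have t : [(⟨0, by omega⟩ : Fin m), ⟨1, by omega⟩, ⟨2, by omega⟩].Nodup := by simp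
    obtain ⟨x, t1, t2⟩ := hz.lift hs (g := emb (Fin.castLEEmb h2.le) (c3 _ _ _)) o3 (by rw [← map_pow, c3_pow t, map_one])
    rw [← finrank_top]
    refine bound hz hs ρ h1 (Fin.castLEEmb h2.le) ⊤ (fun _ _ _ _ => trivial) h3 (by simpa) o3 t2 ⟨_, t1.symm⟩ ?_
    by_contra h
    push Not at h
    rw [show x = 1 from hρ (LinearMap.ext fun w => by simpa using h w trivial), map_one, eq_comm,
      map_eq_one_iff _ (emb_inj _)] at t1
    have := (c3_app t).1
    simp [t1] at this
  by_contra hlt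
  push Not at hlt
  have h10 : p ≠ 5 → 10 ≤ r → r ≤ 11 → False := fun hp h1 h2 => by
    let f := Fin.castLEEmb h1
    obtain ⟨π', t1, t2, t3⟩ := hz.restr (emb f) (emb_inj f) hs
    obtain ⟨x, s1, s2⟩ := t2.lift t1 (g := c3 0 1 2) o3 (c3_pow (by decide))
    obtain ⟨y, s3, s4⟩ := t2.lift t1 (g := c3 5 6 7) o3 (c3_pow (by decide))
    refine hlt.not_ge (of_R p hr hz hs hmin ρ hρ hirr (a := f 5) (b := f 6) (c := f 7) (d := f 0) (e := f 1) (f := f 2)
      ((show ([5, 6, 7, 0, 1, 2] : List (Fin 10)).Nodup by decide).map f.injective) (x := y) (y := x) (by rw [← t3, s3, emb_c3 _ (by decide)])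
      (by rw [← t3, s1, emb_c3 _ (by decide)]) (congrArg Subtype.val s4) (congrArg Subtype.val s2) fun w => ?_)
    exact five p hp t2 t1 (ρ.comp (Subgroup.subtype _)) (by omega) s1 s3 s2 s4 w
  have h2 : ∀ m n, r = m + 3 → Bd.{u} k m n (Nat.card H) → 2 * n ≤ finrank k V := by
    rintro m n rfl h
    let f : Fin 6 ↪ Fin (m + 3) := Fin.castLEEmb (by omega)
    have t : [f 0, f 1, f 2, f 3, f 4, f 5].Nodup := (show ([0, 1, 2, 3, 4, 5] : List (Fin 6)).Nodup by decide).map f.injective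
    obtain ⟨x, s1, s2⟩ := hz.lift hs (g := c3 (f 0) (f 1) (f 2)) o3 (c3_pow (by simp))
    obtain ⟨y, s3, s4⟩ := hz.lift hs (g := c3 (f 3) (f 4) (f 5)) o3 (c3_pow (by simp))
    by_contra h'
    exact hlt.not_ge (of_R p hr hz hs hmin ρ hρ hirr t s1 s3 s2 s4 fun w => by_contra fun t' =>
      h' (two p hz hs ρ (by omega) h t s1 s3 s2 s4 t'))
  rcases (show r = 9 ∨ r = 10 ∨ r = 11 ∨ 12 ≤ r by omega) with rfl | rfl | rfl | h
  · by_cases hp : p = 3
    · subst hp
      have := hres 8 7 (by decide) (by decide) (bd8 3 (by decide) _)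
      simp at hlt; omega
    · have := h2 6 4 rfl (bd6 p hp _)
      omega
  · by_cases hp : p = 5
    · subst hp
      have := hres 9 _ (by decide) (by decide) (hB 9 le_rfl)
      simp at hlt this; omega
    · exact h10 hp le_rfl (by decide)
  · by_cases hp : p = 5
    · subst hp
      have := h2 8 7 rfl (bd8 5 (by decide) _)
      omega
    · exact h10 hp (by decide) le_rfl
  · have := h2 (r - 3) _ (by omega) (hB _ (by omega))
    split_ifs at this hlt <;> omega

end Cfsg.Lib.AltDeg
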