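import Cfsg.Agent.Lib.Exc.AltDegD

/-! From the bound over algebraically closed fields to finite linear groups. -/

set_option autoImplicit false

namespace Cfsg.Lib.AltDeg

open Module

universe u

theorem of_T (hT : ∀ N, T.{u} N) {F : Type u} [Field F] [Fintype F] (p : ℕ) [Fact p.Prime] [CharP F p]
    (n : ℕ) (r : ℕ) (H : Subgroup (GL (Fin n) F)) (K : Subgroup ↥H) [K.Normal]
    (h : Nonempty (↥H ⧸ K ≃* ↥(alternatingGroup (Fin r)))) (hr : 9 ≤ r) :
    r - 1 - (if p ∣ r then 1 else 0) ≤ n := by
  obtain ⟨e⟩ := h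
  let k := AlgebraicClosure (ZMod p)
  letI : Algebra (ZMod p) F := ZMod.algebra F p
  let j : F →+* k := (IsAlgClosed.lift : F →ₐ[ZMod p] k).toRingHom
  let ρ : Representation k H (Fin n → k) := ((Matrix.toLinAlgEquiv' (R := k) (n := Fin n)).toMonoidHom.comp
    ((RingHom.mapMatrix j).toMonoidHom.comp (Units.coeHom _))).comp H.subtype
  have := hT _ p k H (Nat.lt_succ_self _) r hr (e.toMonoidHom.comp (QuotientGroup.mk' K))
    (e.surjective.comp (QuotientGroup.mk'_surjective K)) (Fin n → k) ρ fun g hg => by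
      have h1 : Matrix.toLinAlgEquiv' (g.1.1.map j) = 1 := hg
      rw [map_eq_one_iff _ (AlgEquiv.injective _), ← Matrix.map_one j (map_zero j) (map_one j)] at h1
      rw [show g = 1 from Subtype.ext (Units.ext (Matrix.map_injective j.injective h1))]
      exact one_mem _
  simpa using this

end Cfsg.Lib.AltDeg
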