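import Cfsg.Agent.Lib.Exc.AltDeg0
import Cfsg.Agent.Lib.Amalg.Syl

/-! Degree bound for alternating sections of linear groups: reduction to the central case. -/

set_option autoImplicit false
set_option linter.style.haveILetI false
set_option linter.unusedSectionVars false

namespace Cfsg.Lib.AltDeg

open Module Subgroup Cfsg.Lib.Core Cfsg.Lib.Amalg
open scoped commutatorElement

universe u

theorem core_dvd {H : Type*} [Group H] [Finite H] (Y : Subgroup H) : Y.normalCore.index ∣ Y.index.factorial := by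
  classical
  haveI := Fintype.ofFinite (H ⧸ Y)
  rw [normalCore_eq_ker, index_ker, Y.index_eq_card, Nat.card_eq_fintype_card (α := H ⧸ Y), ← Fintype.card_perm,
    ← Nat.card_eq_fintype_card]
  exact card_subgroup_dvd_card _

theorem sq_le_two_pow (r : ℕ) (hr : 9 ≤ r) : (r - 1) ^ 2 ≤ 2 ^ (r - 2) := by
  obtain ⟨m, rfl⟩ := Nat.exists_eq_add_of_le' hr
  rw [show m + 9 - 1 = m + 8 by omega, show m + 9 - 2 = m + 7 by omega]
  induction m with
  | zero => norm_num
  | succ m ih =>
    have := ih (by omega)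
    rw [show m + 1 + 7 = m + 7 + 1 by omega, pow_succ 2]
    nlinarith

theorem quot {H : Type u} [Group H] [Finite H] (ih : T.{u} (Nat.card H)) (p : ℕ) [Fact p.Prime] (k : Type) [Field k]
    [IsAlgClosed k] [CharP k p] {r : ℕ} (hr : 9 ≤ r) (π : H →* alternatingGroup (Fin r)) (hπ : Function.Surjective π)
    (V : Type) [AddCommGroup V] [Module k V] [FiniteDimensional k V] (ρ : Representation k H V)
    (h : ρ.ker ≤ π.ker) (h0 : ρ.ker ≠ ⊥) : r - 1 - (if p ∣ r then 1 else 0) ≤ finrank k V := by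
  refine ih p k (H ⧸ ρ.ker) ?_ r hr (QuotientGroup.lift ρ.ker π h) (fun a => ?_) V
    (QuotientGroup.lift ρ.ker ρ le_rfl) fun x hx => ?_
  · rw [card_eq_card_quotient_mul_card_subgroup ρ.ker]
    exact lt_mul_of_one_lt_right Nat.card_pos ((one_lt_card_iff_ne_bot _).2 h0)
  · obtain ⟨x, rfl⟩ := hπ a
    exact ⟨x, rfl⟩
  · obtain ⟨x, rfl⟩ := QuotientGroup.mk_surjective x
    exact h hx

theorem exists_rep0 {H : Type u} [Group H] {A : Type u} [CommGroup A] [Finite A] (f : H →* MulAut A)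
    (l : ℕ) [Fact l.Prime] [Module (ZMod l) (Additive A)] :
    ∃ (d : ℕ) (ρ : Representation (AlgebraicClosure (ZMod l)) H (Fin d → AlgebraicClosure (ZMod l))),
      Nat.card A = l ^ d ∧ ∀ g, g ∈ ρ.ker ↔ ∀ a, f g a = a := by
  classical
  haveI : Module.Finite (ZMod l) (Additive A) := Module.Finite.of_finite
  let b := Module.finBasis (ZMod l) (Additive A)
  let σ : H →* End (ZMod l) (Additive A) :=
    { toFun := fun g => (MonoidHom.toAdditive (f g).toMonoidHom).toZModLinearMap l
      map_one' := by ext x; simp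
      map_mul' := fun g h => by ext x; simp }
  let τ : End (ZMod l) (Additive A) →* End (AlgebraicClosure (ZMod l)) (Fin _ → AlgebraicClosure (ZMod l)) :=
    (Matrix.toLinAlgEquiv' (R := AlgebraicClosure (ZMod l))).toRingEquiv.toRingHom.toMonoidHom.comp
      ((algebraMap (ZMod l) (AlgebraicClosure (ZMod l))).mapMatrix.toMonoidHom.comp
        (LinearMap.toMatrixAlgEquiv b).toRingEquiv.toRingHom.toMonoidHom)
  have hτ : Function.Injective τ := Matrix.toLinAlgEquiv'.injective.comp
    ((Matrix.map_injective (algebraMap (ZMod l) (AlgebraicClosure (ZMod l))).injective).comp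
      (LinearMap.toMatrixAlgEquiv b).injective)
  refine ⟨_, τ.comp σ, ?_, fun g => ?_⟩
  · rw [Nat.card_congr (Additive.ofMul (α := A)), Module.natCard_eq_pow_finrank (K := ZMod l), Nat.card_zmod]
  · rw [MonoidHom.mem_ker, MonoidHom.comp_apply, ← map_one τ, hτ.eq_iff]
    constructor
    · intro e a
      exact congrArg Additive.toMul (LinearMap.congr_fun e (Additive.ofMul a))
    · intro e
      ext x
      exact e _

/-- a representation on an elementary abelian normal subgroup -/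
theorem exists_rep {H : Type u} [Group H] {G : Type u} [Group G] [Finite G] (f : H →* G) (M : Subgroup G) [M.Normal]
    (hc : ∀ a ∈ M, ∀ b ∈ M, a * b = b * a) (l : ℕ) [Fact l.Prime] (hl : ∀ a ∈ M, a ^ l = 1) :
    ∃ (d : ℕ) (ρ : Representation (AlgebraicClosure (ZMod l)) H (Fin d → AlgebraicClosure (ZMod l))),
      Nat.card M = l ^ d ∧ ∀ g, g ∈ ρ.ker ↔ ∀ a ∈ M, f g * a * (f g)⁻¹ = a := by
  letI i : CommGroup M := { (inferInstance : Group M) with mul_comm := fun a b => Subtype.ext (hc a a.2 b b.2) }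
  obtain ⟨d, ρ, h1, h2⟩ := @exists_rep0 H _ M i _ ((MulAut.conjNormal (H := M)).comp f) l _
    (AddCommGroup.zmodModule fun x => by
      rw [← ofMul_toMul x, ← ofMul_pow, show x.toMul ^ l = 1 from Subtype.ext (hl _ x.toMul.2)]; rfl)
  exact ⟨d, ρ, h1, fun g => (h2 g).trans ⟨fun e a ha => congrArg Subtype.val (e ⟨a, ha⟩),
    fun e a => Subtype.ext (e a a.2)⟩⟩

section
variable {k : Type} [Field k] [IsAlgClosed k] {H : Type u} [Group H] [Finite H]
  {V : Type} [AddCommGroup V] [Module k V] [FiniteDimensional k V] {ρ : Representation k H V}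

theorem central_of_scalar (hρ : Function.Injective ρ) {n : H} {c : k} (h : ∀ v, ρ n v = c • v) : n ∈ center H := by
  rw [mem_center_iff]
  intro g
  apply hρ
  ext v
  simp [h]

theorem weight (_hρ : Function.Injective ρ) (hirr : ∀ W : Submodule k V, (∀ g, ∀ v ∈ W, ρ g v ∈ W) → W = ⊥ ∨ W = ⊤)
    [Nontrivial V] (N : Subgroup H) [hN : N.Normal] (hc : ∀ a ∈ N, ∀ b ∈ N, a * b = b * a) :
    (∀ n ∈ N, ∃ c : k, ∀ v, ρ n v = c • v) ∨ ∃ Y : Subgroup H, Y ≠ ⊤ ∧ Y.index ≤ finrank k V := by
  obtain ⟨v, -, h0, χ, hχ⟩ := exists_joint (fun n : N => ρ n) (fun a b => by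
    rw [← map_mul, ← map_mul, hc a a.2 b b.2]) ⊤ top_ne_bot fun _ _ _ => trivial
  let cn : H → N → N := fun g n => ⟨g⁻¹ * n * g, by simpa using hN.conj_mem n n.2 g⁻¹⟩
  have hcj : ∀ g h n, cn h (cn g n) = cn (g * h) n := fun g h n => Subtype.ext (by simp [cn, mul_assoc])
  have hcj1 : ∀ n, cn 1 n = n := fun n => Subtype.ext (by simp [cn])
  have key : ∀ g (w : V), (∀ n : N, ρ n w = χ n • w) → ∀ n : N, ρ n (ρ g w) = χ (cn g n) • ρ g w := fun g w hw n => by
    rw [← map_smul, ← hw, ← End.mul_apply, ← End.mul_apply, ← map_mul, ← map_mul]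
    simp [cn, mul_assoc]
  let Y : Subgroup H :=
    { carrier := {g | ∀ n, χ (cn g n) = χ n}
      one_mem' := fun n => by rw [hcj1]
      mul_mem' := fun {a b} ha hb n => by rw [← hcj, hb, ha]
      inv_mem' := fun {a} ha n => by rw [← ha, hcj, inv_mul_cancel, hcj1] }
  by_cases hY : Y = ⊤
  · left
    let U : Submodule k V :=
      { carrier := {w | ∀ n : N, ρ n w = χ n • w}
        zero_mem' := fun n => by simp
        add_mem' := fun {a b} ha hb n => by rw [map_add, ha, hb, smul_add]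
        smul_mem' := fun c a ha n => by rw [map_smul, ha, smul_comm] }
    have hU := (hirr U fun g w hw n => by rw [key g w hw, (hY.ge (mem_top g) : g ∈ Y) n]).resolve_left
      ((Submodule.ne_bot_iff _).2 ⟨v, hχ, h0⟩)
    exact fun n hn => ⟨χ ⟨n, hn⟩, fun w => (hU.ge (Submodule.mem_top (x := w)) : w ∈ U) ⟨n, hn⟩⟩
  · refine Or.inr ⟨Y, hY, card_le (I := H ⧸ Y) (fun n : N => ρ n) (fun q n => χ (cn q.out n)) (fun q q' e => ?_)
      fun q => ⟨ρ q.out v, fun e => h0 ?_, key _ v hχ⟩⟩
    · rw [← q.out_eq', ← q'.out_eq', QuotientGroup.eq]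
      intro n
      have e' : ∀ n, χ (cn q.out n) = χ (cn q'.out n) := congrFun e
      rw [← hcj, ← e', hcj, inv_mul_cancel, hcj1]
    · have := congrArg (ρ q.out⁻¹) e
      rwa [← End.mul_apply, ← map_mul, inv_mul_cancel, map_one, map_zero] at this

theorem scalar_of_central (hirr : ∀ W : Submodule k V, (∀ g, ∀ v ∈ W, ρ g v ∈ W) → W = ⊥ ∨ W = ⊤)
    [Nontrivial V] {n : H} (hn : n ∈ center H) : ∃ c : k, ∀ v, ρ n v = c • v := by
  obtain ⟨c, hc⟩ := End.exists_eigenvalue (ρ n)
  have := (hirr (End.eigenspace (ρ n) c) fun g v hv => End.mem_eigenspace_iff.2 (by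
    rw [← End.mul_apply, ← map_mul, ← mem_center_iff.1 hn g, map_mul, End.mul_apply, End.mem_eigenspace_iff.1 hv,
      map_smul])).resolve_left hc
  exact ⟨c, fun v => End.mem_eigenspace_iff.1 (this.ge Submodule.mem_top)⟩

theorem card_le_sq (hρ : Function.Injective ρ) (hirr : ∀ W : Submodule k V, (∀ g, ∀ v ∈ W, ρ g v ∈ W) → W = ⊥ ∨ W = ⊤)
    [Nontrivial V] (N : Subgroup H) (h1 : ∀ a ∈ N, ∀ b ∈ N, ⁅a, b⁆ ∈ center H)
    (h2 : ∀ a ∈ N, (∀ b ∈ N, b * a = a * b) → a ∈ center H) :
    Nat.card (N.map (QuotientGroup.mk' (center H))) ≤ finrank k V ^ 2 := by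
  choose s hs hs' using fun m : N.map (QuotientGroup.mk' (center H)) => mem_map.1 m.2
  choose c hc using fun (m : N.map (QuotientGroup.mk' (center H))) (y : N) =>
    scalar_of_central hirr (h1 y y.2 (s m) (hs m))
  rw [sq, ← Module.finrank_linearMap]
  refine card_le (V := V →ₗ[k] V) (fun y : N => (LinearMap.mulLeft k (ρ y)) * (LinearMap.mulRight k (ρ y⁻¹))) c
    (fun m m' e => ?_) fun m => ⟨ρ (s m), fun e => ?_, fun y => ?_⟩
  · apply Subtype.ext
    rw [← hs' m, ← hs' m', QuotientGroup.mk'_apply, QuotientGroup.mk'_apply, QuotientGroup.eq]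
    refine h2 _ (N.mul_mem (N.inv_mem (hs m)) (hs m')) fun b hb => ?_
    have : ⁅b, s m⁆ = ⁅b, s m'⁆ := hρ (LinearMap.ext fun v => by
      rw [hc m ⟨b, hb⟩, hc m' ⟨b, hb⟩, e])
    calc _ = b * (s m)⁻¹ * b⁻¹ * ⁅b, s m'⁆ * s m' * b := by simp only [commutatorElement_def]; group
      _ = _ := by rw [← this]; simp only [commutatorElement_def]; group
  · obtain ⟨v, hv⟩ := exists_ne (0 : V)
    have := congrArg (fun f => (ρ (s m)⁻¹ * f) v) e
    simp only [← map_mul, inv_mul_cancel, map_one, mul_zero, End.one_apply, LinearMap.zero_apply] at this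
    exact hv this
  · ext v
    have := hc m y (ρ (s m) v)
    rw [← End.mul_apply, ← map_mul, commutatorElement_def, inv_mul_cancel_right, map_mul, map_mul] at this
    simpa [mul_assoc] using this

end

theorem red (h : Cen.{u}) (N : ℕ) : T.{u} N := by
  induction N with
  | zero => intro _ _ _ _ _ _ _ _ _ h; omega
  | succ n0 ih =>
  intro p _ k _ _ _ H _ _ hH r hr π hπ V _ _ _ ρ hker
  rcases (Nat.lt_succ_iff.1 hH).lt_or_eq with h1 | rfl
  · exact ih p k H h1 r hr π hπ V ρ hker
  clear hH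
  by_cases hmin : ∃ X : Subgroup H, X.map π = ⊤ ∧ X ≠ ⊤
  · obtain ⟨X, h1, h2⟩ := hmin
    refine ih p k X ?_ r hr (π.comp X.subtype) (fun a => ?_) V (ρ.comp X.subtype) fun x hx => hker hx
    · exact lt_of_le_of_ne (card_le_card_group X) fun e => h2 (eq_top_of_card_eq X e)
    · obtain ⟨x, hx, rfl⟩ := h1.ge (mem_top a)
      exact ⟨⟨x, hx⟩, rfl⟩
  push Not at hmin
  haveI : IsSimpleGroup (alternatingGroup (Fin r)) := alternatingGroup.isSimpleGroup (by simp; omega)
  have hN : ∀ X : Subgroup H, X.Normal → X ≠ ⊤ → X ≤ π.ker := fun X hX h1 =>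
    (map_eq_bot_iff X).1 ((hX.map π hπ).eq_bot_or_eq_top.resolve_right fun e => h1 (hmin X e))
  have hperf : ⁅(⊤ : Subgroup H), (⊤ : Subgroup H)⁆ = ⊤ := hmin _ (by
    rw [map_commutator, map_top_of_surjective π hπ]
    exact commutator_alternatingGroup_eq_top (by simp; omega))
  have hna : ¬ ∀ a b : H, a * b = b * a := fun e => by
    have h1 : (⊤ : Subgroup H) = ⊥ := by
      rw [← hperf, commutator_eq_bot_iff_le_centralizer]; exact fun a _ b _ => e b a
    have h2 := map_top_of_surjective π hπ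
    rw [h1, Subgroup.map_bot] at h2
    exact bot_ne_top h2
  induction hd : finrank k V using Nat.strong_induction_on generalizing V with
  | _ d ihd =>
  subst hd
  by_cases h0 : ρ.ker ≠ ⊥
  · exact quot ih p k hr π hπ V ρ hker h0
  have hρ : Function.Injective ρ := by
    intro a b e
    have : a * b⁻¹ ∈ ρ.ker := by rw [MonoidHom.mem_ker, map_mul, e, ← map_mul, mul_inv_cancel, map_one]
    rw [not_ne_iff.1 h0] at this
    exact mul_inv_eq_one.1 this
  by_cases hirr : ∃ W : Submodule k V, (∀ g, ∀ v ∈ W, ρ g v ∈ W) ∧ W ≠ ⊥ ∧ W ≠ ⊤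
  · obtain ⟨W, hW, h1, h2⟩ := hirr
    by_cases e1 : (ρ.subrepresentation W hW).ker = ⊤
    · by_cases e2 : (ρ.quotient W hW).ker = ⊤
      · refine absurd (fun a b => hρ (LinearMap.ext fun v => ?_)) hna
        have f1 : ∀ g, ∀ w ∈ W, ρ g w = w := fun g w hw =>
          congrArg Subtype.val (LinearMap.congr_fun (e1.ge (mem_top g) : ρ.subrepresentation W hW g = 1) ⟨w, hw⟩)
        have f2 : ∀ g w, ρ g w - w ∈ W := fun g w => (Submodule.Quotient.eq W).1
          (LinearMap.congr_fun (e2.ge (mem_top g) : ρ.quotient W hW g = 1) (Submodule.Quotient.mk w))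
        have g1 := f1 a _ (f2 b v)
        have g2 := f1 b _ (f2 a v)
        rw [map_sub] at g1 g2
        rw [map_mul, map_mul, End.mul_apply, End.mul_apply, eq_add_of_sub_eq g1, eq_add_of_sub_eq g2]
        abel
      · have h3 := Submodule.finrank_quotient_add_finrank W
        have h4 : 0 < finrank k W := Nat.pos_of_ne_zero fun e => h1 (Submodule.finrank_eq_zero.1 e)
        exact (ihd _ (by omega) (V ⧸ W) (ρ.quotient W hW) (hN _ inferInstance e2) rfl).trans (by omega)
    · have h3 := Submodule.finrank_lt h2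
      exact (ihd _ h3 W (ρ.subrepresentation W hW) (hN _ inferInstance e1) rfl).trans h3.le
  replace hirr : ∀ W : Submodule k V, (∀ g, ∀ v ∈ W, ρ g v ∈ W) → W = ⊥ ∨ W = ⊤ := fun W hW => by
    by_contra e
    push Not at e
    exact hirr ⟨W, hW, e⟩
  by_cases hK : π.ker ≤ center H
  · exact h p k H ih r hr π hπ hmin hK V ρ hρ hirr
  haveI : Nontrivial V := by
    by_contra e
    rw [not_nontrivial_iff_subsingleton] at e
    exact hna fun a b => hρ (LinearMap.ext fun v => Subsingleton.elim _ _)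
  obtain ⟨N, ⟨hNn, hNK, hNc⟩, hNm⟩ := WellFounded.has_min wellFounded_lt
    {X : Subgroup H | X.Normal ∧ X ≤ π.ker ∧ ¬ X ≤ center H} ⟨π.ker, inferInstance, le_rfl, hK⟩
  have hm : ∀ X : Subgroup H, X.Normal → X ≤ N → X ≠ N → X ≤ center H := fun X h1 h2 h3 => by
    by_contra e
    exact hNm X ⟨h1, h2.trans hNK, e⟩ (lt_of_le_of_ne h2 h3)
  by_cases hab : ∀ a ∈ N, ∀ b ∈ N, a * b = b * a
  · rcases weight hρ hirr N hab with e | ⟨Y, hY, e⟩
    · exact absurd (fun n hn => let ⟨_, hc⟩ := e n hn; central_of_scalar hρ hc) hNc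
    have h1 := (index_dvd_of_le (hN Y.normalCore inferInstance fun e => hY (top_le_iff.1 (e.ge.trans
      Y.normalCore_le)))).trans (core_dvd Y)
    rw [index_ker, MonoidHom.range_eq_top.2 hπ, card_top] at h1
    haveI : Nontrivial (Fin r) := Fin.nontrivial_iff_two_le.2 (by omega)
    have h2 := two_mul_nat_card_alternatingGroup (α := Fin r)
    rw [Nat.card_eq_fintype_card (α := Equiv.Perm _), Fintype.card_perm, Fintype.card_fin] at h2
    have h3 : r ≤ Y.index := by
      by_contra e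
      obtain ⟨s, rfl⟩ : ∃ s, r = s + 1 := ⟨r - 1, by omega⟩
      have h4 := (Nat.le_of_dvd (Nat.factorial_pos _) h1).trans (Nat.factorial_le (Nat.lt_succ_iff.1 (not_le.1 e)))
      rw [Nat.factorial_succ] at h2
      have := Nat.factorial_pos s
      nlinarith
    omega
  obtain ⟨l, hl, hP⟩ : ∃ l : ℕ, l.Prime ∧ IsPGroup l N := by
    have h1 : (center H).relIndex N ≠ 1 := fun e => hNc (relIndex_eq_one.1 e)
    obtain ⟨l, hl, hd⟩ := Nat.exists_prime_and_dvd h1
    haveI := Fact.mk hl
    obtain ⟨P, hP⟩ := exists_syl l N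
    have h2 := hP.frattini (H := ⊤) le_top le_normalizer_of_normal
    have h3 : 𝐍 P = ⊤ := hmin _ (by
      have := congrArg (map π) h2
      rwa [Subgroup.map_sup, (map_eq_bot_iff N).2 hNK, bot_sup_eq, top_inf_eq, map_top_of_surjective π hπ] at this)
    by_cases e : P = N
    · exact ⟨l, hl, e ▸ hP.isPGroup⟩
    · refine absurd ?_ ((hP.not_dvd_relIndex_of_le (le_inf (hm P (normalizer_eq_top_iff.1 h3) hP.le e) hP.le)))
      rwa [inf_relIndex_right]
  haveI := Fact.mk hl
  have hZ : ∀ a ∈ N, (∀ b ∈ N, b * a = a * b) → a ∈ center H := fun a ha e =>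
    hm (N ⊓ centralizer N) inferInstance inf_le_left (fun e' => hab fun a ha b hb => (e'.ge hb).2 a ha) ⟨ha, e⟩
  have hC : ∀ a ∈ N, ∀ b ∈ N, ⁅a, b⁆ ∈ center H := fun a ha b hb => by
    haveI : Nontrivial N := (N.nontrivial_iff_ne_bot).2 fun e => hNc (e ▸ bot_le)
    haveI := hP.isNilpotent
    refine hm ⁅N, N⁆ inferInstance (commutator_le_right N N) (fun e => ?_) (commutator_mem_commutator ha hb)
    haveI := isPerfect_iff.2 e
    exact Group.IsPerfect.not_isNilpotent N inferInstance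
  set M := N.map (QuotientGroup.mk' (center H)) with hM
  haveI : M.Normal := hNn.map _ (QuotientGroup.mk'_surjective _)
  have hMc : ∀ a ∈ M, ∀ b ∈ M, a * b = b * a := by
    rintro _ ⟨a, ha, rfl⟩ _ ⟨b, hb, rfl⟩
    rw [← commutatorElement_eq_one_iff_mul_comm, ← map_commutatorElement]
    exact (QuotientGroup.eq_one_iff _).2 (hC a ha b hb)
  have hMl : ∀ a ∈ M, a ^ l = 1 := by
    let O : Subgroup (H ⧸ center H) :=
      { carrier := {a | a ∈ M ∧ a ^ l = 1}
        one_mem' := ⟨one_mem _, one_pow l⟩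
        mul_mem' := fun {a b} ha hb => ⟨mul_mem ha.1 hb.1, by
          rw [(show Commute a b from hMc a ha.1 b hb.1).mul_pow, ha.2, hb.2, one_mul]⟩
        inv_mem' := fun {a} ha => ⟨inv_mem ha.1, by rw [inv_pow, ha.2, inv_one]⟩ }
    haveI : O.Normal := ⟨fun a ha g => ⟨Normal.conj_mem inferInstance a ha.1 g, by rw [conj_pow, ha.2]; group⟩⟩
    have h1 : N ⊓ O.comap (QuotientGroup.mk' (center H)) = N := by
      by_contra e
      have h2 := hm _ inferInstance inf_le_left e
      obtain ⟨a, ha, ha'⟩ := SetLike.not_le_iff_exists.1 hNc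
      obtain ⟨j, hj⟩ := isPGroup_iff_mem.1 hP a ha
      induction j generalizing a with
      | zero => exact ha' (by rw [show a = 1 by simpa using hj]; exact one_mem _)
      | succ j ihj =>
        refine ihj (a ^ l) (N.pow_mem ha l) (fun e => ha' (h2 ⟨ha, mem_map_of_mem _ ha, ?_⟩))
          (by rw [← pow_mul, ← pow_succ', hj])
        rw [← map_pow]; exact (QuotientGroup.eq_one_iff _).2 e
    rintro _ ⟨a, ha, rfl⟩
    exact (h1.ge ha).2.2
  obtain ⟨d, σ, hd, hσ⟩ := exists_rep (QuotientGroup.mk' (center H)) M hMc l hMl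
  have h1 := quot ih l (AlgebraicClosure (ZMod l)) hr π hπ _ σ (hN _ inferInstance fun e => hNc ?_) fun e => hNc ?_
  · have h2 := card_le_sq hρ hirr N hC hZ
    rw [Module.finrank_fin_fun] at h1
    have h3 : 2 ^ (r - 2) ≤ l ^ d := (Nat.pow_le_pow_right two_pos (by split_ifs at h1 <;> omega)).trans
      (Nat.pow_le_pow_left hl.two_le d)
    have h4 := (sq_le_two_pow r hr).trans (h3.trans (hd.ge.trans h2))
    have := (Nat.pow_le_pow_iff_left two_ne_zero).1 h4
    omega
  · have h2 : ⁅(⊤ : Subgroup H), N⁆ ≤ center H := commutator_le.2 fun g _ a ha => by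
      rw [← QuotientGroup.eq_one_iff, ← QuotientGroup.mk'_apply, map_commutatorElement, commutatorElement_def,
        (hσ g).1 (e.ge (mem_top g)) _ (mem_map_of_mem _ ha), mul_inv_cancel]
    have h3 : ⁅⁅(⊤ : Subgroup H), N⁆, (⊤ : Subgroup H)⁆ = ⊥ := by
      rw [commutator_eq_bot_iff_le_centralizer, coe_top, centralizer_univ]; exact h2
    have := commutator_commutator_eq_bot_of_rotate h3 (by rwa [commutator_comm N])
    rw [hperf, commutator_comm, commutator_eq_bot_iff_le_centralizer, coe_top, centralizer_univ] at this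
    exact this
  · intro a ha
    have : a ∈ σ.ker := (hσ a).2 fun b hb => by rw [hMc _ (mem_map_of_mem _ ha) b hb, mul_inv_cancel_right]
    rw [e, mem_bot] at this
    rw [this]; exact one_mem _

end Cfsg.Lib.AltDeg
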