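/-
Automizers of `l`-subgroups: a property `AE G l e` inherited by sections, its proof through a torus, and its failure in `A_r`.
-/
import Cfsg.Agent.Lib.Chev.MatTop
import Cfsg.Agent.Lib.Amalg.Syl
import Cfsg.Agent.Lib.BN.Basic

set_option autoImplicit false

namespace Cfsg.Lib.AltSec

open Subgroup Cfsg.Lib Cfsg.Lib.Core Cfsg.Lib.Amalg Cfsg.Lib.Chev Cfsg.Lie

section abstract

variable {G H : Type*} [Group G] [Group H] {l e : ℕ}

/-- The `e`-th power of an element normalising an `l`-subgroup centralises it. -/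
def AE (G : Type*) [Group G] (l e : ℕ) : Prop :=
  ∀ P : Subgroup G, IsPGroup l P → ∀ g : G, (∀ x ∈ P, g * x * g⁻¹ ∈ P) → ∀ x ∈ P, g ^ e * x = x * g ^ e

theorem AE.of_inj (h : AE G l e) (f : H →* G) (hf : Function.Injective f) : AE H l e := by
  intro P hP g hg x hx
  apply hf
  rw [map_mul, map_mul, map_pow]
  refine h (P.map f) (hP.map f) (f g) ?_ _ ⟨x, hx, rfl⟩
  rintro _ ⟨y, hy, rfl⟩
  exact ⟨_, hg y hy, by simp⟩

theorem AE.of_surj [Fact l.Prime] [Finite G] (h : AE G l e) (f : G →* H) (hf : Function.Surjective f) : AE H l e := by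
  intro Q hQ g' hg' x' hx'
  obtain ⟨g, rfl⟩ := hf g'
  obtain ⟨P, hP⟩ := exists_syl l (Q.comap f)
  have h1 : P.map f = Q := by
    have := hP.map f
    rw [Subgroup.map_comap_eq_self_of_surjective hf] at this
    exact this.eq_of_isPGroup hQ
  obtain ⟨x, hx, h2⟩ := hP.exists_conj_le (P := cj g P) (isPGroup_cj g hP.isPGroup) (cj_le_iff'.2 fun y hy => by
    rw [Subgroup.mem_comap, map_mul, map_mul, map_inv]; exact hg' _ (hP.le hy))
  obtain ⟨y, hy, h3⟩ : f x ∈ P.map f := h1 ▸ hx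
  obtain ⟨z, hz, rfl⟩ : x' ∈ P.map f := h1 ▸ hx'
  have h4 : f (y⁻¹ * x * g) = f g := by rw [map_mul, map_mul, map_inv, h3, inv_mul_cancel, one_mul]
  have := h P hP.isPGroup (y⁻¹ * x * g) (fun a ha => by
    have := P.mul_mem (P.mul_mem (P.inv_mem hy) (h2 (conj_mem_cj x (conj_mem_cj g ha)))) hy
    convert this using 1; group) z hz
  rw [← h4, ← map_pow, ← map_mul, ← map_mul, this]

theorem AE.section [Fact l.Prime] [Finite G] (h : AE G l e) {X : Subgroup G} {N : Subgroup X} [N.Normal] (i : X ⧸ N ≃* H) :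
    AE H l e :=
  (h.of_inj X.subtype X.subtype_injective).of_surj (i.toMonoidHom.comp (QuotientGroup.mk' N))
    (i.surjective.comp (QuotientGroup.mk'_surjective N))

theorem ae_of_torus [Fact l.Prime] [Finite G] (A : Subgroup G) (hA : ¬ l ∣ A.index)
    (h : ∀ g : G, ∃ n : G, (∀ a ∈ A, n ^ e * a = a * n ^ e) ∧ ∀ a ∈ A, g * a * g⁻¹ ∈ A → g * a * g⁻¹ = n * a * n⁻¹) :
    AE G l e := by
  intro P hP g hg x hx
  obtain ⟨T, hT⟩ := exists_syl l A
  obtain ⟨c, -, hc⟩ := (hT.of_le_of_not_dvd le_top (by rwa [Subgroup.relIndex_top_right])).exists_conj_le hP le_top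
  have hc' : ∀ y ∈ P, c * y * c⁻¹ ∈ A := fun y hy => hT.le (hc (conj_mem_cj c hy))
  obtain ⟨n, h1, h2⟩ := h (c * g * c⁻¹)
  have key : ∀ k : ℕ, g ^ k * x * (g ^ k)⁻¹ ∈ P ∧ c * (g ^ k * x * (g ^ k)⁻¹) * c⁻¹ = n ^ k * (c * x * c⁻¹) * (n ^ k)⁻¹ := by
    intro k
    induction k with
    | zero => simpa using hx
    | succ k ih =>
      have h3 := hg _ ih.1
      have h4 : g ^ (k + 1) * x * (g ^ (k + 1))⁻¹ = g * (g ^ k * x * (g ^ k)⁻¹) * g⁻¹ := by rw [pow_succ']; group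
      refine ⟨h4 ▸ h3, ?_⟩
      have h5 := h2 _ (hc' _ ih.1) (by convert hc' _ h3 using 1; group)
      rw [h4, pow_succ' n, show n * n ^ k * (c * x * c⁻¹) * (n * n ^ k)⁻¹ = n * (n ^ k * (c * x * c⁻¹) * (n ^ k)⁻¹) * n⁻¹ by group,
        ← ih.2, ← h5]; group
  have h6 := (key e).2
  rw [h1 _ (hc' x hx), mul_inv_cancel_right, mul_left_inj, mul_right_inj, mul_inv_eq_iff_eq_mul] at h6
  exact h6

theorem ae_of_not_dvd [Fact l.Prime] [Finite G] (h : ¬ l ∣ Nat.card G) : AE G l e :=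
  ae_of_torus ⊥ (by rwa [Subgroup.index_bot]) fun _ => ⟨1, by simp, by simp⟩

theorem exists_alt_inj {m r : ℕ} (h : m ≤ r) :
    ∃ f : alternatingGroup (Fin m) →* alternatingGroup (Fin r), Function.Injective f := by
  let j := Equiv.Perm.viaEmbeddingHom (Fin.castLEEmb h)
  refine ⟨(j.comp (alternatingGroup _).subtype).codRestrict _ fun g => ?_, fun a b hab => Subtype.ext
    (Equiv.Perm.viaEmbeddingHom_injective (Fin.castLEEmb h) (congrArg Subtype.val hab))⟩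
  rw [Equiv.Perm.mem_alternatingGroup]
  change Equiv.Perm.sign (Equiv.Perm.viaEmbedding g.1 (Fin.castLEEmb h)) = 1
  rw [Equiv.Perm.viaEmbedding, Equiv.Perm.sign_extendDomain]
  exact g.2

theorem not_ae_of {c g : G} {k : ℕ} (h1 : c ^ l = 1) (h2 : g * c * g⁻¹ = c ^ k) (h3 : g ^ e * c ≠ c * g ^ e) : ¬ AE G l e :=
  fun h => h3 (h (zpowers c) (isPGroup_zpowers_of_pow (k := 1) (by rwa [pow_one])) g (by
    rintro _ ⟨i, rfl⟩
    rw [← conj_zpow, h2]
    exact zpow_mem (pow_mem (mem_zpowers c) k) i) c (mem_zpowers c))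

theorem not_ae_alt {r : ℕ} (hr : 7 ≤ r) {c g : Equiv.Perm (Fin 7)} {k : ℕ} (hc : Equiv.Perm.sign c = 1)
    (hg : Equiv.Perm.sign g = 1) (h1 : c ^ l = 1) (h2 : g * c * g⁻¹ = c ^ k) (h3 : g ^ e * c ≠ c * g ^ e) :
    ¬ AE (alternatingGroup (Fin r)) l e := fun h => by
  obtain ⟨f, hf⟩ := exists_alt_inj hr
  exact not_ae_of (c := ⟨c, hc⟩) (g := ⟨g, hg⟩) (k := k) (Subtype.ext h1) (Subtype.ext h2)
    (fun h => h3 (congrArg Subtype.val h)) (h.of_inj f hf)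

theorem not_ae_seven {r : ℕ} (hr : 7 ≤ r) (k : ℕ) : ¬ AE (alternatingGroup (Fin r)) 7 (2 ^ k) := by
  have h3 : (c[1, 2, 4] * c[3, 6, 5] : Equiv.Perm (Fin 7)) ^ 3 = 1 := by decide +kernel
  refine not_ae_alt hr (c := c[0, 1, 2, 3, 4, 5, 6]) (g := c[1, 2, 4] * c[3, 6, 5]) (k := 2)
    (by decide +kernel) (by decide +kernel) (by decide +kernel) (by decide +kernel) ?_
  rw [pow_eq_pow_mod _ h3]
  have : 2 ^ k % 3 = 1 ∨ 2 ^ k % 3 = 2 := by
    have : ¬ 3 ∣ 2 ^ k := fun h => absurd (Nat.prime_three.dvd_of_dvd_pow h) (by decide)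
    omega
  rcases this with h | h <;> rw [h] <;> decide +kernel

theorem not_ae_five {r : ℕ} (hr : 7 ≤ r) : ¬ AE (alternatingGroup (Fin r)) 5 6 :=
  not_ae_alt hr (c := c[0, 1, 2, 3, 4]) (g := c[1, 2, 4, 3] * c[5, 6]) (k := 2)
    (by decide +kernel) (by decide +kernel) (by decide +kernel) (by decide +kernel) (by decide +kernel)

end abstract

section fusion

variable {I Φ : Type*} [Fintype I] [DecidableEq I] [Finite Φ] {R : RootSys I Φ} {K : Type*} [Field K] {G : Type*} [Group G]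
  {S : PreSys R K G}

/-- Fusion in the torus is controlled by the monomial part of the Bruhat decomposition. -/
theorem fusion (hS : S.St) (hO : S.Opp) (hM : S.Mult) {b b' n a : G} (hb : b ∈ S.B) (hb' : b' ∈ S.B) (hn : n ∈ S.N)
    (ha : a ∈ S.H) (h : (b * n * b') * a * (b * n * b')⁻¹ ∈ S.H) : (b * n * b') * a * (b * n * b')⁻¹ = n * a * n⁻¹ := by
  obtain ⟨w, hw, h1⟩ := hS.exists_act hn
  obtain ⟨b₁, hb₁, u, hu, e⟩ := hS.exists_normal_form hn h1 hb'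
  generalize ha' : (b * n * b') * a * (b * n * b')⁻¹ = a' at h ⊢
  have hc := hS.conj_mem_H hn ha
  have e1 : a' * (b * b₁) * n * u = b * b₁ * (n * a * n⁻¹) * n * (a⁻¹ * u * a⁻¹⁻¹) := by
    have : b * n * b' = b * b₁ * n * u := by rw [mul_assoc, e]; group
    rw [← ha', this]; group
  have e2 := (hS.normal_form_unique hO h1 (mul_mem (S.H_le_B h) (mul_mem hb hb₁)) (mul_mem (mul_mem hb hb₁) (S.H_le_B hc)) hu
    (hS.H_conj_mem_U (inv_mem ha) hu) e1).1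
  obtain ⟨t, ht, v, hv, e3⟩ := hS.mem_U_sup_H'.1 (mul_mem hb hb₁)
  rw [e3, ← mul_assoc, hS.H_comm hM h ht, mul_assoc, mul_assoc, mul_right_inj] at e2
  have h3 : a' * (n * a * n⁻¹)⁻¹ ∈ S.U {r | R.Pos r} ⊓ S.H := by
    refine Subgroup.mem_inf.2 ⟨?_, mul_mem h (inv_mem hc)⟩
    have : a' * (n * a * n⁻¹)⁻¹ = v * ((n * a * n⁻¹) * v⁻¹ * (n * a * n⁻¹)⁻¹) := by
      rw [← mul_assoc, ← mul_assoc, ← e2]; group
    rw [this]
    exact mul_mem hv (hS.H_conj_mem_U hc (inv_mem hv))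
  rw [hS.U_inf_H hO, Subgroup.mem_bot, mul_inv_eq_one] at h3
  exact h3

end fusion

section mat

variable {D : ChevalleyDatum} {R : RootSys (Fin D.rank) (Fin D.nroots)} (hc : Compat D R) {η : ℕ → ℕ → ℤ} (hm : MatOK D η)
  {K : Type*} [Field K] {Γ : Subgroup (GL D.Idx K)}

include hc hm

theorem diag_comm {a b : GL D.Idx K} (ha : a ∈ D.diagonalSubgroup K) (hb : b ∈ D.diagonalSubgroup K) : a * b = b * a := by
  rw [hc.diagonalSubgroup_eq hm] at ha hb
  exact (hc.st hm).H_comm (hc.mult hm) ha hb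

theorem mat_fusion (P : BNPair Γ) (hB : P.B = (D.borelSubgroup K ⊓ Γ).subgroupOf Γ)
    (hN : P.N = (D.monomialSubgroup K ⊓ Γ).subgroupOf Γ) (g : Γ) :
    ∃ n : Γ, n.1 ∈ D.monomialSubgroup K ∧
      ∀ a ∈ D.diagonalSubgroup K, g.1 * a * g.1⁻¹ ∈ D.diagonalSubgroup K → g.1 * a * g.1⁻¹ = n.1 * a * n.1⁻¹ := by
  obtain ⟨w, hw⟩ := BN.exists_mem_C P g
  obtain ⟨n, rfl⟩ := BN.toW_surjective P w
  obtain ⟨b, hb, b', hb', rfl⟩ := (BN.mem_C_toW P).1 hw
  have hn := n.2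
  rw [hB] at hb hb'
  simp only [hN] at hn
  refine ⟨n, hn.1, fun a ha h => ?_⟩
  replace hb := hb.1
  replace hb' := hb'.1
  replace hn := hn.1
  rw [hc.borelSubgroup_eq hm] at hb hb'
  rw [hc.monomialSubgroup_eq hm] at hn
  rw [hc.diagonalSubgroup_eq hm] at ha h
  exact fusion (hc.st hm) (hc.opp hm) (hc.mult hm) hb hb' hn ha h

theorem ae_mat {l e : ℕ} [Fact l.Prime] [Finite Γ] (P : BNPair Γ) (hB : P.B = (D.borelSubgroup K ⊓ Γ).subgroupOf Γ)
    (hN : P.N = (D.monomialSubgroup K ⊓ Γ).subgroupOf Γ) {W : Type*} [Group W]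
    (φ : (D.monomialSubgroup K ⊓ Γ : Subgroup _) →* W)
    (hφ : φ.ker = (D.diagonalSubgroup K ⊓ Γ).subgroupOf (D.monomialSubgroup K ⊓ Γ)) (he : ∀ w : W, w ^ e = 1) {m : ℕ}
    (h1 : Nat.card Γ = Nat.card (D.diagonalSubgroup K ⊓ Γ : Subgroup _) * m) (hl : ¬ l ∣ m) : AE Γ l e := by
  refine ae_of_torus ((D.diagonalSubgroup K ⊓ Γ).subgroupOf Γ) ?_ fun g => ?_
  · have := ((D.diagonalSubgroup K ⊓ Γ).subgroupOf Γ).card_mul_index
    rw [Nat.card_congr (Subgroup.subgroupOfEquivOfLe inf_le_right).toEquiv, h1] at this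
    have h0 : Finite (D.diagonalSubgroup K ⊓ Γ : Subgroup _) :=
      Finite.of_injective _ (Subgroup.inclusion_injective (inf_le_right : _ ≤ Γ))
    rwa [Nat.eq_of_mul_eq_mul_left Nat.card_pos this]
  · obtain ⟨n, hn, h⟩ := mat_fusion hc hm P hB hN g
    refine ⟨n, fun a ha => Subtype.ext ?_, fun a ha h' => Subtype.ext (h a ha.1 h'.1)⟩
    have : (⟨n, hn, n.2⟩ : (D.monomialSubgroup K ⊓ Γ : Subgroup _)) ^ e ∈ φ.ker := by
      rw [MonoidHom.mem_ker, map_pow, he]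
    rw [hφ] at this
    exact diag_comm hc hm this.1 ha.1

end mat

end Cfsg.Lib.AltSec
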