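/-
Centralisers of toral elements, involutions of the torus and their traces; exclusion of `A₈` as a section.
-/
import Cfsg.Agent.Lib.Exc.AltSec
import Cfsg.Agent.Lib.Chev.Borel
import Cfsg.Agent.Lib.Chev.Poincare
import Cfsg.Agent.Lib.Chev.Torus
import Cfsg.Agent.Lib.Twist.WeylAll

set_option autoImplicit false

namespace Cfsg.Lib.AltSec

open Subgroup Cfsg.Lib Cfsg.Lib.Core Cfsg.Lib.Amalg Cfsg.Lib.Chev Cfsg.Lib.Twist Cfsg.Lie

universe u

section trace

open Module

theorem sum_rank_le {ι F M : Type*} [Fintype ι] [Field F] [AddCommGroup M] [Module F M] [FiniteDimensional F M]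
    (P : ι → Module.End F M) (h3 : ∀ i, P i * P i = P i) (h4 : ∀ i k, k ≠ i → P k * P i = 0) :
    ∑ i, finrank F (LinearMap.range (P i)) ≤ finrank F M := by
  let L : (∀ i, LinearMap.range (P i)) →ₗ[F] M := ∑ i, (LinearMap.range (P i)).subtype ∘ₗ LinearMap.proj i
  have h6 : Function.Injective L := by
    rw [injective_iff_map_eq_zero]
    intro x hx
    funext i
    have := congrArg (P i) hx
    simp only [L, LinearMap.coe_sum, Finset.sum_apply, LinearMap.comp_apply, LinearMap.proj_apply, Submodule.subtype_apply,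
      map_sum, map_zero] at this
    rw [Finset.sum_eq_single i] at this
    · obtain ⟨y, hy⟩ := (x i).2
      rw [← hy, ← Module.End.mul_apply, h3, hy] at this
      exact Subtype.ext this
    · intro k _ hk
      obtain ⟨y, hy⟩ := (x k).2
      rw [← hy, ← Module.End.mul_apply, h4 _ _ hk.symm, LinearMap.zero_apply]
    · simp
  have h7 := LinearMap.finrank_le_finrank_of_injective h6
  rwa [Module.finrank_pi_fintype] at h7

/-- An abelian group whose non-identity elements have constant trace. -/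
theorem trace_bound {E F M : Type*} [CommGroup E] [Finite E] [Field F] [AddCommGroup M] [Module F M] [FiniteDimensional F M]
    [HasEnoughRootsOfUnity F (Monoid.exponent E)] (p : ℕ) [CharP F p] (hE : (Nat.card E : F) ≠ 0) (ρ : E →* Module.End F M)
    {τ : F} (hτ : ∀ g, g ≠ 1 → LinearMap.trace F M (ρ g) = τ) {j : ℕ} (hj : j < p)
    (h : (finrank F M : F) - τ = Nat.card E * j) : (Nat.card E - 1) * j ≤ finrank F M := by
  classical
  have := Fintype.ofFinite E
  have hc := CommGroup.card_monoidHom_of_hasEnoughRootsOfUnity E F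
  have : Finite (E →* Fˣ) := Nat.finite_of_card_ne_zero (hc ▸ Nat.card_pos.ne')
  have := Fintype.ofFinite (E →* Fˣ)
  obtain ⟨P, hP⟩ : ∃ P : (E →* Fˣ) → Module.End F M, ∀ χ, P χ = (Nat.card E : F)⁻¹ • ∑ g, (χ g⁻¹ : F) • ρ g := ⟨_, fun _ => rfl⟩
  have h1 : ∀ χ g, ρ g * P χ = (χ g : F) • P χ := by
    intro χ g
    simp only [hP, mul_smul_comm, Finset.mul_sum, Finset.smul_sum, ← map_mul, smul_smul]
    refine Fintype.sum_equiv (Equiv.mulLeft g) _ _ fun x => ?_
    simp only [Equiv.coe_mulLeft, mul_inv, map_mul, Units.val_mul]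
    congr 1
    rw [map_inv χ g, Units.val_inv_eq_inv_val]; field_simp
  have hs : ∀ φ ψ : E →* Fˣ, φ ≠ ψ → ∑ g, (φ g⁻¹ * ψ g : F) = 0 := fun φ ψ hφ => by
    refine Eq.trans ?_ (sum_hom_units_eq_zero ((Units.coeHom F).comp (φ⁻¹ * ψ)) fun h => hφ (MonoidHom.ext fun g => ?_))
    · simp
    · exact inv_mul_eq_one.1 (Units.ext (DFunLike.congr_fun h g))
  have h2 : ∀ χ ψ, P ψ * P χ = ((Nat.card E : F)⁻¹ * ∑ g, (ψ g⁻¹ * χ g : F)) • P χ := by
    intro χ ψ
    rw [hP ψ, smul_mul_assoc, Finset.sum_mul, mul_smul, Finset.sum_smul]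
    congr 1
    refine Finset.sum_congr rfl fun g _ => ?_
    rw [smul_mul_assoc, h1, smul_smul]
  have h3 : ∀ χ, P χ * P χ = P χ := by
    intro χ
    rw [h2]
    simp [← Nat.card_eq_fintype_card, inv_mul_cancel₀ hE]
  have h4 : ∀ χ ψ, ψ ≠ χ → P ψ * P χ = 0 := by
    intro χ ψ hne
    rw [h2, hs _ _ hne, mul_zero, zero_smul]
  have h5 : ∀ χ, χ ≠ 1 → j ≤ finrank F (LinearMap.range (P χ)) := by
    intro χ hχ
    have e1 := (LinearMap.IsIdempotentElem.isProj_range (P χ) (h3 χ)).trace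
    have e2 : LinearMap.trace F M (P χ) = j := by
      have e3 := hs χ 1 hχ
      simp only [hP, map_smul, map_sum, smul_eq_mul]
      rw [← Finset.add_sum_erase _ _ (Finset.mem_univ 1)] at e3 ⊢
      rw [Finset.sum_congr rfl fun g hg => by rw [hτ g (Finset.ne_of_mem_erase hg)], ← Finset.sum_mul]
      simp only [MonoidHom.one_apply, map_one, inv_one, Units.val_one, LinearMap.trace_one, one_mul, mul_one] at e3 ⊢
      rw [eq_neg_of_add_eq_zero_right e3, neg_one_mul, ← sub_eq_add_neg, h, inv_mul_cancel_left₀ hE]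
    rw [e2, CharP.natCast_eq_natCast F p, Nat.ModEq, Nat.mod_eq_of_lt hj] at e1
    exact e1 ▸ Nat.mod_le _ _
  refine le_trans ?_ (sum_rank_le (fun χ : {χ : E →* Fˣ // χ ≠ 1} => P χ) (fun _ => h3 _)
    fun _ _ h => h4 _ _ fun h' => h (Subtype.ext h'))
  have := Finset.card_nsmul_le_sum Finset.univ (fun χ : {χ : E →* Fˣ // χ ≠ 1} => finrank F (LinearMap.range (P χ))) j
    fun χ _ => h5 _ χ.2
  rwa [Finset.card_univ, Fintype.card_subtype_compl, Fintype.card_subtype_eq, ← Nat.card_eq_fintype_card, hc, smul_eq_mul] at this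

end trace

section alt8

variable {G : Type*} [Group G]

/-- An elementary abelian group of order 16 in `A₈`. -/
def e16 : Multiplicative (ZMod 2 × ZMod 2 × ZMod 2 × ZMod 2) →* Equiv.Perm (Fin 8) :=
  MonoidHom.mk' (fun v => (c[0, 1] * c[2, 3]) ^ v.toAdd.1.val * (c[0, 2] * c[1, 3]) ^ v.toAdd.2.1.val *
    (c[4, 5] * c[6, 7]) ^ v.toAdd.2.2.1.val * (c[4, 6] * c[5, 7]) ^ v.toAdd.2.2.2.val) (by decide +kernel)

theorem exists_e16 : ∃ E : Subgroup (alternatingGroup (Fin 8)), Nat.card E = 16 ∧ ∀ x ∈ E, x ^ 2 = 1 := by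
  have h1 : ∀ v, Equiv.Perm.sign (e16 v) = 1 ∧ (e16 v = 1 → v = 1) ∧ v ^ 2 = 1 := by decide +kernel
  let f := e16.codRestrict (alternatingGroup (Fin 8)) fun v => (h1 v).1
  have hf : Function.Injective f := (injective_iff_map_eq_one f).2 fun v hv => (h1 v).2.1 (congrArg Subtype.val hv)
  refine ⟨f.range, by rw [← Nat.card_congr (MonoidHom.ofInjective hf).toEquiv]; simp, ?_⟩
  rintro _ ⟨v, rfl⟩
  rw [← map_pow, (h1 v).2.2, map_one]

theorem eq_top_of_index {Y : Subgroup (alternatingGroup (Fin 8))} (h : Y.index ≤ 7) : Y = ⊤ := by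
  have := alternatingGroup.isSimpleGroup (α := Fin 8) (by simp)
  rcases Y.normalCore_normal.eq_bot_or_eq_top with h1 | h1
  · have h2 := Subgroup.card_dvd_of_injective _ ((MonoidHom.ker_eq_bot_iff _).1 (Y.normalCore_eq_ker ▸ h1))
    rw [Nat.card_perm, ← Subgroup.index_eq_card, nat_card_alternatingGroup] at h2
    have h3 := Nat.le_of_dvd (Nat.factorial_pos _) (h2.trans (Nat.factorial_dvd_factorial h))
    simp [Nat.factorial] at h3
  · exact top_le_iff.1 (h1 ▸ Y.normalCore_le)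

theorem alt8_cases [Finite G] {X : Subgroup G} (π : X →* alternatingGroup (Fin 8)) (hπ : Function.Surjective π) :
    (∃ E : Subgroup G, Nat.card E = 16 ∧ ∀ x ∈ E, x ^ 2 = 1) ∨
      ∃ z : G, orderOf z = 2 ∧ ∀ k, ¬ AE (centralizer {z}) 7 (2 ^ k) := by
  obtain ⟨T, hT⟩ := exists_syl 2 π.ker
  by_cases h0 : T = ⊥
  · obtain ⟨E, h1, h2⟩ := exists_e16
    obtain ⟨P, hP⟩ := exists_syl 2 (E.comap π)
    have h3 : P.map π = E := by
      have := hP.map π
      rw [Subgroup.map_comap_eq_self_of_surjective hπ] at this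
      exact this.eq_of_isPGroup (IsPGroup.of_card (n := 4) h1)
    have h4 : ∀ x ∈ P, π x = 1 → x = 1 := fun x hx h => by
      have : P ⊓ π.ker ≤ T := h0 ▸ (hT.eq_of_le _ (h0 ▸ bot_le) inf_le_right (hP.isPGroup.to_le inf_le_left)).le.trans h0.le
      exact Subgroup.mem_bot.1 (h0 ▸ this ⟨hx, h⟩)
    refine Or.inl ⟨P.map X.subtype, ?_, ?_⟩
    · rw [Subgroup.card_map_of_injective X.subtype_injective, ← h1, ← h3]
      refine Nat.card_congr (Equiv.ofBijective (π.subgroupMap P) ⟨?_, π.subgroupMap_surjective P⟩)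
      exact (injective_iff_map_eq_one _).2 fun x hx => Subtype.ext (h4 x x.2 (congrArg Subtype.val hx))
    · rintro _ ⟨x, hx, rfl⟩
      rw [← map_pow, h4 _ (P.pow_mem hx 2) (by rw [map_pow]; exact h2 _ (h3 ▸ ⟨x, hx, rfl⟩)), map_one]
  let V : Subgroup X :=
    { carrier := {x | x ∈ T ∧ (∀ y ∈ T, x * y = y * x) ∧ x ^ 2 = 1}
      mul_mem' := by
        rintro a b ⟨a1, a2, a3⟩ ⟨b1, b2, b3⟩
        refine ⟨T.mul_mem a1 b1, fun y hy => by rw [mul_assoc, b2 y hy, ← mul_assoc, a2 y hy, mul_assoc], ?_⟩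
        rw [(show Commute a b from a2 b b1).mul_pow, a3, b3, one_mul]
      one_mem' := ⟨T.one_mem, by simp, by simp⟩
      inv_mem' := by
        rintro a ⟨a1, a2, a3⟩
        exact ⟨T.inv_mem a1, fun y hy => (show Commute a y from a2 y hy).inv_left, by rw [inv_pow, a3, inv_one]⟩ }
  have hV : IsPGroup 2 V := isPGroup_iff_mem.2 fun x hx => ⟨1, hx.2.2⟩
  obtain ⟨n, hn⟩ := IsPGroup.iff_card.1 hV
  by_cases h4 : 4 ≤ n
  · obtain ⟨E, hE⟩ := Sylow.exists_subgroup_card_pow_prime (G := V) 2 (n := 4) (hn ▸ pow_dvd_pow 2 h4)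
    refine Or.inl ⟨(E.map V.subtype).map X.subtype, ?_, ?_⟩
    · rw [Subgroup.card_map_of_injective X.subtype_injective, Subgroup.card_map_of_injective V.subtype_injective, hE]; rfl
    · rintro _ ⟨_, ⟨x, -, rfl⟩, rfl⟩
      rw [← map_pow, show V.subtype x ^ 2 = 1 from x.2.2.2, map_one]
  have : Nontrivial T := (Subgroup.nontrivial_iff_ne_bot T).2 h0
  have := hT.isPGroup.center_nontrivial
  obtain ⟨z, hz⟩ := exists_prime_orderOf_dvd_card' (G := center T) 2
    (by obtain ⟨m, h1, h2⟩ := (hT.isPGroup.to_subgroup (center T)).nontrivial_iff_card.1 this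
        exact h2 ▸ dvd_pow_self 2 h1.ne')
  have hz' : orderOf z.1.1 = 2 := by rw [Subgroup.orderOf_coe, Subgroup.orderOf_coe, hz]
  have hzV : z.1.1 ∈ V := ⟨z.1.2, fun y hy => congrArg Subtype.val (Subgroup.mem_center_iff.1 z.2 ⟨y, hy⟩).symm,
    hz' ▸ pow_orderOf_eq_one _⟩
  generalize z.1.1 = z at hz' hzV
  have : Fact (Nat.Prime 7) := ⟨by norm_num⟩
  refine Or.inr ⟨z, by rw [Subgroup.orderOf_coe, hz'], fun k h => not_ae_seven (r := 8) (by omega) k ?_⟩
  let π' : 𝐍 T →* alternatingGroup (Fin 8) := π.comp (𝐍 T).subtype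
  have hπ' : Function.Surjective π' := fun y => by
    obtain ⟨x, rfl⟩ := hπ y
    obtain ⟨a, ha, b, hb, rfl⟩ := hT.frattini_mem (g := x) (by rw [Subgroup.normalizer_eq_top]; trivial)
    exact ⟨⟨b, hb⟩, by rw [map_mul, show π a = 1 from ha, one_mul]; rfl⟩
  let _ : MulAction (𝐍 T) X := MulAction.compHom X (MulAut.conj.comp (𝐍 T).subtype)
  have hs : ∀ (g : 𝐍 T) (x : X), g • x = g.1 * x * g.1⁻¹ := fun _ _ => rfl
  have h5 : (MulAction.stabilizer (𝐍 T) z).index ≤ 7 := by
    rw [MulAction.index_stabilizer]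
    have h6 : MulAction.orbit (𝐍 T) z ⊆ (V : Set X) \ {1} := by
      rintro _ ⟨g, rfl⟩
      beta_reduce
      rw [hs]
      refine ⟨⟨(g.2 z).1 hzV.1, fun y hy => ?_, by rw [conj_pow, hzV.2.2, mul_one, mul_inv_cancel]⟩, fun h => ?_⟩
      · have := hzV.2.1 _ ((g⁻¹.2 y).1 hy)
        have := congrArg (MulAut.conj g.1) this
        simpa [mul_assoc] using this
      · rw [Set.mem_singleton_iff, mul_inv_eq_one, mul_eq_left] at h
        simp [h] at hz'
    refine (Set.ncard_le_ncard h6).trans ?_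
    rw [Set.ncard_sdiff_singleton_of_mem V.one_mem, ← Nat.card_coe_set_eq, SetLike.coe_sort_coe, hn]
    have : 2 ^ n ≤ 2 ^ 3 := Nat.pow_le_pow_right two_pos (by omega)
    omega
  have h7 := eq_top_of_index (Y := (MulAction.stabilizer (𝐍 T) z).map π')
    ((Nat.le_of_dvd (Nat.pos_of_ne_zero Subgroup.index_ne_zero_of_finite) (Subgroup.index_map_dvd _ hπ')).trans h5)
  let ι : MulAction.stabilizer (𝐍 T) z →* centralizer {(z : G)} :=
    (X.subtype.comp ((𝐍 T).subtype.comp (Subgroup.subtype _))).codRestrict _ fun g =>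
      Subgroup.mem_centralizer_singleton_iff.2 (congrArg Subtype.val (mul_inv_eq_iff_eq_mul.1 g.2))
  refine (h.of_inj ι fun a b hab => Subtype.ext (Subtype.ext (Subtype.ext (congrArg Subtype.val hab :)))).of_surj
    (π'.comp (Subgroup.subtype _)) fun y => ?_
  obtain ⟨x, hx, rfl⟩ : y ∈ (MulAction.stabilizer (𝐍 T) z).map π' := h7 ▸ trivial
  exact ⟨⟨x, hx⟩, rfl⟩

end alt8

section cent

variable {I Φ : Type*} [Fintype I] [DecidableEq I] {R : RootSys I Φ} {K : Type*} [Field K] {G : Type*} [Group G]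
  {S : PreSys R K G}

theorem act_pow {m : G} {w : Equiv.Perm Φ} (hw : w ∈ R.W) (h : S.Act m w) (n : ℕ) : S.Act (m ^ n) (w ^ n) := by
  induction n with
  | zero => simpa using PreSys.act_one
  | succ n ih => rw [pow_succ, pow_succ]; exact ih.mul hw h

theorem conj_char (hF : S.Sep) {m h h' : G} {w : Equiv.Perm Φ} (a : S.Act m w) {f f' : Φ → K}
    (hf : ∀ s u, h * S.x s u * h⁻¹ = S.x s (f s * u)) (hf' : ∀ s u, h' * S.x s u * h'⁻¹ = S.x s (f' s * u))
    (e : h' = m * h * m⁻¹) (r : Φ) : f' (w r) = f r := by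
  obtain ⟨c, c1, -, c2⟩ := a
  have := hf' (w r) (c r * 1)
  rw [← c2, e, show m * h * m⁻¹ * (m * S.x r 1 * m⁻¹) * (m * h * m⁻¹)⁻¹ = m * (h * S.x r 1 * h⁻¹) * m⁻¹ by group, hf, c2] at this
  have := hF.x_inj this
  rw [mul_one, mul_one, mul_comm] at this
  exact (mul_right_cancel₀ (c1 r) this).symm

theorem exists_fus [Finite Φ] (hS : S.St) (hO : S.Opp) (hM : S.Mult) (hgen : S.U Set.univ = ⊤) (g : G) :
    ∃ m ∈ S.N, ∃ w ∈ R.W, S.Act m w ∧ ∀ a ∈ S.H, g * a * g⁻¹ ∈ S.H → g * a * g⁻¹ = m * a * m⁻¹ := by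
  obtain ⟨w, hw, b, hb, m, hm, a, b', hb', rfl⟩ := hS.exists_cell (g := g) (hgen ▸ trivial)
  exact ⟨m, hm, w, hw, a, fun _ ha h => fusion hS hO hM hb hb' hm ha h⟩

theorem ae_cent [Finite Φ] [Finite G] (hS : S.St) (hF : S.Sep) (hO : S.Opp) (hM : S.Mult) (hgen : S.U Set.univ = ⊤) {l e : ℕ}
    [Fact l.Prime] (hl : ¬ l ∣ S.H.index) {h : G} (hh : h ∈ S.H) {f : Φ → K} (hf : ∀ s u, h * S.x s u * h⁻¹ = S.x s (f s * u))
    (hW : ∀ w ∈ R.W, (∀ r, f (w r) = f r) → w ^ e = 1) : AE (centralizer {h}) l e := by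
  refine ae_of_torus (S.H.subgroupOf _) (fun h1 => hl (h1.trans (Subgroup.relIndex_dvd_index_of_le fun a ha =>
    Subgroup.mem_centralizer_singleton_iff.2 (hS.H_comm hM ha hh)))) fun g => ?_
  obtain ⟨m, hm, w, hw, a, h1⟩ := exists_fus hS hO hM hgen g.1
  have h2 : g.1 * h * g.1⁻¹ = h := mul_inv_eq_iff_eq_mul.2 (Subgroup.mem_centralizer_singleton_iff.1 g.2)
  have h3 := h1 h hh (by rwa [h2])
  rw [h2] at h3
  refine ⟨⟨m, Subgroup.mem_centralizer_singleton_iff.2 (mul_inv_eq_iff_eq_mul.1 h3.symm)⟩, fun b hb => Subtype.ext ?_,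
    fun b hb hb' => Subtype.ext (h1 b hb hb')⟩
  have := act_pow hw a e
  rw [hW w hw (conj_char hF a hf hf h3)] at this
  exact hS.H_comm hM (hS.mem_H_of_act_one hF (pow_mem hm e) this) hb

/-- The parity of a root with respect to a sign vector. -/
def par (R : RootSys I Φ) (β : I → ZMod 2) (r : Φ) : ZMod 2 := ∑ i, β i * (R.rt r i : ZMod 2)

/-- The action on sign vectors. -/
def act (R : RootSys I Φ) (w : Equiv.Perm Φ) (β : I → ZMod 2) (i : I) : ZMod 2 := par R β (w (R.simple i))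

/-- The sign of a parity. -/
def sg (K : Type*) [Field K] (x : ZMod 2) : K := if x = 0 then 1 else -1

theorem par_simple (β : I → ZMod 2) (i : I) : par R β (R.simple i) = β i := by
  simp [par, R.rt_simple, Pi.single_apply]

theorem par_W {w : Equiv.Perm Φ} (hw : w ∈ R.W) (β : I → ZMod 2) (r : Φ) : par R β (w r) = par R (act R w β) r := by
  simp only [par, act, RootSys.W_rt_eq_sum hw r, Finset.sum_apply, Pi.smul_apply, smul_eq_mul, Int.cast_sum, Int.cast_mul,
    Finset.mul_sum, Finset.sum_mul]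
  rw [Finset.sum_comm]
  exact Finset.sum_congr rfl fun _ _ => Finset.sum_congr rfl fun _ _ => by ring

theorem act_mul {w : Equiv.Perm Φ} (hw : w ∈ R.W) (v : Equiv.Perm Φ) (β : I → ZMod 2) :
    act R (w * v) β = act R v (act R w β) := funext fun _ => par_W hw β _

theorem act_one (β : I → ZMod 2) : act R 1 β = β := funext (par_simple β)

theorem act_s (j : I) (β : I → ZMod 2) : act R (R.s j) β = fun i => β i - (R.A j i : ZMod 2) * β j := by
  funext i
  simp only [act, par, R.s_apply, R.rt_refl, R.pair_simple_simple, R.rt_simple, Pi.sub_apply, Pi.smul_apply, smul_eq_mul,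
    Int.cast_sub, Int.cast_mul, mul_sub, Finset.sum_sub_distrib, Pi.single_apply]
  simp [mul_comm]

theorem act_inv {α : Type*} (c : (I → ZMod 2) → α) (hc : ∀ j β, c (fun i => β i - (R.A j i : ZMod 2) * β j) = c β)
    {w : Equiv.Perm Φ} (hw : w ∈ R.W) : ∀ β, c (act R w β) = c β := by
  refine R.W_induction_left (P := fun w _ => ∀ β, c (act R w β) = c β) (fun β => by rw [act_one]) ?_ hw
  intro i w _ ih β
  rw [act_mul (R.s_mem_W i), ih, act_s, hc]

theorem zm2 : ∀ x : ZMod 2, x = 0 ∨ x = 1 := by decide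

theorem sg_add (x y : ZMod 2) : sg K (x + y) = sg K x * sg K y := by
  rcases zm2 x with rfl | rfl <;> rcases zm2 y with rfl | rfl <;> simp [sg, show (1 + 1 : ZMod 2) = 0 from rfl]

theorem sg_inj (h2 : (2 : K) ≠ 0) {x y : ZMod 2} (h : sg K x = sg K y) : x = y := by
  rcases zm2 x with rfl | rfl <;> rcases zm2 y with rfl | rfl <;> simp only [sg, if_true, one_ne_zero, if_false] at h ⊢
  · exact absurd (by linear_combination h) h2
  · exact absurd (by linear_combination -h) h2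

theorem sg_mul (x : ZMod 2) (n : ℤ) : sg K (x * n) = sg K x ^ n := by
  rcases zm2 x with rfl | rfl
  · simp [sg]
  · simp [sg, neg_one_zpow_eq_ite, ZMod.intCast_zmod_eq_zero_iff_dvd, even_iff_two_dvd]

theorem exists_par (hS : S.St) (hF : S.Sep) {h : G} (hh : h ∈ S.H) (h2 : h ^ 2 = 1) :
    ∃ β, ∀ s u, h * S.x s u * h⁻¹ = S.x s (sg K (par R β s) * u) := by
  classical
  obtain ⟨χ, h1, h3⟩ := hS.exists_char hh
  have h4 : ∀ i, ∃ x, χ (R.rt (R.simple i)) = sg K x := by
    intro i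
    have := h3 (R.simple i) (χ (R.rt (R.simple i)) * 1)
    rw [← h3, show h * (h * S.x (R.simple i) 1 * h⁻¹) * h⁻¹ = h ^ 2 * S.x (R.simple i) 1 * (h ^ 2)⁻¹ by rw [pow_two]; group, h2,
      one_mul, inv_one, mul_one, mul_one] at this
    rcases mul_self_eq_one_iff.1 (hF.x_inj this).symm with h | h
    · exact ⟨0, h⟩
    · exact ⟨1, h⟩
  choose β hβ using h4
  refine ⟨β, fun s u => ?_⟩
  rw [h3, par]
  congr 2
  have : ∀ T : Finset I, χ (∑ i ∈ T, R.rt s i • R.rt (R.simple i)) = sg K (∑ i ∈ T, β i * (R.rt s i : ZMod 2)) := by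
    intro T
    induction T using Finset.induction_on with
    | empty => simp [h1.map_zero, sg]
    | insert i T hi ih => rw [Finset.sum_insert hi, Finset.sum_insert hi, h1.map_add, sg_add, ih, h1.map_zsmul, sg_mul, hβ]
  rw [← this]; exact congrArg χ (RootSys.W_rt_eq_sum (one_mem _) s)

theorem pow_eq_one_of_stab [Finite Φ] {k : ℕ} (hc : Nat.card R.W = 3 * 2 ^ k) {v : Equiv.Perm Φ} (hv : v ∈ R.W) (hv3 : v ^ 3 = 1)
    {β : I → ZMod 2} (hβ : ∀ u ∈ R.W, act R v (act R u β) ≠ act R u β) {w : Equiv.Perm Φ} (hw : w ∈ R.W) (h : act R w β = β) :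
    w ^ 2 ^ k = 1 := by
  have : Fact (Nat.Prime 3) := ⟨Nat.prime_three⟩
  let Y : Subgroup (Equiv.Perm Φ) :=
    { carrier := {w | w ∈ R.W ∧ act R w β = β}
      mul_mem' := fun ha hb => ⟨mul_mem ha.1 hb.1, by rw [act_mul ha.1, ha.2, hb.2]⟩
      one_mem' := ⟨one_mem _, act_one β⟩
      inv_mem' := fun {a} ha => ⟨inv_mem ha.1, by
        conv_lhs => rw [← ha.2, ← act_mul ha.1, mul_inv_cancel, act_one]⟩ }
  have hY : Y ≤ R.W := fun _ h => h.1
  have h1 : orderOf v = 3 := orderOf_eq_prime hv3 fun h => hβ 1 (one_mem _) (by rw [h, act_one])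
  have h2 : ¬ 3 ∣ Nat.card Y := fun h => by
    obtain ⟨P, p1, p2, p3⟩ := exists_isPGroup_ne_bot_of_dvd h
    have h3 : Syl 3 (zpowers v) R.W := syl_of_not_dvd (zpowers_le.2 hv) (isPGroup_zpowers_of_orderOf (k := 1) h1) fun h => by
      have := card_mul_relIndex (zpowers_le.2 hv)
      rw [Nat.card_zpowers, h1, hc, Nat.mul_right_inj (by decide)] at this
      exact absurd (Nat.prime_three.dvd_of_dvd_pow (this ▸ h)) (by decide)
    obtain ⟨g, hg, e⟩ := h3.exists_conj (h3.of_card_ge p2 (p1.trans hY) (by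
      rw [Nat.card_zpowers, h1]; exact Nat.le_of_dvd Nat.card_pos (dvd_card_of_isPGroup_ne_bot p2 p3)))
    have h4 := (p1 (e ▸ conj_mem_cj g (mem_zpowers v))).2
    refine hβ g hg ?_
    rw [← act_mul hg, show g * v = g * v * g⁻¹ * g by group, act_mul (mul_mem (mul_mem hg hv) (inv_mem hg)), h4]
  have h3 : Nat.card Y ∣ 2 ^ k := Nat.Coprime.dvd_of_dvd_mul_left ((Nat.Prime.coprime_iff_not_dvd Nat.prime_three).2 h2).symm
    (hc ▸ Subgroup.card_dvd_of_le hY)
  exact orderOf_dvd_iff_pow_eq_one.1 ((Subgroup.orderOf_dvd_natCard Y ⟨hw, h⟩).trans h3)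

end cent

section mat

variable {D : ChevalleyDatum} {R : RootSys (Fin D.rank) (Fin D.nroots)} (hc : Compat D R) {η : ℕ → ℕ → ℤ} (hm : MatOK D η)

include hc hm

theorem not_dvd_index {L : Type*} [Field L] [Finite L] {l : ℕ} [Fact l.Prime] (h1 : l ∣ Nat.card L - 1)
    (h2 : ¬ l ∣ Nat.card R.W) : ¬ l ∣ (hc.gsys hm L).H.index := by
  have := Fintype.ofFinite (R.WJ Set.univ)
  have e1 := hc.card_group hm (F := L)
  have e2 := (hc.gsys hm L).H.card_mul_index
  have e3 : Nat.card (hc.gsys hm L).H = Nat.card (hc.sys hm L).H := by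
    rw [hc.gsys_H, hc.diagonalSubgroup_eq hm]
    exact Nat.card_congr (Subgroup.subgroupOfEquivOfLe ((hc.sys hm L).H_le_univ.trans (hc.group_eq hm).ge)).toEquiv
  rw [← hc.card_H hm, ← e2, e3, ← mul_assoc, mul_left_comm] at e1
  rw [Nat.eq_of_mul_eq_mul_left (Nat.mul_pos Nat.card_pos Nat.card_pos) e1, ← ZMod.natCast_eq_zero_iff, Nat.cast_mul,
    R.poin_cast, Nat.cast_pow, (ZMod.natCast_eq_natCast_iff _ 1 _).2 ((Nat.modEq_iff_dvd' Nat.card_pos).2 h1).symm,
    ← R.poin_eq]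
  simp only [Nat.cast_one, one_pow, one_mul, Finset.sum_const, Finset.card_univ, nsmul_eq_mul, mul_one]
  rwa [ZMod.natCast_eq_zero_iff, ← Nat.card_eq_fintype_card, R.WJ_univ]

theorem trace_eq {L : Type*} [Field L] {h : D.group L} (hh : h ∈ (hc.gsys hm L).H) {f : Fin D.nroots → L}
    (hf : ∀ s u, h * (hc.gsys hm L).x s u * h⁻¹ = (hc.gsys hm L).x s (f s * u)) : h.1.1.trace = D.rank + ∑ s, f s := by
  rw [hc.gsys_H, Subgroup.mem_subgroupOf, hc.diagonalSubgroup_eq hm] at hh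
  obtain ⟨χ, hχ, e⟩ := hc.exists_diagU hm hh
  have : ∀ s, χ (R.rt s) = f s := fun s => by
    have := hc.diagU_conj hm hχ s 1
    rw [← e] at this
    replace this := this.symm.trans (congrArg Subtype.val (hf s 1))
    simpa using (hc.sep hm).x_inj this
  rw [e]
  simp [Compat.diagU, Fintype.sum_sum_type, hχ.map_zero, this]

theorem map_mem_H {K L : Type*} [Field K] [Field L] (j : K →+* L) {h : D.group K} (hh : h ∈ (hc.gsys hm K).H) :
    baseExt D j h ∈ (hc.gsys hm L).H := by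
  refine ((hc.gsys hm K).H_le_iff (X := (hc.gsys hm L).H.comap (baseExt D j))).2 (fun r t ht => ?_) hh
  have := (hc.gsys hm L).h_mem_H r ((map_ne_zero j).2 ht)
  simpa [PreSys.h, PreSys.n, hc.baseExt_x hm] using this

theorem descend {K : Type u} [Field K] [Finite K] (p : ℕ) [Fact p.Prime] [CharP K p] {z : D.group K} {n : ℕ} (hn : n.Coprime p)
    (hz : z ^ n = 1) {m : ℕ} (hm' : ¬ p ∣ m) : ∃ (L : Type u) (_ : Field L) (_ : Fintype L) (j : K →+* L),
      m ∣ Nat.card L - 1 ∧ ∃ a : D.group L, a⁻¹ * baseExt D j z * a ∈ (hc.gsys hm L).H := by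
  classical
  let k := AlgebraicClosure K
  obtain ⟨a, ha⟩ : ∃ a : D.group k, a⁻¹ * baseExt D (algebraMap K k) z * a ∈ (hc.gsys hm k).H :=
    Fam.Red.exists_conj_H (hc.adFam_red hm) p (g := baseExt D (algebraMap K k) z) hn
      (show baseExt D (algebraMap K k) z ^ n = 1 by rw [← map_pow, hz, map_one])
  let Z : (∀ L : IntermediateField K k, Subgroup (D.group L)) → Subgroup (D.group k) := fun Y =>
    { carrier := {g | ∃ T : Finset k, ∀ L : IntermediateField K k, (∀ t ∈ T, t ∈ L) → g ∈ (Y L).map (baseExt D (algebraMap L k))}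
      mul_mem' := by
        rintro a b ⟨T, h⟩ ⟨T', h'⟩
        exact ⟨T ∪ T', fun L hL => mul_mem (h L fun t ht => hL t (Finset.mem_union_left _ ht))
          (h' L fun t ht => hL t (Finset.mem_union_right _ ht))⟩
      one_mem' := ⟨∅, fun _ _ => one_mem _⟩
      inv_mem' := by
        rintro a ⟨T, h⟩
        exact ⟨T, fun L hL => inv_mem (h L hL)⟩ }
  obtain ⟨T₁, h1⟩ : a ∈ Z fun _ => ⊤ := by
    refine ((hc.gsys hm k).U_le_iff (T := Set.univ) (H := Z fun _ => ⊤)).2 (fun r _ t => ⟨{t}, fun L hL => ?_⟩)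
      ((hc.ggen hm).ge (Subgroup.mem_top a))
    exact ⟨_, trivial, hc.baseExt_x hm (algebraMap L k) r ⟨t, hL t (Finset.mem_singleton_self t)⟩⟩
  obtain ⟨T₂, h2⟩ : a⁻¹ * baseExt D (algebraMap K k) z * a ∈ Z fun L => (hc.gsys hm L).H := by
    refine ((hc.gsys hm k).H_le_iff (X := Z fun L => (hc.gsys hm L).H)).2 (fun r t ht => ⟨{t}, fun L hL => ?_⟩) ha
    refine ⟨_, (hc.gsys hm L).h_mem_H r (t := ⟨t, hL t (Finset.mem_singleton_self t)⟩) fun h => ht (congrArg Subtype.val h), ?_⟩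
    simp [PreSys.h, PreSys.n, hc.baseExt_x hm]
  have : NeZero (m : k) := ⟨fun h => hm' ((CharP.cast_eq_zero_iff k p m).1 h)⟩
  obtain ⟨ζ, hζ⟩ := HasEnoughRootsOfUnity.exists_primitiveRoot k m
  let L := IntermediateField.adjoin K ((insert ζ (T₁ ∪ T₂) : Finset k) : Set k)
  have hL : ∀ t ∈ insert ζ (T₁ ∪ T₂), t ∈ L := fun t ht => IntermediateField.subset_adjoin _ _ ht
  have : FiniteDimensional K L := IntermediateField.finiteDimensional_adjoin fun x _ => Algebra.IsIntegral.isIntegral x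
  have : Finite L := Module.finite_of_finite K
  refine ⟨L, inferInstance, Fintype.ofFinite _, algebraMap K L, ?_, ?_⟩
  · have h3 : IsPrimitiveRoot (⟨ζ, hL ζ (Finset.mem_insert_self _ _)⟩ : L) m :=
      IsPrimitiveRoot.of_map_of_injective (f := algebraMap L k) hζ (algebraMap L k).injective
    have h4 := h3.isUnit (NeZero.of_neZero_natCast k).1
    rw [← Nat.card_units, (h3.isUnit_unit (NeZero.of_neZero_natCast k).1).eq_orderOf]
    exact orderOf_dvd_natCard _
  · obtain ⟨b, -, rfl⟩ := h1 L fun t ht => hL t (Finset.mem_insert_of_mem (Finset.mem_union_left _ ht))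
    obtain ⟨c, h3, h4⟩ := h2 L fun t ht => hL t (Finset.mem_insert_of_mem (Finset.mem_union_right _ ht))
    suffices h : c = b⁻¹ * baseExt D (algebraMap K L) z * b from ⟨b, h ▸ h3⟩
    refine baseExt_injective (algebraMap L k) (h4.trans ?_)
    rw [map_mul, map_mul, map_inv]
    exact congrArg (fun x : D.group k => _ * x * _) ((hc.adFam hm).map_map (algebraMap K L) (algebraMap L k) z).symm

theorem ae_group {K : Type u} [Field K] [Finite K] (p : ℕ) [Fact p.Prime] [CharP K p] {l e : ℕ} [Fact l.Prime] (hl : l ≠ p)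
    (h2 : ¬ l ∣ Nat.card R.W) (hW : ∀ w ∈ R.W, w ^ e = 1) : AE (D.group K) l e := by
  obtain ⟨L, _, _, j, h1, -⟩ := descend hc hm p (z := (1 : D.group K)) (Nat.coprime_one_left p) (one_pow 1) (m := l)
    fun h => hl ((Nat.prime_dvd_prime_iff_eq Fact.out Fact.out).1 h).symm
  refine (ae_cent (hc.gst hm) (hc.gsep hm) (hc.gopp hm) (hc.gmult hm) (hc.ggen hm) (not_dvd_index hc hm h1 h2) (one_mem _)
    (f := 1) (by simp) fun w hw _ => hW w hw).of_inj
    ((baseExt D j).codRestrict _ fun g => Subgroup.mem_centralizer_singleton_iff.2 (by simp)) fun a b h => ?_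
  exact baseExt_injective j (congrArg Subtype.val h :)

theorem not_alt8 {K : Type u} [Field K] [Finite K] [CharP K 5] {Γ : Type*} [Group Γ] [Finite Γ] (ι : Γ →* D.group K)
    (hι : Function.Injective ι) (Good : (Fin D.rank → ZMod 2) → Bool)
    (hG : ∀ z : Γ, ∀ (L : Type u) [Field L] [Fintype L] (j : K →+* L) (a h : D.group L) (β : Fin D.rank → ZMod 2),
      a⁻¹ * baseExt D j (ι z) * a = h → h ∈ (hc.gsys hm L).H → h ^ 2 = 1 →
      (∀ s u, h * (hc.gsys hm L).x s u * h⁻¹ = (hc.gsys hm L).x s (sg L (par R β s) * u)) → β ≠ 0 → Good β = true)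
    (hi : ∀ j β, Good (fun i => β i - (R.A j i : ZMod 2) * β j) = Good β)
    {k : ℕ} (hW : Nat.card R.W = 3 * 2 ^ k) {v : Equiv.Perm (Fin D.nroots)} (hv : v ∈ R.W) (hv3 : v ^ 3 = 1)
    (hv' : ∀ β, Good β = true → act R v β ≠ β) {j : ℕ} (hj : j < 5) (hj' : D.rank + D.nroots < 15 * j)
    (htr : ∀ β, Good β = true → (D.nroots : ℤ) - ∑ s, (if par R β s = 0 then 1 else -1) = 16 * j)
    {X : Subgroup Γ} (π : X →* alternatingGroup (Fin 8)) (hπ : Function.Surjective π) : False := by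
  have : Fact (Nat.Prime 5) := ⟨by norm_num⟩
  have : Fact (Nat.Prime 7) := ⟨by norm_num⟩
  have key : ∀ z : Γ, orderOf z = 2 → (ι z).1.1.trace = ((D.rank + D.nroots : ℕ) : K) - 16 * j ∧
      AE (centralizer {z}) 7 (2 ^ k) := by
    intro z hz
    have h1 : ι z ^ 2 = 1 := by rw [← map_pow, ← hz, pow_orderOf_eq_one, map_one]
    obtain ⟨L, _, _, i, h2, a, h3⟩ := descend hc hm 5 (by decide) h1 (m := 7) (by decide)
    have : CharP L 5 := charP_of_injective_ringHom i.injective 5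
    have h4 : (2 : L) ≠ 0 := fun h => absurd ((CharP.cast_eq_zero_iff L 5 2).1 h) (by decide)
    generalize e : a⁻¹ * baseExt D i (ι z) * a = h at h3
    have h5 : h ^ 2 = 1 := by rw [← e, ← inv_inv a, inv_inv a⁻¹, conj_pow, ← map_pow, h1, map_one, mul_one, mul_inv_cancel]
    obtain ⟨β, hβ⟩ := exists_par (hc.gst hm) (hc.gsep hm) h3 h5
    have h6 := hG z L i a h β e h3 h5 hβ (by
      rintro rfl
      rw [gZ hc hm h h3 (by simpa [par, sg] using hβ), mul_eq_one_iff_eq_inv, mul_eq_left, map_eq_one_iff _ (baseExt_injective i),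
        map_eq_one_iff _ hι] at e
      simp [e] at hz)
    refine ⟨i.injective ?_, ?_⟩
    · have h7 := trace_eq hc hm h3 hβ
      have h8 := congrArg (Int.cast : ℤ → L) (htr β h6)
      rw [← e] at h7
      replace h7 := (Matrix.trace_units_conj' a.1 ((ι z).1.1.map i)).symm.trans h7
      rw [AddMonoidHom.map_trace, h7]
      simp only [Int.cast_sub, Int.cast_natCast, Int.cast_sum, Int.cast_ite, Int.cast_one, Int.cast_neg, Int.cast_mul,
        Int.cast_ofNat] at h8
      simp only [sg, map_sub, map_add, map_natCast, map_mul, map_ofNat, Nat.cast_add]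
      linear_combination -h8
    · refine (ae_cent (hc.gst hm) (hc.gsep hm) (hc.gopp hm) (hc.gmult hm) (hc.ggen hm) (not_dvd_index hc hm h2 ?_) h3 hβ
        fun w hw h7 => pow_eq_one_of_stab hW hv hv3 (fun u hu => hv' _ ((act_inv Good hi hu β).trans h6)) hw
          (funext fun i => (sg_inj h4 (h7 _)).trans (par_simple β i))).of_inj
        (((MulAut.conj a⁻¹).toMonoidHom.comp ((baseExt D i).comp (ι.comp (Subgroup.subtype _)))).codRestrict _ fun g => ?_)
        fun g g' h => ?_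
      · rw [hW, Nat.Prime.dvd_mul Fact.out, not_or]
        exact ⟨by decide, fun h => absurd (Nat.Prime.dvd_of_dvd_pow Fact.out h) (by decide)⟩
      · have := congrArg (fun x => MulAut.conj a⁻¹ (baseExt D i (ι x))) (Subgroup.mem_centralizer_singleton_iff.1 g.2)
        rw [Subgroup.mem_centralizer_singleton_iff, ← e, ← MulAut.conj_inv_apply, ← map_inv]
        simp only [map_mul] at this
        exact this
      · exact Subtype.ext (hι (baseExt_injective i ((MulAut.conj a⁻¹).injective (congrArg Subtype.val h :))))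
  rcases alt8_cases π hπ with ⟨E, h1, h2⟩ | ⟨z, h1, h2⟩
  · have : Nontrivial E := Finite.one_lt_card_iff_nontrivial.1 (by omega)
    have h3 : ∀ g : E, g ≠ 1 → orderOf g = 2 := fun g hg => orderOf_eq_prime (Subtype.ext (h2 g g.2)) hg
    have h4 := (Monoid.exponent_eq_prime_iff Nat.prime_two).2 h3
    let _ : CommGroup E := { (inferInstance : Group E) with mul_comm := mul_comm_of_exponent_two h4 }
    have : HasEnoughRootsOfUnity K (Monoid.exponent E) :=
      h4 ▸ ⟨⟨-1, IsPrimitiveRoot.neg_one 5 (by decide)⟩, rootsOfUnity.isCyclic K 2⟩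
    have h5 : Module.finrank K (D.Idx → K) = D.rank + D.nroots := by simp
    have := trace_bound (E := E) (M := D.Idx → K) 5 (h1 ▸ fun h => absurd ((CharP.cast_eq_zero_iff K 5 16).1 h) (by decide))
      ((Matrix.toLinAlgEquiv' : Matrix D.Idx D.Idx K ≃ₐ[K] _).toMonoidHom.comp ((Units.coeHom _).comp
        ((D.group K).subtype.comp (ι.comp E.subtype)))) (τ := ((D.rank + D.nroots : ℕ) : K) - 16 * j)
      (fun g hg => (Matrix.trace_toLin'_eq _).trans (key g (by rw [Subgroup.orderOf_coe, h3 g hg])).1) hj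
      (by rw [h1, h5]; simp)
    rw [h1, h5] at this
    omega
  · exact h2 k (key z h1).2

end mat

theorem dihedral_pow {G : Type*} [Group G] {a b : G} (ha : a * a = 1) (hb : b * b = 1) {n : ℕ} (h : (a * b) ^ (2 * n) = 1)
    {w : G} (hw : w ∈ closure {a, b}) : w ^ (2 * n) = 1 := by
  have h1 : ∀ k : ℤ, a * (a * b) ^ k = (a * b) ^ (-k) * a := fun k => by
    rw [← inv_zpow']
    refine SemiconjBy.zpow_right ?_ k
    rw [SemiconjBy, _root_.mul_inv_rev, inv_eq_of_mul_eq_one_right ha, inv_eq_of_mul_eq_one_right hb, ← mul_assoc, ha, mul_assoc, ha,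
      one_mul, mul_one]
  have h2 : ∀ w, (∃ k : ℤ, w = (a * b) ^ k ∨ w = (a * b) ^ k * a) → ∃ k : ℤ, a * w = (a * b) ^ k ∨ a * w = (a * b) ^ k * a := by
    rintro _ ⟨k, rfl | rfl⟩
    · exact ⟨_, Or.inr (h1 k)⟩
    · exact ⟨-k, Or.inl (by rw [← mul_assoc, h1, mul_assoc, ha, mul_one])⟩
  have h3 : ∀ w, (∃ k : ℤ, w = (a * b) ^ k ∨ w = (a * b) ^ k * a) → ∃ k : ℤ, b * w = (a * b) ^ k ∨ b * w = (a * b) ^ k * a := by
    rintro w ⟨k, hk⟩
    rw [show b * w = a * (a * b * w) by rw [← mul_assoc, ← mul_assoc, ha, one_mul]]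
    refine h2 _ ⟨1 + k, ?_⟩
    rcases hk with rfl | rfl <;> simp [zpow_one_add, mul_assoc]
  obtain ⟨k, rfl | rfl⟩ : ∃ k : ℤ, w = (a * b) ^ k ∨ w = (a * b) ^ k * a := by
    induction hw using Subgroup.closure_induction_left with
    | one => exact ⟨0, Or.inl (zpow_zero _).symm⟩
    | mul_left x hx y _ ih => rcases hx with rfl | rfl; exacts [h2 _ ih, h3 _ ih]
    | inv_mul_cancel x hx y _ ih =>
      rcases hx with rfl | rfl
      · rw [inv_eq_of_mul_eq_one_right ha]; exact h2 _ ih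
      · rw [inv_eq_of_mul_eq_one_right hb]; exact h3 _ ih
  · rw [← zpow_natCast, ← zpow_mul, mul_comm k, zpow_mul, zpow_natCast, h, one_zpow]
  · rw [pow_mul, pow_two, mul_assoc, ← mul_assoc a, h1, mul_assoc, ha, mul_one, ← zpow_add, add_neg_cancel, zpow_zero, one_pow]

theorem cox_G2_pow (w : CoxeterMatrix.G₂.Group) : w ^ 6 = 1 := by
  let cs := CoxeterMatrix.G₂.toCoxeterSystem
  refine dihedral_pow (n := 3) (cs.simple_mul_simple_self 0) (cs.simple_mul_simple_self 1) (cs.simple_mul_simple_pow 0 1) ?_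
  rw [show {cs.simple 0, cs.simple 1} = Set.range cs.simple by ext; simp [Fin.exists_fin_two, eq_comm],
    cs.subgroup_closure_range_simple]
  trivial

theorem act_wprod {I Φ : Type*} [Fintype I] [DecidableEq I] (R : RootSys I Φ) (l : List I) (β : I → ZMod 2) :
    act R (R.wprod l) β = l.foldl (fun β j i => β i - (R.A j i : ZMod 2) * β j) β := by
  induction l generalizing β with
  | nil => exact act_one β
  | cons j l ih => rw [R.wprod_cons, act_mul (R.s_mem_W j), ih, act_s]; rfl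

theorem exists_alt8 {G : Type*} [Group G] {r : ℕ} (hr : 8 ≤ r) {H : Subgroup G} {N : Subgroup H} [N.Normal]
    (i : H ⧸ N ≃* alternatingGroup (Fin r)) : ∃ (X : Subgroup G) (π : X →* alternatingGroup (Fin 8)), Function.Surjective π := by
  obtain ⟨f, hf⟩ := exists_alt_inj hr
  let φ := i.toMonoidHom.comp (QuotientGroup.mk' N)
  have hφ : Function.Surjective φ := i.surjective.comp (QuotientGroup.mk'_surjective N)
  let Y := f.range.comap φ
  refine ⟨Y.map H.subtype, (MonoidHom.ofInjective hf).symm.toMonoidHom.comp ((φ.subgroupComap f.range).comp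
    (Y.equivMapOfInjective _ H.subtype_injective).symm.toMonoidHom), (MonoidHom.ofInjective hf).symm.surjective.comp
    ((φ.subgroupComap_surjective_of_surjective _ hφ).comp (Y.equivMapOfInjective _ H.subtype_injective).symm.surjective)⟩

end Cfsg.Lib.AltSec
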