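/-
Commuting pairs of toral subgroups; alternating sections of the groups of type F₄.
-/
import Cfsg.Agent.Lib.Exc.AltSec2
import Cfsg.Agent.Lib.Chev.F4Ord2
import Cfsg.Agent.Lib.Twist.CCC

set_option autoImplicit false

namespace Cfsg.Lib.AltSec

open Subgroup Cfsg.Lib Cfsg.Lib.Core Cfsg.Lib.Amalg Cfsg.Lib.Chev Cfsg.Lib.Twist Cfsg.Lie

universe u

section abstract

variable {G H : Type*} [Group G] [Group H] {l l' e : ℕ}

theorem not_ae_alt' {m r : ℕ} (hr : m ≤ r) {c g : Equiv.Perm (Fin m)} {k : ℕ} (hc : Equiv.Perm.sign c = 1)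
    (hg : Equiv.Perm.sign g = 1) (h1 : c ^ l = 1) (h2 : g * c * g⁻¹ = c ^ k) (h3 : g ^ e * c ≠ c * g ^ e) :
    ¬ AE (alternatingGroup (Fin r)) l e := fun h => by
  obtain ⟨f, hf⟩ := exists_alt_inj hr
  exact not_ae_of (c := ⟨c, hc⟩) (g := ⟨g, hg⟩) (k := k) (Subtype.ext h1) (Subtype.ext h2)
    (fun h => h3 (congrArg Subtype.val h)) (h.of_inj f hf)

theorem lift_syl [Fact l.Prime] [Finite G] (π : G →* H) {Z T : Subgroup G} (hT : Syl l T Z) (h : Z.map π ≤ T.map π) {g : G}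
    (hg : g ∈ 𝐍 Z) : ∃ g' ∈ 𝐍 T, π g' = π g ∧ g' * g⁻¹ ∈ Z := by
  obtain ⟨z, hz, a, ha, rfl⟩ := hT.frattini_mem hg
  obtain ⟨q, hq, e⟩ := h ⟨z, hz, rfl⟩
  refine ⟨q * a, mul_mem (T.le_normalizer hq) ha, by rw [map_mul, map_mul, e], ?_⟩
  simpa [mul_assoc] using mul_mem (hT.le hq) (inv_mem hz)

theorem mem_normalizer_zpowers [Finite H] {a g : H} {k : ℕ} (h : g * a * g⁻¹ = a ^ k) : g ∈ 𝐍 (zpowers a) :=
  mem_normalizer_of_cj_le (by rw [cj_zpowers, h]; exact zpowers_le.2 (pow_mem (mem_zpowers a) k))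

theorem lift_two [Fact l.Prime] [Fact l'.Prime] [Finite G] (π : G →* H) (hπ : Function.Surjective π) (h : AE G l e)
    (he : e.Coprime l') {a b g : H} (ha : a ^ l = 1) (hb : b ^ l' = 1) (hab : b * a * b⁻¹ = a) {j k : ℕ}
    (h1 : g * a * g⁻¹ = a ^ j) (h2 : g * b * g⁻¹ = b ^ k) :
    ∃ P Q : Subgroup G, IsPGroup l P ∧ IsPGroup l' Q ∧ Q ≤ 𝐂 P ∧ a ∈ P.map π ∧ b ∈ Q.map π ∧
      ∃ g' ∈ 𝐍 P ⊓ 𝐍 Q, π g' = g := by
  have := Finite.of_surjective π hπ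
  have hn : ∀ {x : G} {Y : Subgroup H}, π x ∈ 𝐍 Y → x ∈ 𝐍 (Y.comap π) := fun hx y => by
    simpa using hx (π y)
  obtain ⟨P, hP⟩ := exists_syl l ((zpowers a).comap π)
  have p1 : P.map π = zpowers a := by
    have := hP.map π
    rw [Subgroup.map_comap_eq_self_of_surjective hπ] at this
    exact this.eq_of_isPGroup (isPGroup_zpowers_of_pow (k := 1) (by rwa [pow_one]))
  have p2 := ((zpowers a).map_comap_le π).trans p1.ge
  obtain ⟨b, rfl⟩ := hπ b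
  obtain ⟨g, rfl⟩ := hπ g
  obtain ⟨b', b1, b2, -⟩ := lift_syl π hP p2 (hn (mem_normalizer_zpowers (k := 1) (hab.trans (pow_one a).symm)))
  obtain ⟨g₁, g1, g2, -⟩ := lift_syl π hP p2 (hn (mem_normalizer_zpowers h1))
  obtain ⟨Q, hQ⟩ := exists_syl l' (𝐂 P ⊓ (zpowers (π b)).comap π)
  have q0 := isPGroup_zpowers_of_pow (k := 1) (show π b ^ l' ^ 1 = 1 by rwa [pow_one])
  have q1 := (hQ.map π).eq_of_isPGroup (q0.to_le ((Subgroup.map_mono inf_le_right).trans (Subgroup.map_comap_le _ _)))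
  obtain ⟨g', g3, g4, g5⟩ := lift_syl π hQ q1.ge (g := g₁) (Subgroup.inf_normalizer_le_normalizer_inf
    ⟨cj_eq_self_iff.1 (by rw [cj_centralizer, cj_of_mem_normalizer g1]), hn (g2 ▸ mem_normalizer_zpowers h2)⟩)
  refine ⟨P, Q, hP.isPGroup, hQ.isPGroup, hQ.le.trans inf_le_left, p1 ▸ mem_zpowers a, ?_, g', ⟨?_, g3⟩, g4.trans g2⟩
  · have h3 : π b ^ e ∈ Q.map π := q1 ▸ ⟨b' ^ e, ⟨fun x hx => (h P hP.isPGroup b' (fun y hy => (b1 y).1 hy) x hx).symm,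
      Subgroup.mem_comap.2 (by rw [map_pow, b2]; exact pow_mem (mem_zpowers _) e)⟩, by rw [map_pow, b2]⟩
    exact zpowers_le.2 h3 (mem_zpowers_pow_iff.2 (he.coprime_dvd_right (orderOf_dvd_of_pow_eq_one hb)))
  · simpa using mul_mem (Subgroup.centralizer_le_normalizer _ g5.1) g1

theorem two_torus [Fact l.Prime] [Fact l'.Prime] [Finite G] {A : Subgroup G} (hA : ∀ a ∈ A, ∀ b ∈ A, a * b = b * a)
    (h1 : ¬ l ∣ A.index) (h2 : ¬ l' ∣ A.index) {P Q : Subgroup G} (hP : IsPGroup l P) (hQ : IsPGroup l' Q) (h : Q ≤ 𝐂 P) :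
    ∃ u, cj u P ≤ A ∧ cj u Q ≤ A := by
  obtain ⟨T, hT⟩ := exists_syl l A
  obtain ⟨c, -, hc⟩ := (hT.of_le_of_not_dvd le_top (by rwa [Subgroup.relIndex_top_right])).exists_conj_le hP le_top
  obtain ⟨T', hT'⟩ := exists_syl l' A
  have h3 : A ≤ 𝐂 (cj c P) := fun a ha b hb => hA b (hT.le (hc hb)) a ha
  obtain ⟨d, hd, hd'⟩ := ((hT'.of_le_of_not_dvd le_top (by rwa [Subgroup.relIndex_top_right])).of_le (hT'.le.trans h3)
    le_top).exists_conj_le (isPGroup_cj c hQ) (cj_centralizer c P ▸ cj_mono c h)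
  exact ⟨d * c, by rw [cj_mul, cj_of_mem_centralizer hd]; exact hc.trans hT.le, by rw [cj_mul]; exact hd'.trans hT'.le⟩

theorem fus_pow {A P : Subgroup G} (hP : P ≤ A) {g n : G} (hg : g ∈ 𝐍 P)
    (h : ∀ a ∈ A, g * a * g⁻¹ ∈ A → g * a * g⁻¹ = n * a * n⁻¹) {x : G} (hx : x ∈ P) (k : ℕ) :
    g ^ k * x * (g ^ k)⁻¹ = n ^ k * x * (n ^ k)⁻¹ := by
  induction k with
  | zero => simp
  | succ k ih =>
    have h1 := (pow_mem hg k x).1 hx
    have := h _ (hP h1) (hP ((hg _).1 h1))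
    rw [pow_succ', pow_succ' n, show n * n ^ k * x * (n * n ^ k)⁻¹ = n * (n ^ k * x * (n ^ k)⁻¹) * n⁻¹ by group, ← ih, ← this]
    group

end abstract

section F4

open V4 F4

/-- A matrix applied to a vector. -/
def ap (M : M4) (y : V4) : V4 := ⟨M.a.dot y, M.b.dot y, M.c.dot y, M.d.dot y⟩

/-- The check on the powers of a matrix. -/
def ckP (M : M4) (n : ℕ) (k : ℤ) : Bool :=
  decide ((ap M)^[n] ⟨1, 0, 0, 0⟩ = ⟨k, 0, 0, 0⟩ ∧ (ap M)^[n] ⟨0, 1, 0, 0⟩ = ⟨0, k, 0, 0⟩ ∧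
    (ap M)^[n] ⟨0, 0, 1, 0⟩ = ⟨0, 0, k, 0⟩ ∧ (ap M)^[n] ⟨0, 0, 0, 1⟩ = ⟨0, 0, 0, k⟩)

theorem chkP : allLt 1152 (fun e => ckP (mat fun k => lk enP (4 * e + k)) 8 1 || ckP (mat fun k => lk enP (4 * e + k)) 6 1 ||
    ckP (mat fun k => lk enP (4 * e + k)) 6 (-1)) = true := by decide +kernel

theorem co_inj {I Φ : Type*} [Fintype I] [DecidableEq I] {R : RootSys I Φ} {r s : Φ} (h : R.co r = R.co s) : r = s := by
  have h1 : R.pair r s = 2 := by rw [R.pair_eq_sum, h, ← R.pair_eq_sum, R.pair_self]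
  have h2 : R.pair s r = 2 := by rw [R.pair_eq_sum, ← h, ← R.pair_eq_sum, R.pair_self]
  by_contra h3
  have := R.pair_mul_lt (r := r) (s := s) (Ne.symm h3) fun h4 => by rw [h4, R.pair_neg_right, R.pair_self] at h1; omega
  rw [h1, h2] at this; omega

theorem ckP_spec {w : Equiv.Perm (Fin chevF4.nroots)} (hw : w ∈ RF4.W) {M : M4} (h : ∀ y, vec (RF4.aw w y) = ap M (vec y))
    {n : ℕ} {k : ℤ} (hk : ckP M n k = true) (i : Fin chevF4.rank) :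
    RF4.co ((w ^ n) (RF4.simple i)) = k • RF4.co (RF4.simple i) := by
  have h1 : ∀ (n : ℕ) r, vec (RF4.co ((w ^ n) r)) = (ap M)^[n] (vec (RF4.co r)) := by
    intro n r
    induction n with
    | zero => rfl
    | succ n ih => rw [pow_succ', Equiv.Perm.mul_apply, ← RootSys.aw_co hw, h, ih, Function.iterate_succ_apply']
  have h2 : ∀ y z : Fin chevF4.rank → ℤ, vec y = vec z → y = z := fun y z h => funext (forall_iff.2 (by simpa [vec] using h))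
  obtain ⟨a, b, c, d⟩ := of_decide_eq_true hk
  refine h2 _ _ ((h1 n _).trans ?_)
  rw [RF4.co_simple]
  revert i
  refine forall_iff.2 ⟨a.trans ?_, b.trans ?_, c.trans ?_, d.trans ?_⟩ <;>
    simp only [vec, Pi.smul_apply, Pi.single_apply, smul_eq_mul, V4.mk.injEq] <;> simp +decide

theorem W_F4_cases {w : Equiv.Perm (Fin chevF4.nroots)} (hw : w ∈ RF4.W) :
    w ^ 8 = 1 ∨ w ^ 6 = 1 ∨ ∀ r, (w ^ 6) r = RF4.neg r := by
  obtain ⟨e, he, h⟩ := compat_F4.exists_enum (sig_of_chkLight _ _ chkLight_F4) enum hw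
  have h1 := allLt_spec chkP e he
  have h2 : ∀ n, ckP (mat fun k => lk enP (4 * e + k)) n 1 = true → w ^ n = 1 := fun n hn =>
    RF4.eq_one_of_forall_pos_W (pow_mem hw n) fun i => by
      rw [co_inj ((ckP_spec hw (aw_eq h) hn i).trans (one_smul _ _))]; exact RF4.pos_simple i
  simp only [Bool.or_eq_true] at h1
  rcases h1 with (h1 | h1) | h1
  · exact .inl (h2 _ h1)
  · exact .inr (.inl (h2 _ h1))
  · refine .inr (.inr fun r => RF4.rt_inj ?_)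
    have h3 : ∀ i, (w ^ 6) (RF4.simple i) = RF4.neg (RF4.simple i) := fun i =>
      co_inj ((ckP_spec hw (aw_eq h) h1 i).trans (by rw [RF4.co_neg, neg_one_smul]))
    have h4 := RootSys.W_rt_eq_sum (R := RF4) (one_mem _) r
    rw [RootSys.W_rt_eq_sum (pow_mem hw 6), RF4.rt_neg]
    simp only [h3, RF4.rt_neg, smul_neg, Finset.sum_neg_distrib]
    exact congrArg _ h4.symm

theorem not_alt12 {K : Type u} [Field K] [Finite K] (p : ℕ) [Fact p.Prime] [CharP K p] (hp : ¬ p ∣ 35)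
    {X : Subgroup (chevF4.group K)} (π : X →* alternatingGroup (Fin 12)) (hπ : Function.Surjective π) : False := by
  have : Fact (Nat.Prime 5) := ⟨by norm_num⟩
  have : Fact (Nat.Prime 7) := ⟨by norm_num⟩
  have hW := card_W_F4 compat_F4
  have h5 : AE (chevF4.group K) 5 1152 := ae_group compat_F4 matOK_F4 p (by rintro rfl; exact hp (by decide)) (by rw [hW]; decide)
    fun w hw => orderOf_dvd_iff_pow_eq_one.1 (hW ▸ Subgroup.orderOf_dvd_natCard _ hw)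
  let a₀ : Equiv.Perm (Fin 12) := c[0, 1, 2, 3, 4]
  let b₀ : Equiv.Perm (Fin 12) := c[5, 6, 7, 8, 9, 10, 11]
  let g₀ : Equiv.Perm (Fin 12) := c[1, 2, 4, 3] * c[6, 8, 7, 11, 9, 10]
  have h0 : (Equiv.Perm.sign a₀ = 1 ∧ Equiv.Perm.sign b₀ = 1 ∧ Equiv.Perm.sign g₀ = 1) ∧
      (a₀ ^ 5 = 1 ∧ b₀ ^ 7 = 1 ∧ b₀ * a₀ * b₀⁻¹ = a₀ ∧ g₀ * a₀ * g₀⁻¹ = a₀ ^ 2 ∧ g₀ * b₀ * g₀⁻¹ = b₀ ^ 3) ∧
      g₀ ^ 8 * b₀ * (g₀ ^ 8)⁻¹ ≠ b₀ ∧ g₀ ^ 6 * a₀ * (g₀ ^ 6)⁻¹ ≠ a₀ ∧ g₀ ^ 6 * b₀ * (g₀ ^ 6)⁻¹ ≠ b₀⁻¹ := by decide +kernel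
  obtain ⟨P, Q, p1, q1, h1, ⟨a, a1, a2⟩, ⟨b, b1, b2⟩, g, ⟨g1, g2⟩, g3⟩ := lift_two π hπ (h5.of_inj _ X.subtype_injective) (l' := 7)
    (by decide) (a := ⟨a₀, h0.1.1⟩) (b := ⟨b₀, h0.1.2.1⟩) (g := ⟨g₀, h0.1.2.2⟩) (Subtype.ext h0.2.1.1) (Subtype.ext h0.2.1.2.1)
    (Subtype.ext h0.2.1.2.2.1) (Subtype.ext h0.2.1.2.2.2.1) (Subtype.ext h0.2.1.2.2.2.2)
  obtain ⟨L, _, _, j, h2, -⟩ := descend compat_F4 matOK_F4 p (z := (1 : chevF4.group K)) (Nat.coprime_one_left p) (one_pow 1) hp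
  let f := (baseExt chevF4 j).comp X.subtype
  have hf : Function.Injective f := (baseExt_injective j).comp X.subtype_injective
  have hS := compat_F4.gst matOK_F4 (F := L)
  have hM := compat_F4.gmult matOK_F4 (F := L)
  have hF := compat_F4.gsep matOK_F4 (F := L)
  obtain ⟨u, u1, u2⟩ := two_torus (A := (compat_F4.gsys matOK_F4 L).H) (fun _ ha _ hb => hS.H_comm hM ha hb)
    (not_dvd_index compat_F4 matOK_F4 ((by decide : 5 ∣ 35).trans h2) (by rw [hW]; decide))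
    (not_dvd_index compat_F4 matOK_F4 ((by decide : 7 ∣ 35).trans h2) (by rw [hW]; decide)) (p1.map f) (q1.map f) (by
      rintro _ ⟨x, hx, rfl⟩ _ ⟨y, hy, rfl⟩
      rw [← map_mul, ← map_mul, h1 hx y hy])
  let f' := (MulAut.conj u).toMonoidHom.comp f
  have hf' : Function.Injective f' := (MulAut.conj u).injective.comp hf
  rw [Subgroup.map_map] at u1 u2
  obtain ⟨m, hm, w, hw, a3, a4⟩ := exists_fus hS (compat_F4.gopp matOK_F4) hM (compat_F4.ggen matOK_F4) (f' g)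
  have k1 := fus_pow u1 (Subgroup.le_normalizer_map f' ⟨g, g1, rfl⟩) a4 ⟨a, a1, rfl⟩
  have k2 := fus_pow u2 (Subgroup.le_normalizer_map f' ⟨g, g2, rfl⟩) a4 ⟨b, b1, rfl⟩
  have k3 : ∀ n, w ^ n = 1 → ∀ x ∈ (compat_F4.gsys matOK_F4 L).H, m ^ n * x * (m ^ n)⁻¹ = x := fun n hn x hx =>
    mul_inv_eq_iff_eq_mul.2 (hS.H_comm hM (hS.mem_H_of_act_one hF (pow_mem hm n) (hn ▸ act_pow hw a3 n)) hx)
  have k4 : ∀ (n : ℕ) x y, f' g ^ n * f' x * (f' g ^ n)⁻¹ = f' y → g₀ ^ n * (π x).1 * (g₀ ^ n)⁻¹ = (π y).1 := fun n x y h => by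
    rw [← map_pow, ← map_inv, ← map_mul, ← map_mul] at h
    rw [← hf' h, map_mul, map_mul, map_inv, map_pow, g3]; rfl
  rcases W_F4_cases hw with h | h | h
  · exact h0.2.2.1 (by simpa only [b2] using k4 8 b b ((k2 8).trans (k3 8 h _ (u2 ⟨b, b1, rfl⟩))))
  · exact h0.2.2.2.1 (by simpa only [a2] using k4 6 a a ((k1 6).trans (k3 6 h _ (u1 ⟨a, a1, rfl⟩))))
  · have := k4 6 b b⁻¹ ((k2 6).trans ((inv_H hS hM (pow_mem hw 6) (act_pow hw a3 6) h (u2 ⟨b, b1, rfl⟩)).trans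
      (map_inv f' b).symm))
    rw [map_inv, b2] at this
    exact h0.2.2.2.2 this

end F4

theorem exists_alt {G : Type*} [Group G] {m r : ℕ} (hr : m ≤ r) {H : Subgroup G} {N : Subgroup H} [N.Normal]
    (i : H ⧸ N ≃* alternatingGroup (Fin r)) : ∃ (X : Subgroup G) (π : X →* alternatingGroup (Fin m)), Function.Surjective π := by
  obtain ⟨f, hf⟩ := exists_alt_inj hr
  let φ := i.toMonoidHom.comp (QuotientGroup.mk' N)
  have hφ : Function.Surjective φ := i.surjective.comp (QuotientGroup.mk'_surjective N)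
  let Y := f.range.comap φ
  refine ⟨Y.map H.subtype, (MonoidHom.ofInjective hf).symm.toMonoidHom.comp ((φ.subgroupComap f.range).comp
    (Y.equivMapOfInjective _ H.subtype_injective).symm.toMonoidHom), (MonoidHom.ofInjective hf).symm.surjective.comp
    ((φ.subgroupComap_surjective_of_surjective _ hφ).comp (Y.equivMapOfInjective _ H.subtype_injective).symm.surjective)⟩

end Cfsg.Lib.AltSec
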