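import Cfsg.Agent.Lib.Core.Frattini
import Cfsg.Agent.Lib.Core.Basic
import Mathlib.GroupTheory.SpecificGroups.Cyclic
import Mathlib.Data.Nat.Choose.Basic

/-! Breadth and the commutator subgroup of a `p`-group (Vaughan-Lee; the proof of Skutin). -/

set_option autoImplicit false
set_option linter.unusedSectionVars false

namespace Cfsg.Lib.Exc.Brd

open Subgroup
open scoped commutatorElement

universe u

variable {G : Type u} [Group G] [Finite G] {p : ℕ}

/-- the class size -/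
noncomputable abbrev ix (x : G) : ℕ := (centralizer ({x} : Set G)).index

omit [Finite G] in
theorem exists_notMem {U A B : Subgroup G} (h1 : ¬ U ≤ A) (h2 : ¬ U ≤ B) : ∃ x ∈ U, x ∉ A ∧ x ∉ B := by
  obtain ⟨a, ha, ha'⟩ := SetLike.not_le_iff_exists.1 h1
  obtain ⟨b, hb, hb'⟩ := SetLike.not_le_iff_exists.1 h2
  by_cases h3 : a ∈ B
  · by_cases h4 : b ∈ A
    · exact ⟨a * b, mul_mem ha hb, fun h => ha' ((A.mul_mem_cancel_right h4).1 h),
        fun h => hb' ((B.mul_mem_cancel_left h3).1 h)⟩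
    · exact ⟨b, hb, h4, hb'⟩
  · exact ⟨a, ha, ha', h3⟩

omit [Finite G] in
theorem ix_coe (P : Subgroup G) (x : P) : ix x = (centralizer ({(x : G)} : Set G)).relIndex P := by
  refine congrArg index (Subgroup.ext fun y => ?_)
  simp only [mem_centralizer_singleton_iff, mem_subgroupOf, Subtype.ext_iff, coe_mul]

theorem ix_le (P : Subgroup G) (x : P) : ix x ≤ ix (x : G) := by
  rw [ix_coe, ix, ← relIndex_top_right]
  exact relIndex_le_of_le_right le_top (by rw [relIndex_top_right]; exact index_ne_zero_of_finite)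

omit [Finite G] in
theorem eq_top {P U : Subgroup G} (hP : IsCoatom P) {a : G} (ha : a ∉ P) (h1 : P ≤ U) (h2 : a ∈ U) : U = ⊤ :=
  hP.2 U (lt_of_le_of_ne h1 fun e => ha (e ▸ h2))

omit [Finite G] in
theorem mem_center_of {W : Type*} [Group W] {f : G →* W} (hf : Function.Surjective f) {P : Subgroup G}
    (hP : IsCoatom P) {a : G} (ha : a ∉ P) {w : W} (h1 : ∀ y ∈ P, f y * w = w * f y) (h2 : f a * w = w * f a) :
    w ∈ center W := mem_center_iff.2 fun v => by
  obtain ⟨g, rfl⟩ := hf v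
  have := eq_top (U := (centralizer ({w} : Set W)).comap f) hP ha
    (fun y hy => mem_centralizer_singleton_iff.2 (h1 y hy)) (mem_centralizer_singleton_iff.2 h2)
  exact mem_centralizer_singleton_iff.1 (show g ∈ (centralizer ({w} : Set W)).comap f from this ▸ mem_top g)

/-- the key lemma on a normal maximal subgroup -/
theorem key (P : Subgroup G) [P.Normal] (hP : IsCoatom P) : ∃ K : Subgroup P,
    Nat.card (commutator G) ≤ K.index * Nat.card (commutator P) ∧ (∀ a ∉ P, K.index ≤ ix a) ∧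
      ∀ x : P, x ∉ K → ix (x : G) = ix x * P.index := by
  let N : Subgroup G := ⁅P, P⁆
  let π := QuotientGroup.mk' N
  have hπ := QuotientGroup.mk'_surjective N
  have c1 : ∀ x ∈ P, ∀ y ∈ P, π x * π y = π y * π x := fun x hx y hy => by
    rw [← commutatorElement_eq_one_iff_mul_comm, ← map_commutatorElement]
    exact (QuotientGroup.eq_one_iff _).2 (commutator_mem_commutator hx hy)
  let K : Subgroup P := (center (G ⧸ N)).comap (π.comp P.subtype)
  have c2 : ∀ a ∉ P, ∀ y : P, (y : G) * a = a * y → y ∈ K := fun a ha y h =>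
    mem_center_of hπ hP ha (fun z hz => c1 z hz y y.2) (by
      show π a * π y = π y * π a
      rw [← map_mul, ← map_mul, h])
  refine ⟨K, ?_, fun a ha => ?_, fun x hx => ?_⟩
  · obtain ⟨a, -, ha⟩ := SetLike.exists_of_lt hP.1.lt_top
    have m1 : ∀ y ∈ P, ⁅y, a⁆ ∈ P := fun y hy => by
      rw [commutatorElement_def, mul_assoc, mul_assoc, ← mul_assoc a]
      exact mul_mem hy (‹P.Normal›.conj_mem _ (inv_mem hy) a)
    let φ : P →* G ⧸ N := MonoidHom.mk' (fun y => π ⁅(y : G), a⁆) fun x y => by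
      have e : ⁅((x * y : P) : G), a⁆ = x * ⁅(y : G), a⁆ * (x : G)⁻¹ * ⁅(x : G), a⁆ := by
        simp only [coe_mul, commutatorElement_def]; group
      rw [e, map_mul, map_mul, map_mul, c1 _ x.2 _ (m1 _ y.2), map_inv, mul_inv_cancel_right, c1 _ (m1 _ y.2) _ (m1 _ x.2)]
    let S := φ.range.comap π
    have hNS : N ≤ S := fun x hx => by
      show π x ∈ φ.range
      rw [show π x = 1 from (QuotientGroup.eq_one_iff x).2 hx]; exact one_mem _
    have hSP : S ≤ P := fun s ⟨y, hy⟩ => by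
      obtain ⟨z, hz, e⟩ := (QuotientGroup.mk'_eq_mk' N).1 hy
      exact e ▸ mul_mem (m1 _ y.2) (commutator_le_right P P hz)
    have : S.Normal := normalizer_eq_top_iff.1 (eq_top hP ha
      (fun y hy => mem_normalizer_fintype fun s hs => by
        rw [show y * s * y⁻¹ = ⁅y, s⁆ * s by rw [commutatorElement_def]; group]
        exact S.mul_mem (hNS (commutator_mem_commutator hy (hSP hs))) hs)
      (mem_normalizer_fintype fun s ⟨y, hy⟩ => ⟨⟨a * y * a⁻¹, ‹P.Normal›.conj_mem _ y.2 a⟩, by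
        rw [map_mul, map_mul, ← hy]
        show π _ = π a * π _ * π a⁻¹
        rw [← map_mul, ← map_mul]; congr 1; simp only [commutatorElement_def]; group⟩))
    let ρ := QuotientGroup.mk' S
    have hρ := QuotientGroup.mk'_surjective S
    have d1 : ∀ x y, ⁅x, y⁆ ∈ S ↔ ρ x * ρ y = ρ y * ρ x := fun x y => by
      rw [← commutatorElement_eq_one_iff_mul_comm, ← map_commutatorElement]
      exact (QuotientGroup.eq_one_iff _).symm
    have d2 : ∀ y ∈ P, ρ y ∈ center (G ⧸ S) := fun y hy =>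
      mem_center_of hρ hP ha (fun z hz => (d1 _ _).1 (hNS (commutator_mem_commutator hz hy)))
        ((d1 _ _).1 ⟨⟨y, hy⟩, rfl⟩).symm
    have d3 := eq_top (U := (center (G ⧸ S)).comap ρ) hP ha d2
      (mem_center_of hρ hP ha (fun z hz => (mem_center_iff.1 (d2 z hz) _).symm) rfl)
    have d4 : commutator G ≤ S := commutator_le.2 fun x _ y _ => (d1 x y).2
      (mem_center_iff.1 (show y ∈ (center (G ⧸ S)).comap ρ from d3 ▸ mem_top y) _)
    have d5 : Nat.card S = Nat.card φ.range * Nat.card N := by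
      rw [← Nat.card_prod]
      exact Nat.card_congr ((QuotientGroup.preimageMkEquivSubgroupProdSet N (φ.range : Set (G ⧸ N))).trans (Equiv.prodComm _ _))
    have d6 : Nat.card N = Nat.card (commutator P) := by
      rw [← card_map_of_injective P.subtype_injective, map_subtype_commutator]
    refine (card_le_of_le d4).trans ?_
    rw [d5, d6, ← index_ker]
    refine Nat.mul_le_mul_right _ (Nat.le_of_dvd (Nat.pos_of_ne_zero index_ne_zero_of_finite)
      (index_dvd_of_le fun y hy => ?_))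
    show π ⁅(y : G), a⁆ = 1
    rw [map_commutatorElement, commutatorElement_eq_one_iff_mul_comm]
    exact (mem_center_iff.1 hy _).symm
  · refine le_trans (Nat.le_of_dvd (Nat.pos_of_ne_zero index_ne_zero_of_finite) (index_dvd_of_le
      (H := (centralizer ({a} : Set G)).subgroupOf P) fun y hy => c2 a ha y (mem_centralizer_singleton_iff.1 hy))) ?_
    rw [ix, ← relIndex_top_right (H := centralizer {a})]
    exact relIndex_le_of_le_right le_top (by rw [relIndex_top_right]; exact index_ne_zero_of_finite)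
  · rw [ix_coe, relIndex_mul_index]
    intro a ha
    by_contra h
    exact hx (c2 a h x (mem_centralizer_singleton_iff.1 ha).symm)

variable [hp : Fact p.Prime]

theorem exists_hom (hG : IsPGroup p G) {M : Subgroup G} (hM : IsCoatom M) :
    ∃ f : G →* Multiplicative (ZMod p), ∀ x, f x = 1 ↔ x ∈ M := by
  have := Core.normal_of_isCoatom_of_isPGroup hG hM
  let e := mulEquivOfPrimeCardEq (G := G ⧸ M) (G' := Multiplicative (ZMod p))
    (Core.index_eq_of_isCoatom_of_isPGroup hG hM) (by simp)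
  exact ⟨e.toMonoidHom.comp (QuotientGroup.mk' M), fun x =>
    (map_eq_one_iff e e.injective).trans (QuotientGroup.eq_one_iff x)⟩

theorem third (hG : IsPGroup p G) {A B : Subgroup G} (hA : IsCoatom A) (hB : IsCoatom B) (hne : ¬ B ≤ A) :
    ∃ P : Subgroup G, IsCoatom P ∧ ¬ P ≤ A ∧ (∀ x ∈ P, x ∈ A ↔ x ∈ B) ∧
      (p ≠ 2 → ∃ a ∉ P, a ∉ A ∧ a ∉ B) := by
  obtain ⟨f, hf⟩ := exists_hom hG hA
  obtain ⟨g, hg⟩ := exists_hom hG hB
  have hne' : ¬ A ≤ B := fun h => hne ((hA.le_iff.1 h).resolve_left hB.1).le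
  obtain ⟨u, hu, hu'⟩ := SetLike.not_le_iff_exists.1 hne'
  obtain ⟨v, hv, hv'⟩ := SetLike.not_le_iff_exists.1 hne
  have h1 : ∀ x, x ∈ (f * g).ker ↔ f x * g x = 1 := fun x => Iff.rfl
  have h2 : ∀ x ∈ (f * g).ker, x ∈ A ↔ x ∈ B := fun x hx => by
    rw [h1] at hx
    rw [← hf, ← hg]
    exact ⟨fun h => by rwa [h, one_mul] at hx, fun h => by rwa [h, mul_one] at hx⟩
  have h3 : IsCoatom (f * g).ker := by
    have : Fact (Nat.card (Multiplicative (ZMod p))).Prime := ⟨by simpa using hp.out⟩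
    refine Core.isCoatom_of_index_prime ?_
    rcases (f * g).range.eq_bot_or_eq_top_of_prime_card with h | h
    · exact absurd ((h2 u (mem_bot.1 (h ▸ ⟨u, rfl⟩ : (f * g) u ∈ ⊥))).1 hu) hu'
    · rw [index_ker, h, card_top]; exact this.out
  refine ⟨_, h3, fun h => hne' fun x hx => (h2 x ?_).1 hx, h2, fun h => ?_⟩
  · rwa [← (h3.le_iff.1 h).resolve_left hA.1]
  have h4 : ∀ w ∈ B, w ∉ A → u * w ∉ A ∧ u * w ∉ B := fun w hw hw' =>
    ⟨fun h => hw' ((A.mul_mem_cancel_left hu).1 h), fun h => hu' ((B.mul_mem_cancel_right hw).1 h)⟩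
  by_contra h5
  push Not at h5
  have h6 : ∀ w ∈ B, w ∉ A → f w * g u = 1 := fun w hw hw' => by
    have : u * w ∈ (f * g).ker := by
      by_contra h7
      exact (h4 w hw hw').2 (h5 _ h7 (h4 w hw hw').1)
    rwa [h1, map_mul, map_mul, (hf u).2 hu, (hg w).2 hw, one_mul, mul_one] at this
  have h7 := mul_right_cancel ((h6 v hv hv').trans (h6 v⁻¹ (inv_mem hv) (by simpa)).symm)
  have h8 : f v ^ 2 = 1 := by rw [pow_two]; nth_rewrite 1 [h7]; rw [map_inv, inv_mul_cancel]
  have h9 : f v ^ p = 1 := by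
    have := pow_card_eq_one' (x := f v)
    simpa using this
  refine hv' ((hf v).1 (orderOf_eq_one_iff.1 (Nat.eq_one_of_dvd_coprimes ((Nat.coprime_primes hp.out Nat.prime_two).2 h)
    (orderOf_dvd_of_pow_eq_one h9) (orderOf_dvd_of_pow_eq_one h8))))

theorem choice (hG : IsPGroup p G) {A B : Subgroup G} (h1 : A ≠ ⊤) (h2 : B ≠ ⊤) (h3 : B.index = 2 → B ≤ A) :
    IsCyclic G ∨ ∃ P M : Subgroup G, IsCoatom P ∧ IsCoatom M ∧ ¬ P ≤ M ∧
      (∀ x ∈ P, x ∉ M → x ∉ A ∧ x ∉ B) ∧ ∃ a ∉ P, a ∉ A ∧ a ∉ B := by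
  obtain ⟨M, hM, hA⟩ := Core.exists_coatom_ge h1
  by_cases h4 : B ≤ M
  · obtain ⟨x, -, hx⟩ := SetLike.exists_of_lt hM.1.lt_top
    by_cases h5 : zpowers x = ⊤
    · exact Or.inl (isCyclic_iff_exists_zpowers_eq_top.2 ⟨x, h5⟩)
    obtain ⟨P, hP, h6⟩ := Core.exists_coatom_ge h5
    obtain ⟨a, -, a1, a2⟩ := exists_notMem (U := ⊤) (fun h => hP.1 (top_le_iff.1 h)) fun h => hM.1 (top_le_iff.1 h)
    exact Or.inr ⟨P, M, hP, hM, fun h => hx (h (h6 (mem_zpowers x))),
      fun y _ hy => ⟨fun h => hy (hA h), fun h => hy (h4 h)⟩, a, a1, fun h => a2 (hA h), fun h => a2 (h4 h)⟩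
  obtain ⟨N, hN, hB⟩ := Core.exists_coatom_ge h2
  have h5 : ¬ N ≤ M := fun h => h4 (hB.trans h)
  obtain ⟨P, hP, h6, h7, h8⟩ := third hG hM hN h5
  refine Or.inr ⟨P, M, hP, hM, h6, fun x hx hx' => ⟨fun h => hx' (hA h), fun h => hx' ((h7 x hx).2 (hB h))⟩, ?_⟩
  by_cases h9 : N ≤ B
  · obtain ⟨a, a1, a2, a3⟩ := h8 fun e => h4 ((h3 (by
      rw [le_antisymm hB h9, Core.index_eq_of_isCoatom_of_isPGroup hG hN, e])).trans hA)
    exact ⟨a, a1, fun h => a2 (hA h), fun h => a3 (hB h)⟩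
  · obtain ⟨a, a1, a2, a3⟩ := exists_notMem h5 h9
    exact ⟨a, fun h => a2 ((h7 a h).2 a1), fun h => a2 (hA h), a3⟩

/-- the statement proved by induction -/
def St (p : ℕ) (G : Type u) [Group G] : Prop :=
  ∀ (n : ℕ) (A B : Subgroup G), A ≠ ⊤ → B ≠ ⊤ → (B.index = 2 → B ≤ A) →
    (∀ x ∉ A, x ∉ B → p * ix x ≤ p ^ n) → Nat.card (commutator G) ≤ p ^ n.choose 2

omit hp in
theorem ix_pos (x : G) : 0 < ix x := Nat.pos_of_ne_zero index_ne_zero_of_finite

omit hp [Finite G] in
theorem subgroupOf_ne_top {P M : Subgroup G} (h : ¬ P ≤ M) : M.subgroupOf P ≠ ⊤ := fun e => h (subgroupOf_eq_top.1 e)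

omit hp in
theorem two_case (hG : IsPGroup 2 G) (ih : ∀ Q : Subgroup G, IsCoatom Q → St 2 Q) {n : ℕ} {K L : Subgroup G}
    (hK : IsCoatom K) (hL : IsCoatom L) (hne : ¬ K ≤ L) (h1 : ∀ x ∉ L, 2 * ix x ≤ 2 ^ n)
    (h2 : ∀ x ∉ L, x ∉ K → 4 * ix x ≤ 2 ^ n) : 2 * Nat.card (commutator G) ≤ 2 ^ n.choose 2 := by
  obtain ⟨Q, hQ, h3, h4, -⟩ := third hG hL hK hne
  have := Core.normal_of_isCoatom_of_isPGroup hG hQ
  obtain ⟨J, j1, j2, j3⟩ := key Q hQ
  rw [Core.index_eq_of_isCoatom_of_isPGroup hG hQ] at j3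
  have h5 : ∀ x : Q, x ∉ L.subgroupOf Q → 4 * ix (x : G) ≤ 2 ^ n := fun x hx =>
    h2 x hx fun h => hx ((h4 x x.2).2 h)
  have h6 := subgroupOf_ne_top h3
  obtain ⟨k, rfl⟩ : ∃ k, n = k + 2 := by
    obtain ⟨x, -, hx⟩ := SetLike.exists_of_lt h6.lt_top
    have h7 := h5 x hx
    have h8 := ix_pos (x : G)
    rcases n with _ | _ | k
    · omega
    · omega
    · exact ⟨k, rfl⟩
  have e1 : (k + 1).choose 2 = k.choose 2 + k := by rw [Nat.choose_succ_succ, Nat.choose_one_right, add_comm]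
  have e2 : (k + 2).choose 2 = k.choose 2 + k + k + 1 := by
    rw [Nat.choose_succ_succ, Nat.choose_one_right, e1]; ring
  rw [e2, pow_succ' 2 (k.choose 2 + k + k)]
  refine Nat.mul_le_mul_left 2 (j1.trans ?_)
  by_cases h7 : J.index ≤ 2 ^ k
  · have := ih Q hQ (k + 1) _ _ h6 h6 (fun _ => le_rfl) fun x hx _ => by
      have := h5 x hx
      have := ix_le Q x
      rw [pow_succ] at *; omega
    rw [e1] at this
    rw [pow_add, mul_comm]
    exact Nat.mul_le_mul this h7
  have h8 : J ≠ ⊤ := fun e => h7 (by rw [e, index_top]; exact Nat.one_le_two_pow)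
  have h9 : ∀ x : Q, x ∉ L.subgroupOf Q → x ∉ J → 2 * ix x ≤ 2 ^ k := fun x hx hx' => by
    have := h5 x hx
    rw [j3 x hx', pow_succ, pow_succ] at this; omega
  obtain ⟨m, rfl⟩ : ∃ m, k = m + 1 := by
    obtain ⟨x, -, x1, x2⟩ := exists_notMem (U := ⊤) (fun h => h6 (top_le_iff.1 h)) fun h => h8 (top_le_iff.1 h)
    have := h9 x x1 x2
    have := ix_pos x
    rcases k with _ | m
    · omega
    · exact ⟨m, rfl⟩
  have h10 := ih Q hQ (m + 1) _ J h6 h8 (fun e => absurd (by rw [e, pow_succ]; have := Nat.one_le_two_pow (n := m); omega) h7) h9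
  obtain ⟨a, a1, a2⟩ := SetLike.not_le_iff_exists.1 hne
  have h11 := (Nat.mul_le_mul_left 2 (j2 a fun h => a2 ((h4 a h).2 a1))).trans (h1 a a2)
  rw [pow_succ'] at h11
  refine (Nat.mul_le_mul (Nat.le_of_mul_le_mul_left h11 two_pos) h10).trans ?_
  rw [← pow_add]
  exact Nat.pow_le_pow_right two_pos (by omega)

theorem main : ∀ (c : ℕ) (G : Type u) [Group G] [Finite G], Nat.card G = c → IsPGroup p G → St p G := by
  intro c
  induction c using Nat.strong_induction_on with | _ c ih => ?_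
  intro G _ _ hc hG n A B h1 h2 h3 h4
  have lt : ∀ {H : Type u} [Group H] [Finite H] {P : Subgroup H}, IsCoatom P → Nat.card P < Nat.card H :=
    fun {H} _ _ {P} h => lt_of_le_of_ne (card_le_card_group P) fun e => h.1 (eq_top_of_card_eq P e)
  have pp := hp.out.pos
  rcases choice hG h1 h2 h3 with h | ⟨P, M, hP, hM, h5, h6, a, a1, a2, a3⟩
  · rw [show commutator G = ⊥ from commutator_eq_bot_iff_le_centralizer.2 fun x _ y _ =>
      (IsCyclic.isMulCommutative (α := G)).is_comm.comm y x, card_bot]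
    exact Nat.one_le_pow _ _ pp
  have := Core.normal_of_isCoatom_of_isPGroup hG hP
  have := Core.normal_of_isCoatom_of_isPGroup hG hM
  obtain ⟨K, k1, k2, k3⟩ := key P hP
  rw [Core.index_eq_of_isCoatom_of_isPGroup hG hP] at k3
  have hL := subgroupOf_ne_top h5
  have hG' : IsPGroup p P := hG.to_subgroup P
  have ihP := ih _ (hc ▸ lt hP) P rfl hG'
  have h7 : ∀ x : P, x ∉ M.subgroupOf P → p * ix (x : G) ≤ p ^ n := fun x hx =>
    h4 x (h6 x x.2 hx).1 (h6 x x.2 hx).2
  have h8 : ∀ x : P, x ∉ M.subgroupOf P → p * ix x ≤ p ^ n := fun x hx =>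
    (Nat.mul_le_mul_left p (ix_le P x)).trans (h7 x hx)
  refine k1.trans ?_
  by_cases h9 : K = ⊤
  · rw [h9, index_top, one_mul]
    exact ihP n _ _ hL hL (fun _ => le_rfl) fun x hx _ => h8 x hx
  by_cases h10 : K.index = 2 → K ≤ M.subgroupOf P
  · have h11 := (Nat.mul_le_mul_left p (k2 a a1)).trans (h4 a a2 a3)
    obtain ⟨m, rfl⟩ : ∃ m, n = m + 1 := by
      rcases n with _ | m
      · have := hp.out.two_le
        have := Nat.pos_of_ne_zero (index_ne_zero_of_finite (H := K))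
        nlinarith
      · exact ⟨m, rfl⟩
    rw [pow_succ'] at h11
    rw [Nat.choose_succ_succ, Nat.choose_one_right, pow_add]
    refine Nat.mul_le_mul (Nat.le_of_mul_le_mul_left h11 pp) (ihP m _ K hL h9 h10 fun x hx hx' => ?_)
    have := h7 x hx
    rw [k3 x hx', pow_succ', mul_comm (ix x)] at this
    exact Nat.le_of_mul_le_mul_left this pp
  push Not at h10
  have hK := Core.isCoatom_of_index_prime (M := K) (h10.1 ▸ Nat.prime_two)
  obtain rfl : p = 2 := by rw [← Core.index_eq_of_isCoatom_of_isPGroup hG' hK, h10.1]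
  have hL' : IsCoatom (M.subgroupOf P) := Core.isCoatom_of_index_prime (by
    have := relIndex_dvd_index_of_normal M P
    rw [Core.index_eq_of_isCoatom_of_isPGroup hG hM, Nat.dvd_prime Nat.prime_two] at this
    rw [show (M.subgroupOf P).index = 2 from this.resolve_left fun h => hL (index_eq_one.1 h)]
    exact Nat.prime_two)
  rw [h10.1]
  exact two_case hG' (fun Q hQ => ih _ (hc ▸ (lt hQ).trans (lt hP)) Q rfl (hG'.to_subgroup Q)) hK hL' h10.2 h8
    fun x hx hx' => by have := h7 x hx; rw [k3 x hx'] at this; omega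

theorem card_commutator_le (hG : IsPGroup p G) (b : ℕ) (hb : ∀ x : G, ix x ≤ p ^ b) :
    Nat.card (commutator G) ≤ p ^ (b * (b + 1) / 2) := by
  rcases subsingleton_or_nontrivial G with h | h
  · exact ((card_le_one_iff_eq_bot _).2 (Subsingleton.elim _ _)).trans (Nat.one_le_pow _ _ hp.out.pos)
  have := main _ G rfl hG (b + 1) ⊥ ⊥ bot_ne_top bot_ne_top (fun _ => le_rfl) fun x _ _ => by
    rw [pow_succ']; exact Nat.mul_le_mul_left p (hb x)
  rwa [Nat.choose_two_right, Nat.add_sub_cancel, mul_comm] at this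

end Cfsg.Lib.Exc.Brd
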