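/-
Centralisers of semisimple elements in groups over the field with two elements.
-/
import Cfsg.Agent.Lib.Chev.ToriD
import Cfsg.Agent.Lib.Chev.GPD
import Cfsg.Agent.Lib.Chev.Chain
import Cfsg.Agent.Lib.Chev.Sub
import Cfsg.Agent.Lib.Chev.WC
import Cfsg.Agent.Lib.Linear.SmallIso

set_option autoImplicit false

namespace Cfsg.Lib.E65

open Subgroup Function Cfsg.Lib.Chev Cfsg.Lib.Twist PreSys

section
variable {I Φ : Type*} [Fintype I] [DecidableEq I] {R : RootSys I Φ} {K G : Type*} [Field K] [Group G] {S : PreSys R K G}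

theorem sq_one [CharP K 2] {e : K} (h : e * e = 1) : e = 1 := (mul_self_eq_one_iff.1 h).elim id fun h => h.trans (CharTwo.neg_eq 1)

theorem nw_conj [CharP K 2] (hS : S.St) (l : List I) (s : Φ) (u : K) : S.nw l * S.x s u * (S.nw l)⁻¹ = S.x (R.wprod l s) u := by
  induction l with
  | nil => simp [S.nw_nil]
  | cons i l ih =>
    obtain ⟨ε, h1, -, -, h2⟩ := hS (R.simple i)
    have := h2 (R.wprod l s) 1 u one_ne_zero
    rw [sq_one (h1 _), one_zpow, one_mul, one_mul] at this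
    rw [S.nw_cons, R.wprod_cons, Equiv.Perm.mul_apply, R.s_apply, ← this, ← ih]; group

variable [Finite Φ] (hS : S.St) (hM : S.Mult) (hF : S.Sep) (hO : S.Opp)
include hS hF hO

theorem cent_le (hgen : S.U Set.univ = ⊤) {A : Set G} (hA : A ⊆ S.H) (hc : S.ConnC A) : centralizer A ≤ S.U (S.Rt A) ⊔ S.H := fun g hg => by
  obtain ⟨w, hw, h⟩ := hS.exists_cell (hgen.ge (mem_top g))
  obtain ⟨u, hu, m, hm, h1, h2, u', hu', rfl⟩ := hS.cent_decomp hF hA hO hw h hg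
  let X : Subgroup (Equiv.Perm Φ) :=
    { carrier := {w | w ∈ R.W ∧ ∃ m ∈ S.N, m ∈ S.U (S.Rt A) ∧ S.Act m w}
      mul_mem' := fun ⟨h1, m, h2, h3, h4⟩ ⟨h1', m', h2', h3', h4'⟩ => ⟨mul_mem h1 h1', m * m', mul_mem h2 h2', mul_mem h3 h3', h4.mul h1' h4'⟩
      one_mem' := ⟨one_mem _, 1, one_mem _, one_mem _, S.act_one⟩
      inv_mem' := fun ⟨h1, m, h2, h3, h4⟩ => ⟨inv_mem h1, m⁻¹, inv_mem h2, inv_mem h3, h4.inv h1⟩ }
  have g1 := hS.good_WC hF hA hc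
  obtain ⟨-, m', a1, a2, a3⟩ := g1.le_of_refl (X := X) (fun r hr => ⟨R.reflPerm_mem_W r, _, S.n_mem_N r one_ne_zero,
    S.n_mem_U hr (g1.neg_mem hr) 1, hS.act_n r one_ne_zero⟩) ⟨hw, m, hm, h1, h2⟩
  refine mul_mem (mul_mem (mem_sup_left (S.U_mono Set.inter_subset_right hu)) ?_) (mem_sup_left (S.U_mono Set.inter_subset_right hu'))
  simpa using mul_mem_sup a2 (hS.inv_mul_mem_H hF a1 hm hw a3 h2)

variable [CharP K 2] {J : Finset I} {θ : G →* G} (hθ : ∀ r, R.InSub J r → ∀ u, θ (S.x r u) = S.x r (u ^ 2))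
include hM hθ

omit [Finite Φ] hF hO in
theorem θ_H {y : G} (hy : y ∈ (S.sub J).H) : θ y = y * y := by
  obtain ⟨c, rfl⟩ := ((hS.sub J).mem_H_iff (hM.sub J)).1 hy
  rw [← map_mul, ← sq]
  refine DFunLike.congr_fun (MonoidHom.pi_ext (f := θ.comp ((hS.sub J).tor (hM.sub J)))
    (g := ((hS.sub J).tor (hM.sub J)).comp (powMonoidHom 2)) fun i t => ?_) c
  rw [MonoidHom.comp_apply, MonoidHom.comp_apply, powMonoidHom_apply, map_pow, St.tor_single, sq, ← hM.sub J _ _ _ t.ne_zero t.ne_zero, ← sq]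
  exact PreSys.mapF_h (S₀ := S.sub J) (S := S.sub J) (j := frobenius K 2) (fun r t => hθ r r.2 t) _ _

theorem levi_fix {Γ : Subgroup G} (hΓ : ∀ i ∈ J, S.x (R.simple i) 1 ∈ Γ ∧ S.x (R.neg (R.simple i)) 1 ∈ Γ) {g : G}
    (hg : g ∈ S.U {r | R.InSub J r}) (h : θ g = g) : g ∈ Γ := by
  have h1 : ∀ r t, (S.sub J).x r t ∈ S.U {r | R.InSub J r} := fun r t => S.x_mem_U r.2 t
  have h2 : ∀ a ∈ S.U {r | R.InSub J r}, θ a ∈ S.U {r | R.InSub J r} :=
    (S.U_le_iff (H := (S.U _).comap θ)).2 fun r hr t => by rw [mem_comap, hθ r hr]; exact S.x_mem_U hr _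
  let θ' : S.U {r | R.InSub J r} →* S.U {r | R.InSub J r} := (θ.comp (S.U _).subtype).codRestrict _ fun a => h2 a a.2
  let X := fieldTw (St.restrict _ (hS.sub J) _ h1) ((hF.sub J).restrict _ h1) ((hO.sub J).restrict (hF.sub J) _ h1) (Mult.restrict _ (hM.sub J) _ h1)
    (by rw [restrict_U, sub_univ, subgroupOf_self]) θ' (frobenius K 2)
    fun r t => Subtype.ext (hθ r r.2 t)
  have h3 := (grp_refl X (fun _ => rfl) (Γ := Γ.subgroupOf _ ⊓ X.Fix) inf_le_right fun r t ht => ⟨?_, Subtype.ext ?_⟩).eq_Fix fun a ha => ?_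
  · exact (h3.ge (show (⟨g, hg⟩ : S.U _) ∈ X.Fix from Subtype.ext h)).1
  · obtain rfl | rfl : t = 0 ∨ t = 1 := eq_zero_or_one_of_sq_eq_self ht
    · change S.x r 0 ∈ Γ; rw [S.x_zero]; exact one_mem _
    obtain ⟨w, hw, i, hi, e⟩ := R.exists_WJ_simple r.2
    obtain ⟨l, hl, rfl⟩ := R.exists_word hw
    change S.x r 1 ∈ Γ
    have : S.nw l ∈ Γ := S.nw_mem fun j hj => by
      rw [PreSys.n, inv_one, S.x_neg]; exact mul_mem (mul_mem (hΓ j (hl j hj)).1 (inv_mem (hΓ j (hl j hj)).2)) (hΓ j (hl j hj)).1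
    rw [e, ← nw_conj hS]
    exact mul_mem (mul_mem this (hΓ i hi).1) (inv_mem this)
  · exact (hθ r r.2 t).trans (congrArg _ ht)
  · have h4 := ha.1
    rw [restrict_H] at h4
    have h5 := (θ_H hS hM hθ h4).symm.trans (congrArg Subtype.val ha.2)
    rw [show a = 1 from Subtype.ext (mul_eq_left.1 h5)]; exact one_mem _

theorem cent_fix (hgen : S.U Set.univ = ⊤) (hC : S.SC) {c : I → Kˣ} {n : ℕ} (hn : 0 < n) (hc : c ^ n = 1)
    (hJ : ∀ r, evw (R.wr r) c = 1 ↔ R.InSub J r) (hH : ∀ a ∈ S.H, θ a ∈ S.H)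
    {Γ : Subgroup G} (hΓ : ∀ i ∈ J, S.x (R.simple i) 1 ∈ Γ ∧ S.x (R.neg (R.simple i)) 1 ∈ Γ) {g : G}
    (hg : g ∈ centralizer {hS.tor hM c}) (h : θ g = g) : ∃ l ∈ Γ, ∃ a ∈ S.H, θ a = a ∧ g = l * a := by
  have h1 := cent_le hS hF hO hgen (Set.singleton_subset_iff.2 (hS.tor_mem hM c)) (hS.connC hM hF hC hn hc) hg
  rw [show S.Rt {hS.tor hM c} = {r | R.InSub J r} from Set.ext fun r => (hS.mem_Rt_tor hM hF).trans (hJ r)] at h1
  obtain ⟨l, hl, a, ha, rfl⟩ := hS.mem_U_sup_H.1 h1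
  have h2 : θ l ∈ S.U {r | R.InSub J r} :=
    (S.U_le_iff (H := (S.U _).comap θ)).2 (fun r hr t => by rw [mem_comap, hθ r hr]; exact S.x_mem_U hr _) hl
  rw [map_mul] at h
  have h3 : l⁻¹ * θ l = a * (θ a)⁻¹ := by rw [eq_mul_inv_iff_mul_eq, mul_assoc, h, inv_mul_cancel_left]
  have h4 : l⁻¹ * θ l ∈ S.H := h3 ▸ mul_mem ha (inv_mem (hH a ha))
  have h5 := mul_mem (inv_mem hl) h2
  have h6 := θ_H hS hM hθ ((hS.sub J).mem_H_of_act (hF.sub J) (hO.sub J) ((S.sub_univ J).ge h5) ((hS.act_H h4).sub_one J))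
  have h7 : θ l = l * (l⁻¹ * θ l) := by group
  have h8 : θ a = (l⁻¹ * θ l)⁻¹ * a := by rw [h3]; group
  generalize l⁻¹ * θ l = y at *
  refine ⟨l * y⁻¹, levi_fix hS hM hF hO hθ hΓ (mul_mem hl (inv_mem h5)) ?_, y * a, mul_mem h4 ha, ?_, by group⟩
  · rw [map_mul, map_inv, h6, h7]; group
  · rw [map_mul, h6, h8]; group

end

theorem cent_equiv {G A : Type*} [Group G] [Group A] [IsSimpleGroup A] (hA : ∃ a b : A, a * b ≠ b * a) {x y : G} {n : ℕ} [NeZero n]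
    (hx : orderOf x = n) {ψ : A →* G} (h0 : ∃ a, ψ a ≠ 1) (hc : ∀ a, Commute x (ψ a))
    (h : ∀ g, Commute g x → ∃ a, ∃ k : ℤ, g = ψ a * x ^ k) (hy : IsConj x y) :
    Nonempty (centralizer {y} ≃* Multiplicative (ZMod n) × A) := by
  obtain ⟨b, rfl⟩ := isConj_iff.1 hy
  have h1 : Injective ψ := (MonoidHom.ker_eq_bot_iff ψ).1 ((IsSimpleGroup.eq_bot_or_eq_top_of_normal _ inferInstance).resolve_right fun e =>
    h0.elim fun a ha => ha (e.ge (mem_top a)))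
  have h2 : center A = ⊥ := (IsSimpleGroup.eq_bot_or_eq_top_of_normal _ inferInstance).resolve_right fun e => by
    obtain ⟨a, b, hab⟩ := hA
    exact hab (mem_center_iff.1 (e.ge (mem_top b)) a)
  let e : Multiplicative (ZMod n) ≃* zpowers x := mulEquivOfCyclicCardEq (by simp [hx])
  have h3 : ∀ z a, Commute (((zpowers x).subtype.comp e.toMonoidHom) z) (ψ a) := fun z a => by
    obtain ⟨k, hk⟩ := (e z).2
    exact (show _ = ((zpowers x).subtype.comp e.toMonoidHom) z from hk) ▸ (hc a).zpow_left k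
  let f := (MulAut.conj b).toMonoidHom.comp (((zpowers x).subtype.comp e.toMonoidHom).noncommCoprod ψ h3)
  have h4 : Injective f := (MulAut.conj b).injective.comp ((injective_iff_map_eq_one _).2 fun ⟨z, a⟩ hz => by
    have h5 : (e z : G) * ψ a = 1 := hz
    obtain rfl : a = 1 := h2.le (mem_center_iff.2 fun c => h1 (by
      rw [map_mul, map_mul, eq_inv_of_mul_eq_one_right h5]; exact (h3 z c).inv_left.symm))
    rw [map_one, mul_one, OneMemClass.coe_eq_one, map_eq_one_iff _ e.injective] at h5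
    rw [h5]; rfl)
  refine ⟨(MulEquiv.subgroupCongr (le_antisymm (fun g hg => ?_) ?_)).trans (MonoidHom.ofInjective h4).symm⟩
  · obtain ⟨a, k, hk⟩ := h (b⁻¹ * g * b) (by
      have := mem_centralizer_singleton_iff.1 hg
      rw [Commute, SemiconjBy, ← mul_left_inj b⁻¹, ← mul_right_inj b]; simpa [mul_assoc] using this)
    refine ⟨(e.symm ⟨x ^ k, k, rfl⟩, a), ?_⟩
    change b * ((e (e.symm _) : G) * ψ a) * b⁻¹ = g
    rw [e.apply_symm_apply, ((hc a).zpow_left k).eq, ← hk]; group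
  · rintro _ ⟨⟨z, a⟩, rfl⟩
    obtain ⟨k, hk⟩ := (e z).2
    refine mem_centralizer_singleton_iff.2 ?_
    change b * ((e z : G) * ψ a) * b⁻¹ * _ = _ * (b * ((e z : G) * ψ a) * b⁻¹)
    rw [conj_mul, conj_mul, ← hk, (((Commute.refl x).zpow_right k).mul_right (hc a)).eq]

section
variable {I Φ : Type*} [Fintype I] [DecidableEq I] {R : RootSys I Φ}

/-- The numerical data. -/
structure Dat (π : Equiv.Perm Φ) (J : Finset I) (e : I → ℤ) : Prop where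
  fix : ∀ r, R.InSub J r → π r = r
  five : ∀ r, 5 ∣ R.ev r e ↔ R.InSub J r
  three : ∀ r, 3 ∣ R.ev r e
  stab : ∀ k, 5 ∣ 2 * R.aw π e k - e k
  cyc : ∃ (lam b : I → ℤ) (a : I → I → ℤ), ∀ m, (∀ i, ∑ k, a i k * (2 * R.co (π (R.simple m)) k - if k = m then 1 else 0) =
    (if m = i then 1 else 0) - e i * lam m) ∧ ∑ k, b k * (2 * R.co (π (R.simple m)) k - if k = m then 1 else 0) = 15 * lam m

theorem Dat.tor {π : Equiv.Perm Φ} {J : Finset I} {e : I → ℤ} (h : Dat (R := R) π J e) {Γ : Type*} [CommGroup Γ] {c : I → Γ}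
    (hc : R.cw π c ^ 2 = c) : ∃ β : Γ, β ^ 15 = 1 ∧ c = fun i => β ^ e i := by
  obtain ⟨lam, b, a, h⟩ := h.cyc
  have h1 : ∀ k, evw (fun m => 2 * R.co (π (R.simple m)) k - if k = m then 1 else 0) c = 1 := fun k => by
    have := congrFun hc k
    rw [Pi.pow_apply, R.cw_apply, ← zpow_natCast, ← evw_smul, ← mul_inv_eq_one, ← evw_single k c, ← zpow_neg_one, ← evw_smul, ← evw_add] at this
    rw [← this]; congr 2; funext m; simp [Pi.single_apply, eq_comm, sub_eq_add_neg]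
  have h2 : ∀ a : I → ℤ, evw (fun m => ∑ k, a k * (2 * R.co (π (R.simple m)) k - if k = m then 1 else 0)) c = 1 := fun a =>
    (evw_sum _ a (fun k m => 2 * R.co (π (R.simple m)) k - if k = m then 1 else 0) c).trans (by simp [h1])
  refine ⟨evw lam c, ?_, funext fun i => ?_⟩
  · rw [← zpow_natCast, ← evw_smul, ← h2 b]; congr 2; funext m; rw [(h m).2]; rfl
  · rw [← evw_smul, ← one_mul (evw _ c), ← h2 (a i), ← evw_add, ← evw_single i c]; congr 2; funext m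
    simp [(h m).1, Pi.single_apply]

variable {K G : Type*} [Field K] [Group G] {S : PreSys R K G} [Finite Φ] (hS : S.St) (hM : S.Mult) (hF : S.Sep) (hO : S.Opp)
  (hgen : S.U Set.univ = ⊤) (hC : S.SC) [CharP K 2] {θ : G →* G} {π : Equiv.Perm Φ} (hθ : ∀ r u, θ (S.x r u) = S.x (π r) (u ^ 2))
include hF hO hgen hθ

omit [CharP K 2] in
theorem exists_perm {c : I → Kˣ} (h1 : θ (hS.tor hM c) ∈ S.H) (h : IsConj (θ (hS.tor hM c)) (hS.tor hM c)) :
    ∃ τ : Equiv.Perm Φ, ∀ r, evw (R.wr (τ r)) c = evw (R.wr r) c ^ 2 := by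
  obtain ⟨g, hg⟩ := isConj_iff.1 h
  obtain ⟨m, hm, h2⟩ := hS.exists_N_conj hF hO (hgen.ge (mem_top g))
  obtain ⟨w, -, χ, h3, -, h4⟩ := hS.exists_act hm
  have h5 := (h2 _ h1 (by rw [hg]; exact hS.tor_mem hM c)).trans hg
  refine ⟨w * π, fun r => Units.ext (mul_right_cancel₀ (h3 (π r)) (hF.x_inj (r := w (π r)) ?_))⟩
  have h6 := congrArg (fun a => m * θ a * m⁻¹) (hS.tor_conj hM c r 1)
  simp only [map_mul, map_inv, hθ, h4, one_pow, mul_one] at h6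
  have h7 := h4 (π r) 1
  rw [mul_one] at h7
  rw [Equiv.Perm.mul_apply, ← hS.tor_conj hM, mul_comm _ (χ _), Units.val_pow_eq_pow_val, ← h6, ← h7]
  generalize θ (hS.tor hM c) = b at h5 ⊢
  rw [← h5]; group

include hC in
theorem core (hθ' : ∀ c, θ (hS.tor hM c) = hS.tor hM (R.cw π c ^ 2)) {J : Finset I} {e : I → ℤ} (h : Dat (R := R) π J e)
    {ζ : Kˣ} (hζ : IsPrimitiveRoot ζ 5) {L : Set (I → ℤ)}
    (hL : ∀ y : I → ℤ, ∃ y' ∈ L, IsConj (hS.tor hM fun i => ζ ^ y i) (hS.tor hM fun i => ζ ^ y' i))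
    (hL' : ∀ y ∈ L, ∀ τ : Equiv.Perm Φ, (∀ r, 5 ∣ R.ev (τ r) y - 2 * R.ev r y) → (∀ i, 5 ∣ y i) ∨ ∀ i, 5 ∣ y i - e i)
    (ht : ∀ g : G, g ^ 5 = 1 → ∃ a c, a * hS.tor hM c * a⁻¹ = g)
    (hf : ∀ s s' : θ.eqLocus (MonoidHom.id G), s ^ 5 = 1 → IsConj s.1 s'.1 → IsConj s s')
    {G₀ : Type*} [Group G₀] {φ : θ.eqLocus (MonoidHom.id G) →* G₀} (hφ : Surjective φ) (h1 : ∀ g, φ g = 1 ↔ g.1 ∈ center G)
    (h3 : ∀ g, φ g = 1 → g ^ 3 = 1) {A : Type*} [Group A] [IsSimpleGroup A] (hA : ∃ a b : A, a * b ≠ b * a) {ρ : A →* G}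
    (hρ : ∀ i ∈ J, S.x (R.simple i) 1 ∈ ρ.range ∧ S.x (R.neg (R.simple i)) 1 ∈ ρ.range) (hJ : J.Nonempty)
    (hρ1 : ∀ a, θ (ρ a) = ρ a) (hρ2 : ∀ a, ρ a ∈ S.U {r | R.InSub J r}) (he : ∃ i, ¬ 5 ∣ e i) :
    (∀ x y : G₀, orderOf x = 5 → orderOf y = 5 → IsConj x y) ∧
      ∀ x : G₀, orderOf x = 5 → Nonempty (centralizer {x} ≃* Multiplicative (ZMod 5) × A) := by
  have p5 : ∀ y : I → ℤ, (fun i => ζ ^ y i) ^ 5 = 1 := fun y => funext fun i => by
    rw [Pi.pow_apply, ← zpow_natCast, ← zpow_mul, mul_comm, zpow_mul, zpow_natCast, hζ.pow_eq_one, one_zpow]; rfl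
  have hev : ∀ r y, evw (R.wr r) (fun i => ζ ^ y i) = ζ ^ R.ev r y := fun r y => evw_zpow _ _ _
  let s₀ : θ.eqLocus (MonoidHom.id G) := ⟨hS.tor hM fun i => ζ ^ e i, (hθ' _).trans (congrArg _ (funext fun k => by
    rw [R.cw_zpow, Pi.pow_apply, ← zpow_natCast, ← zpow_mul, mul_comm]; exact zpow_congr hζ.pow_eq_one (h.stab k)))⟩
  have s5 : s₀ ^ 5 = 1 := Subtype.ext ((map_pow _ _ _).symm.trans (by rw [p5, map_one]; rfl))
  have hH : ∀ a ∈ S.H, θ a ∈ S.H := fun a ha => by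
    obtain ⟨c, rfl⟩ := (hS.mem_H_iff hM).1 ha
    exact hθ' c ▸ hS.tor_mem hM _
  have k1 : ∀ x : G₀, orderOf x = 5 → IsConj (φ s₀) x := fun x hx => by
    obtain ⟨g, rfl⟩ := hφ x
    have g5 : φ (g ^ 5) = 1 := by rw [map_pow, ← hx, pow_orderOf_eq_one]
    have g6 : φ (g ^ 6) = φ g := by rw [pow_succ, map_mul, g5, one_mul]
    have g7 : (g ^ 6) ^ 5 = 1 := by rw [← pow_mul, show 6 * 5 = 5 * 3 * 2 from rfl, pow_mul, pow_mul, h3 _ g5, one_pow]
    rw [← g6] at hx ⊢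
    generalize g ^ 6 = s at hx g7
    obtain ⟨a, c, hc⟩ := ht s (congrArg Subtype.val g7)
    have c5 : c ^ 5 = 1 := hS.tor_inj hM hC (by
      rw [map_pow, map_one, ← conj_eq_one_iff (a := a), ← conj_pow, hc]; exact congrArg Subtype.val g7)
    choose y _ hy using fun i => hζ.eq_pow_of_mem_rootsOfUnity (ξ := c i) (by simpa using congrFun c5 i)
    obtain ⟨y', hy', h4⟩ := hL fun i => y i
    have h5 : IsConj (hS.tor hM fun i => ζ ^ y' i) s := h4.symm.trans (isConj_iff.2 ⟨a, by rw [← hc]; simp [hy]⟩)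
    have h6 := θ.map_isConj h5
    rw [show θ s = s from s.2] at h6
    obtain ⟨τ, h7⟩ := exists_perm hS hM hF hO hgen hθ (hH _ (hS.tor_mem hM _)) (h6.trans h5.symm)
    rcases hL' y' hy' τ (fun r => (hζ.zpow_eq_one_iff_dvd _).1 (by
      rw [zpow_sub, ← hev, h7, hev, mul_comm (2 : ℤ), zpow_mul]; exact mul_inv_cancel _)) with h8 | h8
    · rw [show (fun i => ζ ^ y' i) = 1 from funext fun i => (hζ.zpow_eq_one_iff_dvd _).2 (h8 i), map_one, isConj_one_right] at h5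
      rw [show s = 1 from Subtype.ext h5, map_one, orderOf_one] at hx; omega
    · rw [show (fun i => ζ ^ y' i) = fun i => ζ ^ e i from funext fun i => zpow_congr hζ.pow_eq_one (h8 i)] at h5
      exact φ.map_isConj (hf s₀ s s5 h5)
  have k2 : ∀ z, φ z = 1 → z ^ 5 = 1 → z = 1 := fun z a b => by
    rw [← pow_one z, show 1 = Nat.gcd 5 3 from rfl, pow_gcd_eq_one]; exact ⟨b, h3 z a⟩
  have k3 : orderOf (φ s₀) = 5 := by
    have := Fact.mk Nat.prime_five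
    refine orderOf_eq_prime (by rw [← map_pow, s5, map_one]) fun e0 => he.elim fun i hi => hi ?_
    have := hS.tor_inj hM hC ((congrArg Subtype.val (k2 _ e0 s5)).trans (map_one _).symm)
    exact (hζ.zpow_eq_one_iff_dvd _).1 (congrFun this i)
  have hJ' : ∀ r, evw (R.wr r) (fun i => ζ ^ e i) = 1 ↔ R.InSub J r := fun r => by
    rw [hev, hζ.zpow_eq_one_iff_dvd]; exact h.five r
  let ρ' : A →* θ.eqLocus (MonoidHom.id G) := ρ.codRestrict _ hρ1
  have k4 : ∀ a, Commute s₀ (ρ' a) := fun a => Subtype.ext (mem_centralizer_singleton_iff.1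
    (U_Rt_le (fun r hr => (hS.mem_Rt_tor hM hF).2 ((hJ' r).2 hr)) (hρ2 a))).symm
  refine ⟨fun x y hx hy => (k1 x hx).symm.trans (k1 y hy), fun x hx => cent_equiv hA k3 (ψ := φ.comp ρ') ?_
    (fun a => (k4 a).map φ) (fun g hg => ?_) (k1 x hx)⟩
  · obtain ⟨i, hi⟩ := hJ
    obtain ⟨a, ha⟩ := (hρ i hi).1
    refine ⟨a, fun e0 => one_ne_zero (hF.x_eq_one (r := R.simple i) ?_)⟩
    have h4 : ρ a ^ 3 = 1 := congrArg Subtype.val (h3 _ e0)
    rwa [ha, pow_three, ← S.x_add, ← S.x_add, CharTwo.add_self_eq_zero, add_zero] at h4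
  obtain ⟨g, rfl⟩ := hφ g
  have h4 : φ (g * s₀ * g⁻¹ * s₀⁻¹) = 1 := by simp [hg.eq]
  have h5 : (g * s₀ * g⁻¹ * s₀⁻¹) ^ 5 = 1 := by
    have h6 : Commute (g * s₀ * g⁻¹ * s₀⁻¹) s₀ := Subtype.ext (mem_center_iff.1 ((h1 _).1 h4) _).symm
    have h7 := h6.mul_pow 5
    rwa [inv_mul_cancel_right, conj_pow, s5, mul_one, mul_one, mul_inv_cancel, eq_comm] at h7
  have h6 : g * s₀ = s₀ * g := by rw [← mul_inv_eq_iff_eq_mul, ← mul_inv_eq_one]; exact k2 _ h4 h5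
  obtain ⟨_, ⟨a, rfl⟩, b, hb, h7, h8⟩ := cent_fix hS hM hF hO (J := J) (θ := θ) (fun r hr u => by rw [hθ, h.fix r hr]) hgen hC (by norm_num)
    (p5 e) hJ' hH hρ (mem_centralizer_singleton_iff.2 (congrArg Subtype.val h6)) g.2
  obtain ⟨c, rfl⟩ := (hS.mem_H_iff hM).1 hb
  obtain ⟨β, h9, rfl⟩ := h.tor (hS.tor_inj hM hC ((hθ' c).symm.trans h7))
  obtain ⟨n, -, hn⟩ := hζ.eq_pow_of_mem_rootsOfUnity (ξ := β ^ 6) (by
    rw [mem_rootsOfUnity, ← pow_mul, show 6 * 5 = 15 * 2 from rfl, pow_mul, h9, one_pow])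
  refine ⟨a, n, ?_⟩
  rw [MonoidHom.comp_apply, ← map_zpow, ← map_mul, eq_comm, ← inv_mul_eq_one, ← map_inv, ← map_mul, h1]
  have h10 : ((ρ' a * s₀ ^ (n : ℤ))⁻¹ * g).1 = hS.tor hM fun i => (β ^ 10) ^ e i := by
    change (ρ a * hS.tor hM _ ^ (n : ℤ))⁻¹ * g.1 = _
    rw [h8, mul_inv_rev, mul_assoc, inv_mul_cancel_left, ← map_zpow, ← map_inv, ← map_mul]
    congr 1; funext i
    rw [Pi.mul_apply, Pi.inv_apply, Pi.pow_apply, ← zpow_mul, mul_comm (e i), zpow_mul, zpow_natCast, hn, inv_mul_eq_iff_eq_mul, ← mul_zpow,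
      ← pow_add, pow_succ, h9, one_mul]
  rw [h10]
  refine mem_center_iff.2 fun g => (S.U_le_iff (H := centralizer {_})).2 (fun r _ t => mem_centralizer_singleton_iff.2 ?_)
    (hgen.ge (mem_top g)) _ rfl |>.symm
  obtain ⟨m, hm⟩ := h.three r
  rw [eq_comm, ← mul_inv_eq_iff_eq_mul, hS.tor_conj hM, evw_zpow, ← RootSys.ev, hm, zpow_mul, zpow_ofNat, ← pow_mul,
    show 10 * 3 = 15 * 2 from rfl, pow_mul, h9]
  simp

end

universe u

theorem main {I Φ : Type} [Fintype I] [DecidableEq I] [Finite Φ] {R : RootSys I Φ} {X : Fam.{u} R} (hX : X.Red) {k : Type u} [Field k]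
    [IsAlgClosed k] [CharP k 2] (hC : (X.S k).SC) (hk : ∀ t : k, ∃ e, 0 < e ∧ t ^ 2 ^ e = t) {T : Tw R} (Y : X.TwF 2 T) (he : ∀ r, Y.e r = 1)
    {G₀ : Type*} [Group G₀] {φ : (Y.tw k).Fix →* G₀} (hφ : Surjective φ) (h1 : ∀ g, φ g = 1 ↔ g.1 ∈ center _) (h3 : Nat.card φ.ker = 3)
    (l : List I) {j : Fin 3 → I} (hj : ∀ a b, R.A (j a) (j b) = (Linear.euA 3).R.A a b) {e : I → ℤ}
    (h : Dat (R := R) (R.wprod l * T.ρ) (Finset.univ.image j) e) {L : Set (I → ℤ)}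
    (hL : ∀ ζ : kˣ, ζ ^ 5 = 1 → ∀ y : I → ℤ, ∃ y' ∈ L,
      IsConj ((X.st k).tor (X.mult k) fun i => ζ ^ y i) ((X.st k).tor (X.mult k) fun i => ζ ^ y' i))
    (hL' : ∀ y ∈ L, ∀ τ : Equiv.Perm Φ, (∀ r, 5 ∣ R.ev (τ r) y - 2 * R.ev r y) → (∀ i, 5 ∣ y i) ∨ ∀ i, 5 ∣ y i - e i) (he' : ∃ i, ¬ 5 ∣ e i) :
    (∀ x y : G₀, orderOf x = 5 → orderOf y = 5 → IsConj x y) ∧
      ∀ x : G₀, orderOf x = 5 → Nonempty (centralizer {x} ≃* Multiplicative (ZMod 5) × alternatingGroup (Fin 8)) := by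
  have hφ2 : ∀ r t, (Y.tw k).φ r t = t ^ 2 := fun r t => by change t ^ 2 ^ Y.e r = _; rw [he, pow_one]
  obtain ⟨a, ha⟩ := Y.stein.lang_top hk ((X.S k).nw l)
  change _ = a⁻¹ * (Y.tw k).σ a at ha
  let θ := (MulAut.conj ((X.S k).nw l)).toMonoidHom.comp (Y.tw k).σ
  have hθ : ∀ r u, θ ((X.S k).x r u) = (X.S k).x ((R.wprod l * T.ρ) r) (u ^ 2) := fun r u => by
    change _ * (Y.tw k).σ _ * _ = _
    rw [TwSys.σ_x, sq_one ((Y.tw k).ε_sq r), one_mul, hφ2, nw_conj (X.st k)]; rfl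
  have h7 : ∀ g, a * g * a⁻¹ ∈ (Y.tw k).Fix ↔ θ g = g := fun g => by
    change _ ↔ _ * (Y.tw k).σ g * _ = g
    rw [TwSys.mem_Fix, map_mul, map_mul, map_inv, ← mul_inv_cancel_left a ((Y.tw k).σ a), ← ha, mul_inv_rev, ← mul_assoc, mul_left_inj, mul_assoc a,
      mul_assoc a, mul_right_inj]
  let ι : θ.eqLocus (MonoidHom.id _) →* (Y.tw k).Fix :=
    ((MulAut.conj a).toMonoidHom.comp (Subgroup.subtype _)).codRestrict _ fun g => (h7 g).2 g.2
  have hι : Surjective ι := fun g => ⟨⟨a⁻¹ * g * a, (h7 _).1 (by simp [mul_assoc])⟩, Subtype.ext (show a * (a⁻¹ * g * a) * a⁻¹ = g by group)⟩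
  have hι' : Injective ι := fun _ _ e => Subtype.ext ((MulAut.conj a).injective (congrArg Subtype.val e))
  have : NeZero ((5 : ℕ) : k) := ⟨fun e => by simpa using (CharP.cast_eq_zero_iff k 2 5).1 e⟩
  have := NeZero.of_neZero_natCast k (n := 5)
  obtain ⟨ζ, hζ⟩ := HasEnoughRootsOfUnity.exists_primitiveRoot k 5
  let f : ULift.{u} (ZMod 2) →+* k := (ZMod.castHom (dvd_refl 2) k).comp ULift.ringEquiv.toRingHom
  obtain ⟨ρ, hρ⟩ := (X.st (ULift.{u} (ZMod 2))).exists_chain (X.sep _) hj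
  obtain ⟨ε⟩ := Linear.sl4_two_equiv (F := ULift.{u} (ZMod 2)) (by simp)
  have hs : ∀ b, R.InSub (Finset.univ.image j : Finset I) (R.simple (j b)) := fun b => RootSys.inSub_simple.2 (by simp)
  have hf : ∀ t, f t ^ 2 = f t := fun t => by rw [← map_pow]; congr 1; revert t; decide
  have := alternatingGroup.isSimpleGroup (α := Fin 8) (by simp)
  refine core (X.st k) (X.mult k) (X.sep k) (X.opp k) (X.gen k) hC hθ
    ((Y.tw k).σ_tor (fun _ => hφ2 _) (R.wprod_mem_W l) ((X.st k).act_nw l)) h (hζ.isUnit_unit (by norm_num))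
    (hL _ (hζ.isUnit_unit (by norm_num)).pow_eq_one) hL' (fun g => hX.exists_conj_tor (p := 2) (by norm_num)) (fun s s' h4 h5 => ?_)
    (φ := φ.comp ι) (hφ.comp hι) (fun g => (h1 _).trans ?_) (fun g hg => hι' ?_)
    ⟨⟨.swap 0 1 * .swap 1 2, by simp⟩, ⟨.swap 0 1 * .swap 1 3, by simp⟩, fun e => absurd (congrArg Subtype.val e) (by decide)⟩
    (ρ := ((X.map f).comp ρ).comp ε.symm.toMonoidHom) (fun i hi => ?_) (by simp) (fun g => ?_) (fun g => ?_) he'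
  · obtain ⟨g, hg⟩ : ∃ g, g * (ι s).1 * g⁻¹ = (ι s').1 := isConj_iff.1 ((MulAut.conj a).toMonoidHom.map_isConj h5)
    obtain ⟨b, h6, h8⟩ := hX.exists_conj_fix hC hk Y.stein (ι s).2 (hg ▸ (ι s').2) (n := 5) (by norm_num)
      (congrArg Subtype.val ((map_pow ι s 5).symm.trans (by rw [h4, map_one])))
    obtain ⟨b, e⟩ := hι ⟨b, h6⟩
    exact isConj_iff.2 ⟨b, hι' (by rw [map_mul, map_mul, map_inv, e]; exact Subtype.ext (h8.trans hg))⟩
  · exact ⟨fun hg => by simpa [ι, mul_assoc] using (inferInstance : (center _).Normal).conj_mem _ hg a⁻¹,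
      fun hg => (inferInstance : (center _).Normal).conj_mem _ hg a⟩
  · rw [map_pow, map_one, ← h3]
    exact congrArg Subtype.val (pow_card_eq_one' (G := φ.ker) (x := ⟨ι g, hg⟩))
  · obtain ⟨b, -, rfl⟩ := Finset.mem_image.1 hi
    have h4 : ∀ g, (((X.map f).comp ρ).comp ε.symm.toMonoidHom) (ε g) = X.map f (ρ g) := fun g => by simp
    exact ⟨⟨_, by rw [h4, (hρ b 1).1, X.map_x, map_one]⟩, ⟨_, by rw [h4, (hρ b 1).2, X.map_x, map_one]⟩⟩
  · refine DFunLike.congr_fun (Linear.sysA_st.hom_ext Linear.sysA_gen (φ := θ.comp ((X.map f).comp ρ)) (ψ := (X.map f).comp ρ)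
      (fun b t => ?_) fun b t => ?_) _
    · simp only [MonoidHom.comp_apply, (hρ b t).1, X.map_x, hθ, h.fix _ (hs b), hf]
    · simp only [MonoidHom.comp_apply, (hρ b t).2, X.map_x, hθ, h.fix _ (RootSys.inSub_neg.2 (hs b)), hf]
  · refine (Linear.sysA_st.univ_le_of_simple (X := ((X.S k).U _).comap ((X.map f).comp ρ)) (fun b => ?_) fun b t => ?_)
      (Linear.sysA_gen.ge (mem_top _))
    · simp only [mem_comap, PreSys.n, map_mul, MonoidHom.comp_apply, (hρ b _).1, (hρ b _).2, X.map_x]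
      exact mul_mem (mul_mem ((X.S k).x_mem_U (hs b) _) ((X.S k).x_mem_U (RootSys.inSub_neg.2 (hs b)) _)) ((X.S k).x_mem_U (hs b) _)
    · simp only [mem_comap, MonoidHom.comp_apply, (hρ b _).1, X.map_x]
      exact (X.S k).x_mem_U (hs b) _

end Cfsg.Lib.E65
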