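import Cfsg.Agent.Lib.Exc.E6W
import Cfsg.Agent.Lib.Block2.PMod

/-! Minimal extensions of alternating groups inside linear groups of small degree. -/

set_option autoImplicit false

namespace Cfsg.Lib.AltDeg

open Module Cfsg.Lib.Pres Cfsg.Lib.Linear Equiv Subgroup Cfsg.Lib.Core Cfsg.Lib.Amalg
open scoped commutatorElement

universe u

section
variable {H : Type u} [Group H] [Finite H] {r : ℕ} {π : H →* alternatingGroup (Fin r)} (hs : Function.Surjective π)
include hs

theorem exists_min : ∃ X : Subgroup H, Function.Surjective (π.comp X.subtype) ∧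
    ∀ Y : Subgroup X, Y.map (π.comp X.subtype) = ⊤ → Y = ⊤ := by
  obtain ⟨X, h1, h2⟩ := WellFounded.has_min wellFounded_lt {X : Subgroup H | X.map π = ⊤} ⟨⊤, map_top_of_surjective π hs⟩
  refine ⟨X, fun a => ?_, fun Y hY => by_contra fun e => h2 (Y.map X.subtype) ((map_map _ _ _).trans hY) ?_⟩
  · obtain ⟨x, hx, rfl⟩ := h1.ge (mem_top a)
    exact ⟨⟨x, hx⟩, rfl⟩
  · refine lt_of_le_of_ne (map_subtype_le _) fun e' => e (eq_top_iff.2 fun x _ => ?_)
    obtain ⟨y, hy, t⟩ := e'.ge x.2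
    exact Subtype.ext t ▸ hy

variable (hmin : ∀ X : Subgroup H, X.map π = ⊤ → X = ⊤)
include hmin

theorem syl_normal {l : ℕ} [Fact l.Prime] {P : Subgroup H} (hP : Syl l P π.ker) : P.Normal := by
  have h2 := congrArg (map π) (hP.frattini (H := ⊤) le_top le_normalizer_of_normal)
  rw [Subgroup.map_sup, (Subgroup.map_eq_bot_iff _).2 le_rfl, bot_sup_eq, top_inf_eq, map_top_of_surjective π hs] at h2
  exact normalizer_eq_top_iff.1 (hmin _ h2)

theorem syl_bot {l : ℕ} [Fact l.Prime] {P : Subgroup H} (hP : Syl l P π.ker) (h : ¬ l ∣ Nat.card (alternatingGroup (Fin r))) :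
    P = ⊥ := by
  have := syl_normal hs hmin hP
  obtain ⟨C, hC⟩ := exists_right_complement'_of_coprime (N := P) (by
    rw [hP.card_eq_pow, ← relIndex_mul_index hP.le, index_ker, MonoidHom.range_eq_top.2 hs, card_top]
    exact ((Nat.Prime.coprime_iff_not_dvd Fact.out).2 fun e =>
      ((Nat.Prime.dvd_mul Fact.out).1 e).elim hP.not_dvd_relIndex h).pow_left _)
  have h2 := congrArg (map π) hC.sup_eq_top
  rw [Subgroup.map_sup, (Subgroup.map_eq_bot_iff _).2 hP.le, bot_sup_eq, map_top_of_surjective π hs] at h2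
  have h3 := hC.disjoint
  rwa [hmin _ h2, disjoint_top] at h3

theorem perf (hr : 5 ≤ r) : ⁅(⊤ : Subgroup H), (⊤ : Subgroup H)⁆ = ⊤ := hmin _ (by
  rw [map_commutator, map_top_of_surjective π hs]
  exact commutator_alternatingGroup_eq_top (by simpa))

theorem le_ker (hr : 5 ≤ r) (X : Subgroup H) (hX : X.Normal) (h1 : X ≠ ⊤) : X ≤ π.ker :=
  have : IsSimpleGroup (alternatingGroup (Fin r)) := alternatingGroup.isSimpleGroup (by simpa)
  (Subgroup.map_eq_bot_iff X).1 ((hX.map π hs).eq_bot_or_eq_top.resolve_right fun e => h1 (hmin X e))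

theorem z2_of (hr : 8 ≤ r) (hc : π.ker ≤ center H) : Z2 π := by
  have h2 := card_ker_le_two π (by simp; omega) (by simp; omega) (by simp; omega) hs hc ((perf hs hmin (by omega)).ge.trans' le_top)
  refine fun z h => ⟨hc h, ?_⟩
  have h3 : z ^ Nat.card π.ker = 1 := congrArg Subtype.val (pow_card_eq_one' (x := (⟨z, h⟩ : π.ker)))
  have h4 : 0 < Nat.card π.ker := Nat.card_pos
  rcases (show Nat.card π.ker = 1 ∨ Nat.card π.ker = 2 by omega) with e | e <;> rw [e] at h3
  · rw [pow_one] at h3; simp [h3]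
  · exact h3

theorem cen_of_comm (hr : 5 ≤ r) {N : Subgroup H} (h : ∀ g : H, ∀ a ∈ N, ⁅g, a⁆ ∈ center H) : N ≤ center H := by
  have h2 : ⁅(⊤ : Subgroup H), N⁆ ≤ center H := commutator_le.2 fun g _ a ha => h g a ha
  have h3 : ⁅⁅(⊤ : Subgroup H), N⁆, (⊤ : Subgroup H)⁆ = ⊥ := by
    rw [commutator_eq_bot_iff_le_centralizer, coe_top, centralizer_univ]; exact h2
  have := commutator_commutator_eq_bot_of_rotate h3 (by rwa [commutator_comm N])
  rwa [perf hs hmin hr, commutator_comm, commutator_eq_bot_iff_le_centralizer, coe_top, centralizer_univ] at this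

theorem chief (hr : 9 ≤ r) {l : ℕ} [Fact l.Prime] {N : Subgroup H} [hNn : N.Normal] (hP : IsPGroup l N) (hNc : ¬ N ≤ center H)
    (hm : ∀ X : Subgroup H, X.Normal → X ≤ N → X ≠ N → X ≤ center H) :
    (∀ a ∈ N, ∀ b ∈ N, ⁅a, b⁆ ∈ center H) ∧ (∀ a ∈ N, a ^ l ∈ center H) ∧
      l ^ (r - 2) ≤ Nat.card (N.map (QuotientGroup.mk' (center H))) := by
  have hC : ∀ a ∈ N, ∀ b ∈ N, ⁅a, b⁆ ∈ center H := fun a ha b hb => by
    have : Nontrivial N := (N.nontrivial_iff_ne_bot).2 fun e => hNc (e ▸ bot_le)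
    have := hP.isNilpotent
    refine hm ⁅N, N⁆ inferInstance (commutator_le_right N N) (fun e => ?_) (commutator_mem_commutator ha hb)
    have := isPerfect_iff.2 e
    exact Group.IsPerfect.not_isNilpotent N inferInstance
  set M := N.map (QuotientGroup.mk' (center H)) with hM
  have : M.Normal := hNn.map _ (QuotientGroup.mk'_surjective _)
  have hMc : ∀ a ∈ M, ∀ b ∈ M, a * b = b * a := by
    rintro _ ⟨a, ha, rfl⟩ _ ⟨b, hb, rfl⟩
    rw [← commutatorElement_eq_one_iff_mul_comm, ← map_commutatorElement]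
    exact (QuotientGroup.eq_one_iff _).2 (hC a ha b hb)
  have hMl : ∀ a ∈ M, a ^ l = 1 := by
    let O : Subgroup (H ⧸ center H) :=
      { carrier := {a | a ∈ M ∧ a ^ l = 1}
        one_mem' := ⟨one_mem _, one_pow l⟩
        mul_mem' := fun {a b} ha hb => ⟨mul_mem ha.1 hb.1, by
          rw [(show Commute a b from hMc a ha.1 b hb.1).mul_pow, ha.2, hb.2, one_mul]⟩
        inv_mem' := fun {a} ha => ⟨inv_mem ha.1, by rw [inv_pow, ha.2, inv_one]⟩ }
    have : O.Normal := ⟨fun a ha g => ⟨Normal.conj_mem inferInstance a ha.1 g, by rw [conj_pow, ha.2]; group⟩⟩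
    have h1 : N ⊓ O.comap (QuotientGroup.mk' (center H)) = N := by
      by_contra e
      have h2 := hm _ inferInstance inf_le_left e
      obtain ⟨a, ha, ha'⟩ := SetLike.not_le_iff_exists.1 hNc
      obtain ⟨j, hj⟩ := isPGroup_iff_mem.1 hP a ha
      induction j generalizing a with
      | zero => exact ha' (by rw [show a = 1 by simpa using hj]; exact one_mem _)
      | succ j ihj =>
        refine ihj (a ^ l) (N.pow_mem ha l) (fun e => ha' (h2 ⟨ha, mem_map_of_mem _ ha, ?_⟩))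
          (by rw [← pow_mul, ← pow_succ', hj])
        rw [← map_pow]; exact (QuotientGroup.eq_one_iff _).2 e
    rintro _ ⟨a, ha, rfl⟩
    exact (h1.ge ha).2.2
  obtain ⟨d, σ, hd, hσ⟩ := exists_rep (QuotientGroup.mk' (center H)) M hMc l hMl
  have h1 := red cen _ l (AlgebraicClosure (ZMod l)) H (Nat.lt_succ_self _) r hr π hs _ σ
    (le_ker hs hmin (by omega) _ inferInstance fun e => hNc (cen_of_comm hs hmin (by omega) fun g a ha => by
      rw [← QuotientGroup.eq_one_iff, ← QuotientGroup.mk'_apply, map_commutatorElement, commutatorElement_def,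
        (hσ g).1 (e.ge (mem_top g)) _ (mem_map_of_mem _ ha), mul_inv_cancel]))
  rw [Module.finrank_fin_fun] at h1
  refine ⟨hC, fun a ha => (QuotientGroup.eq_one_iff _).1 (hMl _ (mem_map_of_mem _ ha)), ?_⟩
  rw [hd]
  exact Nat.pow_le_pow_right (Fact.out : l.Prime).pos (by split_ifs at h1 <;> omega)

end

variable {k : Type} [Field k] [IsAlgClosed k] (p : ℕ) [Fact p.Prime] [CharP k p]
  {V : Type} [AddCommGroup V] [Module k V] [FiniteDimensional k V] {H : Type u} [Group H] [Finite H]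

omit [IsAlgClosed k] [Finite H] in
theorem exists_irr (ρ : Representation k H V) (U : Submodule k V) (h0 : U ≠ ⊥) (hU : ∀ g, ∀ v ∈ U, ρ g v ∈ U) :
    ∃ (W : Submodule k V) (σ : Representation k H W), W ≤ U ∧ Nontrivial W ∧ (∀ g v, (σ g v).1 = ρ g v) ∧
      ∀ W' : Submodule k W, (∀ g, ∀ v ∈ W', σ g v ∈ W') → W' = ⊥ ∨ W' = ⊤ := by
  obtain ⟨W, ⟨h1, h2, h3⟩, h4⟩ := WellFounded.has_min wellFounded_lt
    {W : Submodule k V | W ≤ U ∧ W ≠ ⊥ ∧ ∀ g, ∀ v ∈ W, ρ g v ∈ W} ⟨U, le_rfl, h0, hU⟩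
  refine ⟨W, ρ.subrepresentation W h3, h1, Submodule.nontrivial_iff_ne_bot.2 h2, fun _ _ => rfl, fun W' h => ?_⟩
  by_contra e
  push Not at e
  refine h4 (W'.map W.subtype) ⟨(Submodule.map_subtype_le _ _).trans h1, fun t => e.1 ?_, ?_⟩
    (lt_of_le_of_ne (Submodule.map_subtype_le _ _) fun t => e.2 ?_)
  · exact Submodule.map_injective_of_injective W.injective_subtype (t.trans (Submodule.map_bot _).symm)
  · rintro g _ ⟨v, hv, rfl⟩
    exact ⟨_, h g v hv, rfl⟩
  · exact Submodule.map_injective_of_injective W.injective_subtype (t.trans (Submodule.map_subtype_top W).symm)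

theorem card_le_sq' {ρ : Representation k H V} (hirr : ∀ W : Submodule k V, (∀ g, ∀ v ∈ W, ρ g v ∈ W) → W = ⊥ ∨ W = ⊤)
    [Nontrivial V] (N : Subgroup H) (h1 : ∀ a ∈ N, ∀ b ∈ N, ⁅a, b⁆ ∈ center H)
    (h2 : ∀ a ∈ N, (∀ b ∈ N, ρ ⁅b, a⁆ = 1) → a ∈ center H) :
    Nat.card (N.map (QuotientGroup.mk' (center H))) ≤ finrank k V ^ 2 := by
  choose s hs hs' using fun m : N.map (QuotientGroup.mk' (center H)) => mem_map.1 m.2
  choose c hc using fun (m : N.map (QuotientGroup.mk' (center H))) (y : N) =>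
    scalar_of_central hirr (h1 y y.2 (s m) (hs m))
  rw [sq, ← Module.finrank_linearMap]
  refine card_le (V := V →ₗ[k] V) (fun y : N => (LinearMap.mulLeft k (ρ y)) * (LinearMap.mulRight k (ρ y⁻¹))) c
    (fun m m' e => ?_) fun m => ⟨ρ (s m), fun e => ?_, fun y => ?_⟩
  · apply Subtype.ext
    rw [← hs' m, ← hs' m', QuotientGroup.mk'_apply, QuotientGroup.mk'_apply, QuotientGroup.eq]
    refine h2 _ (N.mul_mem (N.inv_mem (hs m)) (hs m')) fun b hb => ?_
    have t1 : ρ ⁅b, s m⁆ = ρ ⁅b, s m'⁆ := LinearMap.ext fun v => by rw [hc m ⟨b, hb⟩, hc m' ⟨b, hb⟩, e]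
    rw [show ⁅b, (s m)⁻¹ * s m'⁆ = (s m)⁻¹ * ⁅b, s m⁆⁻¹ * ⁅b, s m'⁆ * s m by simp only [commutatorElement_def]; group,
      map_mul, map_mul, ← t1, ← map_mul, ← map_mul, inv_mul_cancel_right, inv_mul_cancel, map_one]
  · obtain ⟨v, hv⟩ := exists_ne (0 : V)
    have := congrArg (fun f => (ρ (s m)⁻¹ * f) v) e
    simp only [← map_mul, inv_mul_cancel, map_one, mul_zero, End.one_apply, LinearMap.zero_apply] at this
    exact hv this
  · ext v
    have := hc m y (ρ (s m) v)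
    rw [← End.mul_apply, ← map_mul, commutatorElement_def, inv_mul_cancel_right, map_mul, map_mul] at this
    simpa [mul_assoc] using this

theorem exists_elem {r : ℕ} (hr : 9 ≤ r) {π : H →* alternatingGroup (Fin r)} (hs : Function.Surjective π)
    (hmin : ∀ X : Subgroup H, X.map π = ⊤ → X = ⊤) (ρ : Representation k H V) (hρ : Function.Injective ρ)
    {l : ℕ} [Fact l.Prime] (hl : l ≠ p) (hV : finrank k V ^ 2 < l ^ (r - 2)) {P : Subgroup H} (hP : Syl l P π.ker)
    (hc : ¬ P ≤ center H) : ∃ N : Subgroup H, N.Normal ∧ N ≤ π.ker ∧ (∀ a ∈ N, a ^ l = 1) ∧ l ^ (r - 2) ≤ Nat.card N := by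
  obtain ⟨N, ⟨hNn, hNK, hNc⟩, hNm⟩ := WellFounded.has_min wellFounded_lt
    {X : Subgroup H | X.Normal ∧ X ≤ P ∧ ¬ X ≤ center H} ⟨P, syl_normal hs hmin hP, le_rfl, hc⟩
  have hm : ∀ X : Subgroup H, X.Normal → X ≤ N → X ≠ N → X ≤ center H := fun X h1 h2 h3 => by
    by_contra e
    exact hNm X ⟨h1, h2.trans hNK, e⟩ (lt_of_le_of_ne h2 h3)
  have hN := hP.isPGroup.to_le hNK
  obtain ⟨h1, h2, h3⟩ := chief hs hmin hr hN hNc hm
  by_cases hab : ∀ a ∈ N, ∀ b ∈ N, a * b = b * a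
  · let O : Subgroup H :=
      { carrier := {a | a ∈ N ∧ a ^ l = 1}
        one_mem' := ⟨one_mem _, one_pow l⟩
        mul_mem' := fun {a b} ha hb => ⟨mul_mem ha.1 hb.1, by
          rw [(show Commute a b from hab a ha.1 b hb.1).mul_pow, ha.2, hb.2, one_mul]⟩
        inv_mem' := fun {a} ha => ⟨inv_mem ha.1, by rw [inv_pow, ha.2, inv_one]⟩ }
    have h4 : O = N := by_contra fun e => hNc (cen_of_comm hs hmin (by omega) fun g a ha => hm O
      ⟨fun a ha g => ⟨hNn.conj_mem a ha.1 g, by rw [conj_pow, ha.2]; group⟩⟩ (fun _ h => h.1) e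
      ⟨mul_mem (hNn.conj_mem a ha g) (inv_mem ha), by
        rw [commutatorElement_def, (show Commute _ _ from hab _ (hNn.conj_mem a ha g) _ (inv_mem ha)).mul_pow, conj_pow,
          mem_center_iff.1 (h2 a ha) g]; group⟩)
    exact ⟨N, hNn, hNK.trans hP.le, fun a ha => (h4.ge ha).2, h3.trans (Nat.le_of_dvd Nat.card_pos (card_map_dvd _ _))⟩
  exfalso
  push Not at hab
  obtain ⟨a, ha, b, hb, hab⟩ := hab
  obtain ⟨j, hj⟩ := isPGroup_iff_mem.1 hN _ (commutator_le_right N N (commutator_mem_commutator hb ha))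
  obtain ⟨_, ⟨w, rfl⟩, hv, χ, hχ⟩ := exists_joint (fun _ : Unit => ρ ⁅b, a⁆) (fun _ _ => rfl) (LinearMap.range (ρ ⁅b, a⁆ - 1))
    (fun e => hab (commutatorElement_eq_one_iff_mul_comm.1 (hρ ((sub_eq_zero.1 (LinearMap.range_eq_bot.1 e)).trans
      (map_one ρ).symm))).symm) (by
      rintro j _ ⟨w, rfl⟩
      exact ⟨ρ ⁅b, a⁆ w, by simp⟩)
  have h5 : χ () ≠ 1 := fun e => hv ((smul_eq_zero.1 (fix_im (l := l ^ j) (by rw [← map_pow, hj, map_one])
    (by simpa [e] using hχ ()))).resolve_left fun e => hl ((Nat.prime_dvd_prime_iff_eq Fact.out Fact.out).1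
      ((Fact.out : p.Prime).dvd_of_dvd_pow ((CharP.cast_eq_zero_iff k p _).1 e))).symm)
  obtain ⟨W, σ, t1, t2, t3, t4⟩ := exists_irr ρ (End.eigenspace (ρ ⁅b, a⁆) (χ ()))
    ((Submodule.ne_bot_iff _).2 ⟨_, End.mem_eigenspace_iff.2 (hχ ()), hv⟩) fun g v hv => End.mem_eigenspace_iff.2 (by
      rw [← mul_ap, ← mem_center_iff.1 (h1 b hb a ha), mul_ap, End.mem_eigenspace_iff.1 hv, map_smul])
  have : (N.map (QuotientGroup.mk' σ.ker)).Normal := hNn.map _ (QuotientGroup.mk'_surjective _)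
  have h6 := hm (N ⊓ (centralizer (N.map (QuotientGroup.mk' σ.ker) : Set (H ⧸ σ.ker))).comap (QuotientGroup.mk' σ.ker))
    inferInstance inf_le_left fun e => by
      have s1 := (e.ge ha).2 _ (mem_map_of_mem _ hb)
      rw [← commutatorElement_eq_one_iff_mul_comm, ← map_commutatorElement] at s1
      obtain ⟨v, hv⟩ := exists_ne (0 : W)
      have s2 := t3 ⁅b, a⁆ v
      rw [show σ ⁅b, a⁆ = 1 from (QuotientGroup.eq_one_iff _).1 s1, End.mem_eigenspace_iff.1 (t1 v.2)] at s2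
      exact h5 (smul_left_injective k (fun e => hv (Subtype.ext e)) (s2.symm.trans (one_smul k _).symm))
  have h7 := card_le_sq' t4 N h1 fun x hx h => h6 ⟨hx, by
    rintro _ ⟨y, hy, rfl⟩
    rw [← commutatorElement_eq_one_iff_mul_comm, ← map_commutatorElement]
    exact (QuotientGroup.eq_one_iff _).2 (h y hy)⟩
  exact hV.not_ge (h3.trans (h7.trans (Nat.pow_le_pow_left (Submodule.finrank_le W) 2)))

omit [IsAlgClosed k] [FiniteDimensional k V] in
theorem le_ker_of_irr {ρ : Representation k H V} (hirr : ∀ W : Submodule k V, (∀ g, ∀ v ∈ W, ρ g v ∈ W) → W = ⊥ ∨ W = ⊤)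
    [Nontrivial V] {P : Subgroup H} [hn : P.Normal] (hP : IsPGroup p P) : P ≤ ρ.ker := by
  obtain ⟨v, h0, hv⟩ := Block2.exists_fixed_ne_zero hP (ρ.comp P.subtype)
  let U : Submodule k V :=
    { carrier := {w | ∀ n ∈ P, ρ n w = w}
      zero_mem' := fun n _ => by simp
      add_mem' := fun {a b} ha hb n hn => by rw [map_add, ha n hn, hb n hn]
      smul_mem' := fun c a ha n hn => by rw [map_smul, ha n hn] }
  have hU := (hirr U fun g w hw n h => by
    rw [← mul_ap, show n * g = g * (g⁻¹ * n * g⁻¹⁻¹) by group, mul_ap, hw _ (hn.conj_mem n h _)]).resolve_left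
    ((Submodule.ne_bot_iff _).2 ⟨v, fun n h => hv ⟨n, h⟩, h0⟩)
  exact fun n h => LinearMap.ext fun w => (hU.ge (Submodule.mem_top (x := w)) : w ∈ U) n h

omit [CharP k p] in
/-- Factoring out the Sylow `p`-subgroup of the kernel. -/
theorem exists_bar {r : ℕ} (hr : 8 ≤ r) {π : H →* alternatingGroup (Fin r)} (hs : Function.Surjective π)
    (hmin : ∀ X : Subgroup H, X.map π = ⊤ → X = ⊤)
    (h : ∀ (l : ℕ) [Fact l.Prime], l ≠ p → ∀ P, Syl l P π.ker → P ≤ center H) :
    ∃ (P : Subgroup H) (_ : P.Normal) (π' : H ⧸ P →* alternatingGroup (Fin r)), IsPGroup p P ∧ (∀ x : H, π' x = π x) ∧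
      Function.Surjective π' ∧ Z2 π' ∧ ∀ X : Subgroup (H ⧸ P), X.map π' = ⊤ → X = ⊤ := by
  obtain ⟨P, hP⟩ := exists_syl p π.ker
  have := syl_normal hs hmin hP
  let π' := QuotientGroup.lift P π hP.le
  have h1 : Function.Surjective π' := fun a => by
    obtain ⟨x, rfl⟩ := hs a
    exact ⟨x, rfl⟩
  have h2 : ∀ X : Subgroup (H ⧸ P), X.map π' = ⊤ → X = ⊤ := fun X hX => by
    rw [← map_comap_eq_self_of_surjective (QuotientGroup.mk'_surjective P) X, map_map] at hX
    rw [← map_comap_eq_self_of_surjective (QuotientGroup.mk'_surjective P) X, hmin _ hX,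
      map_top_of_surjective _ (QuotientGroup.mk'_surjective P)]
  refine ⟨P, this, π', hP.isPGroup, fun _ => rfl, h1, z2_of h1 h2 hr fun x hx => ?_, h2⟩
  obtain ⟨x, rfl⟩ := QuotientGroup.mk'_surjective P x
  refine relIndex_eq_one.1 (by_contra fun e => ?_ : ((center (H ⧸ P)).comap (QuotientGroup.mk' P)).relIndex π.ker = 1) hx
  obtain ⟨l, hl, hd⟩ := Nat.exists_prime_and_dvd e
  have := Fact.mk hl
  by_cases e : l = p
  · subst e
    exact hP.not_dvd_relIndex_of_le (fun y hy => by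
      rw [mem_comap, QuotientGroup.mk'_apply, (QuotientGroup.eq_one_iff _).2 hy]; exact one_mem _) hd
  obtain ⟨Q, hQ⟩ := exists_syl l π.ker
  refine hQ.not_dvd_relIndex_of_le (H := (center (H ⧸ P)).comap (QuotientGroup.mk' P))
    (fun y hy => mem_comap.2 (mem_center_iff.2 fun g => ?_)) hd
  obtain ⟨g, rfl⟩ := QuotientGroup.mk'_surjective P g
  rw [← map_mul, mem_center_iff.1 (h l e Q hQ hy), map_mul]

theorem card_sup_mul {G : Type*} [Group G] [Finite G] (N A : Subgroup G) [N.Normal] :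
    Nat.card (N ⊔ A : Subgroup G) * Nat.card (N ⊓ A : Subgroup G) = Nat.card N * Nat.card A := by
  have h : ∀ X Y : Subgroup G, X ≤ Y → Nat.card Y = X.relIndex Y * Nat.card X := fun X Y h => by
    rw [relIndex, ← Nat.card_congr (subgroupOfEquivOfLe h).toEquiv, index_mul_card]
  rw [h N _ le_sup_left, h (N ⊓ A) A inf_le_right, relIndex_sup_left, inf_relIndex_right]; ring

/-- An elementary abelian group of order 27. -/
def f27 : Multiplicative (ZMod 3 × ZMod 3 × ZMod 3) →* alternatingGroup (Fin 9) :=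
  (MonoidHom.mk' (fun v => c[0, 1, 2] ^ v.toAdd.1.val * c[3, 4, 5] ^ v.toAdd.2.1.val * c[6, 7, 8] ^ v.toAdd.2.2.val)
    (by decide +kernel)).codRestrict _ fun v => Perm.mem_alternatingGroup.2 (by revert v; decide +kernel)

theorem syl3_not_comm {r : ℕ} (hr : 9 ≤ r) {T : Subgroup (alternatingGroup (Fin r))} (hT : Syl 3 T ⊤) :
    ¬ ∀ a ∈ T, ∀ b ∈ T, a * b = b * a := fun h => by
  let y : alternatingGroup (Fin 9) := ⟨c[0, 3, 6] * c[1, 4, 7] * c[2, 5, 8], Perm.mem_alternatingGroup.2 (by decide +kernel)⟩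
  have h1 : IsPGroup 3 (f27.range ⊔ zpowers y : Subgroup _) := IsPGroup.to_sup_of_normal_left'
    (isPGroup_iff_mem.2 (by rintro _ ⟨v, rfl⟩; exact ⟨1, by revert v; decide +kernel⟩))
    (isPGroup_zpowers_of_pow (k := 1) (by decide +kernel)) (zpowers_le.2 (mem_normalizer_of_cj_le (by
      rintro _ ⟨_, ⟨v, rfl⟩, rfl⟩
      change ∃ w, f27 w = y * f27 v * y⁻¹
      revert v; decide +kernel)))
  let ι := emb (Fin.castLEEmb hr)
  obtain ⟨g, -, hg⟩ := hT.exists_conj_le (h1.map ι) le_top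
  have h2 := h _ (hg ⟨_, ⟨_, mem_sup_left ⟨Multiplicative.ofAdd (1, 0, 0), rfl⟩, rfl⟩, rfl⟩) _
    (hg ⟨_, ⟨_, mem_sup_right (mem_zpowers y), rfl⟩, rfl⟩)
  rw [← map_mul, ← map_mul, ← map_mul, ← map_mul] at h2
  exact absurd (emb_inj _ ((MulAut.conj g).injective h2)) (by decide +kernel)

theorem card_alt_dvd (r : ℕ) : Nat.card (alternatingGroup (Fin r)) ∣ r.factorial := by
  have := card_subgroup_dvd_card (alternatingGroup (Fin r))
  rwa [Nat.card_perm, Nat.card_eq_fintype_card (α := Fin r), Fintype.card_fin] at this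

theorem abs12 (hp : 7 ≤ p) (π : H →* alternatingGroup (Fin 12)) (hs : Function.Surjective π)
    (ρ : Representation k H V) (hρ : Function.Injective ρ) (hV : finrank k V = 27)
    (h2 : ∀ y : H, y ^ 2 = 1 → y ≠ 1 → finrank k (End.eigenspace (ρ y) (-1)) = 12 ∨ finrank k (End.eigenspace (ρ y) (-1)) = 16)
    (hR : ∀ l ∈ [3, 5, 7, 11], l ≠ p → ∀ S : Subgroup H, IsPGroup l S → ∃ A ≤ S, (∀ a ∈ A, ∀ b ∈ A, a * b = b * a) ∧
      A.relIndex S ≤ (if l = 3 then 81 else l) ∧ Nat.card {a : H // a ∈ A ∧ a ^ l = 1} ≤ l ^ 6) : False := by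
  obtain ⟨X, hs', hmin⟩ := exists_min hs
  have h2' : ∀ y : X, y ^ 2 = 1 → y ≠ 1 → finrank k (End.eigenspace ((ρ.comp X.subtype) y) (-1)) = 12 ∨
      finrank k (End.eigenspace ((ρ.comp X.subtype) y) (-1)) = 16 := fun y t1 t2 =>
    h2 y (congrArg Subtype.val t1) fun e => t2 (Subtype.ext e)
  have hc : ∀ (l : ℕ) [Fact l.Prime], l ≠ p → ∀ P, Syl l P (π.comp X.subtype).ker → P ≤ center X := fun l _ hl P hP => by
    by_contra hc
    have hl2 := (Fact.out : l.Prime).two_le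
    obtain ⟨N, _, t2, t3, t4⟩ := exists_elem p (by decide) hs' hmin (ρ.comp X.subtype) (hρ.comp X.subtype_injective) hl
      (lt_of_lt_of_le (by rw [hV]; decide) (Nat.pow_le_pow_left hl2 _)) hP hc
    by_cases e2 : l = 2
    · subst e2
      have := big2 p (by omega) (ρ.comp X.subtype) hV h2' N t3
      omega
    have hl' : l ∈ [3, 5, 7, 11] := by_contra fun e => hc (syl_bot hs' hmin hP (fun t => by
      have t' := (Nat.Prime.dvd_factorial Fact.out).1 (t.trans (card_alt_dvd 12))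
      have := (Fact.out : l.Prime)
      clear t4 t hP
      interval_cases l <;> first | exact e2 rfl | exact e (by decide) | exact absurd this (by norm_num)) ▸ bot_le)
    obtain ⟨S, hS, hNS⟩ := exists_syl_ge (p := l) (isPGroup_iff_mem.2 fun a ha => ⟨1, by simpa using t3 a ha⟩) (le_top (a := N))
    obtain ⟨A, s1, s2, s3, s4⟩ := hR l hl' hl _ (hS.isPGroup.map X.subtype)
    have s5 : A.subgroupOf X ≤ S := fun a ha => by simpa using s1 ha
    have s6 : Nat.card (N ⊓ A.subgroupOf X : Subgroup X) ≤ l ^ 6 := le_trans (Nat.card_le_card_of_injective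
      (fun a => ⟨a.1.1, a.2.2, congrArg Subtype.val (t3 _ a.2.1)⟩) fun a b e =>
        Subtype.ext (Subtype.ext (congrArg (fun x : {a : H // a ∈ A ∧ a ^ l = 1} => x.1) e))) s4
    have s7 : Nat.card S ≤ (if l = 3 then 81 else l) * Nat.card (A.subgroupOf X) := by
      rw [← (A.subgroupOf X).subgroupOf S |>.index_mul_card, Nat.card_congr (subgroupOfEquivOfLe s5).toEquiv]
      exact Nat.mul_le_mul_right _ ((relIndex_comap _ _ _).trans_le s3)
    have s8 := card_sup_mul N (A.subgroupOf X)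
    have s9 : l ^ 4 * Nat.card (A.subgroupOf X) ≤ Nat.card (N ⊔ A.subgroupOf X : Subgroup X) :=
      Nat.le_of_mul_le_mul_right (c := l ^ 6) (by
        calc _ = l ^ (12 - 2) * Nat.card (A.subgroupOf X) := by ring
          _ ≤ _ := (Nat.mul_le_mul_right _ t4).trans (s8.ge.trans (Nat.mul_le_mul_left _ s6))) (by positivity)
    have s10 := card_le_of_le (sup_le hNS s5)
    split_ifs at s7 with e3
    · subst e3
      have s11 := eq_of_le_of_card_ge (sup_le hNS s5) (by omega)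
      refine syl3_not_comm (by decide) (hS.map_top hs') ?_
      rw [← s11, Subgroup.map_sup, (Subgroup.map_eq_bot_iff _).2 t2, bot_sup_eq]
      rintro _ ⟨a, ha, rfl⟩ _ ⟨b, hb, rfl⟩
      rw [← map_mul, ← map_mul, show a * b = b * a from Subtype.ext (s2 _ ha _ hb)]
    · exact absurd ((Nat.pow_lt_pow_right (a := l) (m := 1) (n := 4) (by omega) (by decide)).trans_le
        (Nat.le_of_mul_le_mul_right (s9.trans (s10.trans s7)) Nat.card_pos)) (by simp)
  rcases Nat.even_or_odd (Nat.card (π.comp X.subtype).ker) with e | e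
  · obtain ⟨⟨z, hz⟩, hz2⟩ := exists_prime_orderOf_dvd_card' 2 e.two_dvd
    rw [orderOf_mk] at hz2
    have t1 : z ^ 2 = 1 := hz2 ▸ pow_orderOf_eq_one z
    obtain ⟨Q, hQ, t2⟩ := exists_syl_ge (p := 2) (isPGroup_zpowers_of_pow (k := 1) t1) (zpowers_le.2 hz)
    have t3 := hc 2 (by omega) Q hQ (t2 (mem_zpowers z))
    have t4 := h2' z t1 fun e => by simp [e] at hz2
    obtain ⟨W, σ, s1, s2, s3, s4⟩ := exists_irr (ρ.comp X.subtype) (End.eigenspace ((ρ.comp X.subtype) z) (-1))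
      (fun e => by rw [e] at t4; simp at t4) fun g v hv => End.mem_eigenspace_iff.2 (by
        rw [← mul_ap, ← mem_center_iff.1 t3, mul_ap, End.mem_eigenspace_iff.1 hv, map_smul])
    obtain ⟨P, _, π', u1, u2, u3, u4, u5⟩ := exists_bar p (by decide) hs' hmin hc
    have := spin12 p hp π' u3 u4 u5 (QuotientGroup.lift P σ (le_ker_of_irr p s4 u1)) (z := z) ((u2 z).trans hz)
      (LinearMap.ext fun v => Subtype.ext ((s3 z v).trans (by simpa using End.mem_eigenspace_iff.1 (s1 v.2))))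
    have := Submodule.finrank_mono s1
    omega
  · exact lin8 p (by omega) (ρ.comp X.subtype) hV h2' (by decide) _ hs' e

theorem abs13 (π : H →* alternatingGroup (Fin 13)) (hs : Function.Surjective π)
    (hR : ∀ S : Subgroup H, IsPGroup 11 S → ∀ a ∈ S, ∀ b ∈ S, a * b = b * a) :
    ∃ x g : H, x ≠ 1 ∧ x ^ 11 = 1 ∧ g * x * g⁻¹ = x ^ 2 := by
  have : Fact (Nat.Prime 11) := ⟨by decide⟩
  obtain ⟨X, hs', hmin⟩ := exists_min hs
  generalize π.comp X.subtype = π' at hs' hmin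
  let c : alternatingGroup (Fin 13) := ⟨c[0, 1, 2, 3, 4, 5, 6, 7, 8, 9, 10], Perm.mem_alternatingGroup.2 (by decide +kernel)⟩
  let γ : alternatingGroup (Fin 13) := ⟨c[1, 2, 4, 8, 5, 10, 9, 7, 3, 6] * c[11, 12], Perm.mem_alternatingGroup.2 (by decide +kernel)⟩
  have h0 : c ≠ 1 ∧ c ^ 11 = 1 ∧ γ * c * γ⁻¹ = c ^ 2 := by decide +kernel
  have hR' : ∀ S : Subgroup X, IsPGroup 11 S → ∀ a ∈ S, ∀ b ∈ S, a * b = b * a := fun S hS a ha b hb =>
    Subtype.ext (hR _ (hS.map X.subtype) _ ⟨a, ha, rfl⟩ _ ⟨b, hb, rfl⟩)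
  obtain ⟨P, hP⟩ := exists_syl 11 ((zpowers c).comap π')
  have p1 : P.map π' = zpowers c := by
    have := hP.map π'
    rw [Subgroup.map_comap_eq_self_of_surjective hs'] at this
    exact this.eq_of_isPGroup (isPGroup_zpowers_of_pow (k := 1) h0.2.1)
  have hK : ∀ z ∈ P, π' z = 1 → z = 1 := fun z hz e => by
    obtain ⟨Q, hQ, t2⟩ := exists_syl_ge (hP.isPGroup.to_le (inf_le_left (b := π'.ker))) inf_le_right
    have := syl_normal hs' hmin hQ
    obtain ⟨S, hS, t3⟩ := exists_syl_ge hP.isPGroup le_top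
    have t4 := hS.le_of_normal hQ.isPGroup le_top le_normalizer_of_normal
    have t5 : centralizer (Q : Set X) = ⊤ := by_contra fun t => by
      obtain ⟨x, hx, e'⟩ := p1.ge (mem_zpowers c)
      exact h0.1 (e'.symm.trans (le_ker hs' hmin (by decide) _ inferInstance t fun y hy => hR' S hS.isPGroup y (t4 hy) x (t3 hx)))
    have t6 := Cfsg.Lib.Mult.pow_index_mem_commutator (H := S) (z := z)
      (mem_center_iff.2 fun g => ((t5.ge (mem_top g)) z (t2 ⟨hz, e⟩)).symm) ((perf hs' hmin (by decide)).ge (mem_top z))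
    rw [commutator_eq_bot_iff_le_centralizer.2 fun a ha b hb => hR' S hS.isPGroup b hb a ha, mem_bot] at t6
    obtain ⟨j, hj⟩ := isPGroup_iff_mem.1 hP.isPGroup z hz
    exact orderOf_eq_one_iff.1 (Nat.eq_one_of_dvd_coprimes (((Nat.Prime.coprime_iff_not_dvd Fact.out).2
      hS.not_dvd_index).pow_left j) (orderOf_dvd_of_pow_eq_one hj) (orderOf_dvd_of_pow_eq_one t6))
  obtain ⟨x, hx, e⟩ := p1.ge (mem_zpowers c)
  obtain ⟨g, hg⟩ := hs' γ
  obtain ⟨n, hn, a, ha, rfl⟩ := hP.frattini_mem (g := g) fun y => by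
    have : γ ∈ normalizer (zpowers c : Set _) := mem_normalizer_of_cj_le (by
      rw [cj_zpowers, h0.2.2]; exact zpowers_le.2 (pow_mem (mem_zpowers c) 2))
    simpa [hg] using this (π' y)
  obtain ⟨q, hq, e'⟩ := p1.ge hn
  refine ⟨x, q * a, fun t => h0.1 (by rw [← e, show x = 1 from Subtype.ext t, map_one]),
    congrArg Subtype.val (hK _ (pow_mem hx 11) (by rw [map_pow, e, h0.2.1])), congrArg Subtype.val
      (show q * a * x * (q * a)⁻¹ = x ^ 2 from mul_inv_eq_one.1 (hK _ (mul_mem ((mul_mem (P.le_normalizer hq) ha x).1 hx)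
        (inv_mem (pow_mem hx 2))) ?_))⟩
  have : π' (q * a) = γ := by rw [map_mul, e', ← map_mul, hg]
  rw [map_mul, map_mul, map_mul, map_inv, map_inv, map_pow, this, e, h0.2.2, mul_inv_cancel]

end Cfsg.Lib.AltDeg
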