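import Cfsg.Agent.Lib.Linear.CubC

/-! Weights of the 27-dimensional module. -/

set_option autoImplicit false

namespace Cfsg.Lib.AltE6

open Cfsg.Lie Cfsg.Lib.Linear.Cub

def Bs : Fin 6 → I27 := ![(0,0,0), (0,0,1), (0,0,2), (0,1,0), (1,0,0), (1,0,1)]

def Cf (i : Fin 6) : I27 → ℤ := tz (match i with
    | 0 => [1, 0, 0, 0, -1, -1, 1, 0, 0, 0, 0, -2, 1, 1, -1, 1, 1, -1, -1, 0, -1, -1, 0, -1, 1, 2, 1]
    | 1 => [0, 1, 0, 0, 1, 0, -1, 0, -1, 0, 0, 1, -1, -1, 0, 0, 0, 1, 0, 0, 1, 0, 0, 1, -1, -1, 0]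
    | 2 => [0, 0, 1, 0, 0, 1, -1, -1, 0, 0, 0, 1, 0, 0, 1, -1, -1, 0, 0, 0, 1, 0, 0, 1, -1, -1, 0]
    | 3 => [0, 0, 0, 1, 1, 1, -1, -1, -1, 0, 0, 0, 0, 0, 0, 0, 0, 0, 0, -1, 1, 0, -1, 1, 0, -1, 1]
    | 4 => [0, 0, 0, 0, 0, 0, 0, 0, 0, 1, 0, -1, 1, 0, -1, 1, 0, -1, -1, -1, -1, 0, 0, 0, 1, 1, 1]
    | 5 => [0, 0, 0, 0, 0, 0, 0, 0, 0, 0, 1, -1, 0, 1, -1, 0, 1, -1, 0, 0, 0, -1, -1, -1, 1, 1, 1])

theorem clos {P : I27 → Prop} (h : ∀ a b, nb a b = true → P a → P b → P (thd a b)) (hB : ∀ i, P (Bs i)) (a : I27) : P a := by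
  have h000 : P (0,0,0) := hB 0
  have h001 : P (0,0,1) := hB 1
  have h002 : P (0,0,2) := hB 2
  have h010 : P (0,1,0) := hB 3
  have h100 : P (1,0,0) := hB 4
  have h101 : P (1,0,1) := hB 5
  have h200 : P (2,0,0) := h (0,0,0) (1,0,0) rfl h000 h100
  have h210 : P (2,1,0) := h (0,0,0) (1,0,1) rfl h000 h101
  have h022 : P (0,2,2) := h (0,0,1) (0,1,0) rfl h001 h010
  have h110 : P (1,1,0) := h (0,0,1) (2,0,0) rfl h001 h200
  have h111 : P (1,1,1) := h (0,0,1) (2,1,0) rfl h001 h210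
  have h021 : P (0,2,1) := h (0,0,2) (0,1,0) rfl h002 h010
  have h120 : P (1,2,0) := h (0,0,2) (2,0,0) rfl h002 h200
  have h121 : P (1,2,1) := h (0,0,2) (2,1,0) rfl h002 h210
  have h201 : P (2,0,1) := h (0,1,0) (1,0,0) rfl h010 h100
  have h211 : P (2,1,1) := h (0,1,0) (1,0,1) rfl h010 h101
  have h122 : P (1,2,2) := h (1,0,0) (1,1,1) rfl h100 h111
  have h112 : P (1,1,2) := h (1,0,0) (1,2,1) rfl h100 h121
  have h011 : P (0,1,1) := h (0,0,0) (0,2,2) rfl h000 h022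
  have h012 : P (0,1,2) := h (0,0,0) (0,2,1) rfl h000 h021
  have h220 : P (2,2,0) := h (0,0,1) (1,1,2) rfl h001 h112
  have h020 : P (0,2,0) := h (0,0,1) (0,1,2) rfl h001 h012
  have h202 : P (2,0,2) := h (1,0,0) (0,2,0) rfl h100 h020
  have h212 : P (2,1,2) := h (1,0,1) (0,2,0) rfl h101 h020
  have h222 : P (2,2,2) := h (2,0,0) (2,1,1) rfl h200 h211
  have h221 : P (2,2,1) := h (2,0,0) (2,1,2) rfl h200 h212
  have h102 : P (1,0,2) := h (1,1,0) (1,2,1) rfl h110 h121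
  obtain ⟨a, b, c⟩ := a
  fin_cases a <;> fin_cases b <;> fin_cases c <;> assumption

theorem fin11 {s2 s3 s4 s5 s6 s7 s8 s10 e2 e3 e4 e5 e6 Y : ZMod 11} (n2 : s2 = -2 * e2) (n3 : s3 = 3 * e3)
    (n4 : s4 = -e2 * s2 - 4 * e4) (n5 : s5 = -e2 * s3 + e3 * s2 + 5 * e5) (n6 : s6 = -e2 * s4 + e3 * s3 - e4 * s2 - 6 * e6)
    (n7 : s7 = -e2 * s5 + e3 * s4 - e4 * s3 + e5 * s2) (n8 : s8 = -e2 * s6 + e3 * s5 - e4 * s4 + e5 * s3 - e6 * s2)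
    (n10 : s10 = -e2 * s8 + e3 * s7 - e4 * s6 + e5 * s5 - e6 * s4) (h2 : 12 * s2 + 24 * Y = 0)
    (h5 : 24 * s5 + 40 * s3 * Y - 20 * s2 * s3 = 0) :
    4 * (s10 + 45 * s8 * Y + 210 * s6 * Y ^ 2 + 210 * s4 * Y ^ 3 + 45 * s2 * Y ^ 4 + 6 * Y ^ 5) +
      (12 * s10 + 90 * s2 * s8 + 240 * s3 * s7 + 420 * s4 * s6 + 252 * s5 ^ 2 - 1024 * s10) = 0 := by
  have h11 : (11 : ZMod 11) = 0 := rfl
  subst n2 n3
  obtain rfl : Y = e2 := by linear_combination 6 * h2 - 13 * (Y - e2) * h11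
  subst n5
  obtain rfl : e5 = -Y * e3 := by linear_combination -h5 + 11 * (e5 + Y * e3) * h11
  subst n4 n6 n7 n8 n10
  ring

theorem pow11 (e : I27 → ZMod 11) (r : ∀ a b, nb a b = true → e a + e b + e (thd a b) = 0) (h2 : ∑ a, e a ^ 2 = 0)
    (h5 : ∑ a, e a ^ 5 = 0) : 2 * ∑ a, e a ^ 10 = 0 := by
  have h11 : (11 : ZMod 11) = 0 := rfl
  obtain ⟨y, hy⟩ : ∃ y, y = 6 * (e (0,0,0) - e (0,1,0)) := ⟨_, rfl⟩
  obtain ⟨x0, h000⟩ : ∃ x, e (0,0,0) = x + y := ⟨_, (sub_add_cancel _ _).symm⟩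
  obtain ⟨x1, h001⟩ : ∃ x, e (0,0,1) = x + y := ⟨_, (sub_add_cancel _ _).symm⟩
  obtain ⟨x2, h002⟩ : ∃ x, e (0,0,2) = x + y := ⟨_, (sub_add_cancel _ _).symm⟩
  obtain ⟨x3, h100⟩ : ∃ x, e (1,0,0) = -(x0 + x) := ⟨-e (1,0,0) - x0, by ring⟩
  obtain ⟨x4, h101⟩ : ∃ x, e (1,0,1) = -(x0 + x) := ⟨-e (1,0,1) - x0, by ring⟩
  obtain ⟨x5, hs⟩ : ∃ x, x0 + x1 + x2 + x3 + x4 + x = 0 := ⟨_, add_neg_cancel _⟩
  have h010 : e (0,1,0) = x0 - y := by linear_combination h000 + 2 * hy + (e (0,0,0) - e (0,1,0)) * h11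
  have h200 : e (2,0,0) = (x3 - y) := by
    have t : e (0,0,0) + e (1,0,0) + e (2,0,0) = 0 := r (0,0,0) (1,0,0) rfl
    linear_combination t - h000 - h100
  have h210 : e (2,1,0) = (x4 - y) := by
    have t : e (0,0,0) + e (1,0,1) + e (2,1,0) = 0 := r (0,0,0) (1,0,1) rfl
    linear_combination t - h000 - h101
  have h022 : e (0,2,2) = (-(x0 + x1)) := by
    have t : e (0,0,1) + e (0,1,0) + e (0,2,2) = 0 := r (0,0,1) (0,1,0) rfl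
    linear_combination t - h001 - h010
  have h110 : e (1,1,0) = (-(x1 + x3)) := by
    have t : e (0,0,1) + e (2,0,0) + e (1,1,0) = 0 := r (0,0,1) (2,0,0) rfl
    linear_combination t - h001 - h200
  have h111 : e (1,1,1) = (-(x1 + x4)) := by
    have t : e (0,0,1) + e (2,1,0) + e (1,1,1) = 0 := r (0,0,1) (2,1,0) rfl
    linear_combination t - h001 - h210
  have h021 : e (0,2,1) = (-(x0 + x2)) := by
    have t : e (0,0,2) + e (0,1,0) + e (0,2,1) = 0 := r (0,0,2) (0,1,0) rfl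
    linear_combination t - h002 - h010
  have h120 : e (1,2,0) = (-(x2 + x3)) := by
    have t : e (0,0,2) + e (2,0,0) + e (1,2,0) = 0 := r (0,0,2) (2,0,0) rfl
    linear_combination t - h002 - h200
  have h121 : e (1,2,1) = (-(x2 + x4)) := by
    have t : e (0,0,2) + e (2,1,0) + e (1,2,1) = 0 := r (0,0,2) (2,1,0) rfl
    linear_combination t - h002 - h210
  have h201 : e (2,0,1) = (x3 + y) := by
    have t : e (0,1,0) + e (1,0,0) + e (2,0,1) = 0 := r (0,1,0) (1,0,0) rfl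
    linear_combination t - h010 - h100
  have h211 : e (2,1,1) = (x4 + y) := by
    have t : e (0,1,0) + e (1,0,1) + e (2,1,1) = 0 := r (0,1,0) (1,0,1) rfl
    linear_combination t - h010 - h101
  have h122 : e (1,2,2) = (-(x2 + x5)) := by
    have t : e (1,0,0) + e (1,1,1) + e (1,2,2) = 0 := r (1,0,0) (1,1,1) rfl
    linear_combination t - h100 - h111 + hs
  have h112 : e (1,1,2) = (-(x1 + x5)) := by
    have t : e (1,0,0) + e (1,2,1) + e (1,1,2) = 0 := r (1,0,0) (1,2,1) rfl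
    linear_combination t - h100 - h121 + hs
  have h011 : e (0,1,1) = (x1 - y) := by
    have t : e (0,0,0) + e (0,2,2) + e (0,1,1) = 0 := r (0,0,0) (0,2,2) rfl
    linear_combination t - h000 - h022
  have h012 : e (0,1,2) = (x2 - y) := by
    have t : e (0,0,0) + e (0,2,1) + e (0,1,2) = 0 := r (0,0,0) (0,2,1) rfl
    linear_combination t - h000 - h021
  have h220 : e (2,2,0) = (x5 - y) := by
    have t : e (0,0,1) + e (1,1,2) + e (2,2,0) = 0 := r (0,0,1) (1,1,2) rfl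
    linear_combination t - h001 - h112
  have h020 : e (0,2,0) = (-(x1 + x2)) := by
    have t : e (0,0,1) + e (0,1,2) + e (0,2,0) = 0 := r (0,0,1) (0,1,2) rfl
    linear_combination t - h001 - h012
  have h202 : e (2,0,2) = (-(x4 + x5)) := by
    have t : e (1,0,0) + e (0,2,0) + e (2,0,2) = 0 := r (1,0,0) (0,2,0) rfl
    linear_combination t - h100 - h020 + hs
  have h212 : e (2,1,2) = (-(x3 + x5)) := by
    have t : e (1,0,1) + e (0,2,0) + e (2,1,2) = 0 := r (1,0,1) (0,2,0) rfl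
    linear_combination t - h101 - h020 + hs
  have h222 : e (2,2,2) = (-(x3 + x4)) := by
    have t : e (2,0,0) + e (2,1,1) + e (2,2,2) = 0 := r (2,0,0) (2,1,1) rfl
    linear_combination t - h200 - h211
  have h221 : e (2,2,1) = (x5 + y) := by
    have t : e (2,0,0) + e (2,1,2) + e (2,2,1) = 0 := r (2,0,0) (2,1,2) rfl
    linear_combination t - h200 - h212
  have h102 : e (1,0,2) = (-(x0 + x5)) := by
    have t : e (1,1,0) + e (1,2,1) + e (1,0,2) = 0 := r (1,1,0) (1,2,1) rfl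
    linear_combination t - h110 - h121 + hs
  simp only [Fintype.sum_prod_type, Fin.sum_univ_three, h000, h001, h002, h010, h011, h012, h020, h021, h022, h100, h101, h102, h110, h111, h112, h120, h121, h122, h200, h201, h202, h210, h211, h212, h220, h221, h222] at h2 h5 ⊢
  have := fin11 (Y := y ^ 2) (s2 := (x0 ^ 2 + x1 ^ 2 + x2 ^ 2 + x3 ^ 2 + x4 ^ 2 + x5 ^ 2)) (s3 := (x0 ^ 3 + x1 ^ 3 + x2 ^ 3 + x3 ^ 3 + x4 ^ 3 + x5 ^ 3)) (s4 := (x0 ^ 4 + x1 ^ 4 + x2 ^ 4 + x3 ^ 4 + x4 ^ 4 + x5 ^ 4)) (s5 := (x0 ^ 5 + x1 ^ 5 + x2 ^ 5 + x3 ^ 5 + x4 ^ 5 + x5 ^ 5)) (s6 := (x0 ^ 6 + x1 ^ 6 + x2 ^ 6 + x3 ^ 6 + x4 ^ 6 + x5 ^ 6)) (s7 := (x0 ^ 7 + x1 ^ 7 + x2 ^ 7 + x3 ^ 7 + x4 ^ 7 + x5 ^ 7)) (s8 := (x0 ^ 8 + x1 ^ 8 + x2 ^ 8 + x3 ^ 8 + x4 ^ 8 + x5 ^ 8)) (s10 := (x0 ^ 10 + x1 ^ 10 + x2 ^ 10 + x3 ^ 10 + x4 ^ 10 + x5 ^ 10))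
    (e2 := (x0 * x1 + x0 * x2 + x0 * x3 + x0 * x4 + x0 * x5 + x1 * x2 + x1 * x3 + x1 * x4 + x1 * x5 + x2 * x3 + x2 * x4 + x2 * x5 + x3 * x4 + x3 * x5 + x4 * x5))
    (e3 := (x0 * x1 * x2 + x0 * x1 * x3 + x0 * x1 * x4 + x0 * x1 * x5 + x0 * x2 * x3 + x0 * x2 * x4 + x0 * x2 * x5 + x0 * x3 * x4 + x0 * x3 * x5 + x0 * x4 * x5 + x1 * x2 * x3 + x1 * x2 * x4 + x1 * x2 * x5 + x1 * x3 * x4 + x1 * x3 * x5 + x1 * x4 * x5 + x2 * x3 * x4 + x2 * x3 * x5 + x2 * x4 * x5 + x3 * x4 * x5))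
    (e4 := (x0 * x1 * x2 * x3 + x0 * x1 * x2 * x4 + x0 * x1 * x2 * x5 + x0 * x1 * x3 * x4 + x0 * x1 * x3 * x5 + x0 * x1 * x4 * x5 + x0 * x2 * x3 * x4 + x0 * x2 * x3 * x5 + x0 * x2 * x4 * x5 + x0 * x3 * x4 * x5 + x1 * x2 * x3 * x4 + x1 * x2 * x3 * x5 + x1 * x2 * x4 * x5 + x1 * x3 * x4 * x5 + x2 * x3 * x4 * x5))
    (e5 := (x0 * x1 * x2 * x3 * x4 + x0 * x1 * x2 * x3 * x5 + x0 * x1 * x2 * x4 * x5 + x0 * x1 * x3 * x4 * x5 + x0 * x2 * x3 * x4 * x5 + x1 * x2 * x3 * x4 * x5))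
    (e6 := (x0 * x1 * x2 * x3 * x4 * x5))
    (by linear_combination (x0 + x1 + x2 + x3 + x4 + x5) * hs)
    (by linear_combination ((x0 ^ 2 + x1 ^ 2 + x2 ^ 2 + x3 ^ 2 + x4 ^ 2 + x5 ^ 2) - (x0 * x1 + x0 * x2 + x0 * x3 + x0 * x4 + x0 * x5 + x1 * x2 + x1 * x3 + x1 * x4 + x1 * x5 + x2 * x3 + x2 * x4 + x2 * x5 + x3 * x4 + x3 * x5 + x4 * x5)) * hs)
    (by linear_combination ((x0 ^ 3 + x1 ^ 3 + x2 ^ 3 + x3 ^ 3 + x4 ^ 3 + x5 ^ 3) + (x0 * x1 * x2 + x0 * x1 * x3 + x0 * x1 * x4 + x0 * x1 * x5 + x0 * x2 * x3 + x0 * x2 * x4 + x0 * x2 * x5 + x0 * x3 * x4 + x0 * x3 * x5 + x0 * x4 * x5 + x1 * x2 * x3 + x1 * x2 * x4 + x1 * x2 * x5 + x1 * x3 * x4 + x1 * x3 * x5 + x1 * x4 * x5 + x2 * x3 * x4 + x2 * x3 * x5 + x2 * x4 * x5 + x3 * x4 * x5)) * hs)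
    (by linear_combination ((x0 ^ 4 + x1 ^ 4 + x2 ^ 4 + x3 ^ 4 + x4 ^ 4 + x5 ^ 4) - (x0 * x1 * x2 * x3 + x0 * x1 * x2 * x4 + x0 * x1 * x2 * x5 + x0 * x1 * x3 * x4 + x0 * x1 * x3 * x5 + x0 * x1 * x4 * x5 + x0 * x2 * x3 * x4 + x0 * x2 * x3 * x5 + x0 * x2 * x4 * x5 + x0 * x3 * x4 * x5 + x1 * x2 * x3 * x4 + x1 * x2 * x3 * x5 + x1 * x2 * x4 * x5 + x1 * x3 * x4 * x5 + x2 * x3 * x4 * x5)) * hs)
    (by linear_combination ((x0 ^ 5 + x1 ^ 5 + x2 ^ 5 + x3 ^ 5 + x4 ^ 5 + x5 ^ 5) + (x0 * x1 * x2 * x3 * x4 + x0 * x1 * x2 * x3 * x5 + x0 * x1 * x2 * x4 * x5 + x0 * x1 * x3 * x4 * x5 + x0 * x2 * x3 * x4 * x5 + x1 * x2 * x3 * x4 * x5)) * hs)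
    (by linear_combination ((x0 ^ 6 + x1 ^ 6 + x2 ^ 6 + x3 ^ 6 + x4 ^ 6 + x5 ^ 6) - (x0 * x1 * x2 * x3 * x4 * x5)) * hs)
    (by linear_combination (x0 ^ 7 + x1 ^ 7 + x2 ^ 7 + x3 ^ 7 + x4 ^ 7 + x5 ^ 7) * hs)
    (by linear_combination (x0 ^ 9 + x1 ^ 9 + x2 ^ 9 + x3 ^ 9 + x4 ^ 9 + x5 ^ 9) * hs)
    (by linear_combination 2 * h2 - 2 * (x0 + x1 + x2 + x3 + x4 + x5) * hs)
    (by linear_combination 2 * h5 - (20 * y ^ 4 - 10 * (x0 ^ 4 + x1 ^ 4 + x2 ^ 4 + x3 ^ 4 + x4 ^ 4 + x5 ^ 4)) * hs)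
  linear_combination this + 20 * (x0 ^ 9 + x1 ^ 9 + x2 ^ 9 + x3 ^ 9 + x4 ^ 9 + x5 ^ 9) * hs

theorem Cf_rel : ∀ i a b, nb a b = true → Cf i a + Cf i b + Cf i (thd a b) = 0 := by decide +kernel

theorem Cf_Bs : ∀ i j, Cf i (Bs j) = if i = j then 1 else 0 := by decide +kernel

theorem expr {R : Type*} [CommRing R] (e : I27 → R) (r : ∀ a b, nb a b = true → e a + e b + e (thd a b) = 0) (a : I27) :
    e a = ∑ i, (Cf i a : R) * e (Bs i) := by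
  refine clos (P := fun a => e a = ∑ i, (Cf i a : R) * e (Bs i)) (fun a b h h1 h2 => ?_) (fun j => by simp [Cf_Bs]) a
  have : ∑ i, (Cf i a : R) * e (Bs i) + ∑ i, (Cf i b : R) * e (Bs i) + ∑ i, (Cf i (thd a b) : R) * e (Bs i) = 0 := by
    rw [← Finset.sum_add_distrib, ← Finset.sum_add_distrib]
    refine Finset.sum_eq_zero fun i _ => ?_
    rw [← add_mul, ← add_mul, ← Int.cast_add, ← Int.cast_add, Cf_rel i a b h, Int.cast_zero, zero_mul]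
  linear_combination r a b h - h1 - h2 - this

theorem two_chk : ∀ β : Fin 6 → ZMod 2,
    (Finset.univ.filter fun a => ∑ i, (Cf i a : ZMod 2) * β i = 1).card ∈ [0, 12, 16] := by decide +kernel

theorem cnt2 (e : I27 → ZMod 2) (r : ∀ a b, nb a b = true → e a + e b + e (thd a b) = 0) :
    (Finset.univ.filter fun a => e a = 1).card ∈ [0, 12, 16] := by
  rw [funext (expr e r)]
  exact two_chk _

theorem cnt11 (e : I27 → ZMod 11) (r : ∀ a b, nb a b = true → e a + e b + e (thd a b) = 0)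
    (h : ∀ v, (Finset.univ.filter fun a => e a = v).card = (Finset.univ.filter fun a => 2 * e a = v).card) (a : I27) : e a = 0 := by
  obtain ⟨c, hc⟩ : ∃ c : ZMod 11 → ℕ, ∀ v, c v = (Finset.univ.filter fun a => e a = v).card := ⟨_, fun _ => rfl⟩
  have h1 : ∀ v, c (2 * v) = c v := fun v => by
    rw [hc, h, hc]
    congr 1
    exact Finset.filter_congr fun a _ => by generalize e a = w; revert v w; decide
  have h2 : ∀ v, v ≠ 0 → c v = c 1 := fun v hv => by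
    have t : ∀ n : ℕ, c (2 ^ n) = c 1 := fun n => by
      induction n with
      | zero => rfl
      | succ n ih => rw [pow_succ', h1, ih]
    obtain ⟨n, rfl⟩ : ∃ n : Fin 10, 2 ^ n.1 = v := by revert v; decide
    exact t n
  have h3 : ∀ {M : Type} [AddCommMonoid M] (f : ZMod 11 → M), f 0 = 0 → ∑ a, f (e a) = c 1 • ∑ v, f v := fun f hf => by
    rw [← Finset.sum_fiberwise (g := e), Finset.smul_sum]
    refine Finset.sum_congr rfl fun v _ => ?_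
    rw [Finset.sum_congr rfl fun a ha => by rw [(Finset.mem_filter.1 ha).2], Finset.sum_const, ← hc]
    by_cases hv : v = 0
    · simp [hv, hf]
    · rw [h2 v hv]
  have h4 := pow11 e r (by rw [h3 (· ^ 2) rfl, show ∑ v : ZMod 11, v ^ 2 = 0 by decide, smul_zero])
    (by rw [h3 (· ^ 5) rfl, show ∑ v : ZMod 11, v ^ 5 = 0 by decide, smul_zero])
  rw [h3 (· ^ 10) rfl, show ∑ v : ZMod 11, v ^ 10 = 10 by decide] at h4
  have h5 := h3 (fun v => if v = 0 then 0 else 1 : ZMod 11 → ℕ) rfl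
  rw [show ∑ v : ZMod 11, (if v = 0 then 0 else 1 : ℕ) = 10 by decide, smul_eq_mul] at h5
  have h6 : ∑ a, (if e a = 0 then 0 else 1 : ℕ) ≤ ∑ _a : I27, 1 := Finset.sum_le_sum fun a _ => by split_ifs <;> omega
  rw [show ∑ _a : I27, 1 = 27 by decide] at h6
  have h7 : c 1 = 0 := by
    generalize c 1 = n at h4 h5
    obtain rfl | rfl | rfl : n = 0 ∨ n = 1 ∨ n = 2 := by omega
    exacts [rfl, absurd h4 (by decide), absurd h4 (by decide)]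
  by_contra h0
  rw [← h2 _ h0, hc, Finset.card_eq_zero, Finset.filter_eq_empty_iff] at h7
  exact h7 (Finset.mem_univ a) rfl

end Cfsg.Lib.AltE6
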