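import Cfsg.Agent.Lib.Exc.E6L1
import Cfsg.Agent.Lib.Exc.AltDegB

/-! Diagonal elements of the 27-dimensional group. -/

set_option autoImplicit false

namespace Cfsg.Lib.AltE6

open Cfsg.Lie Cfsg.Lib.Linear.Cub Matrix Module

variable {k : Type*} [Field k]

/-- `g` is diagonal with entries `d` compatible with the cubic form. -/
def IsD (g : GL I27 k) (d : I27 → kˣ) : Prop :=
  (∀ a b, nb a b = true → d a * d b * d (thd a b) = 1) ∧ ∀ z ν, (g.val *ᵥ z) ν = d ν * z ν

theorem IsD.mul {g g' : GL I27 k} {d d' : I27 → kˣ} (h : IsD g d) (h' : IsD g' d') : IsD (g * g') (d * d') :=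
  ⟨fun a b e => by
    rw [← one_mul 1, ← congrArg₂ (· * ·) (h.1 a b e) (h'.1 a b e)]
    simp only [Pi.mul_apply, mul_assoc, mul_left_comm, mul_comm], fun z ν => by
    rw [Units.val_mul, ← mulVec_mulVec, h.2, h'.2, Pi.mul_apply, Units.val_mul, mul_assoc]⟩

theorem IsD.one : IsD (1 : GL I27 k) 1 := ⟨by simp, by simp⟩

theorem IsD.pow {g : GL I27 k} {d : I27 → kˣ} (h : IsD g d) (n : ℕ) : IsD (g ^ n) (d ^ n) := by
  induction n with
  | zero => simpa using IsD.one
  | succ n ih => rw [pow_succ, pow_succ]; exact ih.mul h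

theorem IsD.ext {g g' : GL I27 k} {d : I27 → kˣ} (h : IsD g d) (h' : IsD g' d) : g = g' :=
  ext_mulVec fun z => funext fun ν => by rw [h.2, h'.2]

theorem IsD.uniq {g : GL I27 k} {d d' : I27 → kˣ} (h : IsD g d) (h' : IsD g d') : d = d' :=
  funext fun ν => Units.ext (by simpa using (h.2 1 ν).symm.trans (h'.2 1 ν))

theorem IsD.of_Bs {g g' : GL I27 k} {d d' : I27 → kˣ} (h : IsD g d) (h' : IsD g' d') (e : ∀ i, d (Bs i) = d' (Bs i)) : g = g' := by
  obtain rfl : d = d' := funext (clos (P := fun a => d a = d' a) (fun a b t h1 h2 => by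
    have := (h.1 a b t).trans (h'.1 a b t).symm
    rwa [h1, h2, mul_right_inj] at this) e)
  exact h.ext h'

variable (k) in
/-- The diagonal subgroup. -/
def Dg : Subgroup (GL I27 k) where
  carrier := {g | ∃ d, IsD g d}
  one_mem' := ⟨1, IsD.one⟩
  mul_mem' := fun ⟨_, h⟩ ⟨_, h'⟩ => ⟨_, h.mul h'⟩
  inv_mem' := fun {g} ⟨d, h⟩ => ⟨d⁻¹, fun a b e => by
    simp only [Pi.inv_apply, ← _root_.mul_inv, h.1 a b e, inv_one], fun z ν => by
    have := h.2 ((g⁻¹).val *ᵥ z) ν
    rw [mulVec_mulVec, ← Units.val_mul, mul_inv_cancel, Units.val_one, one_mulVec] at this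
    rw [this, Pi.inv_apply, Units.inv_mul_cancel_left]⟩

theorem Dg_comm {a b : GL I27 k} (ha : a ∈ Dg k) (hb : b ∈ Dg k) : a * b = b * a := by
  obtain ⟨d, h⟩ := ha
  obtain ⟨d', h'⟩ := hb
  exact (h.mul h').ext (mul_comm d d' ▸ h'.mul h)

def wt (i : Fin 6) (ν : I27) : ℤ := if ys i true ν ≠ 0 then 1 else if ys i false ν ≠ 0 then -1 else 0

theorem wt_rel : ∀ i a b, nb a b = true → wt i a + wt i b + wt i (thd a b) = 0 := by decide +kernel

theorem wt_chk : ∀ i ν, (ys i true ν = 0 ∧ ys i false ν = 0 ∧ wt i ν = 0) ∨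
    (ys i true ν * ys i false (yp i true ν) = 1 ∧ ys i false ν = 0 ∧ ys i true (yp i true ν) = 0 ∧
      yp i false (yp i true ν) = ν ∧ wt i ν = 1) ∨
    (ys i false ν * ys i true (yp i false ν) = 1 ∧ ys i true ν = 0 ∧ ys i false (yp i false ν) = 0 ∧
      yp i true (yp i false ν) = ν ∧ wt i ν = -1) := by decide +kernel

theorem h_mem (i : Fin 6) {t : k} (ht : t ≠ 0) : (yy i true t * yy i false (-t⁻¹) * yy i true t *
    (yy i true (-1 : k) * yy i false (-(-1)⁻¹) * yy i true (-1))).1 ∈ Dg k := by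
  refine ⟨fun ν => Units.mk0 t ht ^ wt i ν, fun a b e => by
    simp only [← _root_.zpow_add, wt_rel i a b e, zpow_zero], fun z ν => ?_⟩
  simp only [Subgroup.coe_mul, Units.val_mul, ← mulVec_mulVec, yy_sp _ _ _ _, Units.val_zpow_eq_zpow_val, Units.val_mk0]
  rcases wt_chk i ν with ⟨h1, h2, h3⟩ | ⟨h1, h2, h3, h4, h5⟩ | ⟨h1, h2, h3, h4, h5⟩
  · simp [spf, h1, h2, h3]
  · rcases Int.eq_one_or_neg_one_of_mul_eq_one' h1 with ⟨e, e'⟩ | ⟨e, e'⟩ <;> simp [spf, e, e', h2, h3, h4, h5] <;>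
      field_simp <;> ring
  · rcases Int.eq_one_or_neg_one_of_mul_eq_one' h1 with ⟨e, e'⟩ | ⟨e, e'⟩ <;> simp [spf, e, e', h2, h3, h4, h5] <;>
      field_simp <;> ring

/-- The natural representation. -/
noncomputable def nat (k : Type*) [Field k] : Representation k (GL I27 k) (I27 → k) :=
  (Matrix.toLinAlgEquiv' (R := k) (n := I27)).toMonoidHom.comp (Units.coeHom _)

theorem nat_ap (g : GL I27 k) (z : I27 → k) : nat k g z = g.val *ᵥ z := rfl

theorem nat_inj : Function.Injective (nat k) := Matrix.toLinAlgEquiv'.injective.comp Units.val_injective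

theorem ev_conj (u g : GL I27 k) (μ : k) :
    finrank k (End.eigenspace (nat k (u * g * u⁻¹)) μ) = finrank k (End.eigenspace (nat k g) μ) := by
  have : ∀ u g : GL I27 k, finrank k (End.eigenspace (nat k g) μ) ≤ finrank k (End.eigenspace (nat k (u * g * u⁻¹)) μ) :=
    fun u g => LinearMap.finrank_le_finrank_of_injective (f := (nat k u).restrict fun v hv => by
      rw [End.mem_eigenspace_iff] at hv ⊢
      rw [← AltDeg.mul_ap, inv_mul_cancel_right, AltDeg.mul_ap, hv, map_smul]) fun a b e => Subtype.ext (sub_eq_zero.1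
        (AltDeg.rho_inj (nat k) u (by rw [map_sub]; exact sub_eq_zero.2 (congrArg Subtype.val e))))
  refine le_antisymm ?_ (this u g)
  have t := this u⁻¹ (u * g * u⁻¹)
  rwa [show u⁻¹ * (u * g * u⁻¹) * u⁻¹⁻¹ = g by group] at t

open Classical in
theorem IsD.ev {g : GL I27 k} {d : I27 → kˣ} (h : IsD g d) (μ : k) :
    finrank k (End.eigenspace (nat k g) μ) = (Finset.univ.filter fun a => (d a : k) = μ).card := by
  have e : End.eigenspace (nat k g) μ = ⨅ i ∈ {a | (d a : k) ≠ μ}, LinearMap.ker (LinearMap.proj i : (I27 → k) →ₗ[k] k) := by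
    ext z
    simp only [End.mem_eigenspace_iff, nat_ap, funext_iff, h.2, Submodule.mem_iInf, LinearMap.mem_ker, LinearMap.proj_apply,
      Pi.smul_apply, smul_eq_mul, mul_eq_mul_right_iff, Set.mem_ofPred_eq]
    exact forall_congr' fun a => by tauto
  rw [e, (LinearMap.iInfKerProjEquiv k (fun _ : I27 => k) (I := {a | (d a : k) = μ}) (J := {a | (d a : k) ≠ μ})
    (Set.disjoint_left.2 fun _ h h' => h' h) fun a _ => _root_.em _).finrank_eq, Module.finrank_fintype_fun_eq_card, Fintype.card_subtype]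
  rfl

theorem IsD.logs {g : GL I27 k} {d : I27 → kˣ} (h : IsD g d) {l : ℕ} [NeZero l] {ζ : k} (hζ : IsPrimitiveRoot ζ l)
    (hg : g ^ l = 1) : ∃ e : I27 → ZMod l, (∀ a, (d a : k) = ζ ^ (e a).val) ∧
      ∀ a b, nb a b = true → e a + e b + e (thd a b) = 0 := by
  have h1 : d ^ l = 1 := (hg ▸ h.pow l).uniq IsD.one
  choose i hi hi' using fun a => hζ.eq_pow_of_pow_eq_one (ξ := (d a : k)) (by rw [← Units.val_pow_eq_pow_val, ← Pi.pow_apply, h1]; rfl)
  refine ⟨fun a => i a, fun a => by rw [ZMod.val_cast_of_lt (hi a), hi'], fun a b t => ?_⟩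
  rw [← Nat.cast_add, ← Nat.cast_add, ZMod.natCast_eq_zero_iff, ← hζ.pow_eq_one_iff_dvd, pow_add, pow_add, hi', hi', hi',
    ← Units.val_mul, ← Units.val_mul, h.1 a b t, Units.val_one]

theorem inv_ev (h2 : (2 : k) ≠ 0) {y u : GL I27 k} (hu : u⁻¹ * y * u ∈ Dg k) (hy : y ^ 2 = 1) (hy1 : y ≠ 1) :
    finrank k (End.eigenspace (nat k y) (-1)) = 12 ∨ finrank k (End.eigenspace (nat k y) (-1)) = 16 := by
  classical
  obtain ⟨d, h⟩ := hu
  have hζ : IsPrimitiveRoot (-1 : k) 2 := IsPrimitiveRoot.mk_of_lt _ two_pos (by simp) fun l h1 h3 e => h2 (by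
    obtain rfl : l = 1 := by omega
    linear_combination -e)
  obtain ⟨e, h3, h4⟩ := h.logs hζ (by rw [← inv_inv u, inv_inv u⁻¹, conj_pow, hy]; simp)
  have h5 : ∀ a, (d a : k) = -1 ↔ e a = 1 := fun a => by
    rw [h3, ← ZMod.val_eq_one one_lt_two]
    exact ⟨fun t => hζ.pow_inj (ZMod.val_lt _) one_lt_two (by simpa using t), fun t => by rw [t, pow_one]⟩
  have h6 := cnt2 e h4
  rw [← ev_conj u⁻¹, inv_inv, h.ev, Finset.filter_congr fun a _ => h5 a]
  simp only [List.mem_cons, List.not_mem_nil, or_false] at h6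
  refine (h6.resolve_left fun t => hy1 ?_).imp (fun t => by convert t) fun t => by convert t
  rw [Finset.card_eq_zero, Finset.filter_eq_empty_iff] at t
  obtain rfl : d = 1 := funext fun a => Units.ext (by
    have := t (Finset.mem_univ a)
    rw [h3, show e a = 0 by generalize e a = w at this; revert w; decide]; simp)
  simpa [mul_eq_one_iff_eq_inv] using h.ext IsD.one

theorem no11 {ζ : k} (hζ : IsPrimitiveRoot ζ 11) {x g u : GL I27 k} (hu : u⁻¹ * x * u ∈ Dg k) (hx : x ^ 11 = 1)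
    (hg : g * x * g⁻¹ = x ^ 2) : x = 1 := by
  classical
  obtain ⟨d, h⟩ := hu
  obtain ⟨e, h3, h4⟩ := h.logs hζ (by rw [← inv_inv u, inv_inv u⁻¹, conj_pow, hx]; simp)
  have h5 : ∀ v w : ZMod 11, ζ ^ v.val = ζ ^ w.val ↔ v = w := fun v w =>
    ⟨fun t => ZMod.val_injective _ (hζ.pow_inj (ZMod.val_lt _) (ZMod.val_lt _) t), fun t => by rw [t]⟩
  have h6 := cnt11 e h4 fun v => by
    have t1 := h.ev (ζ ^ v.val)
    have t2 := (h.pow 2).ev (ζ ^ v.val)
    rw [← inv_inv u, inv_inv u⁻¹, conj_pow, ← hg, ev_conj, ev_conj] at t2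
    rw [← inv_inv u, inv_inv u⁻¹, ev_conj, t2] at t1
    convert t1.symm using 2
    · exact Finset.filter_congr fun a _ => by rw [h3, h5]
    · refine Finset.filter_congr fun a _ => ?_
      rw [Pi.pow_apply, Units.val_pow_eq_pow_val, h3, ← h5, ZMod.val_mul, ← pow_eq_pow_mod _ hζ.pow_eq_one, ← pow_mul, mul_comm]
      rfl
  obtain rfl : d = 1 := funext fun a => Units.ext (by rw [h3, h6]; simp)
  simpa [mul_eq_one_iff_eq_inv] using h.ext IsD.one

theorem tors {H : Type*} [Group H] (ι : H →* GL I27 k) (hι : Function.Injective ι) (A : Subgroup H) (u : GL I27 k)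
    (hA : ∀ a ∈ A, u⁻¹ * ι a * u ∈ Dg k) {l : ℕ} [NeZero l] {ζ : k} (hζ : IsPrimitiveRoot ζ l) :
    Nat.card {a : H // a ∈ A ∧ a ^ l = 1} ≤ l ^ 6 := by
  choose d hd using fun a : {a : H // a ∈ A ∧ a ^ l = 1} => hA a a.2.1
  choose e he _ using fun a => (hd a).logs hζ (by rw [← inv_inv u, inv_inv u⁻¹, conj_pow, ← map_pow, a.2.2]; simp)
  have := Nat.card_le_card_of_injective (fun a i => e a (Bs i)) fun a b t => Subtype.ext (hι (by
    simpa using (hd a).of_Bs (hd b) fun i => Units.ext (by rw [he, he, show e a (Bs i) = e b (Bs i) from congrFun t i])))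
  simpa [Nat.card_fun] using this

theorem orb {G S : Type*} [Group G] [Finite G] [Group S] [Finite S] {l v : ℕ} [Fact l.Prime] (hS : IsPGroup l S) (f : S →* G)
    (T : Subgroup G) (h : ¬ l ^ (v + 1) ∣ T.index) : ∃ (g : G) (A : Subgroup S), A.index ≤ l ^ v ∧ ∀ a ∈ A, g⁻¹ * f a * g ∈ T := by
  let := MulAction.compHom (G ⧸ T) f
  by_contra h'
  apply h
  have := Fintype.ofFinite (MulAction.orbitRel.Quotient S (G ⧸ T))
  rw [Subgroup.index, Nat.card_congr (MulAction.selfEquivSigmaOrbits S (G ⧸ T)), Nat.card_sigma]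
  refine Finset.dvd_sum fun q _ => ?_
  obtain ⟨n, hn⟩ := hS.card_orbit q.out
  rw [hn]
  refine pow_dvd_pow l (Nat.succ_le_of_lt <| not_le.1 fun t => h' ⟨q.out.out, MulAction.stabilizer S q.out, ?_, fun a ha => ?_⟩)
  · rw [MulAction.index_stabilizer, ← Nat.card_coe_set_eq, hn]
    exact Nat.pow_le_pow_right (Fact.out : l.Prime).pos t
  · have t1 : f a • q.out = q.out := ha
    rw [← QuotientGroup.out_eq' q.out, MulAction.Quotient.smul_mk, eq_comm, QuotientGroup.eq] at t1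
    rwa [mul_assoc]

end Cfsg.Lib.AltE6
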