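import Cfsg.Agent.Lib.Exc.E6L2
import Cfsg.Agent.Lib.Exc.AltSec3
import Cfsg.Agent.S1084
import Cfsg.Agent.Lib.Chev.Borel
import Cfsg.Agent.Lib.Twist.WeylAll

/-! Sections of `E₆(q)` inside the 27-dimensional group over the algebraic closure. -/

set_option autoImplicit false

namespace Cfsg.Lib.AltE6

open Cfsg.Lie Cfsg.Lib.Chev Cfsg.Lib.Twist Cfsg.Lib.Chev.PreSys Cfsg.Lib.Chev.SL3 Cfsg.Lib.Linear.Cub Cfsg.Lib.AltSec

universe u

theorem hD6 : chevE6 ∈ [chevG2, chevB2, chevD4, chevF4, chevE6, chevE7, chevE8] := by simp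

section
variable {R : RootSys (Fin chevE6.rank) (Fin chevE6.nroots)} (hc : Compat chevE6 R) {η : ℕ → ℕ → ℤ} (hm : MatOK chevE6 η)
include hc hm

theorem exists_phi {L : Type} [Field L] [Fintype L] {k : Type} [Field k] (j : L →+* k) :
    ∃ φ : chevE6.SteinbergGroup L →* GL I27 k, ∀ i t, φ ((hc.stSys L).x (R.simple i) t) = (yy i true (j t)).1 ∧
      φ ((hc.stSys L).x (R.neg (R.simple i)) t) = (yy i false (j t)).1 := by
  have hA : ∀ i j, R.A i j = chevE6.cartan i (chevE6.simple j) := fun i j => by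
    rw [← hc.simple_eq, hc.cartan_eq, R.pair_simple_simple]
  have hp : ∀ i j : Fin 6, i ≠ j → (chevE6.cartan i (chevE6.simple j) ≠ 0 ↔
      (Linear.Cub.par j = i ∧ j ≠ 0) ∨ (Linear.Cub.par i = j ∧ i ≠ 0)) := by decide +kernel
  have hb : ∀ c t, Matrix.SpecialLinearGroup.map j (blk ((sl2 L).x c t)) = blk ((sl2 k).x c (j t)) ∧
      Matrix.SpecialLinearGroup.map j (blk' ((sl2 L).x c t)) = blk' ((sl2 k).x c (j t)) := fun c t => by
    cases c <;> refine ⟨Subtype.ext ?_, Subtype.ext ?_⟩ <;> change Matrix.map (Subtype.val _) j = _ <;>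
      simp only [blk_t, blk_f, blk_t', blk_f'] <;> ext a b <;> fin_cases a <;> fin_cases b <;> simp
  have he : ∀ i : Fin 6, i ≠ 0 → ∀ c t,
      (th k i).comp (Matrix.SpecialLinearGroup.map j) (blk ((sl2 L).x c t)) = yy (Linear.Cub.par i) c (j t) ∧
      (th k i).comp (Matrix.SpecialLinearGroup.map j) (blk' ((sl2 L).x c t)) = yy i c (j t) := fun i h c t => by
    simp only [MonoidHom.comp_apply, hb]
    exact th_edge i h c _
  obtain ⟨φ, hφ⟩ := Cfsg.Agent.S1084.exists_hom (hc.st_of_exact hm hD6 (hc.st_exact (K := L))) (hc.st_sep hm) (hc.st_opp hm)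
    (hc.st_sc hD6 L) (hc.sl_of_dec (by decide +kernel)) (hc.nb hD6) hc.st_gen (G := E6univ k) (fun i b t => yy i b (j t))
    (fun i j h h' => by
      rcases (hp i j h).1 (hA i j ▸ h') with ⟨e, e'⟩ | ⟨e, e'⟩
      · exact ⟨i, j, h, h', rfl, _, fun c t => e ▸ he j e' c t⟩
      · exact ⟨j, i, h.symm, R.A_ne_zero_symm h', Finset.pair_comm _ _, _, fun c t => e ▸ he i e' c t⟩)
    fun i j h h' _ _ _ _ => by
      have := mt (hp i j h).2 (not_not.2 (hA i j ▸ h'))
      exact yy_comm h (by tauto) (by tauto) _ _ _ _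
  exact ⟨(E6univ k).subtype.comp φ, fun i t => ⟨congrArg Subtype.val (hφ i t).1, congrArg Subtype.val (hφ i t).2⟩⟩

theorem phi_spec {L : Type} [Field L] {k : Type} [Field k] {j : L →+* k} {φ : chevE6.SteinbergGroup L →* GL I27 k}
    (hφ : ∀ i t, φ ((hc.stSys L).x (R.simple i) t) = (yy i true (j t)).1 ∧
      φ ((hc.stSys L).x (R.neg (R.simple i)) t) = (yy i false (j t)).1) :
    φ.ker ≤ (hc.proj hm L).ker ∧ ∀ g, hc.proj hm L g ∈ (hc.gsys hm L).H → φ g ∈ Dg k := by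
  have hS := hc.st_of_exact hm hD6 (hc.st_exact (K := L))
  have h3 := PreSys.surjective_of_gen (hc.proj_x hm) (hc.ggen hm (F := L))
  have := (hc.isSimpleGroup hm (F := L) hD6 fun e => by
    rcases e with e | e <;> exact absurd (congrArg ChevalleyDatum.rank e) (by decide)).1
  refine ⟨?_, fun g hg => ?_⟩
  · rcases ((inferInstance : φ.ker.Normal).map _ h3).eq_bot_or_eq_top with e | e
    · exact (Subgroup.map_eq_bot_iff _).1 e
    have t : ∀ a b, φ a * φ b = φ b * φ a := fun a b => by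
      obtain ⟨c, t1, t2⟩ := e.ge (Subgroup.mem_top (hc.proj hm L a))
      have t3 := Subgroup.mem_center_iff.1 ((hc.ker_proj hm hD6).1 (show hc.proj hm L (c⁻¹ * a) = 1 by simp [t2])) b
      have t4 := congrArg φ t3
      simp only [map_mul, map_inv, show φ c = 1 from t1, inv_one, one_mul] at t4
      exact t4.symm
    obtain ⟨t5, t6⟩ := hφ (0 : Fin 6) 1
    rw [map_one] at t5 t6
    exact absurd (Subtype.ext ((congrArg₂ (· * ·) t5 t6).symm.trans ((t _ _).trans (congrArg₂ (· * ·) t6 t5)))) yy_not_comm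
  · rw [← PreSys.map_H _ (hc.proj_x hm)] at hg
    obtain ⟨c, t1, t2⟩ := hg
    have t3 : g ∈ (hc.stSys L).H := by
      simpa using mul_mem t1 (hS.ker_le (hc.gsep hm) (hc.gopp hm) (hc.proj_x hm) (hc.st_gen.ge (Subgroup.mem_top (c⁻¹ * g)))
        (by simp [t2])).1
    refine hS.H_le_of_simple (X := (Dg k).comap φ) (fun i t ht => ?_) t3
    change φ _ ∈ Dg k
    simp only [PreSys.h, PreSys.n, map_mul, hφ, map_neg, map_inv₀, map_one]
    exact h_mem i ((map_ne_zero j).2 ht)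

theorem dvd_index {L : Type*} [Field L] [Finite L] {n : ℕ} (h1 : n ∣ Nat.card L - 1)
    (h2 : ¬ n ∣ 51840) : ¬ n ∣ (hc.gsys hm L).H.index := by
  have := Fintype.ofFinite (R.WJ Set.univ)
  have e1 := hc.card_group hm (F := L)
  have e2 := (hc.gsys hm L).H.card_mul_index
  have e3 : Nat.card (hc.gsys hm L).H = Nat.card (hc.sys hm L).H := by
    rw [hc.gsys_H, hc.diagonalSubgroup_eq hm]
    exact Nat.card_congr (Subgroup.subgroupOfEquivOfLe ((hc.sys hm L).H_le_univ.trans (hc.group_eq hm).ge)).toEquiv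
  rw [← hc.card_H hm, ← e2, e3, ← mul_assoc, mul_left_comm] at e1
  rw [Nat.eq_of_mul_eq_mul_left (Nat.mul_pos Nat.card_pos Nat.card_pos) e1, ← ZMod.natCast_eq_zero_iff, Nat.cast_mul,
    R.poin_cast, Nat.cast_pow, (ZMod.natCast_eq_natCast_iff _ 1 _).2 ((Nat.modEq_iff_dvd' Nat.card_pos).2 h1).symm,
    ← R.poin_eq]
  simp only [Nat.cast_one, one_pow, one_mul, Finset.sum_const, Finset.card_univ, nsmul_eq_mul, mul_one]
  rwa [ZMod.natCast_eq_zero_iff, ← Nat.card_eq_fintype_card, R.WJ_univ, card_W_E6 hc]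

theorem model (p : ℕ) [Fact p.Prime] {L k : Type} [Field L] [Fintype L] [CharP L p] [Field k] [IsAlgClosed k]
    (j : L →+* k) : ∃ ψ : chevE6.SteinbergGroup L →* GL I27 k, ψ.ker ≤ (hc.proj hm L).ker ∧
      (∀ g, hc.proj hm L g ∈ (hc.gsys hm L).H → ψ g ∈ Dg k) ∧
      ∀ g (n : ℕ), n.Coprime p → ψ g ^ n = 1 → ∃ u, u⁻¹ * ψ g * u ∈ Dg k := by
  obtain ⟨φ, h1⟩ := exists_phi hc hm j
  obtain ⟨h2, h3⟩ := phi_spec hc hm h1
  refine ⟨φ, h2, h3, fun g n hn hg => ?_⟩
  obtain ⟨L', _, _, i, -, a, ha⟩ := descend hc hm p (z := hc.proj hm L g) hn (by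
    rw [← map_pow]; exact h2 (by rwa [MonoidHom.mem_ker, map_pow])) (m := 1) (Fact.out : p.Prime).not_dvd_one
  let _ := i.toAlgebra
  let _ := j.toAlgebra
  let j' : L' →ₐ[L] k := IsAlgClosed.lift
  obtain ⟨φ', h4⟩ := exists_phi hc hm j'.toRingHom
  obtain ⟨a, rfl⟩ := PreSys.surjective_of_gen (hc.proj_x hm) (hc.ggen hm (F := L')) a
  obtain ⟨ι, hx⟩ := hc.exists_stMap hm i
  have h5 : ∀ t, j'.toRingHom (i t) = j t := j'.commutes
  have h6 : φ' (ι g) = φ g := ((hc.st_of_exact hm hD6 (hc.st_exact (K := L))).univ_le_of_simple (X := (φ'.comp ι).eqLocus φ)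
    (fun i => by
      change φ' (ι _) = φ _
      simp only [PreSys.n, map_mul, hx, h1, h4, h5]) (fun i t => by
      change φ' (ι _) = φ _
      simp only [hx, h1, h4, h5])) (hc.st_gen.ge (Subgroup.mem_top g))
  refine ⟨φ' a, ?_⟩
  rw [← h6, ← map_inv, ← map_mul, ← map_mul]
  exact (phi_spec hc hm h4).2 _ (by rwa [map_mul, map_mul, map_inv, hc.proj_stMap hm hx])

end

theorem core (p : ℕ) [Fact p.Prime] {F : Type u} [Field F] [Finite F] [CharP F p] {B : Type*} [Group B]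
    {X : Subgroup (chevE6.group F)} (π : X →* B) (hπ : Function.Surjective π) {m : ℕ} (hm' : ¬ p ∣ m) :
    ∃ H : Subgroup (GL I27 (AlgebraicClosure (ZMod p))), Finite H ∧ (∃ π' : H →* B, Function.Surjective π') ∧
      (∀ y ∈ H, ∀ n : ℕ, n.Coprime p → y ^ n = 1 → ∃ u, u⁻¹ * y * u ∈ Dg _) ∧
      ∀ (l v : ℕ) [Fact l.Prime], l ^ (v + 1) ∣ m → ¬ l ^ (v + 1) ∣ 51840 → ∀ S : Subgroup H, IsPGroup l S →
        ∃ u, ∃ A ≤ S, A.relIndex S ≤ l ^ v ∧ ∀ a ∈ A, u⁻¹ * a.1 * u ∈ Dg _ := by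
  obtain ⟨R, η, hc, hm⟩ := good_of_mem hD6
  let k := AlgebraicClosure (ZMod p)
  let _ : Algebra (ZMod p) F := ZMod.algebra F p
  let j0 : F →+* k := (IsAlgClosed.lift : F →ₐ[ZMod p] k).toRingHom
  have : Finite j0.fieldRange := Finite.of_surjective _ j0.rangeRestrictField_bijective.2
  obtain ⟨L, _, _, j1, h1, -⟩ := descend hc hm p (K := j0.fieldRange) (z := 1) (Nat.coprime_one_left p) (one_pow 1) hm'
  have : CharP L p := charP_of_injective_ringHom j1.injective p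
  let _ : Algebra (ZMod p) L := ZMod.algebra L p
  obtain ⟨ψ, h2, h3, h4⟩ := model hc hm p (IsAlgClosed.lift : L →ₐ[ZMod p] k).toRingHom
  have h5 := PreSys.surjective_of_gen (hc.proj_x hm) (hc.ggen hm (F := L))
  have := hc.finite_st hm hD6 (K := L)
  let b := baseExt chevE6 (j1.comp j0.rangeRestrictField)
  let e := X.equivMapOfInjective b (baseExt_injective _)
  let π1 := (π.comp e.symm.toMonoidHom).comp ((hc.proj hm L).subgroupComap (X.map b))
  have h6 : Function.Surjective π1 := (hπ.comp e.symm.surjective).comp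
    ((hc.proj hm L).subgroupComap_surjective_of_surjective _ h5)
  have h7 := ψ.subgroupMap_surjective ((X.map b).comap (hc.proj hm L))
  refine ⟨_, Finite.of_surjective _ h7, ⟨(ψ.subgroupMap _).liftOfSurjective h7 ⟨π1, fun g hg => ?_⟩, fun a => ?_⟩, ?_,
    fun l v _ t1 t2 S hS => ?_⟩
  · have t : (hc.proj hm L).subgroupComap (X.map b) g = 1 := Subtype.ext (h2 (congrArg Subtype.val hg))
    simp only [π1, MonoidHom.mem_ker, MonoidHom.comp_apply, t, map_one]
  · obtain ⟨g, rfl⟩ := h6 a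
    exact ⟨_, MonoidHom.liftOfRightInverse_comp_apply _ _ _ _ g⟩
  · rintro _ ⟨g, -, rfl⟩
    exact h4 g
  have : Finite ψ.range := Finite.of_surjective _ ψ.rangeRestrict_surjective
  have := Finite.of_surjective _ h7
  obtain ⟨g, A, t3, t4⟩ := orb hS ((Subgroup.inclusion (Subgroup.map_le_range ψ _)).comp S.subtype)
    (((hc.gsys hm L).H.comap (hc.proj hm L)).map ψ.rangeRestrict) (v := v) fun t => dvd_index hc hm (t1.trans h1) t2 (by
      rw [← Subgroup.index_comap_of_surjective _ h5]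
      exact t.trans (Subgroup.index_map_dvd _ ψ.rangeRestrict_surjective))
  refine ⟨g.1, A.map S.subtype, Subgroup.map_subtype_le _, ?_, ?_⟩
  · rwa [Subgroup.relIndex, Subgroup.subgroupOf, Subgroup.comap_map_eq_self_of_injective S.subtype_injective]
  · rintro _ ⟨a, ha, rfl⟩
    obtain ⟨c, t5, t6⟩ := t4 a ha
    have t7 := h3 c t5
    rwa [show ψ c = _ from congrArg Subtype.val t6] at t7

end Cfsg.Lib.AltE6
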