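import Cfsg.Agent.Lib.Exc.E6L3
import Cfsg.Agent.Lib.Exc.E6A

/-! Alternating sections of `E₆(q)`. -/

set_option autoImplicit false

namespace Cfsg.Lib.AltE6

open Cfsg.Lie Cfsg.Lib.AltDeg Cfsg.Lib.AltSec

universe u

theorem Dg_comm' {k : Type*} [Field k] {a b u : GL I27 k} (ha : u⁻¹ * a * u ∈ Dg k) (hb : u⁻¹ * b * u ∈ Dg k) :
    a * b = b * a := by
  have := congrArg (fun x => u * x * u⁻¹) (Dg_comm ha hb)
  simpa [mul_assoc] using this

variable (p : ℕ) [Fact p.Prime] {F : Type u} [Field F] [Finite F] [CharP F p] {X : Subgroup (chevE6.group F)}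

theorem no13 (hp : p ≠ 11) (π : X →* alternatingGroup (Fin 13)) (hπ : Function.Surjective π) : False := by
  have h11 : Nat.Prime 11 := by norm_num
  have := Fact.mk h11
  have hc : (11 : ℕ).Coprime p := (Nat.coprime_primes h11 Fact.out).2 hp.symm
  obtain ⟨H, _, ⟨π', h1⟩, h2, h3⟩ := core p π hπ (m := 11) fun h => hp ((Nat.prime_dvd_prime_iff_eq Fact.out h11).1 h)
  obtain ⟨x, g, t1, t2, t3⟩ := abs13 π' h1 fun S hS a ha b hb => by
    obtain ⟨u, A, s1, s2, s3⟩ := h3 11 0 (by decide) (by decide) S hS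
    have s4 : S ≤ A := Subgroup.relIndex_eq_one.1 (le_antisymm s2 (Nat.pos_of_ne_zero Subgroup.index_ne_zero_of_finite))
    apply Subtype.ext
    exact Dg_comm' (s3 a (s4 ha)) (s3 b (s4 hb))
  obtain ⟨ζ, hζ⟩ := exists_root (AlgebraicClosure (ZMod p)) p 11 h11 hp
  obtain ⟨u, hu⟩ := h2 x x.2 11 hc (congrArg Subtype.val t2)
  exact t1 (Subtype.ext (no11 hζ (g := g) hu (congrArg Subtype.val t2) (congrArg Subtype.val t3)))

theorem no12 (hp : 7 ≤ p) (π : X →* alternatingGroup (Fin 12)) (hπ : Function.Surjective π) : False := by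
  have hP : p.Prime := Fact.out
  have hl : ∀ l ∈ [3, 5, 7, 11], l.Prime := by
    simp only [List.forall_mem_cons, List.not_mem_nil, IsEmpty.forall_iff, implies_true, and_true]
    norm_num
  obtain ⟨H, _, ⟨π', h1⟩, h2, h3⟩ := core p π hπ (m := ∏ l ∈ [3, 5, 7, 11].toFinset.erase p, l ^ 5) fun h => by
    obtain ⟨l, t1, t2⟩ := (hP.prime.dvd_finsetProd_iff _).1 h
    rw [Finset.mem_erase, List.mem_toFinset] at t1
    exact t1.1 ((Nat.prime_dvd_prime_iff_eq hP (hl l t1.2)).1 (hP.dvd_of_dvd_pow t2)).symm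
  have h4 : (2 : AlgebraicClosure (ZMod p)) ≠ 0 := fun e => by
    have := Nat.le_of_dvd two_pos ((CharP.cast_eq_zero_iff (AlgebraicClosure (ZMod p)) p 2).1 (by exact_mod_cast e))
    omega
  refine abs12 p hp π' h1 ((nat _).comp H.subtype) (nat_inj.comp H.subtype_injective) (by simp [I27]) (fun y t1 t2 => ?_)
    fun l t1 t2 S hS => ?_
  · obtain ⟨u, hu⟩ := h2 y y.2 2 ((Nat.coprime_primes Nat.prime_two hP).2 (by omega)) (congrArg Subtype.val t1)
    exact inv_ev h4 hu (congrArg Subtype.val t1) fun e => t2 (Subtype.ext e)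
  have := Fact.mk (hl l t1)
  obtain ⟨ζ, hζ⟩ := exists_root (AlgebraicClosure (ZMod p)) p l (hl l t1) t2.symm
  obtain ⟨u, A, s1, s2, s3⟩ := h3 l (if l = 3 then 4 else 1) ((pow_dvd_pow l (by split_ifs <;> omega)).trans
    (Finset.dvd_prod_of_mem (fun l => l ^ 5) (Finset.mem_erase.2 ⟨t2, List.mem_toFinset.2 t1⟩))) (by
      clear * - t1; revert l; decide) S hS
  refine ⟨A, s1, fun a ha b hb => Subtype.ext ?_, s2.trans ?_, tors H.subtype H.subtype_injective A u s3 hζ⟩
  · exact Dg_comm' (s3 a ha) (s3 b hb)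
  · split_ifs with e
    · simp [e]
    · simp

theorem main {G : Type*} [Group G] (f : G →* chevE6.group F) (hf : Function.Injective f) (r : ℕ) (H : Subgroup G) (K : Subgroup H)
    [K.Normal] (h : Nonempty (H ⧸ K ≃* alternatingGroup (Fin r))) : r ≤ 11 + (if p = 2 ∨ p = 3 ∨ p = 5 then 1 else 0) := by
  by_contra hr
  obtain ⟨i⟩ := h
  have key : ∀ m ≤ r, ∃ (X : Subgroup (chevE6.group F)) (π : X →* alternatingGroup (Fin m)), Function.Surjective π := fun m hm => by
    obtain ⟨X, π, hπ⟩ := exists_alt hm i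
    exact ⟨_, π.comp (X.equivMapOfInjective f hf).symm.toMonoidHom, hπ.comp (X.equivMapOfInjective f hf).symm.surjective⟩
  split_ifs at hr with hp
  · obtain ⟨X, π, hπ⟩ := key 13 (by omega)
    exact no13 p (by omega) π hπ
  · obtain ⟨X, π, hπ⟩ := key 12 (by omega)
    refine no12 p (not_lt.1 fun t => ?_) π hπ
    have hP : p.Prime := Fact.out
    interval_cases p <;> first | exact hp (by decide) | exact absurd hP (by decide)

end Cfsg.Lib.AltE6
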