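/-
No element of the Weyl group of type E₆ doubles a nonzero vector modulo eleven.
-/
import Cfsg.Agent.Lib.Exc.AltSec3
import Cfsg.Agent.Lib.Twist.WeylAll

set_option autoImplicit false
set_option maxRecDepth 100000

namespace Cfsg.Lib.AltSec

open Cfsg.Lib.Chev Cfsg.Lib.Twist Cfsg.Lie

/-- Six natural numbers. -/
abbrev T6 := ℕ × ℕ × ℕ × ℕ × ℕ × ℕ

/-- Three times the weights of the minuscule module, modulo eleven. -/
def L27 : List T6 := [(4, 3, 5, 6, 4, 2), (1, 3, 5, 6, 4, 2), (1, 3, 2, 6, 4, 2), (1, 3, 2, 3, 4, 2), (1, 3, 2, 3, 1, 2), (1, 3, 2, 3, 1, 10), (1, 0, 2, 3, 4, 2), (1, 0, 2, 3, 1, 2), (1, 0, 2, 3, 1, 10), (1, 0, 2, 0, 1, 2), (1, 0, 2, 0, 1, 10), (1, 0, 2, 0, 9, 10), (1, 0, 10, 0, 1, 2), (1, 0, 10, 0, 1, 10), (1, 0, 10, 0, 9, 10), (1, 0, 10, 8, 9, 10), (1, 8, 10, 8, 9, 10), (9, 0, 10, 0, 1, 2), (9, 0, 10, 0, 1, 10), (9, 0, 10, 0, 9, 10), (9, 0, 10, 8, 9, 10), (9, 0,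 7, 8, 9, 10), (9, 8, 10, 8, 9, 10), (9, 8, 7, 8, 9, 10), (9, 8, 7, 5, 9, 10), (9, 8, 7, 5, 6, 10), (9, 8, 7, 5, 6, 7)]

/-- A linear form. -/
def lin6 (a b c d e f : ℕ) (t : T6) : ℕ :=
  Nat.add (Nat.add (Nat.add (Nat.add (Nat.add (Nat.mul a t.1) (Nat.mul b t.2.1)) (Nat.mul c t.2.2.1)) (Nat.mul d t.2.2.2.1))
    (Nat.mul e t.2.2.2.2.1)) (Nat.mul f t.2.2.2.2.2)

/-- The invariant quadratic form. -/
def q27 (a b c d e f : ℕ) : ℕ := 842 * a * a + 790 * a * b + 1720 * a * c + 986 * a * d + 1376 * a * e + 1810 * a * f + 438 * b * b + 876 * b * c + 786 * b * d + 876 * b * e + 1032 * b * f + 1335 * c * c + 1290 * c * d + 1894 * c * e + 2586 * c * f + 621 * d * d + 1290 * d * e + 1470 * d * f + 972 * e * e + 2204 * e * f + 1689 * f * f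

/-- The signature of the values. -/
def sig27 (k a b c d e f : ℕ) : ℕ := (L27.map fun t => Nat.pow 32 (Nat.mod (Nat.mul k (lin6 a b c d e f t)) 11)).sum

/-- The check. -/
def ck27 (a b c d e f : ℕ) : Bool :=
  Bool.rec true (Bool.rec true false (Nat.beq (sig27 1 a b c d e f) (sig27 2 a b c d e f))) (Nat.beq (Nat.mod (q27 a b c d e f) 11) 0)

theorem ck27_1 : allLt 11 (fun b => allLt 11 fun c => allLt 11 fun d => allLt 11 fun e => allLt 11 fun f => ck27 1 b c d e f) = true := by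
  decide +kernel

theorem ck27_2 : allLt 11 (fun c => allLt 11 fun d => allLt 11 fun e => allLt 11 fun f =>
    ck27 0 1 c d e f && ck27 0 0 1 d e f && ck27 0 0 0 1 e f && ck27 0 0 0 0 1 f && ck27 0 0 0 0 0 1) = true := by
  decide +kernel

end Cfsg.Lib.AltSec
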