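/-
No alternating section of degree thirteen in the groups of type E₆.
-/
import Cfsg.Agent.Lib.Exc.E6N0
import Cfsg.Agent.Lib.Exc.E6A

set_option autoImplicit false
set_option maxRecDepth 100000

namespace Cfsg.Lib.AltSec

open Subgroup Cfsg.Lib Cfsg.Lib.Core Cfsg.Lib.Amalg Cfsg.Lib.Chev Cfsg.Lib.Twist Cfsg.Lie

universe u

/-- The weights as vectors. -/
def tv6 (t : T6) : Fin 6 → ZMod 11 := ![t.1, t.2.1, t.2.2.1, t.2.2.2.1, t.2.2.2.2.1, t.2.2.2.2.2]

/-- The multiset of values. -/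
def ms27 (β : Fin 6 → ZMod 11) : Multiset (ZMod 11) := ((L27.map tv6).map fun m => ∑ i, m i * β i : List _)

theorem perm27 : ∀ j : Fin 6, ((L27.map tv6).map fun m i => m i - if i = j then ∑ k : Fin 6, m k * (aN tabE6.Am j k : ZMod 11) else 0).Perm
    (L27.map tv6) := by decide +kernel

theorem ms27_refl (j : Fin 6) (β : Fin 6 → ZMod 11) : ms27 (fun i => β i - (aN tabE6.Am j i : ZMod 11) * β j) = ms27 β := by
  refine Eq.trans ?_ (Multiset.coe_eq_coe.2 ((perm27 j).map fun m => ∑ i, m i * β i))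
  rw [ms27, List.map_map (l := L27.map tv6)]
  congr 2
  funext m
  simp only [Function.comp, mul_sub, sub_mul, Finset.sum_sub_distrib, ite_mul, zero_mul, Finset.sum_ite_eq', Finset.mem_univ, if_true,
    Finset.sum_mul, mul_assoc]

theorem ms27_smul (u : ZMod 11) (β : Fin 6 → ZMod 11) : ms27 (u • β) = (ms27 β).map (u * ·) := by
  simp only [ms27, Multiset.map_coe, List.map_map, Pi.smul_apply, smul_eq_mul]
  congr 2
  funext m
  simp only [Function.comp, Finset.mul_sum, mul_left_comm]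

theorem ms27_eq (β : Fin 6 → ZMod 11) : ms27 β =
    (L27.map fun t => ((lin6 (β 0).val (β 1).val (β 2).val (β 3).val (β 4).val (β 5).val t : ℕ) : ZMod 11) : List _) := by
  rw [ms27, List.map_map]
  congr 2
  funext t
  simp [lin6, tv6, Fin.sum_univ_six, mul_comm]

theorem ck27_false {β : Fin 6 → ZMod 11} (h : ms27 ((2 : ZMod 11) • β) = ms27 β) :
    ck27 (β 0).val (β 1).val (β 2).val (β 3).val (β 4).val (β 5).val = false := by
  rw [ms27_smul, ms27_eq] at h
  generalize (β 0).val = a, (β 1).val = b, (β 2).val = c, (β 3).val = d, (β 4).val = e, (β 5).val = f at h ⊢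
  have h1 : q27 a b c d e f = (L27.map fun t => lin6 a b c d e f t ^ 2).sum := by
    simp only [L27, List.map_cons, List.map_nil, List.sum_cons, List.sum_nil, lin6, q27, Nat.add_eq, Nat.mul_eq]
    ring
  have h2 := congrArg (fun s : Multiset (ZMod 11) => (s.map (· ^ 2)).sum) h
  have h3 := congrArg (fun s : Multiset (ZMod 11) => (s.map fun x => 32 ^ x.val).sum) h
  simp only [Multiset.map_coe, List.map_map, Multiset.sum_coe, Function.comp_def, mul_pow, List.sum_map_mul_left] at h2 h3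
  have h4 : ((q27 a b c d e f : ℕ) : ZMod 11) = 0 := by
    rw [h1, Nat.cast_list_sum, List.map_map]
    simp only [Function.comp_def, Nat.cast_pow]
    have h11 : (11 : ZMod 11) = 0 := rfl
    linear_combination 4 * h2 - (L27.map fun t => ((lin6 a b c d e f t : ℕ) : ZMod 11) ^ 2).sum * h11
  have h5 : sig27 1 a b c d e f = sig27 2 a b c d e f := by
    have hm : ∀ n : ℕ, Nat.mod n 11 = (n : ZMod 11).val := fun n => (ZMod.val_natCast 11 n).symm
    simp only [sig27, Nat.pow_eq, Nat.mul_eq, hm, one_mul, Nat.cast_mul, Nat.cast_ofNat]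
    exact h3.symm
  rw [ck27, h5, show Nat.mod (q27 a b c d e f) 11 = 0 from (ZMod.val_natCast 11 _).symm.trans (h4 ▸ rfl), Nat.beq_refl, Nat.beq_refl]

theorem no11 {β : Fin 6 → ZMod 11} (h : ms27 ((2 : ZMod 11) • β) = ms27 β) : β = 0 := by
  have : Fact (Nat.Prime 11) := ⟨by decide⟩
  have key : ∀ i, ck27 ((β i)⁻¹ * β 0).val ((β i)⁻¹ * β 1).val ((β i)⁻¹ * β 2).val ((β i)⁻¹ * β 3).val ((β i)⁻¹ * β 4).val
      ((β i)⁻¹ * β 5).val = false := fun i => ck27_false (β := (β i)⁻¹ • β) (by rw [smul_comm, ms27_smul, h, ms27_smul])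
  have hv : ∀ x : ZMod 11, x.val < 11 := fun x => x.val_lt
  have h1 : (1 : ZMod 11).val = 1 := rfl
  have c2 := fun (c d e f : ZMod 11) => allLt_spec (allLt_spec (allLt_spec (allLt_spec ck27_2 _ (hv c)) _ (hv d)) _ (hv e)) _ (hv f)
  simp only [Bool.and_eq_true] at c2
  have e0 : β 0 = 0 := by_contra fun e => by
    have := key 0
    rw [inv_mul_cancel₀ e, h1, allLt_spec (allLt_spec (allLt_spec (allLt_spec (allLt_spec ck27_1 _ (hv _)) _ (hv _)) _ (hv _)) _ (hv _)) _ (hv _)] at this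
    exact absurd this (by decide)
  have e1 : β 1 = 0 := by_contra fun e => by
    have := key 1
    rw [inv_mul_cancel₀ e, h1, e0, mul_zero, ZMod.val_zero, (c2 _ _ _ _).1.1.1.1] at this
    exact absurd this (by decide)
  have e2 : β 2 = 0 := by_contra fun e => by
    have := key 2
    rw [inv_mul_cancel₀ e, h1, e0, e1, mul_zero, ZMod.val_zero, (c2 0 _ _ _).1.1.1.2] at this
    exact absurd this (by decide)
  have e3 : β 3 = 0 := by_contra fun e => by
    have := key 3
    rw [inv_mul_cancel₀ e, h1, e0, e1, e2, mul_zero, ZMod.val_zero, (c2 0 0 _ _).1.1.2] at this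
    exact absurd this (by decide)
  have e4 : β 4 = 0 := by_contra fun e => by
    have := key 4
    rw [inv_mul_cancel₀ e, h1, e0, e1, e2, e3, mul_zero, ZMod.val_zero, (c2 0 0 0 _).1.2] at this
    exact absurd this (by decide)
  have e5 : β 5 = 0 := by_contra fun e => by
    have := key 5
    rw [inv_mul_cancel₀ e, h1, e0, e1, e2, e3, e4, mul_zero, ZMod.val_zero, (c2 0 0 0 0).2] at this
    exact absurd this (by decide)
  funext i
  fin_cases i <;> assumption

/-- The value of a root at a vector modulo `n`. -/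
def parN {I Φ : Type*} [Fintype I] [DecidableEq I] (R : RootSys I Φ) {n : ℕ} (β : I → ZMod n) (r : Φ) : ZMod n :=
  ∑ i, β i * (R.rt r i : ZMod n)

section gen

variable {I Φ : Type*} [Fintype I] [DecidableEq I] {R : RootSys I Φ} {K : Type*} [Field K] {G : Type*} [Group G]
  {S : PreSys R K G} {n : ℕ}

theorem parN_simple (β : I → ZMod n) (i : I) : parN R β (R.simple i) = β i := by
  simp [parN, R.rt_simple, Pi.single_apply]

theorem parN_W {w : Equiv.Perm Φ} (hw : w ∈ R.W) (β : I → ZMod n) (r : Φ) :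
    parN R β (w r) = parN R (fun i => parN R β (w (R.simple i))) r := by
  simp only [parN, RootSys.W_rt_eq_sum hw r, Finset.sum_apply, Pi.smul_apply, smul_eq_mul, Int.cast_sum, Int.cast_mul,
    Finset.mul_sum, Finset.sum_mul]
  rw [Finset.sum_comm]
  exact Finset.sum_congr rfl fun _ _ => Finset.sum_congr rfl fun _ _ => by ring

theorem parN_s (j : I) (β : I → ZMod n) (i : I) : parN R β (R.s j (R.simple i)) = β i - (R.A j i : ZMod n) * β j := by
  simp only [parN, R.s_apply, R.rt_refl, R.pair_simple_simple, R.rt_simple, Pi.sub_apply, Pi.smul_apply, smul_eq_mul,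
    Int.cast_sub, Int.cast_mul, mul_sub, Finset.sum_sub_distrib, Pi.single_apply]
  simp [mul_comm]

theorem parN_inv {α : Type*} (c : (I → ZMod n) → α) (hc : ∀ j β, c (fun i => β i - (R.A j i : ZMod n) * β j) = c β)
    {w : Equiv.Perm Φ} (hw : w ∈ R.W) : ∀ β, c (fun i => parN R β (w (R.simple i))) = c β := by
  refine R.W_induction_left (P := fun w _ => ∀ β, c (fun i => parN R β (w (R.simple i))) = c β)
    (fun β => by simp only [Equiv.Perm.one_apply, parN_simple]) ?_ hw
  intro i w _ ih β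
  simp only [Equiv.Perm.mul_apply, parN_W (R.s_mem_W i) β (w _)]
  rw [ih]
  simp only [parN_s, hc]

theorem exists_parN [NeZero n] (hS : S.St) (hF : S.Sep) {ζ : K} (hζ : IsPrimitiveRoot ζ n) {h : G} (hh : h ∈ S.H) (h2 : h ^ n = 1) :
    ∃ β : I → ZMod n, ∀ s u, h * S.x s u * h⁻¹ = S.x s (AddChar.zmodChar n hζ.pow_eq_one (parN R β s) * u) := by
  classical
  obtain ⟨χ, h1, h3⟩ := hS.exists_char hh
  have h4 : ∀ i, ∃ x, χ (R.rt (R.simple i)) = AddChar.zmodChar n hζ.pow_eq_one x := by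
    intro i
    have : ∀ m : ℕ, h ^ m * S.x (R.simple i) 1 * (h ^ m)⁻¹ = S.x (R.simple i) (χ (R.rt (R.simple i)) ^ m) := fun m => by
      induction m with
      | zero => simp
      | succ m ih => rw [pow_succ' (χ _), ← h3, ← ih, pow_succ']; group
    have := this n
    rw [h2, one_mul, inv_one, mul_one] at this
    obtain ⟨j, -, e⟩ := hζ.eq_pow_of_pow_eq_one (hF.x_inj this).symm
    exact ⟨j, by rw [AddChar.zmodChar_apply', e]⟩
  choose β hβ using h4
  refine ⟨β, fun s u => ?_⟩
  rw [h3, parN]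
  congr 2
  have : ∀ T : Finset I, χ (∑ i ∈ T, R.rt s i • R.rt (R.simple i)) =
      AddChar.zmodChar n hζ.pow_eq_one (∑ i ∈ T, β i * (R.rt s i : ZMod n)) := by
    intro T
    induction T using Finset.induction_on with
    | empty => simp [h1.map_zero]
    | insert i T hi ih =>
      rw [Finset.sum_insert hi, Finset.sum_insert hi, h1.map_add, AddChar.map_add_eq_mul, ih, h1.map_zsmul, hβ,
        ← AddChar.map_zsmul_eq_zpow, zsmul_eq_mul, mul_comm (β i)]
  rw [← this]; exact congrArg χ (RootSys.W_rt_eq_sum (one_mem _) s)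

end gen

/-- A toral element conjugate to a power gives an eigenvector of the Weyl group. -/
theorem exists_eig {D : ChevalleyDatum} {R : RootSys (Fin D.rank) (Fin D.nroots)} (hc : Compat D R) {η : ℕ → ℕ → ℤ} (hm : MatOK D η)
    {L : Type u} [Field L] [Finite L] {n k : ℕ} [NeZero n] (hn : n ∣ Nat.card L - 1) {h g : D.group L} (hh : h ∈ (hc.gsys hm L).H)
    (h1 : h ≠ 1) (h2 : h ^ n = 1) (h3 : g * h * g⁻¹ = h ^ k) :
    ∃ β : Fin D.rank → ZMod n, β ≠ 0 ∧ ∃ w ∈ R.W, ∀ i, k * parN R β (w (R.simple i)) = β i := by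
  obtain ⟨ζ, hζ⟩ : ∃ ζ : L, IsPrimitiveRoot ζ n := by
    obtain ⟨a, ha⟩ := IsCyclic.exists_ofOrder_eq_natCard (α := Lˣ)
    rw [Nat.card_units] at ha
    have := orderOf_pow_orderOf_div (x := a) (orderOf_pos a).ne' (ha ▸ hn)
    exact ⟨_, IsPrimitiveRoot.coe_units_iff.2 (this ▸ IsPrimitiveRoot.orderOf _)⟩
  obtain ⟨β, hβ⟩ := exists_parN (hc.gst hm) (hc.gsep hm) hζ hh h2
  obtain ⟨m, -, w, hw, a3, a4⟩ := exists_fus (hc.gst hm) (hc.gopp hm) (hc.gmult hm) (hc.ggen hm) g
  refine ⟨β, fun e => h1 (Subtype.ext (hc.eq_one_of_central hm h.2 fun s u => ?_)), w, hw, fun i => ?_⟩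
  · have := hβ s u
    rw [e, show parN R (0 : Fin D.rank → ZMod n) s = 0 by simp [parN], AddChar.map_zero_eq_one, one_mul, mul_inv_eq_iff_eq_mul] at this
    exact congrArg Subtype.val this
  have h4 : ∀ (j : ℕ) s u, h ^ j * (hc.gsys hm L).x s u * (h ^ j)⁻¹ =
      (hc.gsys hm L).x s (AddChar.zmodChar n hζ.pow_eq_one (j * parN R β s) * u) := fun j s u => by
    induction j with
    | zero => simp
    | succ j ih => rw [Nat.cast_succ, add_mul, one_mul, add_comm (_ * _), AddChar.map_add_eq_mul, mul_assoc _ _ u, ← hβ, ← ih, pow_succ']; group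
  have := conj_char (hc.gsep hm) a3 hβ (h4 k) (h3.symm.trans (a4 h hh (h3 ▸ pow_mem hh k))) (R.simple i)
  rw [parN_simple, AddChar.zmodChar_apply, AddChar.zmodChar_apply] at this
  exact ZMod.val_injective n (hζ.pow_inj (ZMod.val_lt _) (ZMod.val_lt _) this)

theorem not_alt13 {K : Type u} [Field K] [Finite K] (p : ℕ) [Fact p.Prime] [CharP K p] (hp : p ≠ 11)
    {X : Subgroup (chevE6.group K)} (π : X →* alternatingGroup (Fin 13)) (hπ : Function.Surjective π) : False := by
  have : Fact (Nat.Prime 11) := ⟨by norm_num⟩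
  obtain ⟨L, _, _, j, h2, -⟩ := descend compat_E6 matOK_E6 p (z := (1 : chevE6.group K)) (Nat.coprime_one_left p) (one_pow 1) (m := 11)
    fun h => hp ((Nat.prime_dvd_prime_iff_eq Fact.out Fact.out).1 h)
  let f := (baseExt chevE6 j).comp X.subtype
  have hf : Function.Injective f := (baseExt_injective j).comp X.subtype_injective
  have hA : ∀ a ∈ (compat_E6.gsys matOK_E6 L).H, ∀ b ∈ (compat_E6.gsys matOK_E6 L).H, a * b = b * a := fun _ ha _ hb =>
    (compat_E6.gst matOK_E6).H_comm (compat_E6.gmult matOK_E6) ha hb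
  have hi := not_dvd_index compat_E6 matOK_E6 h2 (by rw [card_W_E6 compat_E6]; decide)
  have key : ∀ S : Subgroup X, IsPGroup 11 S → ∃ u, ∀ a ∈ S, u * f a * u⁻¹ ∈ (compat_E6.gsys matOK_E6 L).H := fun S hS => by
    obtain ⟨u, u1, -⟩ := two_torus hA hi hi (hS.map f) (IsPGroup.of_bot) bot_le
    exact ⟨u, fun a ha => u1 ⟨_, ⟨a, ha, rfl⟩, rfl⟩⟩
  obtain ⟨x, g, x1, x2, x3⟩ := Cfsg.Lib.AltDeg.abs13 π hπ fun S hS a ha b hb => by
    obtain ⟨u, hu⟩ := key S hS
    have := hA _ (hu a ha) _ (hu b hb)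
    rw [conj_mul, conj_mul, mul_left_inj, mul_right_inj, ← map_mul, ← map_mul] at this
    exact hf this
  obtain ⟨u, hu⟩ := key (zpowers x) (isPGroup_zpowers_of_pow (k := 1) x2)
  obtain ⟨β, b1, w, hw, b2⟩ := exists_eig compat_E6 matOK_E6 (k := 2) (g := u * f g * u⁻¹) h2 (hu x (mem_zpowers x))
    (fun e => x1 (hf (by simpa using e))) (by rw [conj_pow, ← map_pow, x2, map_one, mul_one, mul_inv_cancel])
    (by rw [conj_pow, ← map_pow, ← x3, map_mul, map_mul, map_inv]; group)
  have h3 := parN_inv (R := RE6) ms27 ms27_refl hw β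
  have h4 : β = (2 : ZMod 11) • fun i => parN RE6 β (w (RE6.simple i)) := funext fun i => (b2 i).symm
  have h5 := no11 (β := fun i => parN RE6 β (w (RE6.simple i))) ((congrArg ms27 h4).symm.trans h3.symm)
  exact b1 (funext fun i => (b2 i).symm.trans (by rw [show parN RE6 β (w (RE6.simple i)) = 0 from congrFun h5 i, mul_zero]; rfl))

end Cfsg.Lib.AltSec
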