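import Cfsg.Agent.Lib.Exc.AltDegE
import Cfsg.Agent.Lib.Exc.AltDegR

/-! Spin modules of the double covers of alternating groups. -/

set_option autoImplicit false

namespace Cfsg.Lib.AltDeg

open Module Cfsg.Lib.Pres Cfsg.Lib.Linear Equiv Subgroup

universe u

variable {k : Type} [Field k] [IsAlgClosed k] (p : ℕ) [Fact p.Prime] [CharP k p]
  {V : Type} [AddCommGroup V] [Module k V] [FiniteDimensional k V] {H : Type u} [Group H]

theorem cliff {I : Type} [Fintype I] [DecidableEq I] [Nontrivial V] (h2 : (2 : k) ≠ 0) (E : I × Bool → End k V)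
    (h : ∀ a b, a ≠ b → E a * E b = -(E b * E a)) (hq : ∀ a, ∃ c : k, c ≠ 0 ∧ E a * E a = c • 1) :
    2 ^ Fintype.card I ≤ finrank k V := by
  have hi : ∀ a v, E a v = 0 → v = 0 := fun a v e => by
    obtain ⟨c, h1, h3⟩ := hq a
    have := LinearMap.congr_fun h3 v
    rw [End.mul_apply, e, map_zero] at this
    exact (smul_eq_zero.1 this.symm).resolve_left h1
  let f : I → End k V := fun i => E (i, false) * E (i, true)
  have h1 : ∀ i j b, i ≠ j → f i * E (j, b) = E (j, b) * f i := fun i j b e => by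
    simp only [f]
    rw [mul_assoc, h (i, true) _ (by simp [e]), mul_neg, ← mul_assoc, h (i, false) _ (by simp [e])]; simp [mul_assoc]
  have h3 : ∀ i, f i * E (i, true) = -(E (i, true) * f i) := fun i => by
    simp only [f]
    rw [h (i, false) _ (by simp), neg_mul, mul_neg, neg_neg, ← mul_assoc, mul_assoc (E (i, true)), h (i, false) _ (by simp)]
    simp [mul_assoc]
  obtain ⟨v, -, hv, χ, hχ⟩ := exists_joint f (fun i j => by
    by_cases e : i = j
    · rw [e]
    change f i * (_ * _) = _ * _ * f i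
    rw [← mul_assoc, h1 i j _ e, mul_assoc, h1 i j _ e, mul_assoc]) ⊤ top_ne_bot (by simp)
  have h4 : ∀ i, -χ i ≠ χ i := fun i e => hv (hi _ _ (hi (i, false) _ (by
    have : χ i = 0 := (mul_eq_zero.1 (show 2 * χ i = 0 by linear_combination -e)).resolve_left h2
    exact (hχ i).trans (by rw [this, zero_smul]))))
  have := card_le (I := Finset I) f (fun S i => if i ∈ S then -χ i else χ i) (fun S S' e => Finset.ext fun i => by
    have := congrFun e i
    have := h4 i
    grind) fun S => by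
      induction S using Finset.induction_on with
      | empty => exact ⟨v, hv, by simpa using hχ⟩
      | insert a S ha ih =>
        obtain ⟨w, t1, t2⟩ := ih
        refine ⟨E (a, true) w, fun e => t1 (hi _ _ e), fun j => ?_⟩
        by_cases e : j = a
        · rw [← End.mul_apply, e, h3, LinearMap.neg_apply, End.mul_apply, t2]; simp [ha]
        · rw [← End.mul_apply, h1 _ _ _ e, End.mul_apply, t2, map_smul]; simp [e]
  simpa using this

omit [IsAlgClosed k] [FiniteDimensional k V] in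
theorem cliff_rel {J : Type} [Fintype J] [DecidableEq J] (X : J → End k V) (h1 : ∀ i, X i * X i + X i + 1 = 0)
    (h2 : ∀ i j, i ≠ j → (X i * X j) ^ 2 = -1) (c d : J → ℤ) :
    (∑ i, c i • (2 * X i + 1)) * (∑ i, d i • (2 * X i + 1)) + (∑ i, d i • (2 * X i + 1)) * (∑ i, c i • (2 * X i + 1)) =
      (-2 * ∑ i, ∑ j, c i * d j * (if i = j then 3 else 1) : ℤ) := by
  have h3 : ∀ i j, (2 * X i + 1) * (2 * X j + 1) + (2 * X j + 1) * (2 * X i + 1) = (-2 * (if i = j then 3 else 1) : ℤ) := by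
    intro i j
    split_ifs with e
    · subst e
      have := h1 i
      calc _ = 8 * (X i * X i + X i + 1) - 6 * 1 := by noncomm_ring
        _ = _ := by rw [this]; simp
    · have t1 : ∀ i, X i * (1 + X i) = -1 := fun i => by rw [← sub_eq_zero, ← h1 i]; noncomm_ring
      have t2 : X i * X j = -((1 + X j) * (1 + X i)) := by
        rw [← neg_one_mul, ← h2 i j e, sq, ← mul_assoc, mul_assoc _ (_ * _), mul_assoc (X i) (X j) (1 + _), t1,
          mul_assoc, mul_neg_one, neg_mul, t1, neg_neg, mul_one]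
      calc _ = 4 * (X i * X j + (1 + X j) * (1 + X i)) - 2 * 1 := by noncomm_ring
        _ = _ := by rw [t2]; simp
  rw [Finset.sum_mul_sum, Finset.sum_mul_sum, Finset.sum_comm (f := fun j i => d j • _ * c i • _), ← Finset.sum_add_distrib,
    Finset.mul_sum, Int.cast_sum]
  refine Finset.sum_congr rfl fun i _ => ?_
  rw [← Finset.sum_add_distrib, Finset.mul_sum, Int.cast_sum]
  refine Finset.sum_congr rfl fun j _ => ?_
  rw [smul_mul_smul_comm, smul_mul_smul_comm, mul_comm (d j), ← smul_add, h3, zsmul_eq_mul, ← Int.cast_mul]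
  congr 1; ring

omit [IsAlgClosed k] [FiniteDimensional k V] in
theorem sq_eq_z {α : Type*} [Fintype α] [DecidableEq α] (h6 : 6 ≤ Fintype.card α) {π : H →* alternatingGroup α}
    (hs : Function.Surjective π) (hz : Z2 π) (hmin : ∀ X : Subgroup H, X.map π = ⊤ → X = ⊤) {z : H} (hz1 : π z = 1) (hz2 : z ≠ 1)
    {a b c d : α} (hn : [a, b, c, d].Nodup) {x y : H} (hx : π x = c3 a b c) (hy : π y = c3 a b d) (hx3 : x ^ 3 = 1)
    (hy3 : y ^ 3 = 1) : (x * y) ^ 2 = z := by
  have o3 : Odd 3 := by decide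
  have hn' := hn
  simp only [List.nodup_cons, List.mem_cons, List.not_mem_nil, or_false, not_or] at hn
  have hab : a ≠ b := hn.1.1
  obtain ⟨h1, h2⟩ := hz ((x * y) ^ 2) (by
    rw [map_pow, map_mul, hx, hy]; exact c3_pr hab (by grind) (by grind) (by grind) (by grind) (by grind))
  choose X hX hX3 using fun i : {i // i ≠ a ∧ i ≠ b} => hz.lift hs o3 (c3_cube hab i.2.1 i.2.2)
  have : (zpowers ((x * y) ^ 2)).Normal := ⟨fun x hx g => by
    rwa [mem_center_iff.1 (zpowers_le.2 h1 hx) g, mul_inv_cancel_right]⟩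
  obtain ⟨n, hn⟩ := mem_of_carm hab π (X := X) (fun i => (hX i).trans (c3_eq hab i).symm) (zpowers ((x * y) ^ 2))
    (fun i => hX3 i ▸ one_mem _) (fun i j h => by
      obtain ⟨g, hg⟩ := tr [a, b, c, d] [a, b, i, j] hn' (by have := i.2; have := j.2; simp; grind) rfl (by simpa)
      obtain ⟨g, rfl⟩ := hs g
      simp only [List.map_cons, List.map_nil, List.cons.injEq, and_true] at hg
      have s1 := hz.rel (j := 1) (g := g) o3 (hX3 i) hx3 (by rw [pow_one, hx, conj_c3, hX]; simp only [hg])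
      have s2 := hz.rel (j := 1) (g := g) o3 (hX3 j) hy3 (by rw [pow_one, hy, conj_c3, hX]; simp only [hg])
      rw [show X i * X j = g * (x * y) * g⁻¹ by rw [eq_mul_inv_iff_mul_eq, mul_assoc, s2, ← mul_assoc, s1]; group,
        conj_pow, mem_center_iff.1 h1, mul_inv_cancel_right]
      exact mem_zpowers _) (g := z) ((hmin _ (by
        rw [MonoidHom.map_closure, ← Set.range_comp, ← closure_altCyc hab]
        congr 2; funext i; exact (hX i).trans (c3_eq hab i).symm)).ge (mem_top z)) hz1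
  simp only at hn
  rw [zpow_eq_zpow_emod' n h2] at hn
  rcases Int.emod_two_eq_zero_or_one n with e | e
  · exact absurd (by simpa [e] using hn.symm) hz2
  · simpa [e] using hn

/-- An orthogonal basis. -/
def ob : Fin 5 × Bool → Fin 10 → ℤ
  | (0, false) => ![1, -1, 0, 0, 0, 0, 0, 0, 0, 0]
  | (1, false) => ![0, 0, 1, -1, 0, 0, 0, 0, 0, 0]
  | (2, false) => ![0, 0, 0, 0, 1, -1, 0, 0, 0, 0]
  | (3, false) => ![0, 0, 0, 0, 0, 0, 1, -1, 0, 0]
  | (4, false) => ![0, 0, 0, 0, 0, 0, 0, 0, 1, -1]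
  | (0, true) => ![1, 1, -1, -1, 0, 0, 0, 0, 0, 0]
  | (1, true) => ![0, 0, 0, 0, 1, 1, -1, -1, 0, 0]
  | (2, true) => ![1, 1, 1, 1, -1, -1, -1, -1, 0, 0]
  | (3, true) => ![1, 1, 1, 1, 1, 1, 1, 1, -4, -4]
  | (4, true) => ![1, 1, 1, 1, 1, 1, 1, 1, 1, 1]

theorem spin12 [Finite H] (hp : 7 ≤ p) (π : H →* alternatingGroup (Fin 12)) (hs : Function.Surjective π) (hz : Z2 π)
    (hmin : ∀ X : Subgroup H, X.map π = ⊤ → X = ⊤) (ρ : Representation k H V) [Nontrivial V] {z : H} (hz1 : π z = 1)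
    (hz2 : ρ z = -1) : 16 < finrank k V := by
  by_contra hlt
  have o3 : Odd 3 := by decide
  have hd : ∀ n : ℕ, n ∣ 240 → (n : k) ≠ 0 := fun n hn e => by
    have h1 := ((CharP.cast_eq_zero_iff k p n).1 e).trans hn
    have h2 : p.Prime := Fact.out
    have := Nat.le_of_dvd (by decide) h1
    have h3 : p ∣ 2 ^ 4 * 3 * 5 := h1
    simp only [h2.dvd_mul, h2.prime.dvd_pow_iff_dvd (show 4 ≠ 0 by decide)] at h3
    rcases h3 with (h3 | h3) | h3 <;> have := Nat.le_of_dvd (by decide) h3 <;> omega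
  have h2 : (2 : k) ≠ 0 := by exact_mod_cast hd 2 (by decide)
  have hneg : ∀ v : V, -v = v → v = 0 := fun v e => (smul_eq_zero.1 (show (2 : k) • v = 0 by
    rw [two_smul]; nth_rw 1 [← e]; simp)).resolve_left h2
  obtain ⟨v0, hv0⟩ := exists_ne (0 : V)
  have hz3 : z ≠ 1 := fun e => hv0 (hneg v0 (by simpa [e] using (LinearMap.congr_fun hz2 v0).symm))
  have hsq := @sq_eq_z H _ (Fin 12) _ _ (by simp) π hs hz hmin z hz1 hz3
  choose X hX hX3 using fun i : Fin 10 => hz.lift hs o3 (c3_pow (show [(0 : Fin 12), 1, i.succ.succ].Nodup by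
    revert i; decide))
  have hc : ∀ i, ∃ g, X i * g = g * X 0 := fun i => by
    obtain ⟨g, hg⟩ := tr [(0 : Fin 12), 1, 2] [0, 1, i.succ.succ] (by decide) (by revert i; decide) rfl (by simp)
    obtain ⟨g, rfl⟩ := hs g
    simp only [List.map_cons, List.map_nil, List.cons.injEq, and_true] at hg
    exact ⟨g, by simpa using hz.rel (j := 1) (g := g) o3 (hX3 i) (hX3 0) (by
      rw [pow_one, hX, hX, conj_c3, show Fin.succ (Fin.succ (0 : Fin 10)) = 2 from rfl]; simp only [hg])⟩
  have hXX : ∀ i j, i ≠ j → (X i * X j) ^ 2 = z := fun i j h => hsq (by revert i j; decide) (hX i) (hX j) (hX3 i) (hX3 j)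
  let j : Fin 9 ↪ Fin 12 := ⟨fun i => i.succ.succ.succ, by decide⟩
  have hE : ∀ η : k, End.eigenspace (ρ (X 0)) η ≠ ⊥ → 8 ≤ finrank k (End.eigenspace (ρ (X 0)) η) := fun η hη => by
    have hW : ∀ h, (∀ y, (∀ x, j x ≠ y) → (π h).1 y = y) →
        ∀ v ∈ End.eigenspace (ρ (X 0)) η, ρ h v ∈ End.eigenspace (ρ (X 0)) η := fun h t v hv => by
      have := hz.rel (j := 1) (g := h) o3 (hX3 0) (hX3 0) (by
        rw [pow_one, hX, conj_c3, t 0 (by decide), t 1 (by decide), t _ (by decide)])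
      rw [End.mem_eigenspace_iff] at hv ⊢
      rw [← mul_ap, this, pow_one, mul_ap, hv, map_smul]
    obtain ⟨y, t1, t2⟩ := hz.lift hs o3 (c3_pow (show [j 0, j 1, j 2].Nodup by decide))
    obtain ⟨y', t3, t4⟩ := hz.lift hs o3 (c3_pow (show [j 0, j 1, j 3].Nodup by decide))
    have t5 : π y ∈ (emb j).range := ⟨_, (emb_c3 j (by decide)).trans t1.symm⟩
    refine bound hz hs ρ (by decide) j _ hW (fun C _ _ _ π' s1 _ W _ _ _ ρ' s2 => ?_) (by simp) o3 t2 t5 ?_
    · have := red cen _ p k C (Nat.lt_succ_self _) 9 le_rfl π' s1 W ρ' s2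
      rwa [if_neg fun e => by
        have := (Nat.prime_dvd_prime_iff_eq Fact.out Nat.prime_three).1 ((Fact.out : p.Prime).dvd_of_dvd_pow (n := 2) e)
        omega] at this
    by_contra h
    push Not at h
    have h' := triv hz hs ρ (by decide) j _ hW t5 (by rw [t1]; decide +kernel) h o3 t4 ⟨_, (emb_c3 j (by decide)).trans t3.symm⟩
    obtain ⟨v, s1, s2⟩ := (Submodule.ne_bot_iff _).1 hη
    refine s2 (hneg v ?_)
    have := LinearMap.congr_fun hz2 v
    rw [← hsq (by decide) t1 t3 t2 t4, sq, mul_ap, mul_ap, mul_ap, h' v s1, h v s1, h' v s1, h v s1] at this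
    simpa using this.symm
  obtain ⟨ω, hω⟩ := exists_root k p 3 Nat.prime_three (by omega)
  have hO : ∀ n : ZMod 3, n ≠ 0 → 8 ≤ finrank k (End.eigenspace (ρ (X 0)) (ω ^ n.val)) := by
    obtain ⟨χ, s1, s2⟩ := Om.ex (ρ := ρ) (c := fun _ : Unit => X 0) hω (fun _ => hX3 0) (fun _ _ => rfl) (ρ (X 0) - 1) (fun e => by
      obtain ⟨g, hg⟩ := hc 1
      have e0 := sub_eq_zero.1 e
      have e1 : ρ (X 1) = 1 := by rw [eq_mul_inv_of_mul_eq hg, map_mul, map_mul, e0, mul_one, ← map_mul]; simp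
      have := LinearMap.congr_fun hz2 v0
      rw [← hXX 0 1 (by decide), map_pow, map_mul, e0, e1] at this
      exact hv0 (hneg v0 (by simpa using this.symm))) fun _ => by rw [mul_sub, sub_mul]; simp
    obtain ⟨g, hg⟩ := hs ⟨swap 0 1 * swap 3 4, sign_swap_mul_swap (by decide) (by decide)⟩
    have s3 := s1.step hω.pow_eq_one (g := g) (s := id) (m := fun _ => 2) fun _ => hz.rel o3 (hX3 0) (hX3 0) (by
      rw [hX, hg]; decide +kernel)
    have s4 := s2 () ⟨1, by simp⟩
    intro n hn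
    have s5 : ∀ a n : ZMod 3, a ≠ 0 → n ≠ 0 → n = a ∨ n = a * (2 : ℕ) := by decide
    refine hE _ ((Submodule.ne_bot_iff _).2 ?_)
    rcases s5 _ n s4 hn with rfl | rfl
    · obtain ⟨v, t1, t2⟩ := s1
      exact ⟨v, End.mem_eigenspace_iff.2 (t2 ()), t1⟩
    · obtain ⟨v, t1, t2⟩ := s3
      exact ⟨v, End.mem_eigenspace_iff.2 (t2 ()), t1⟩
  have hq0 : ∀ v, ρ (X 0) (ρ (X 0) v) + ρ (X 0) v + v = 0 := fun v => by
    have t1 := hO 1 (by decide)
    have t2 := hO 2 (by decide)
    rw [show (1 : ZMod 3).val = 1 from rfl] at t1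
    rw [show (2 : ZMod 3).val = 2 from rfl] at t2
    have w1 : ∀ i < 3, ∀ j < 3, i ≠ j → ω ^ i ≠ ω ^ j := fun i hi j hj h e => h (hω.pow_inj hi hj e)
    have t3 := Submodule.finrank_sup_add_finrank_inf_eq (End.eigenspace (ρ (X 0)) (ω ^ 1)) (End.eigenspace (ρ (X 0)) (ω ^ 2))
    rw [disjoint_iff.1 ((End.eigenspaces_iSupIndep (ρ (X 0))).pairwiseDisjoint (w1 1 (by decide) 2 (by decide) (by decide))),
      finrank_bot] at t3
    have t4 := Submodule.eq_top_of_finrank_eq (le_antisymm (Submodule.finrank_le _) (by omega) :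
      finrank k (End.eigenspace (ρ (X 0)) (ω ^ 1) ⊔ End.eigenspace (ρ (X 0)) (ω ^ 2) : Submodule k V) = _)
    obtain ⟨a, ha, b, hb, rfl⟩ := Submodule.mem_sup.1 (t4.ge (Submodule.mem_top (x := v)))
    rw [End.mem_eigenspace_iff] at ha hb
    have w3 := hω.pow_eq_one
    have w2 : ω ^ 2 + ω + 1 = 0 := by
      have := hω.geom_sum_eq_zero (by decide)
      simp only [Finset.sum_range_succ, Finset.range_zero, Finset.sum_empty] at this
      linear_combination this
    simp only [map_add, ha, hb, map_smul]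
    linear_combination (norm := module) w2 • a + (w2 + ω * w3) • b
  have hq : ∀ i, ρ (X i) * ρ (X i) + ρ (X i) + 1 = 0 := fun i => LinearMap.ext fun v => by
    obtain ⟨g, hg⟩ := hc i
    obtain ⟨v, rfl⟩ : ∃ w', ρ g w' = v := ⟨ρ g⁻¹ v, by rw [← mul_ap, mul_inv_cancel, map_one, End.one_apply]⟩
    have : ∀ v, ρ (X i) (ρ g v) = ρ g (ρ (X 0) v) := fun v => by rw [← mul_ap, hg, mul_ap]
    simpa [this] using congrArg (ρ g) (hq0 v)
  have hr := cliff_rel (fun i => ρ (X i)) hq fun i j h => by rw [← map_mul, ← map_pow, hXX i j h, hz2]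
  have hob : ∀ a b, (a ≠ b → ∑ i, ∑ j, ob a i * ob b j * (if i = j then 3 else 1) = 0) ∧
      ∃ n : Fin 121, n.1 ∣ 240 ∧ ∑ i, ∑ j, ob a i * ob a j * (if i = j then 3 else 1) = n.1 := by decide +kernel
  have := cliff h2 (fun a => ∑ i, ob a i • (2 * ρ (X i) + 1)) (fun a b h => by
    rw [eq_neg_iff_add_eq_zero, hr, (hob a b).1 h]; simp) fun a => by
      obtain ⟨n, t1, t2⟩ := (hob a a).2
      refine ⟨-n.1, neg_ne_zero.2 (hd _ t1), smul_right_injective _ h2 ?_⟩
      simp only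
      rw [two_smul, hr, t2, smul_smul, ← Algebra.algebraMap_eq_smul_one]
      simp [map_ofNat]
  simp at this; omega

end Cfsg.Lib.AltDeg
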