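import Cfsg.Agent.Lib.Exc.E6S

/-! Weights of elementary abelian 2-subgroups. -/

set_option autoImplicit false

namespace Cfsg.Lib.AltDeg

open Module Cfsg.Lib.Pres Cfsg.Lib.Linear Equiv Subgroup

universe u

section
variable {k V : Type*} [Field k] [AddCommGroup V] [Module k V] [FiniteDimensional k V] (h2 : (2 : k) ≠ 0)
include h2

theorem split2 {y : End k V} (hy : ∀ v, y (y v) = v) (W : Submodule k V) (hW : ∀ v ∈ W, y v ∈ W) :
    finrank k W = finrank k (W ⊓ End.eigenspace y 1 : Submodule k V) + finrank k (W ⊓ End.eigenspace y (-1) : Submodule k V) := by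
  have e1 : (W ⊓ End.eigenspace y 1) ⊔ (W ⊓ End.eigenspace y (-1)) = W :=
    le_antisymm (by simp) fun v hv => Submodule.mem_sup.2 ⟨(2 : k)⁻¹ • (v + y v),
      Submodule.mem_inf.2 ⟨W.smul_mem _ (W.add_mem hv (hW v hv)), End.mem_eigenspace_iff.2 (by simp [hy, add_comm])⟩,
      (2 : k)⁻¹ • (v - y v), Submodule.mem_inf.2 ⟨W.smul_mem _ (W.sub_mem hv (hW v hv)),
      End.mem_eigenspace_iff.2 (by simp [hy, ← smul_neg])⟩, by
        rw [← smul_add, add_add_sub_cancel, ← two_smul k v, smul_smul, inv_mul_cancel₀ h2, one_smul]⟩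
  have e2 : (W ⊓ End.eigenspace y 1) ⊓ (W ⊓ End.eigenspace y (-1)) = ⊥ := eq_bot_iff.2 fun v hv => by
    have t1 := End.mem_eigenspace_iff.1 hv.1.2
    have t2 := End.mem_eigenspace_iff.1 hv.2.2
    refine (smul_eq_zero.1 (show (2 : k) • v = 0 from ?_)).resolve_left h2
    linear_combination (norm := module) t2 - t1
  rw [← Submodule.finrank_sup_add_finrank_inf_eq, e1, e2]
  simp

theorem exists_chars {E : Type*} [Group E] (hE : ∀ x : E, x * x = 1) (σ : Representation k E V) (U : Submodule k V)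
    (hU : ∀ x, ∀ v ∈ U, σ x v ∈ U) : ∃ l : Multiset (E →* ℤ), l.card = finrank k U ∧
      ∀ x, (l.map (· x)).sum = finrank k U - 2 * (finrank k (U ⊓ End.eigenspace (σ x) (-1) : Submodule k V) : ℤ) := by
  classical
  have hc : ∀ x y : E, x * y = y * x := fun x y => by
    rw [← inv_eq_of_mul_eq_one_right (hE (x * y)), mul_inv_rev, inv_eq_of_mul_eq_one_right (hE x),
      inv_eq_of_mul_eq_one_right (hE y)]
  have hy : ∀ x v, σ x (σ x v) = v := fun x v => by rw [← mul_ap, hE, map_one, End.one_apply]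
  have hI : ∀ x y a, ∀ v ∈ End.eigenspace (σ y) a, σ x v ∈ End.eigenspace (σ y) a := fun x y a v hv => by
    rw [End.mem_eigenspace_iff] at hv ⊢
    rw [← mul_ap, hc, mul_ap, hv, map_smul]
  induction hn : finrank k U using Nat.strong_induction_on generalizing U with
  | _ n ih =>
  subst hn
  by_cases h : ∃ y, U ⊓ End.eigenspace (σ y) 1 < U ∧ U ⊓ End.eigenspace (σ y) (-1) < U
  · obtain ⟨y, t1, t2⟩ := h
    obtain ⟨l, s1, s2⟩ := ih _ (Submodule.finrank_lt_finrank_of_lt t1) (U ⊓ End.eigenspace (σ y) 1) (fun x v hv => ⟨hU x v hv.1, hI x y _ v hv.2⟩) rfl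
    obtain ⟨l', s3, s4⟩ := ih _ (Submodule.finrank_lt_finrank_of_lt t2) (U ⊓ End.eigenspace (σ y) (-1))
      (fun x v hv => ⟨hU x v hv.1, hI x y _ v hv.2⟩) rfl
    have s5 := split2 h2 (hy y) U (hU y)
    refine ⟨l + l', by rw [Multiset.card_add, s1, s3, s5], fun x => ?_⟩
    rw [Multiset.map_add, Multiset.sum_add, s2, s4, split2 h2 (hy y) (U ⊓ End.eigenspace (σ x) (-1))
      (fun v hv => ⟨hU y v hv.1, hI y x _ v hv.2⟩), inf_right_comm U _ (End.eigenspace (σ y) 1),
      inf_right_comm U _ (End.eigenspace (σ y) (-1)), s5]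
    push_cast; ring
  by_cases h0 : U = ⊥
  · subst h0; exact ⟨0, by simp, by simp⟩
  obtain ⟨v, hv, hv0⟩ := (Submodule.ne_bot_iff _).1 h0
  have h1 : ∀ y, (σ y v = v ∧ U ⊓ End.eigenspace (σ y) (-1) = ⊥) ∨ (σ y v = -v ∧ σ y v ≠ v ∧ U ⊓ End.eigenspace (σ y) (-1) = U) := by
    intro y
    have s5 := split2 h2 (hy y) U (hU y)
    by_cases t : U ⊓ End.eigenspace (σ y) 1 = U
    · refine .inl ⟨by simpa using End.mem_eigenspace_iff.1 (t.ge hv).2, Submodule.finrank_eq_zero.1 ?_⟩
      rw [t] at s5; omega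
    · have t' : U ⊓ End.eigenspace (σ y) (-1) = U := by_contra fun t' =>
        h ⟨y, lt_of_le_of_ne inf_le_left t, lt_of_le_of_ne inf_le_left t'⟩
      have s : σ y v = -v := by simpa using End.mem_eigenspace_iff.1 (t'.ge hv).2
      refine .inr ⟨s, fun e => hv0 ((smul_eq_zero.1 (show (2 : k) • v = 0 from ?_)).resolve_left h2), t'⟩
      linear_combination (norm := module) s - e
  let χ : E →* ℤ := ⟨⟨fun x => if σ x v = v then 1 else -1, by simp⟩, fun x y => by
    simp only [mul_ap]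
    rcases h1 y with t | t <;> rcases h1 x with s | s
    · simp [t.1, s.1]
    · simp [t.1, s.2.1]
    · rw [if_pos s.1, if_neg t.2.1, t.1, map_neg, s.1, ← t.1, if_neg t.2.1]; simp
    · rw [if_neg s.2.1, if_neg t.2.1, t.1, map_neg, s.1]; simp⟩
  refine ⟨Multiset.replicate (finrank k U) χ, by simp, fun x => ?_⟩
  rcases h1 x with s | s
  · rw [s.2]; simp [χ, s.1]
  · rw [s.2.2]; simp [χ, s.2.1]; ring

end

theorem mom1 {E : Type*} [Group E] [Fintype E] (l : Multiset (E →* ℤ)) (χ : E →* ℤ) :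
    ∃ m : ℕ, ∑ x, χ x * (l.map (· x)).sum = Fintype.card E * m := by
  classical
  induction l using Multiset.induction_on with
  | empty => exact ⟨0, by simp⟩
  | cons a l ih =>
    obtain ⟨m, hm⟩ := ih
    have := sum_hom_units (χ * a)
    simp only [Multiset.map_cons, Multiset.sum_cons, mul_add, Finset.sum_add_distrib, hm]
    simp only [MonoidHom.mul_apply] at this
    rw [this]
    split_ifs
    exacts [⟨m + 1, by push_cast; ring⟩, ⟨m, by simp⟩]

theorem mom2 {E : Type*} [Group E] [Fintype E] (hE : ∀ x : E, x * x = 1) (l : Multiset (E →* ℤ)) :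
    (Fintype.card E * l.card : ℤ) ≤ ∑ x, (l.map (· x)).sum ^ 2 := by
  induction l using Multiset.induction_on with
  | empty => simp
  | cons a l ih =>
    obtain ⟨m, hm⟩ := mom1 l a
    have : ∀ x, a x ^ 2 = 1 := fun x => by rw [sq, ← map_mul, hE, map_one]
    simp only [Multiset.map_cons, Multiset.sum_cons, add_sq, Finset.sum_add_distrib, mul_assoc, ← Finset.mul_sum, hm, this,
      Multiset.card_cons, Finset.sum_const, Finset.card_univ]
    have : (0 : ℤ) ≤ Fintype.card E * m := by positivity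
    simp only [nsmul_eq_mul, Nat.cast_add, Nat.cast_one]
    nlinarith

theorem exists_sec {H A E : Type*} [Group H] [Finite H] [Group A] [Group E] [Finite E] {π : H →* A} (hs : Function.Surjective π)
    (ι : E →* A) (hι : Function.Injective ι) (h : (Nat.card π.ker).Coprime (Nat.card E)) : ∃ s : E →* H, ∀ e, π (s e) = ι e := by
  let π' : ι.range.comap π →* E := (MonoidHom.ofInjective hι).symm.toMonoidHom.comp
    ((π.comp (ι.range.comap π).subtype).codRestrict _ fun x => x.2)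
  have h1 : ∀ x, ι (π' x) = π x := fun x => MonoidHom.apply_ofInjective_symm hι _
  have h2 : Function.Surjective π' := fun b => by
    obtain ⟨x, hx⟩ := hs (ι b)
    exact ⟨⟨x, b, hx.symm⟩, hι ((h1 _).trans hx)⟩
  have h3 : π'.ker.index = Nat.card E := by
    rw [index_ker, MonoidHom.range_eq_top.2 h2, card_top]
  obtain ⟨C, hC⟩ := exists_right_complement'_of_coprime (N := π'.ker) (by
    rw [h3]
    refine h.coprime_dvd_left ?_
    rw [← card_map_of_injective (subtype_injective _)]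
    refine card_dvd_of_le ?_
    rintro _ ⟨x, hx, rfl⟩
    exact (h1 x).symm.trans (by rw [show π' x = 1 from hx, map_one]))
  let e := MulEquiv.ofBijective (π'.comp C.subtype) ((Nat.bijective_iff_injective_and_card _).2 ⟨(injective_iff_map_eq_one _).2
    fun x hx => Subtype.ext (disjoint_def.1 hC.disjoint hx x.2), by rw [← h3, hC.symm.index_eq_card]⟩)
  exact ⟨(Subgroup.subtype _).comp (C.subtype.comp e.symm.toMonoidHom), fun a =>
    (h1 _).symm.trans (congrArg ι (e.apply_symm_apply a))⟩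

theorem conj_invol {H A : Type*} [Group H] [Finite H] [Group A] {π : H →* A} (hs : Function.Surjective π)
    (hK : Odd (Nat.card π.ker)) {x y : H} (hx : x * x = 1) (hy : y * y = 1) {g : A} (h : π y = g * π x * g⁻¹) :
    ∃ c, y * c = c * x := by
  obtain ⟨g, rfl⟩ := hs g
  obtain ⟨j, hj⟩ := hK
  obtain ⟨x', hx'⟩ : ∃ x', x' = g * x * g⁻¹ := ⟨_, rfl⟩
  have h1 : x' * x' = 1 := by rw [hx', ← sq, conj_pow, sq, hx]; simp
  have h2 : (x' * y) ^ (2 * j + 1) = 1 := hj ▸ congrArg Subtype.val (pow_card_eq_one' (x := (⟨x' * y, show π _ = 1 by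
    rw [map_mul, h, ← map_inv, ← map_mul, ← map_mul, ← hx', ← map_mul, h1, map_one]⟩ : π.ker)))
  have h3 : SemiconjBy x' (x' * y)⁻¹ (x' * y) := by
    rw [SemiconjBy, mul_inv_rev, inv_eq_of_mul_eq_one_right h1, inv_eq_of_mul_eq_one_right hy, mul_assoc]
  refine ⟨(x' * y) ^ j * g, ?_⟩
  rw [mul_assoc, ← inv_mul_cancel_right (g * x) g, ← hx', ← mul_assoc, ← mul_assoc, mul_left_inj, ← (h3.pow_right j).eq]
  apply mul_left_cancel (a := x')
  rw [← mul_assoc, ← mul_assoc, h1, one_mul, inv_pow, eq_inv_iff_mul_eq_one, ← pow_succ', ← pow_add, ← h2]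
  congr 1; ring

theorem eig_le {k V H : Type*} [Field k] [AddCommGroup V] [Module k V] [FiniteDimensional k V] [Group H]
    (ρ : Representation k H V) {x y c : H} (h : y * c = c * x) (a : k) :
    finrank k (End.eigenspace (ρ x) a) ≤ finrank k (End.eigenspace (ρ y) a) :=
  LinearMap.finrank_le_finrank_of_injective (f := (ρ c).restrict (p := End.eigenspace (ρ x) a) (q := End.eigenspace (ρ y) a)
    fun v hv => End.mem_eigenspace_iff.2 (by rw [← mul_ap, h, mul_ap, End.mem_eigenspace_iff.1 hv, map_smul]))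
    ((injective_iff_map_eq_zero _).2 fun v hv => Subtype.ext (rho_inj ρ c (congrArg Subtype.val hv)))

theorem eig_eq {k V H : Type*} [Field k] [AddCommGroup V] [Module k V] [FiniteDimensional k V] [Group H]
    (ρ : Representation k H V) {x y c : H} (h : y * c = c * x) (a : k) :
    finrank k (End.eigenspace (ρ y) a) = finrank k (End.eigenspace (ρ x) a) :=
  le_antisymm (eig_le ρ (c := c⁻¹) (by rw [mul_inv_eq_iff_eq_mul, mul_assoc, h, inv_mul_cancel_left]) a) (eig_le ρ h a)

variable {k : Type} [Field k] [IsAlgClosed k] (p : ℕ) [Fact p.Prime] [CharP k p]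
  {V : Type} [AddCommGroup V] [Module k V] [FiniteDimensional k V] {H : Type u} [Group H] [Finite H]

omit [IsAlgClosed k] in
theorem two_ne (hp : p ≠ 2) : (2 : k) ≠ 0 := fun e => hp ((Nat.prime_dvd_prime_iff_eq Fact.out Nat.prime_two).1
  ((CharP.cast_eq_zero_iff k p 2).1 (by exact_mod_cast e)))

omit [IsAlgClosed k] [Finite H] in
/-- First and second moments of the trace function on an elementary abelian 2-group. -/
theorem moments (hp : p ≠ 2) (ρ : Representation k H V) {E : Type*} [Group E] [Fintype E] (hE : ∀ x : E, x * x = 1) (s : E →* H) :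
    (∃ m : ℕ, ∑ x, (finrank k V - 2 * (finrank k (End.eigenspace (ρ (s x)) (-1)) : ℤ)) = Fintype.card E * m) ∧
      (Fintype.card E * finrank k V : ℤ) ≤ ∑ x, (finrank k V - 2 * (finrank k (End.eigenspace (ρ (s x)) (-1)) : ℤ)) ^ 2 := by
  obtain ⟨l, h1, h2⟩ := exists_chars (two_ne p hp) hE (ρ.comp s) ⊤ (by simp)
  have h3 := mom1 l 1
  have h4 := mom2 hE l
  simp only [h1, h2, finrank_top, MonoidHom.one_apply, one_mul] at h3 h4
  have h5 : ∀ x, finrank k (⊤ ⊓ End.eigenspace ((ρ.comp s) x) (-1) : Submodule k V) =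
      finrank k (End.eigenspace (ρ (s x)) (-1)) := fun x => by rw [top_inf_eq]; rfl
  simp only [h5] at h3 h4
  exact ⟨h3, h4⟩

omit [IsAlgClosed k] [Finite H] in
theorem eig_one (hp : p ≠ 2) (ρ : Representation k H V) : finrank k (End.eigenspace (ρ 1) (-1)) = 0 :=
  Submodule.finrank_eq_zero.2 (eq_bot_iff.2 fun v hv => by
    have := End.mem_eigenspace_iff.1 hv
    rw [map_one, End.one_apply] at this
    refine (smul_eq_zero.1 (show (2 : k) • v = 0 from ?_)).resolve_left (two_ne p hp)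
    linear_combination (norm := module) this)

omit [IsAlgClosed k] in
theorem big2 (hp : p ≠ 2) (ρ : Representation k H V) (hV : finrank k V = 27)
    (h2 : ∀ y : H, y ^ 2 = 1 → y ≠ 1 → finrank k (End.eigenspace (ρ y) (-1)) = 12 ∨ finrank k (End.eigenspace (ρ y) (-1)) = 16)
    (E : Subgroup H) (hE : ∀ x ∈ E, x ^ 2 = 1) : Nat.card E < 512 := by
  classical
  have := Fintype.ofFinite E
  have h1 := (moments p hp ρ (fun x : E => Subtype.ext ((sq _).symm.trans (hE x x.2))) E.subtype).2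
  have h3 := h1.trans (Finset.sum_le_sum (g := fun x => 25 + if x = 1 then 704 else 0) fun x _ => by
    split_ifs with e
    · rw [e, map_one, eig_one p hp, hV]; norm_num
    · rcases h2 x (hE x x.2) (fun t => e (Subtype.ext t)) with t | t <;> rw [hV, show E.subtype x = x from rfl, t] <;> norm_num)
  rw [Finset.sum_add_distrib, hV] at h3
  simp only [Finset.sum_const, Finset.card_univ, Finset.sum_ite_eq', Finset.mem_univ, if_true, nsmul_eq_mul] at h3
  rw [Nat.card_eq_fintype_card]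
  omega

/-- The group generated by two commuting four-groups. -/
def f16 : Multiplicative (ZMod 2 × ZMod 2 × ZMod 2 × ZMod 2) →* alternatingGroup (Fin 8) :=
  (MonoidHom.mk' (fun v => (c[0, 1] * c[2, 3]) ^ v.toAdd.1.val * (c[0, 2] * c[1, 3]) ^ v.toAdd.2.1.val *
    (c[4, 5] * c[6, 7]) ^ v.toAdd.2.2.1.val * (c[4, 6] * c[5, 7]) ^ v.toAdd.2.2.2.val) (by decide +kernel)).codRestrict _
    fun v => Perm.mem_alternatingGroup.2 (by revert v; decide +kernel)

/-- A regular elementary abelian group of order eight. -/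
def f8 : Multiplicative (ZMod 2 × ZMod 2 × ZMod 2) →* alternatingGroup (Fin 8) :=
  (MonoidHom.mk' (fun v => (c[0, 1] * c[2, 3] * c[4, 5] * c[6, 7]) ^ v.toAdd.1.val *
    (c[0, 2] * c[1, 3] * c[4, 6] * c[5, 7]) ^ v.toAdd.2.1.val * (c[0, 4] * c[1, 5] * c[2, 6] * c[3, 7]) ^ v.toAdd.2.2.val)
    (by decide +kernel)).codRestrict _ fun v => Perm.mem_alternatingGroup.2 (by revert v; decide +kernel)

omit [IsAlgClosed k] in
theorem lin8 (hp : p ≠ 2) (ρ : Representation k H V) (hV : finrank k V = 27)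
    (h2 : ∀ y : H, y ^ 2 = 1 → y ≠ 1 → finrank k (End.eigenspace (ρ y) (-1)) = 12 ∨ finrank k (End.eigenspace (ρ y) (-1)) = 16)
    {r : ℕ} (hr : 8 ≤ r) (π : H →* alternatingGroup (Fin r)) (hs : Function.Surjective π) (hK : Odd (Nat.card π.ker)) : False := by
  let ι := emb (Fin.castLEEmb hr)
  have hι : Function.Injective ι := emb_inj _
  obtain ⟨s, h1⟩ := exists_sec hs (ι.comp f16) (hι.comp ((injective_iff_map_eq_one _).2 (by decide +kernel)))
    (by simpa using (Nat.coprime_two_right.2 hK).pow_right 4)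
  obtain ⟨s', h1'⟩ := exists_sec hs (ι.comp f8) (hι.comp ((injective_iff_map_eq_one _).2 (by decide +kernel)))
    (by simpa using (Nat.coprime_two_right.2 hK).pow_right 3)
  have e1 : ∀ x : Multiplicative (ZMod 2 × ZMod 2 × ZMod 2 × ZMod 2), x * x = 1 := by decide
  have e2 : ∀ x : Multiplicative (ZMod 2 × ZMod 2 × ZMod 2), x * x = 1 := by decide
  have hc : ∀ {x y : H} {a b : alternatingGroup (Fin 8)}, x * x = 1 → y * y = 1 → π x = ι a → π y = ι b → (∃ g, b = g * a * g⁻¹) →
      finrank k (End.eigenspace (ρ y) (-1)) = finrank k (End.eigenspace (ρ x) (-1)) := by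
    rintro x y a b t1 t2 t3 t4 ⟨g, rfl⟩
    obtain ⟨c, hc⟩ := conj_invol hs hK t1 t2 (g := ι g) (by simp [t3, t4])
    exact eig_eq ρ hc _
  have q1 : ∀ x, s x * s x = 1 := fun x => by rw [← map_mul, e1, map_one]
  have q2 : ∀ x, s' x * s' x = 1 := fun x => by rw [← map_mul, e2, map_one]
  let a := Multiplicative.ofAdd ((1, 0, 0, 0) : ZMod 2 × ZMod 2 × ZMod 2 × ZMod 2)
  let b := Multiplicative.ofAdd ((1, 0, 0) : ZMod 2 × ZMod 2 × ZMod 2)
  let g1 : alternatingGroup (Fin 8) := ⟨c[1, 2, 4, 3, 6, 7, 5], Perm.mem_alternatingGroup.2 (by decide +kernel)⟩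
  let g2 : alternatingGroup (Fin 8) := ⟨c[1, 2, 3], Perm.mem_alternatingGroup.2 (by decide +kernel)⟩
  let g3 : alternatingGroup (Fin 8) := ⟨c[5, 6, 7], Perm.mem_alternatingGroup.2 (by decide +kernel)⟩
  let g4 : alternatingGroup (Fin 8) := f8 (Multiplicative.ofAdd (0, 0, 1))
  have c1 : ∀ x, x ≠ 1 → ∃ i < 7, f8 x = g1 ^ i * f8 b * (g1 ^ i)⁻¹ := by decide +kernel
  have c2 : ∀ x, x ≠ 1 → if x.toAdd.1 = 0 ∧ x.toAdd.2.1 = 0 ∨ x.toAdd.2.2 = 0 then
      ∃ i < 3, ∃ j < 2, f16 x = g4 ^ j * g2 ^ i * f16 a * (g4 ^ j * g2 ^ i)⁻¹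
      else ∃ i < 3, ∃ j < 3, f16 x = g3 ^ j * g2 ^ i * f8 b * (g3 ^ j * g2 ^ i)⁻¹ := by decide +kernel
  obtain ⟨m, hm⟩ := (moments p hp ρ e1 s).1
  obtain ⟨m', hm'⟩ := (moments p hp ρ e2 s').1
  have ha := h2 (s a) ((sq _).trans (q1 a)) fun e => absurd (hι ((h1 a).symm.trans (by rw [e, map_one, map_one])))
    (show f16 a ≠ 1 by decide +kernel)
  have hb := h2 (s' b) ((sq _).trans (q2 b)) fun e => absurd (hι ((h1' b).symm.trans (by rw [e, map_one, map_one])))
    (show f8 b ≠ 1 by decide +kernel)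
  generalize hA : finrank k (End.eigenspace (ρ (s a)) (-1)) = A at ha
  generalize hB : finrank k (End.eigenspace (ρ (s' b)) (-1)) = B at hb
  rw [Finset.sum_congr rfl (g := fun x => (27 : ℤ) - 2 * (if x = 1 then 0 else B : ℕ)) fun x _ => by
    split_ifs with e
    · rw [e, map_one, eig_one p hp, hV]; rfl
    · obtain ⟨i, -, t⟩ := c1 x e
      rw [hc (q2 b) (q2 x) (h1' b) (h1' x) ⟨_, t⟩, hB, hV]; rfl] at hm'
  rw [Finset.sum_congr rfl (g := fun x => (27 : ℤ) - 2 * (if x = 1 then 0 else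
      if x.toAdd.1 = 0 ∧ x.toAdd.2.1 = 0 ∨ x.toAdd.2.2 = 0 then A else B : ℕ)) fun x _ => by
    by_cases e : x = 1
    · rw [if_pos e, e, map_one, eig_one p hp, hV]; rfl
    have := c2 x e
    rw [if_neg e]
    split_ifs at this ⊢
    · obtain ⟨i, -, j, -, t⟩ := this
      rw [hc (q1 a) (q1 x) (h1 a) (h1 x) ⟨_, t⟩, hA, hV]; rfl
    · obtain ⟨i, -, j, -, t⟩ := this
      rw [hc (q2 b) (q1 x) (h1' b) (h1 x) ⟨_, t⟩, hB, hV]; rfl] at hm
  rw [show Fintype.card (Multiplicative (ZMod 2 × ZMod 2 × ZMod 2)) = 8 by simp] at hm'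
  rw [show Fintype.card (Multiplicative (ZMod 2 × ZMod 2 × ZMod 2 × ZMod 2)) = 16 by simp] at hm
  rcases hb with rfl | rfl
  · rcases ha with rfl | rfl
    · have := (show (72 : ℤ) = _ by decide +kernel).trans hm; omega
    · have := (show (24 : ℤ) = _ by decide +kernel).trans hm; omega
  · have := (show (-8 : ℤ) = _ by decide +kernel).trans hm'; omega

end Cfsg.Lib.AltDeg
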