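/-
Rational vectors modulo five and seven for the Weyl group of type E₇: definitions.
-/
import Cfsg.Agent.Lib.Chev.Eval

set_option autoImplicit false
set_option maxRecDepth 100000

namespace Cfsg.Lib.AltSec

open Cfsg.Lib.Chev

/-- Seven natural numbers. -/
abbrev T7 := ℕ × ℕ × ℕ × ℕ × ℕ × ℕ × ℕ

/-- Twice the weights of the minuscule module, modulo 35. -/
def L56 : List T7 := [(2, 3, 4, 6, 5, 4, 3), (2, 3, 4, 6, 5, 4, 1), (2, 3, 4, 6, 5, 2, 1), (2, 3, 4, 6, 3, 2, 1), (2, 3, 4, 4, 3, 2, 1), (2, 3, 2, 4, 3, 2, 1), (2, 1, 4, 4, 3, 2, 1), (2, 1, 2, 4, 3, 2, 1), (2, 1, 2, 2, 3, 2, 1), (2, 1, 2, 2, 1, 2, 1), (2, 1, 2, 2, 1, 0, 1), (2, 1, 2, 2, 1, 0, 34), (0, 3, 2, 4, 3, 2, 1), (0, 1, 2, 4, 3, 2, 1), (0, 1, 2, 2, 3, 2, 1), (0, 1, 2, 2, 1, 2, 1), (0, 1, 2, 2, 1, 0, 1), (0, 1, 2, 2, 1, 0, 34), (0, 1, 0, 2, 3, 2, 1), (0, 1, 0, 2, 1, 2, 1), (0, 1, 0, 2, 1, 0, 1), (0, 1,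 0, 2, 1, 0, 34), (0, 1, 0, 0, 1, 2, 1), (0, 1, 0, 0, 1, 0, 1), (0, 1, 0, 0, 1, 0, 34), (0, 1, 0, 0, 34, 0, 1), (0, 1, 0, 0, 34, 0, 34), (0, 1, 0, 0, 34, 33, 34), (0, 34, 0, 0, 1, 2, 1), (0, 34, 0, 0, 1, 0, 1), (0, 34, 0, 0, 1, 0, 34), (0, 34, 0, 0, 34, 0, 1), (0, 34, 0, 0, 34, 0, 34), (0, 34, 0, 0, 34, 33, 34), (0, 34, 0, 33, 34, 0, 1), (0, 34, 0, 33, 34, 0, 34), (0, 34, 0, 33, 34, 33, 34), (0, 34, 0, 33, 32, 33, 34), (0, 34, 33, 33, 34, 0, 1), (0, 34, 33, 33, 34, 0, 34), (0, 34, 33, 33, 34, 33, 34), (0, 34, 33, 33, 32, 33, 34), (0, 34, 33, 31, 32, 33, 34), (0, 32, 33, 31, 32, 33, 34), (33, 34, 33, 33, 34, 0, 1), (33, 34, 33, 33, 34, 0, 34), (33, 34, 33, 33, 34, 33, 34), (33, 34, 33, 33, 32, 33, 34), (33, 34, 33, 31, 32, 33, 34), (33, 34, 31, 31, 32, 33, 34), (33, 32, 33, 31, 32, 33, 34), (33, 32, 31, 31, 32, 33, 34), (33, 32, 31, 29, 32, 33, 34), (33, 32, 31, 29,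 30, 33, 34), (33, 32, 31, 29, 30, 31, 34), (33, 32, 31, 29, 30, 31, 32)]

/-- A linear form. -/
def lin7 (a b c d e f g : ℕ) (t : T7) : ℕ :=
  Nat.add (Nat.add (Nat.add (Nat.add (Nat.add (Nat.add (Nat.mul a t.1) (Nat.mul b t.2.1)) (Nat.mul c t.2.2.1)) (Nat.mul d t.2.2.2.1))
    (Nat.mul e t.2.2.2.2.1)) (Nat.mul f t.2.2.2.2.2.1)) (Nat.mul g t.2.2.2.2.2.2)

/-- The invariant quadratic form. -/
def q56 (a b c d e f g : ℕ) : ℕ := Nat.add (Nat.add (Nat.add (Nat.add (Nat.add (Nat.add (Nat.mul a (Nat.add (Nat.add (Nat.add (Nat.add (Nat.add (Nat.add (Nat.mul 13116 a) (Nat.mul 26232 b)) (Nat.mul 25488 c)) (Nat.mul 24744 d)) (Nat.mul 25488 e)) (Nat.mul 21612 f)) (Nat.mul 24806 g))) (Nat.mul b (Nat.add (Nat.add (Nat.add (Nat.add (Nat.add (Nat.mul 31528 b) (Nat.mul 38884 c)) (Nat.mul 46916 d)) (Nat.mul 55382 e)) (Nat.mul 37318 f)) (Nat.mul 50684 g)))) (Nat.mul c (Nat.add (Nat.add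 (Nat.add (Nat.add (Nat.mul 18978 c) (Nat.mul 37028 d)) (Nat.mul 37956 e)) (Nat.mul 29644 f)) (Nat.mul 35472 g)))) (Nat.mul d (Nat.add (Nat.add (Nat.add (Nat.mul 22486 d) (Nat.mul 45944 e)) (Nat.mul 33056 f)) (Nat.mul 41378 g)))) (Nat.mul e (Nat.add (Nat.add (Nat.mul 30460 e) (Nat.mul 38280 f)) (Nat.mul 51690 g)))) (Nat.mul f (Nat.add (Nat.mul 19442 f) (Nat.mul 40092 g)))) (Nat.mul g (Nat.mul 32272 g))

/-- Table lookup. -/
def tb56 (T v : ℕ) : ℕ := Nat.mod (Nat.shiftRight T (Nat.mul 50 v)) 1125899906842624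

/-- The signature of the values. -/
noncomputable def tot56 (l T a b c d e f g : ℕ) : ℕ :=
  List.rec 0 (fun t _ ih => Nat.add (tb56 T (Nat.mod (lin7 a b c d e f g t) l)) ih) L56

/-- The final test. -/
def fin56 (m s : ℕ) : Bool :=
  Bool.rec true (Nat.beq (Nat.mod (Nat.shiftRight m (Nat.div s 281474976710656)) 2) 1) (Nat.beq (Nat.mod s 281474976710656) 3848290697216)

/-- The check. -/
noncomputable def ck56 (l T m a b c d e f g : ℕ) : Bool :=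
  Bool.rec true (fin56 m (tot56 l T a b c d e f g)) (Nat.beq (Nat.mod (q56 a b c d e f g) l) 0)

/-- The check modulo seven. -/
noncomputable def ck7 (a b c d e f g : ℕ) : Bool := ck56 7 34175792574856949458646360431544494317876334019200036609234636436810536765762714283543639619534848 1048836 a b c d e f g

/-- The check modulo five. -/
noncomputable def ck5 (a b c d e f g : ℕ) : Bool := ck56 5 110401402851148642267248780795125812807242760047736694147656166815039488 65536 a b c d e f g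

/-- Five nested loops. -/
noncomputable def all5 (l : ℕ) (F : ℕ → ℕ → ℕ → ℕ → ℕ → Bool) : Bool :=
  allLt l fun c => allLt l fun d => allLt l fun e => allLt l fun f => allLt l fun g => F c d e f g

end Cfsg.Lib.AltSec
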