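/-
Rational vectors modulo five and seven for the Weyl group of type E₇: kernel checks.
-/
import Cfsg.Agent.Lib.Exc.E7N0

set_option autoImplicit false
set_option maxRecDepth 100000

namespace Cfsg.Lib.AltSec

open Cfsg.Lib.Chev

theorem ck7_10 : all5 7 (ck7 1 0) = true := by decide +kernel
theorem ck7_11 : all5 7 (ck7 1 1) = true := by decide +kernel
theorem ck7_12 : all5 7 (ck7 1 2) = true := by decide +kernel

end Cfsg.Lib.AltSec
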