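/-
Rational vectors modulo five and seven for the Weyl group of type E₇: kernel checks.
-/
import Cfsg.Agent.Lib.Exc.E7N0

set_option autoImplicit false
set_option maxRecDepth 100000

namespace Cfsg.Lib.AltSec

open Cfsg.Lib.Chev

theorem ck5_1 : allLt 5 (fun b => all5 5 (ck5 1 b)) = true := by decide +kernel
theorem ck5_0 : all5 5 (fun c d e f g => ck5 0 1 c d e f g && ck5 0 0 1 d e f g && ck5 0 0 0 1 e f g && ck5 0 0 0 0 1 f g &&
    ck5 0 0 0 0 0 1 g && ck5 0 0 0 0 0 0 1) = true := by decide +kernel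

end Cfsg.Lib.AltSec
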