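/-
Rational vectors modulo five and seven for the Weyl group of type E₇.
-/
import Cfsg.Agent.Lib.Exc.E7N1
import Cfsg.Agent.Lib.Exc.E7N2
import Cfsg.Agent.Lib.Exc.E7N3
import Cfsg.Agent.Lib.Exc.E7N4
import Cfsg.Agent.Lib.Twist.WeylAll

set_option autoImplicit false
set_option maxRecDepth 100000

namespace Cfsg.Lib.AltSec

open Cfsg.Lib.Chev Cfsg.Lib.Twist Cfsg.Lie

/-- The weights as vectors. -/
def tv7 (l : ℕ) (t : T7) : Fin 7 → ZMod l := ![t.1, t.2.1, t.2.2.1, t.2.2.2.1, t.2.2.2.2.1, t.2.2.2.2.2.1, t.2.2.2.2.2.2]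

/-- The multiset of values. -/
def ms56 {l : ℕ} (β : Fin 7 → ZMod l) : Multiset (ZMod l) := ((L56.map (tv7 l)).map fun m => ∑ i, m i * β i : List _)

/-- Invariance of the weights. -/
def Inv56 (l : ℕ) : Prop := ∀ j : Fin 7, ((L56.map (tv7 l)).map fun m i => m i - if i = j then ∑ k : Fin 7,
  m k * (aN tabE7.Am j k : ZMod l) else 0).Perm (L56.map (tv7 l))

theorem inv56_7 : Inv56 7 := by unfold Inv56; decide +kernel
theorem inv56_5 : Inv56 5 := by unfold Inv56; decide +kernel

variable {l : ℕ}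

theorem ms56_refl (h : Inv56 l) (j : Fin 7) (β : Fin 7 → ZMod l) :
    ms56 (fun i => β i - (aN tabE7.Am j i : ZMod l) * β j) = ms56 β := by
  refine Eq.trans ?_ (Multiset.coe_eq_coe.2 ((h j).map fun m => ∑ i, m i * β i))
  rw [ms56, List.map_map (l := L56.map (tv7 l))]
  congr 2
  funext m
  simp only [Function.comp, mul_sub, sub_mul, Finset.sum_sub_distrib, ite_mul, zero_mul, Finset.sum_ite_eq', Finset.mem_univ, if_true,
    Finset.sum_mul, mul_assoc]

theorem ms56_smul (u : ZMod l) (β : Fin 7 → ZMod l) : ms56 (u • β) = (ms56 β).map (u * ·) := by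
  simp only [ms56, Multiset.map_coe, List.map_map, Pi.smul_apply, smul_eq_mul]
  congr 2
  funext m
  simp only [Function.comp, Finset.mul_sum, mul_left_comm]

theorem ms56_eq [NeZero l] (β : Fin 7 → ZMod l) : ms56 β = (L56.map fun t =>
    ((lin7 (β 0).val (β 1).val (β 2).val (β 3).val (β 4).val (β 5).val (β 6).val t : ℕ) : ZMod l) : List _) := by
  rw [ms56, List.map_map]
  congr 2
  funext t
  simp [lin7, tv7, Fin.sum_univ_seven, mul_comm]

theorem q56_eq (a b c d e f g : ℕ) : q56 a b c d e f g = (L56.map fun t => lin7 a b c d e f g t ^ 2).sum := by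
  simp only [L56, List.map_cons, List.map_nil, List.sum_cons, List.sum_nil, lin7, q56, Nat.add_eq, Nat.mul_eq]
  ring

theorem rec_sum {α : Type} (F : α → ℕ) (L : List α) : List.rec 0 (fun t _ ih => Nat.add (F t) ih) L = (L.map F).sum := by
  induction L with
  | nil => rfl
  | cons t L ih => exact congrArg (F t + ·) ih

theorem ck56_spec [Fact l.Prime] {k : ZMod l} (hk : k ^ 2 - 1 ≠ 0) {T m : ℕ}
    (hT : ∀ x : ZMod l, tb56 T x.val + 64 ^ x.val = 64 ^ 6 + 64 ^ (k * x).val + if 0 = x then 281474976710656 else 0)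
    {β : Fin 7 → ZMod l} (h : ms56 (k • β) = ms56 β)
    (hc : ck56 l T m (β 0).val (β 1).val (β 2).val (β 3).val (β 4).val (β 5).val (β 6).val = true) :
    (m >>> (ms56 β).count 0) % 2 = 1 := by
  rw [ms56_smul] at h
  have h0 := ms56_eq β
  generalize (β 0).val = a, (β 1).val = b, (β 2).val = c, (β 3).val = d, (β 4).val = e, (β 5).val = f, (β 6).val = g at h0 hc
  generalize ms56 β = s at h h0
  have h2 := congrArg (fun s : Multiset (ZMod l) => (s.map (· ^ 2)).sum) h
  simp only [Multiset.map_map, Function.comp_def, mul_pow, Multiset.sum_map_mul_left] at h2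
  have h4 : ((q56 a b c d e f g : ℕ) : ZMod l) = 0 := by
    rw [q56_eq, Nat.cast_list_sum, List.map_map]
    refine (mul_eq_zero.1 (?_ : (k ^ 2 - 1) * _ = 0)).resolve_left hk
    simp only [h0, Multiset.map_coe, List.map_map, Multiset.sum_coe, Function.comp_def] at h2
    simp only [Function.comp_def, Nat.cast_pow, sub_mul, h2, one_mul, sub_self]
  have h5 : tot56 l T a b c d e f g = (s.map fun x => tb56 T x.val).sum := by
    rw [tot56, rec_sum, h0, Multiset.map_coe, List.map_map, Multiset.sum_coe]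
    simp only [Function.comp_def, ZMod.val_natCast]
    rfl
  have h6 : ∀ s : Multiset (ZMod l), (s.map fun x => tb56 T x.val).sum + (s.map fun x => 64 ^ x.val).sum =
      s.card * 64 ^ 6 + ((s.map (k * ·)).map fun x => 64 ^ x.val).sum + s.count 0 * 281474976710656 := fun s => by
    induction s using Multiset.induction_on with
    | empty => simp
    | cons x s ih =>
      have := hT x
      simp only [Multiset.map_cons, Multiset.sum_cons, Multiset.card_cons, Multiset.count_cons]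
      split_ifs at this ⊢ <;> omega
  have h7 := h6 s
  rw [h, ← h5, show s.card = 56 by rw [h0]; rfl] at h7
  rw [ck56, show Nat.mod (q56 a b c d e f g) l = 0 from (ZMod.val_natCast l _).symm.trans (h4 ▸ ZMod.val_zero), Nat.beq_refl,
    show tot56 l T a b c d e f g = 3848290697216 + s.count 0 * 281474976710656 by omega, fin56,
    show Nat.mod (3848290697216 + s.count 0 * 281474976710656) 281474976710656 = 3848290697216 from
      (by omega : (3848290697216 + s.count 0 * 281474976710656) % 281474976710656 = _),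
    show Nat.div (3848290697216 + s.count 0 * 281474976710656) 281474976710656 = s.count 0 from
      (by omega : (3848290697216 + s.count 0 * 281474976710656) / 281474976710656 = _), Nat.beq_refl] at hc
  exact Nat.eq_of_beq_eq_true hc

theorem rat56 [Fact l.Prime] {k : ZMod l} (hk : k ^ 2 - 1 ≠ 0) {T m : ℕ}
    (hT : ∀ x : ZMod l, tb56 T x.val + 64 ^ x.val = 64 ^ 6 + 64 ^ (k * x).val + if 0 = x then 281474976710656 else 0)
    (H : ∀ b < l, ∀ c < l, ∀ d < l, ∀ e < l, ∀ f < l, ∀ g < l, ck56 l T m 1 b c d e f g = true ∧ ck56 l T m 0 1 c d e f g = true ∧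
      (((ck56 l T m 0 0 1 d e f g = true ∧ ck56 l T m 0 0 0 1 e f g = true) ∧ ck56 l T m 0 0 0 0 1 f g = true) ∧
      ck56 l T m 0 0 0 0 0 1 g = true) ∧ ck56 l T m 0 0 0 0 0 0 1 = true)
    {β : Fin 7 → ZMod l} (h : ms56 (k • β) = ms56 β) (h0 : β ≠ 0) : (m >>> (ms56 β).count 0) % 2 = 1 := by
  have key : ∀ i, β i ≠ 0 → ck56 l T m ((β i)⁻¹ * β 0).val ((β i)⁻¹ * β 1).val ((β i)⁻¹ * β 2).val ((β i)⁻¹ * β 3).val
      ((β i)⁻¹ * β 4).val ((β i)⁻¹ * β 5).val ((β i)⁻¹ * β 6).val = true → (m >>> (ms56 β).count 0) % 2 = 1 := fun i e t => by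
    have := ck56_spec hk hT (β := (β i)⁻¹ • β) (by rw [smul_comm, ms56_smul, h, ms56_smul]) t
    rwa [ms56_smul, ← mul_zero (β i)⁻¹, Multiset.count_map_eq_count' _ _ (mul_right_injective₀ (inv_ne_zero e))] at this
  have H' := fun b c d e f g : ZMod l => H _ b.val_lt _ c.val_lt _ d.val_lt _ e.val_lt _ f.val_lt _ g.val_lt
  by_cases e0 : β 0 = 0; swap
  · exact key 0 e0 (by rw [inv_mul_cancel₀ e0, ZMod.val_one]; exact (H' _ _ _ _ _ _).1)
  by_cases e1 : β 1 = 0; swap
  · exact key 1 e1 (by rw [inv_mul_cancel₀ e1, ZMod.val_one, e0, mul_zero, ZMod.val_zero]; exact (H' 0 _ _ _ _ _).2.1)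
  by_cases e2 : β 2 = 0; swap
  · exact key 2 e2 (by rw [inv_mul_cancel₀ e2, ZMod.val_one, e0, e1, mul_zero, ZMod.val_zero]; exact (H' 0 0 _ _ _ _).2.2.1.1.1.1)
  by_cases e3 : β 3 = 0; swap
  · exact key 3 e3 (by rw [inv_mul_cancel₀ e3, ZMod.val_one, e0, e1, e2, mul_zero, ZMod.val_zero]; exact (H' 0 0 0 _ _ _).2.2.1.1.1.2)
  by_cases e4 : β 4 = 0; swap
  · exact key 4 e4 (by rw [inv_mul_cancel₀ e4, ZMod.val_one, e0, e1, e2, e3, mul_zero, ZMod.val_zero]; exact (H' 0 0 0 0 _ _).2.2.1.1.2)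
  by_cases e5 : β 5 = 0; swap
  · exact key 5 e5 (by
      rw [inv_mul_cancel₀ e5, ZMod.val_one, e0, e1, e2, e3, e4, mul_zero, ZMod.val_zero]; exact (H' 0 0 0 0 0 _).2.2.1.2)
  by_cases e6 : β 6 = 0; swap
  · exact key 6 e6 (by
      rw [inv_mul_cancel₀ e6, ZMod.val_one, e0, e1, e2, e3, e4, e5, mul_zero, ZMod.val_zero]; exact (H' 0 0 0 0 0 0).2.2.2)
  exact absurd (funext fun i => by fin_cases i <;> assumption) h0

theorem all5_spec {F : ℕ → ℕ → ℕ → ℕ → ℕ → Bool} (h : all5 l F = true) : ∀ c < l, ∀ d < l, ∀ e < l, ∀ f < l, ∀ g < l, F c d e f g = true :=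
  fun c hc d hd e he f hf g hg => allLt_spec (allLt_spec (allLt_spec (allLt_spec (allLt_spec h c hc) d hd) e he) f hf) g hg

theorem count56_le (β : Fin 7 → ZMod l) : (ms56 β).count 0 < 57 := Nat.lt_succ_of_le (Multiset.count_le_card _ _)

theorem rat7 {β : Fin 7 → ZMod 7} (h : ms56 ((3 : ZMod 7) • β) = ms56 β) (h0 : β ≠ 0) : (ms56 β).count 0 ∈ [2, 8, 20] := by
  have := @rat56 7 ⟨by decide⟩ 3 (by decide) _ _ (by decide +kernel) (fun b hb c hc d hd e he f hf g hg => ⟨by
    interval_cases b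
    exacts [all5_spec ck7_10 c hc d hd e he f hf g hg, all5_spec ck7_11 c hc d hd e he f hf g hg, all5_spec ck7_12 c hc d hd e he f hf g hg,
      all5_spec ck7_13 c hc d hd e he f hf g hg, all5_spec ck7_14 c hc d hd e he f hf g hg, all5_spec ck7_15 c hc d hd e he f hf g hg,
      all5_spec ck7_16 c hc d hd e he f hf g hg], all5_spec ck7_01 c hc d hd e he f hf g hg, by
    simpa only [Nat.beq_refl, Bool.and_eq_true, ck7] using all5_spec ck7_00 0 (by decide) d hd e he f hf g hg⟩) β h h0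
  exact (by decide +kernel : ∀ n < 57, (1048836 >>> n) % 2 = 1 → n ∈ [2, 8, 20]) _ (count56_le β) this

theorem rat5 {β : Fin 7 → ZMod 5} (h : ms56 ((2 : ZMod 5) • β) = ms56 β) (h0 : β ≠ 0) : (ms56 β).count 0 = 16 := by
  have := @rat56 5 ⟨by decide⟩ 2 (by decide) _ _ (by decide +kernel) (fun b hb c hc d hd e he f hf g hg => ⟨
    all5_spec (allLt_spec ck5_1 b hb) c hc d hd e he f hf g hg, by
    simpa only [Bool.and_eq_true, ck5, and_assoc] using all5_spec ck5_0 c hc d hd e he f hf g hg⟩) β h h0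
  exact (by decide +kernel : ∀ n < 57, (65536 >>> n) % 2 = 1 → n = 16) _ (count56_le β) this

theorem aN_E7 : ∀ j i : Fin 7, aN tabE7.Am j i = (![![2,0,-1,0,0,0,0], ![0,2,0,-1,0,0,0], ![-1,0,2,-1,0,0,0], ![0,-1,-1,2,-1,0,0],
    ![0,0,0,-1,2,-1,0], ![0,0,0,0,-1,2,-1], ![0,0,0,0,0,-1,2]] : Fin 7 → Fin 7 → ℤ) j i := by decide +kernel

theorem fix7 {β : Fin 7 → ZMod 7} (h : ms56 ((3 : ZMod 7) • β) = ms56 β)
    (h1 : ([0, 2, 3, 4, 5, 6] : List (Fin 7)).foldl (fun β (j i : Fin 7) => β i - (aN tabE7.Am j i : ZMod 7) * β j) β = β) : β = 0 := by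
  have h7 : (7 : ZMod 7) = 0 := rfl
  simp only [aN_E7, List.foldl] at h1
  have e0 := congrFun h1 0
  have e1 := congrFun h1 1
  have e2 := congrFun h1 2
  have e3 := congrFun h1 3
  have e4 := congrFun h1 4
  have e5 := congrFun h1 5
  simp only [Matrix.cons_val, Int.cast_ofNat, Int.cast_neg, Int.cast_one, Int.cast_zero] at e0 e1 e2 e3 e4 e5
  have t0 : β 0 = 0 := by linear_combination 5 * e1 - 10 * e0 - 5 * e2 - 2 * β 0 * h7
  have : β = ![0, β 1, 0, 0, 0, 0, 0] := funext fun i => by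
    fin_cases i <;> simp only [Fin.reduceFinMk, Matrix.cons_val]
    exacts [t0, by linear_combination t0 + e0, by linear_combination t0 + e0 + e2, by linear_combination t0 + e0 + e2 + e3,
      by linear_combination t0 + e0 + e2 + e3 + e4, by linear_combination t0 + e0 + e2 + e3 + e4 + e5]
  rw [this] at h ⊢
  revert h
  generalize β 1 = b
  revert b
  decide +kernel

theorem fix5 {β : Fin 7 → ZMod 5} (h : ms56 ((2 : ZMod 5) • β) = ms56 β)
    (h1 : ([0, 2, 3, 4] : List (Fin 7)).foldl (fun β (j i : Fin 7) => β i - (aN tabE7.Am j i : ZMod 5) * β j) β = β) : β = 0 := by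
  have h5 : (5 : ZMod 5) = 0 := rfl
  simp only [aN_E7, List.foldl] at h1
  have e0 := congrFun h1 0
  have e1 := congrFun h1 1
  have e2 := congrFun h1 2
  have e3 := congrFun h1 3
  simp only [Matrix.cons_val, Int.cast_ofNat, Int.cast_neg, Int.cast_one, Int.cast_zero] at e0 e1 e2 e3
  have t0 : β 0 = 0 := by linear_combination 2 * e1 - 4 * e0 - 2 * e2 - β 0 * h5
  have : β = ![0, β 1, 0, 0, 0, β 5, β 6] := funext fun i => by
    fin_cases i <;> simp only [Fin.reduceFinMk, Matrix.cons_val]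
    exacts [t0, by linear_combination t0 + e0, by linear_combination t0 + e0 + e2, by linear_combination t0 + e0 + e2 + e3]
  rw [this] at h ⊢
  revert h
  generalize β 1 = b, β 5 = c, β 6 = d
  revert b c d
  decide +kernel

theorem count_sum {A : Type} [AddCommGroup A] [Fintype A] [Fact l.Prime] {N : ℕ} (hA : Nat.card A = l * N) (β : A →+ (Fin 7 → ZMod l)) :
    N ∣ ∑ v, (ms56 (β v)).count 0 ∧ 56 * N ≤ ∑ v, (ms56 (β v)).count 0 := by
  classical
  suffices h : ∀ L : List (Fin 7 → ZMod l), N ∣ ∑ v, Multiset.count (0 : ZMod l) (L.map fun m => ∑ i, m i * β v i : List _) ∧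
      L.length * N ≤ ∑ v, Multiset.count (0 : ZMod l) (L.map fun m => ∑ i, m i * β v i : List _) from h _
  intro L
  induction L with
  | nil => simp
  | cons m L ih =>
    let φ : A →+ ZMod l := AddMonoidHom.mk' (fun v => ∑ i, m i * β v i) fun a b => by simp [mul_add, Finset.sum_add_distrib]
    have h1 : Nat.card φ.ker = ∑ v, if 0 = ∑ i, m i * β v i then 1 else 0 := by
      rw [← Finset.card_filter, Nat.card_eq_fintype_card, Fintype.card_subtype]
      exact congrArg _ (Finset.filter_congr fun v _ => eq_comm)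
    have h2 := φ.ker.card_mul_index
    have h3 := φ.range.card_addSubgroup_dvd_card
    rw [AddSubgroup.index_ker, hA] at h2
    rw [Nat.card_zmod] at h3
    have h4 : ∃ j, 0 < j ∧ Nat.card φ.ker = j * N := by
      rcases (Nat.dvd_prime Fact.out).1 h3 with e | e <;> rw [e] at h2
      · exact ⟨l, (Fact.out : l.Prime).pos, by omega⟩
      · exact ⟨1, one_pos, Nat.eq_of_mul_eq_mul_right (Fact.out : l.Prime).pos (by rw [h2]; ring)⟩
    obtain ⟨j, hj, h4⟩ := h4
    simp only [List.map_cons, ← Multiset.cons_coe, Multiset.count_cons, Finset.sum_add_distrib, ← h1, h4, List.length_cons]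
    exact ⟨dvd_add ih.1 (dvd_mul_left _ _), by nlinarith [ih.2]⟩

end Cfsg.Lib.AltSec
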