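import Cfsg.Agent.Lib.Exc.E6A
import Cfsg.Agent.Lib.Exc.AltSec3

/-! Lifting elementary abelian subgroups of alternating sections together with their fusion. -/

set_option autoImplicit false

namespace Cfsg.Lib.AltDeg

open Cfsg.Lib.Pres Cfsg.Lib.Linear Equiv Subgroup Cfsg.Lib.Core Cfsg.Lib.Amalg
open scoped commutatorElement

universe u

section
variable {H : Type u} [Group H] [Finite H] {r : ℕ} {π : H →* alternatingGroup (Fin r)} (hs : Function.Surjective π)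
  (hmin : ∀ X : Subgroup H, X.map π = ⊤ → X = ⊤) {l : ℕ} [Fact l.Prime]
include hs hmin

theorem cen_of_rank (hr : 9 ≤ r) {d e : ℕ} (hd : d * e < l ^ (r - 2))
    (hR : ∀ S : Subgroup H, IsPGroup l S → ∃ A ≤ S, (∀ a ∈ A, ∀ b ∈ A, a * b = b * a) ∧ A.relIndex S ≤ e ∧
      Nat.card {a : H // a ∈ A ∧ a ^ l = 1} ≤ d) {P : Subgroup H} (hP : Syl l P π.ker) : P ≤ center H := by
  by_contra hc
  obtain ⟨N, ⟨hNn, hNK, hNc⟩, hNm⟩ := WellFounded.has_min wellFounded_lt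
    {X : Subgroup H | X.Normal ∧ X ≤ P ∧ ¬ X ≤ center H} ⟨P, syl_normal hs hmin hP, le_rfl, hc⟩
  have hN := hP.isPGroup.to_le hNK
  obtain ⟨-, h2, h3⟩ := chief hs hmin hr hN hNc fun X h1 h2 h3 => by
    by_contra e
    exact hNm X ⟨h1, h2.trans hNK, e⟩ (lt_of_le_of_ne h2 h3)
  obtain ⟨A, s1, s2, s3, s4⟩ := hR N hN
  rw [← relIndex_ker, QuotientGroup.ker_mk'] at h3
  have t1 := relIndex_le_of_le_left (L := N) (inf_le_left (a := center H) (b := A)) index_ne_zero_of_finite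
  rw [← relIndex_mul_relIndex _ A N inf_le_right s1, inf_relIndex_right] at t1
  let _ : CommGroup A := { (inferInstance : Group A) with mul_comm := fun a b => Subtype.ext (s2 _ a.2 _ b.2) }
  have t2 : (center H).relIndex A ≤ (powMonoidHom (α := A) l).range.index :=
    index_antitone (by rintro _ ⟨a, rfl⟩; exact h2 _ (s1 a.2))
  rw [index_range] at t2
  have t3 : Nat.card (powMonoidHom (α := A) l).ker ≤ d := le_trans (Nat.card_le_card_of_injective
    (fun a => ⟨a.1.1, a.1.2, congrArg Subtype.val a.2⟩) fun a b e =>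
      Subtype.ext (Subtype.ext (congrArg (fun x : {a : H // a ∈ A ∧ a ^ l = 1} => x.1) e))) s4
  exact hd.not_ge (h3.trans (t1.trans (Nat.mul_le_mul (t2.trans t3) s3)))

theorem not_dvd_ker (hr : 8 ≤ r) (hl : l ≠ 2) (h : ∀ P, Syl l P π.ker → P ≤ center H) : ¬ l ∣ Nat.card π.ker := by
  obtain ⟨R, ⟨hRn, hRK, hRl⟩, hRm⟩ := WellFounded.has_min wellFounded_gt
    {X : Subgroup H | X.Normal ∧ X ≤ π.ker ∧ ¬ l ∣ Nat.card X} ⟨⊥, inferInstance, bot_le, by
      simpa using (Fact.out : l.Prime).ne_one⟩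
  let π' := QuotientGroup.lift R π hRK
  have h1 : Function.Surjective π' := fun a => by
    obtain ⟨x, rfl⟩ := hs a
    exact ⟨x, rfl⟩
  have h2 : ∀ X : Subgroup (H ⧸ R), X.map π' = ⊤ → X = ⊤ := fun X hX => by
    rw [← map_comap_eq_self_of_surjective (QuotientGroup.mk'_surjective R) X, map_map] at hX
    rw [← map_comap_eq_self_of_surjective (QuotientGroup.mk'_surjective R) X, hmin _ hX,
      map_top_of_surjective _ (QuotientGroup.mk'_surjective R)]
  have h3 := z2_of h1 h2 hr fun x hx => by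
    obtain ⟨x, rfl⟩ := QuotientGroup.mk'_surjective R x
    refine relIndex_eq_one.1 (by_contra fun e => ?_ : ((center (H ⧸ R)).comap (QuotientGroup.mk' R)).relIndex π.ker = 1) hx
    obtain ⟨q, hq, hd⟩ := Nat.exists_prime_and_dvd e
    have := Fact.mk hq
    obtain ⟨Q, hQ⟩ := exists_syl q π.ker
    refine hQ.not_dvd_relIndex_of_le (H := (center (H ⧸ R)).comap (QuotientGroup.mk' R))
      (fun y hy => mem_comap.2 (mem_center_iff.2 fun g => ?_)) hd
    obtain ⟨g, rfl⟩ := QuotientGroup.mk'_surjective R g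
    by_cases e : q = l
    · subst e
      rw [← map_mul, mem_center_iff.1 (h Q hQ hy), map_mul]
    have := syl_normal hs hmin hQ
    have t : Q ≤ R := by_contra fun t => hRm (R ⊔ Q) ⟨inferInstance, sup_le hRK hQ.le, fun t' => by
      have := (card_sup_mul R Q) ▸ t'.mul_right (Nat.card (R ⊓ Q : Subgroup H))
      rw [hQ.card_eq_pow] at this
      exact ((Nat.Prime.dvd_mul Fact.out).1 this).elim hRl fun t'' => e ((Nat.prime_dvd_prime_iff_eq Fact.out hq).1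
        ((Fact.out : l.Prime).dvd_of_dvd_pow t'')).symm⟩ (left_lt_sup.2 t)
    rw [QuotientGroup.mk'_apply R y, (QuotientGroup.eq_one_iff y).2 (t hy), mul_one, one_mul]
  obtain ⟨P, hP⟩ := exists_syl l π.ker
  have h4 : P = ⊥ := eq_bot_iff.2 fun z hz => by
    obtain ⟨j, hj⟩ := isPGroup_iff_mem.1 hP.isPGroup z hz
    have t1 : z ^ 2 ∈ R := (QuotientGroup.eq_one_iff _).1 (h3 z (hP.le hz)).2
    have t2 : z ^ (2 * Nat.card R) = 1 := by
      rw [pow_mul]; exact congrArg Subtype.val (pow_card_eq_one' (x := (⟨_, t1⟩ : R)))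
    exact orderOf_eq_one_iff.1 (Nat.eq_one_of_dvd_coprimes ((Nat.Coprime.mul_right ((Nat.coprime_primes Fact.out Nat.prime_two).2 hl)
      ((Nat.Prime.coprime_iff_not_dvd Fact.out).2 hRl)).pow_left j) (orderOf_dvd_of_pow_eq_one hj) (orderOf_dvd_of_pow_eq_one t2))
  have := hP.not_dvd_relIndex
  rwa [h4, relIndex_bot_left] at this

end

theorem lift_hom {H G B : Type*} [Group H] [Finite H] [Group G] [Finite G] [Group B] {π : H →* G} (hs : Function.Surjective π)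
    {l : ℕ} [Fact l.Prime] (hl : ¬ l ∣ Nat.card π.ker) (τ : B →* G) (hτ : Function.Injective τ) (hB : ∀ b : B, b ^ l = 1) :
    ∃ σ : B →* H, Function.Injective σ ∧ ∀ (γ : G) (f : B → B), (∀ b, γ * τ b * γ⁻¹ = τ (f b)) → ∃ g, ∀ b, g * σ b * g⁻¹ = σ (f b) := by
  obtain ⟨T, hT⟩ := exists_syl l (τ.range.comap π)
  have p1 : T.map π = τ.range := by
    have := hT.map π
    rw [Subgroup.map_comap_eq_self_of_surjective hs] at this
    exact this.eq_of_isPGroup (isPGroup_iff_mem.2 (by rintro _ ⟨b, rfl⟩; exact ⟨1, by rw [pow_one, ← map_pow, hB, map_one]⟩))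
  have p2 : ∀ a ∈ T, ∀ b ∈ T, π a = π b → a = b := fun a ha b hb e => by
    obtain ⟨j, hj⟩ := isPGroup_iff_mem.1 hT.isPGroup _ (mul_mem ha (inv_mem hb))
    exact mul_inv_eq_one.1 (orderOf_eq_one_iff.1 (Nat.eq_one_of_dvd_coprimes (((Nat.Prime.coprime_iff_not_dvd Fact.out).2 hl).pow_left j)
      (orderOf_dvd_of_pow_eq_one hj) (orderOf_dvd_natCard π.ker (show π (a * b⁻¹) = 1 by simp [e]))))
  choose s s1 s2 using fun b => p1.ge (⟨b, rfl⟩ : τ b ∈ τ.range)
  refine ⟨MonoidHom.mk' s fun a b => p2 _ (s1 _) _ (mul_mem (s1 a) (s1 b)) (by rw [map_mul, s2, s2, s2, map_mul]),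
    fun a b e => hτ (by rw [← s2, ← s2]; exact congrArg π e), fun γ f h => ?_⟩
  obtain ⟨g, rfl⟩ := hs γ
  have t : π g ∈ normalizer (τ.range : Set G) := mem_normalizer_of_cj_le (by
    rintro _ ⟨_, ⟨b, rfl⟩, rfl⟩
    exact ⟨f b, (h b).symm⟩)
  obtain ⟨g', t1, t2, -⟩ := Cfsg.Lib.AltSec.lift_syl π hT (by rw [p1]; exact map_comap_le _ _) (g := g) fun y => by
    simpa using t (π y)
  exact ⟨g', fun b => p2 _ ((t1 _).1 (s1 b)) _ (s1 _) (by
    rw [map_mul, map_mul, map_inv, t2]; exact (congrArg (π g * · * (π g)⁻¹) (s2 b)).trans ((h b).trans (s2 _).symm))⟩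

theorem lift_alt {H : Type u} {B : Type*} [Group H] [Finite H] [Group B] {r : ℕ} (hr : 11 ≤ r) (π : H →* alternatingGroup (Fin r))
    (hs : Function.Surjective π) {l d e : ℕ} [hF : Fact l.Prime] (hl : l ≠ 2) (hd : d * e < l ^ (r - 2))
    (hR : ∀ S : Subgroup H, IsPGroup l S → ∃ A ≤ S, (∀ a ∈ A, ∀ b ∈ A, a * b = b * a) ∧ A.relIndex S ≤ e ∧
      Nat.card {a : H // a ∈ A ∧ a ^ l = 1} ≤ d) (τ : B →* alternatingGroup (Fin r)) (hτ : Function.Injective τ) (hB : ∀ b : B, b ^ l = 1) :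
    ∃ σ : B →* H, Function.Injective σ ∧ ∀ γ (f : B → B), (∀ b, γ * τ b * γ⁻¹ = τ (f b)) → ∃ g, ∀ b, g * σ b * g⁻¹ = σ (f b) := by
  obtain ⟨X, hs', hmin⟩ := exists_min hs
  obtain ⟨σ, h1, h2⟩ := lift_hom hs' (not_dvd_ker hs' hmin (by omega) hl fun P => cen_of_rank hs' hmin (by omega) hd fun S hS => by
    obtain ⟨A, s1, s2, s3, s4⟩ := hR _ (hS.map X.subtype)
    exact ⟨A.subgroupOf X, fun a ha => by simpa using s1 ha, fun a ha b hb => Subtype.ext (s2 _ ha _ hb),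
      (relIndex_comap _ _ _).trans_le s3, le_trans (Nat.card_le_card_of_injective
        (fun a => ⟨a.1.1, a.2.1, congrArg Subtype.val a.2.2⟩) fun a b e =>
          Subtype.ext (Subtype.ext (congrArg (fun x : {a : H // a ∈ A ∧ a ^ l = 1} => x.1) e))) s4⟩) τ hτ hB
  refine ⟨X.subtype.comp σ, X.subtype_injective.comp h1, fun γ f h => ?_⟩
  obtain ⟨g, hg⟩ := h2 γ f h
  exact ⟨g, fun b => congrArg Subtype.val (hg b)⟩

theorem pow_val_add {G : Type*} [Group G] {l : ℕ} [NeZero l] {x : G} (h : x ^ l = 1) (a b : ZMod l) :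
    x ^ (a + b).val = x ^ a.val * x ^ b.val := by rw [ZMod.val_add, ← pow_eq_pow_mod _ h, pow_add]

/-- An elementary abelian group of order 49. -/
def f49 : Multiplicative (ZMod 7 × ZMod 7) →* alternatingGroup (Fin 14) :=
  (MonoidHom.mk' (fun v => c[0, 1, 2, 3, 4, 5, 6] ^ v.toAdd.1.val * c[7, 8, 9, 10, 11, 12, 13] ^ v.toAdd.2.val) fun a b => by
    rw [toAdd_mul, Prod.fst_add, Prod.snd_add, pow_val_add (by decide +kernel), pow_val_add (by decide +kernel)]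
    exact (Commute.pow_pow (by unfold Commute SemiconjBy; decide +kernel) _ _).mul_mul_mul_comm _ _).codRestrict _ fun v =>
      mul_mem (pow_mem (Perm.mem_alternatingGroup.2 (by decide +kernel)) _) (pow_mem (Perm.mem_alternatingGroup.2 (by decide +kernel)) _)

/-- An elementary abelian group of order 125. -/
def f125 : Multiplicative (ZMod 5 × ZMod 5 × ZMod 5) →* alternatingGroup (Fin 15) :=
  (MonoidHom.mk' (fun v => c[0, 1, 2, 3, 4] ^ v.toAdd.1.val * (c[5, 6, 7, 8, 9] ^ v.toAdd.2.1.val *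
      c[10, 11, 12, 13, 14] ^ v.toAdd.2.2.val)) fun a b => by
    rw [toAdd_mul, Prod.fst_add, Prod.snd_add, Prod.fst_add, Prod.snd_add, pow_val_add (by decide +kernel),
      pow_val_add (by decide +kernel), pow_val_add (by decide +kernel),
      (Commute.pow_pow (a := c[5, 6, 7, 8, 9]) (by unfold Commute SemiconjBy; decide +kernel) _ _).mul_mul_mul_comm]
    exact (Commute.mul_right (Commute.pow_pow (by unfold Commute SemiconjBy; decide +kernel) _ _)
      (Commute.pow_pow (by unfold Commute SemiconjBy; decide +kernel) _ _)).mul_mul_mul_comm _ _).codRestrict _ fun v =>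
      mul_mem (pow_mem (Perm.mem_alternatingGroup.2 (by decide +kernel)) _) (mul_mem
        (pow_mem (Perm.mem_alternatingGroup.2 (by decide +kernel)) _) (pow_mem (Perm.mem_alternatingGroup.2 (by decide +kernel)) _))

variable {H : Type u} [Group H] [Finite H]

theorem abs14 (π : H →* alternatingGroup (Fin 14)) (hs : Function.Surjective π)
    (hR : ∀ S : Subgroup H, IsPGroup 7 S → ∃ A ≤ S, (∀ a ∈ A, ∀ b ∈ A, a * b = b * a) ∧ A.relIndex S ≤ 7 ∧
      Nat.card {a : H // a ∈ A ∧ a ^ 7 = 1} ≤ 7 ^ 7) :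
    ∃ σ : Multiplicative (ZMod 7 × ZMod 7) →* H, Function.Injective σ ∧
      (∃ g, ∀ a b, g * σ (.ofAdd (a, b)) * g⁻¹ = σ (.ofAdd (a, 2 * b))) ∧
      ∃ g, ∀ a b, g * σ (.ofAdd (a, b)) * g⁻¹ = σ (.ofAdd (3 * b, a)) := by
  obtain ⟨σ, h1, h2⟩ := lift_alt (hF := ⟨by decide⟩) (by decide) π hs (by decide) (by decide) hR f49 ((injective_iff_map_eq_one _).2 (by decide +kernel))
    (by decide +kernel)
  obtain ⟨g, hg⟩ := h2 ⟨c[8, 9, 11] * c[10, 13, 12], Perm.mem_alternatingGroup.2 (by decide +kernel)⟩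
    (fun v => .ofAdd (v.toAdd.1, 2 * v.toAdd.2)) (by decide +kernel)
  obtain ⟨g', hg'⟩ := h2 ⟨c[0, 7] * c[1, 8, 3, 10, 2, 9, 6, 13, 4, 11, 5, 12], Perm.mem_alternatingGroup.2 (by decide +kernel)⟩
    (fun v => .ofAdd (3 * v.toAdd.2, v.toAdd.1)) (by decide +kernel)
  exact ⟨σ, h1, ⟨g, fun a b => hg (.ofAdd (a, b))⟩, g', fun a b => hg' (.ofAdd (a, b))⟩

set_option maxHeartbeats 1000000 in
theorem abs15 (π : H →* alternatingGroup (Fin 15)) (hs : Function.Surjective π)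
    (hR : ∀ S : Subgroup H, IsPGroup 5 S → ∃ A ≤ S, (∀ a ∈ A, ∀ b ∈ A, a * b = b * a) ∧ A.relIndex S ≤ 5 ∧
      Nat.card {a : H // a ∈ A ∧ a ^ 5 = 1} ≤ 5 ^ 7) :
    ∃ σ : Multiplicative (ZMod 5 × ZMod 5 × ZMod 5) →* H, Function.Injective σ ∧
      (∃ g, ∀ a b c, g * σ (.ofAdd (a, b, c)) * g⁻¹ = σ (.ofAdd (2 * b, a, c))) ∧
      (∃ g, ∀ a b c, g * σ (.ofAdd (a, b, c)) * g⁻¹ = σ (.ofAdd (-a, b, c))) ∧
      ∃ g, ∀ a b c, g * σ (.ofAdd (a, b, c)) * g⁻¹ = σ (.ofAdd (c, a, b)) := by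
  obtain ⟨σ, h1, h2⟩ := lift_alt (hF := ⟨by decide⟩) (by decide) π hs (by decide) (by decide) hR f125 ((injective_iff_map_eq_one _).2 (by decide +kernel))
    (by decide +kernel)
  obtain ⟨g, hg⟩ := h2 ⟨c[0, 5] * c[1, 6, 2, 7, 4, 9, 3, 8], Perm.mem_alternatingGroup.2 (by decide +kernel)⟩
    (fun v => .ofAdd (2 * v.toAdd.2.1, v.toAdd.1, v.toAdd.2.2)) (by decide +kernel)
  obtain ⟨g', hg'⟩ := h2 ⟨c[1, 4] * c[2, 3], Perm.mem_alternatingGroup.2 (by decide +kernel)⟩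
    (fun v => .ofAdd (-v.toAdd.1, v.toAdd.2.1, v.toAdd.2.2)) (by decide +kernel)
  obtain ⟨g'', hg''⟩ := h2 ⟨c[0, 5, 10] * c[1, 6, 11] * c[2, 7, 12] * c[3, 8, 13] * c[4, 9, 14],
    Perm.mem_alternatingGroup.2 (by decide +kernel)⟩ (fun v => .ofAdd (v.toAdd.2.2, v.toAdd.1, v.toAdd.2.1)) (by decide +kernel)
  exact ⟨σ, h1, ⟨g, fun a b c => hg (.ofAdd (a, b, c))⟩, ⟨g', fun a b c => hg' (.ofAdd (a, b, c))⟩, g'',
    fun a b c => hg'' (.ofAdd (a, b, c))⟩

end Cfsg.Lib.AltDeg
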