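import Cfsg.Agent.Lib.Exc.AltSec3
import Cfsg.Agent.Lib.Twist.RootE7

/-! Characters of the root lattice of type `E₇` modulo 5 and 7. -/

set_option autoImplicit false

namespace Cfsg.Lib.AltE7

open Cfsg.Lie Cfsg.Lib.Chev Cfsg.Lib.Twist Finset

section gen

variable {I Φ : Type*} [Fintype I] [DecidableEq I] {R : RootSys I Φ} {k : Type*} [CommRing k]

/-- The value of a character at a root. -/
def pr (R : RootSys I Φ) (β : I → k) (r : Φ) : k := ∑ i, β i * (R.rt r i : k)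

/-- The action on characters. -/
def ac (R : RootSys I Φ) (w : Equiv.Perm Φ) (β : I → k) (i : I) : k := pr R β (w (R.simple i))

theorem pr_simple (β : I → k) (i : I) : pr R β (R.simple i) = β i := by
  simp [pr, R.rt_simple, Pi.single_apply]

theorem pr_W {w : Equiv.Perm Φ} (hw : w ∈ R.W) (β : I → k) (r : Φ) : pr R β (w r) = pr R (ac R w β) r := by
  simp only [pr, ac, RootSys.W_rt_eq_sum hw r, Finset.sum_apply, Pi.smul_apply, smul_eq_mul, Int.cast_sum, Int.cast_mul,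
    Finset.mul_sum, Finset.sum_mul]
  rw [Finset.sum_comm]
  exact Finset.sum_congr rfl fun _ _ => Finset.sum_congr rfl fun _ _ => by ring

theorem ac_mul {w : Equiv.Perm Φ} (hw : w ∈ R.W) (v : Equiv.Perm Φ) (β : I → k) :
    ac R (w * v) β = ac R v (ac R w β) := funext fun _ => pr_W hw β _

theorem ac_one (β : I → k) : ac R 1 β = β := funext (pr_simple β)

theorem ac_refl (t : Φ) (β : I → k) : ac R (R.reflPerm t) β = fun i => β i - (R.pair t (R.simple i) : k) * pr R β t := by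
  funext i
  change pr R β (R.refl t (R.simple i)) = _
  rw [← pr_simple (R := R) β i]
  simp only [pr, R.rt_refl, Pi.sub_apply, Pi.smul_apply, smul_eq_mul, Int.cast_sub, Int.cast_mul, mul_sub, Finset.sum_sub_distrib,
    Finset.mul_sum, mul_left_comm]

theorem ac_s (j : I) (β : I → k) : ac R (R.s j) β = fun i => β i - (R.A j i : k) * β j := by
  rw [RootSys.s, ac_refl]
  simp only [R.pair_simple_simple, pr_simple]

theorem ac_wprod (l : List I) (β : I → k) :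
    ac R (R.wprod l) β = l.foldl (fun β j i => β i - (R.A j i : k) * β j) β := by
  induction l generalizing β with
  | nil => exact ac_one β
  | cons j l ih => rw [R.wprod_cons, ac_mul (R.s_mem_W j), ih, ac_s]; rfl

theorem pr_add (β γ : I → k) (r : Φ) : pr R (β + γ) r = pr R β r + pr R γ r := by
  simp [pr, add_mul, Finset.sum_add_distrib]

theorem pr_smul (c : k) (β : I → k) (r : Φ) : pr R (c • β) r = c * pr R β r := by
  simp [pr, Finset.mul_sum, mul_assoc]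

end gen

/-- The root system. -/
noncomputable def R7 : RootSys (Fin 7) (Fin 126) := RE7

/-- The Cartan matrix. -/
def A7 : Fin 7 → Fin 7 → ℤ := ![![2, 0, -1, 0, 0, 0, 0], ![0, 2, 0, -1, 0, 0, 0], ![-1, 0, 2, -1, 0, 0, 0], ![0, -1, -1, 2, -1, 0, 0], ![0, 0, 0, -1, 2, -1, 0], ![0, 0, 0, 0, -1, 2, -1], ![0, 0, 0, 0, 0, -1, 2]]

theorem A7_eq : R7.A = A7 := by decide +kernel

theorem th_rt : R7.rt 125 = ![2, 2, 3, 4, 3, 2, 1] := by decide +kernel

theorem th_pair : ∀ i, R7.pair 125 (R7.simple i) = if i = 0 then 1 else 0 := by decide +kernel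

/-- Squared distance to an interior point of the alcove. -/
def Mq (x : Fin 7 → ℤ) : ℤ := (4 * x 6 - 1) ^ 2 + (4 * x 4 - 1) ^ 2 + (4 * x 2 - 1) ^ 2 + (4 * x 1 - 1) ^ 2 +
  (4 * (x 1 + x 2 + 2 * x 3 + x 4) - 5) ^ 2 + (4 * (x 1 + x 2 + 2 * x 3 + 2 * x 4 + 2 * x 5 + x 6) - 9) ^ 2 +
  (4 * (2 * x 0 + 2 * x 1 + 3 * x 2 + 4 * x 3 + 3 * x 4 + 2 * x 5 + x 6) - 17) ^ 2

theorem Mq_s (x : Fin 7 → ℤ) (j : Fin 7) : Mq (fun i => x i - A7 j i * x j) = Mq x + 16 * x j := by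
  fin_cases j <;> simp [Mq, A7] <;> ring

theorem alcove {l : ℕ} (hl : 5 ≤ l) (β : Fin 7 → ZMod l) : ∃ w ∈ R7.W, ∃ a : Fin 7 → ℕ,
    2 * a 0 + 2 * a 1 + 3 * a 2 + 4 * a 3 + 3 * a 4 + 2 * a 5 + a 6 ≤ l ∧ ac R7 w β = fun i => (a i : ZMod l) := by
  obtain ⟨x, rfl⟩ : ∃ x : Fin 7 → ℤ, β = fun i => (x i : ZMod l) := ⟨fun i => (β i).cast, by simp⟩
  induction h : (Mq x).toNat using Nat.strong_induction_on generalizing x with
  | _ n ih =>
  have h0 : ∀ y, 0 ≤ Mq y := fun y => by unfold Mq; positivity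
  have key : ∀ y : Fin 7 → ℤ, Mq y < Mq x → ∀ v ∈ R7.W, (ac R7 v fun i => (x i : ZMod l)) = (fun i => (y i : ZMod l)) →
      ∃ w ∈ R7.W, ∃ a : Fin 7 → ℕ, 2 * a 0 + 2 * a 1 + 3 * a 2 + 4 * a 3 + 3 * a 4 + 2 * a 5 + a 6 ≤ l ∧
        (ac R7 w fun i => (x i : ZMod l)) = fun i => (a i : ZMod l) := fun y hy v hv e => by
    obtain ⟨w, hw, a, h1, h2⟩ := ih _ (by have := h0 y; omega) y rfl
    exact ⟨v * w, mul_mem hv hw, a, h1, by rw [ac_mul hv, e, h2]⟩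
  by_cases h1 : ∃ j, x j < 0
  · obtain ⟨j, hj⟩ := h1
    refine key (fun i => x i - A7 j i * x j) (by rw [Mq_s]; omega) _ (R7.s_mem_W j) ?_
    rw [ac_s, A7_eq]; simp
  push Not at h1
  obtain ⟨d, hd⟩ : ∃ d, d = 2 * x 0 + 2 * x 1 + 3 * x 2 + 4 * x 3 + 3 * x 4 + 2 * x 5 + x 6 - l := ⟨_, rfl⟩
  by_cases h2 : 0 < d
  · refine key (fun i => x i - if i = 0 then d else 0) ?_ _ (R7.reflPerm_mem_W 125) ?_
    · have : Mq (fun i => x i - if i = 0 then d else 0) = Mq x - 16 * (d * (4 * l - 17)) := by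
        simp [Mq, hd]; ring
      have := mul_pos h2 (show (0 : ℤ) < 4 * l - 17 by omega)
      omega
    · rw [ac_refl]
      funext i
      rw [th_pair, pr, th_rt, hd]
      split_ifs <;> simp [Fin.sum_univ_seven]
      ring
  · refine ⟨1, one_mem _, fun i => (x i).toNat, ?_, ?_⟩
    · have := h1 0; have := h1 1; have := h1 2; have := h1 3; have := h1 4; have := h1 5; have := h1 6
      beta_reduce
      omega
    · rw [ac_one]
      funext i
      rw [← Int.cast_natCast, Int.toNat_of_nonneg (h1 i)]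

/-- Coordinates. -/
abbrev T7 := ℕ × ℕ × ℕ × ℕ × ℕ × ℕ × ℕ

set_option synthInstance.maxSize 2000 in
instance decT7 : DecidableEq T7 := inferInstance

/-- Pairing modulo `l`. -/
def ev (l : ℕ) (g x : T7) : ℕ := Nat.mod (Nat.add (Nat.add (Nat.add (Nat.add (Nat.add (Nat.add (Nat.mul g.1 x.1) (Nat.mul g.2.1 x.2.1))
  (Nat.mul g.2.2.1 x.2.2.1)) (Nat.mul g.2.2.2.1 x.2.2.2.1)) (Nat.mul g.2.2.2.2.1 x.2.2.2.2.1))
  (Nat.mul g.2.2.2.2.2.1 x.2.2.2.2.2.1)) (Nat.mul g.2.2.2.2.2.2 x.2.2.2.2.2.2)) l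

/-- Counting. -/
def cn (l : ℕ) (g : T7) (a : ℕ) : List T7 → ℕ :=
  List.rec 0 fun x _ n => cond (Nat.beq (ev l g x) a) (Nat.succ n) n

/-- The roots modulo 35. -/
def TB : List T7 := [
  (33,33,32,31,32,33,34), (34,33,32,31,32,33,34), (34,33,33,31,32,33,34), (34,33,33,32,32,33,34), (34,33,33,32,33,33,34),
  (34,33,33,32,33,34,34), (34,33,33,32,33,34,0), (34,34,33,32,32,33,34), (34,34,33,32,33,33,34), (34,34,33,32,33,34,34),
  (34,34,33,32,33,34,0), (34,34,33,33,33,33,34), (34,34,33,33,33,34,34), (34,34,33,33,33,34,0), (34,34,33,33,34,34,34),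
  (34,34,33,33,34,34,0), (34,34,33,33,34,0,0), (34,34,34,33,33,33,34), (34,34,34,33,33,34,34), (34,34,34,33,33,34,0),
  (34,34,34,33,34,34,34), (34,34,34,33,34,34,0), (34,34,34,33,34,0,0), (34,34,34,34,34,34,34), (34,34,34,34,34,34,0),
  (34,34,34,34,34,0,0), (34,34,34,34,0,0,0), (34,0,34,34,34,34,34), (34,0,34,34,34,34,0), (34,0,34,34,34,0,0),
  (34,0,34,34,0,0,0), (34,0,34,0,0,0,0), (34,0,0,0,0,0,0), (0,34,34,33,33,33,34), (0,34,34,33,33,34,34),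
  (0,34,34,33,33,34,0), (0,34,34,33,34,34,34), (0,34,34,33,34,34,0), (0,34,34,33,34,0,0), (0,34,34,34,34,34,34),
  (0,34,34,34,34,34,0), (0,34,34,34,34,0,0), (0,34,34,34,0,0,0), (0,34,0,34,34,34,34), (0,34,0,34,34,34,0),
  (0,34,0,34,34,0,0), (0,34,0,34,0,0,0), (0,34,0,0,0,0,0), (0,0,34,34,34,34,34), (0,0,34,34,34,34,0),
  (0,0,34,34,34,0,0), (0,0,34,34,0,0,0), (0,0,34,0,0,0,0), (0,0,0,34,34,34,34), (0,0,0,34,34,34,0),
  (0,0,0,34,34,0,0), (0,0,0,34,0,0,0), (0,0,0,0,34,34,34), (0,0,0,0,34,34,0), (0,0,0,0,34,0,0),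
  (0,0,0,0,0,34,34), (0,0,0,0,0,34,0), (0,0,0,0,0,0,34), (0,0,0,0,0,0,1), (0,0,0,0,0,1,0),
  (0,0,0,0,0,1,1), (0,0,0,0,1,0,0), (0,0,0,0,1,1,0), (0,0,0,0,1,1,1), (0,0,0,1,0,0,0),
  (0,0,0,1,1,0,0), (0,0,0,1,1,1,0), (0,0,0,1,1,1,1), (0,0,1,0,0,0,0), (0,0,1,1,0,0,0),
  (0,0,1,1,1,0,0), (0,0,1,1,1,1,0), (0,0,1,1,1,1,1), (0,1,0,0,0,0,0), (0,1,0,1,0,0,0),
  (0,1,0,1,1,0,0), (0,1,0,1,1,1,0), (0,1,0,1,1,1,1), (0,1,1,1,0,0,0), (0,1,1,1,1,0,0),
  (0,1,1,1,1,1,0), (0,1,1,1,1,1,1), (0,1,1,2,1,0,0), (0,1,1,2,1,1,0), (0,1,1,2,1,1,1),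
  (0,1,1,2,2,1,0), (0,1,1,2,2,1,1), (0,1,1,2,2,2,1), (1,0,0,0,0,0,0), (1,0,1,0,0,0,0),
  (1,0,1,1,0,0,0), (1,0,1,1,1,0,0), (1,0,1,1,1,1,0), (1,0,1,1,1,1,1), (1,1,1,1,0,0,0),
  (1,1,1,1,1,0,0), (1,1,1,1,1,1,0), (1,1,1,1,1,1,1), (1,1,1,2,1,0,0), (1,1,1,2,1,1,0),
  (1,1,1,2,1,1,1), (1,1,1,2,2,1,0), (1,1,1,2,2,1,1), (1,1,1,2,2,2,1), (1,1,2,2,1,0,0),
  (1,1,2,2,1,1,0), (1,1,2,2,1,1,1), (1,1,2,2,2,1,0), (1,1,2,2,2,1,1), (1,1,2,2,2,2,1),
  (1,1,2,3,2,1,0), (1,1,2,3,2,1,1), (1,1,2,3,2,2,1), (1,1,2,3,3,2,1), (1,2,2,3,2,1,0),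
  (1,2,2,3,2,1,1), (1,2,2,3,2,2,1), (1,2,2,3,3,2,1), (1,2,2,4,3,2,1), (1,2,3,4,3,2,1),
  (2,2,3,4,3,2,1)]

/-- A root modulo 35. -/
noncomputable def vec (r : Fin 126) : T7 := ((R7.rt r 0 % 35).toNat, (R7.rt r 1 % 35).toNat, (R7.rt r 2 % 35).toNat,
  (R7.rt r 3 % 35).toNat, (R7.rt r 4 % 35).toNat, (R7.rt r 5 % 35).toNat, (R7.rt r 6 % 35).toNat)

theorem TB_eq : (List.finRange 126).map vec = TB := by decide +kernel

/-- Coordinates of a character. -/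
def tp {l : ℕ} (g : Fin 7 → ZMod l) : T7 := ((g 0).val, (g 1).val, (g 2).val, (g 3).val, (g 4).val, (g 5).val, (g 6).val)

theorem pr_val {l : ℕ} [NeZero l] (h : (35 : ZMod l) = 0) (g : Fin 7 → ZMod l) (r : Fin 126) :
    (pr R7 g r).val = ev l (tp g) (vec r) := by
  have h1 : ∀ x : ℤ, (((x % 35).toNat : ℕ) : ZMod l) = x := fun x => by
    rw [← Int.cast_natCast, Int.toNat_of_nonneg (Int.emod_nonneg _ (by decide)), Int.emod_def]
    push_cast
    rw [h]; ring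
  change _ = (_ + _ + _ + _ + _ + _ + _) % l
  rw [← ZMod.val_natCast]
  congr 1
  simp [pr, Fin.sum_univ_seven, tp, vec, h1]

theorem cn_eq (l : ℕ) (g : T7) (a : ℕ) (L : List T7) : cn l g a L = L.countP fun x => decide (ev l g x = a) := by
  induction L with
  | nil => rfl
  | cons x L ih =>
    rw [List.countP_cons, ← ih]
    change cond (Nat.beq (ev l g x) a) (cn l g a L + 1) (cn l g a L) = _
    by_cases h : ev l g x = a
    · simp [h]
    · rw [show Nat.beq (ev l g x) a = false from Bool.eq_false_iff.2 fun e => h (Nat.eq_of_beq_eq_true e)]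
      simp [h]

/-- Number of roots with given values. -/
noncomputable def C2 {l : ℕ} (f g : Fin 7 → ZMod l) (c a : ZMod l) : ℕ := #{r | pr R7 f r = c ∧ pr R7 g r = a}

/-- Number of roots with a given value. -/
noncomputable def C1 {l : ℕ} (f : Fin 7 → ZMod l) (c : ZMod l) : ℕ := #{r | pr R7 f r = c}

theorem card_eq (p : Fin 126 → Prop) [DecidablePred p] (q : T7 → Bool) (h : ∀ r, p r ↔ q (vec r)) : #{r | p r} = TB.countP q := by
  rw [← TB_eq, List.countP_map, List.countP_eq_length_filter]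
  change (List.filter (fun r => decide (p r)) (List.finRange 126)).length = _
  congr 2
  funext r
  simp [h]

theorem C1_eq {l : ℕ} [NeZero l] (h : (35 : ZMod l) = 0) (f : Fin 7 → ZMod l) (c : ZMod l) : C1 f c = cn l (tp f) c.val TB := by
  rw [cn_eq]
  exact card_eq _ _ fun r => by rw [← pr_val h, decide_eq_true_iff, (ZMod.val_injective l).eq_iff]

theorem C2_eq {l : ℕ} [NeZero l] (h : (35 : ZMod l) = 0) (f g : Fin 7 → ZMod l) (c a : ZMod l) {L : List T7}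
    (hL : TB.filter (fun x => decide (ev l (tp f) x = c.val)) = L) : C2 f g c a = cn l (tp g) a.val L := by
  rw [cn_eq, ← hL, List.countP_filter]
  exact card_eq _ _ fun r => by
    rw [← pr_val h, ← pr_val h, Bool.and_eq_true, decide_eq_true_iff, decide_eq_true_iff, (ZMod.val_injective l).eq_iff,
      (ZMod.val_injective l).eq_iff, and_comm]

theorem C1_sum {l : ℕ} [NeZero l] (f g : Fin 7 → ZMod l) (c : ZMod l) : C1 f c = ∑ a, C2 f g c a := by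
  rw [C1, Finset.card_eq_sum_card_fiberwise (f := pr R7 g) (t := Finset.univ) fun _ _ => Finset.mem_univ _]
  simp [C2, Finset.filter_filter]

theorem card_perm (π : Equiv.Perm (Fin 126)) (p q : Fin 126 → Prop) [DecidablePred p] [DecidablePred q] (h : ∀ r, p r ↔ q (π r)) :
    #{r | p r} = #{r | q r} := Finset.card_bijective π π.bijective (by simpa using h)

end Cfsg.Lib.AltE7
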