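import Cfsg.Agent.Lib.Exc.E7a

/-! Rational characters of the root lattice of type `E₇` modulo 5 and 7. -/

set_option autoImplicit false
set_option synthInstance.maxSize 4000

namespace Cfsg.Lib.AltE7

open Cfsg.Lie Cfsg.Lib.Chev Cfsg.Lib.Twist Finset Cfsg.Lib.Core Cfsg.Lib.Amalg

theorem card_W7 : Nat.card R7.W = 2903040 := card_W_E7 compat_E7

theorem pr_single {k : Type*} [CommRing k] (j : Fin 7) (r : Fin 126) : pr R7 (Pi.single j (1 : k)) r = R7.rt r j := by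
  simp [pr, Pi.single_apply]

/-- A simple reflection on characters. -/
def st {k : Type*} [CommRing k] (β : Fin 7 → k) (j i : Fin 7) : k := β i - (A7 j i : k) * β j

theorem ac_st {k : Type*} [CommRing k] (l : List (Fin 7)) (β : Fin 7 → k) : ac R7 (R7.wprod l) β = l.foldl st β := by
  rw [ac_wprod, A7_eq]; rfl

theorem ord_eq {l : ℕ} [Fact l.Prime] (w : List (Fin 7))
    (h : ∀ k, (List.replicate l w).flatten.foldl st (Pi.single k (1 : ℤ)) = Pi.single k 1)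
    (h' : w.foldl st (Pi.single 0 (1 : ℤ)) ≠ Pi.single 0 1) : orderOf (R7.wprod w) = l := by
  have h1 : ∀ n, R7.wprod w ^ n = R7.wprod (List.replicate n w).flatten := fun n => by
    induction n with
    | zero => rfl
    | succ n ih => rw [pow_succ', ih, List.replicate_succ, List.flatten_cons, R7.wprod_append]
  refine orderOf_eq_prime (Equiv.ext fun r => R7.rt_inj (funext fun k => ?_)) fun e => h' (by rw [← ac_st, e, ac_one])
  have := pr_W (R7.wprod_mem_W (List.replicate l w).flatten) (Pi.single k (1 : ℤ)) r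
  rw [ac_st, h, pr_single, pr_single] at this
  rw [h1]; exact this

section
variable {l : ℕ}

theorem C1_W {w : Equiv.Perm (Fin 126)} (hw : w ∈ R7.W) (f : Fin 7 → ZMod l) (c : ZMod l) : C1 (ac R7 w f) c = C1 f c :=
  card_perm w _ _ fun r => by rw [pr_W hw]

theorem C2_W {w : Equiv.Perm (Fin 126)} (hw : w ∈ R7.W) (f g : Fin 7 → ZMod l) (c a : ZMod l) :
    C2 (ac R7 w f) (ac R7 w g) c a = C2 f g c a := card_perm w _ _ fun r => by rw [pr_W hw, pr_W hw]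

theorem ac_eq_zero {w : Equiv.Perm (Fin 126)} (hw : w ∈ R7.W) {f : Fin 7 → ZMod l} (h : ac R7 w f = 0) : f = 0 := by
  rw [← ac_one (R := R7) f, ← mul_inv_cancel w, ac_mul hw, h]
  funext i
  simp [ac, pr]

theorem ac_lin (w : Equiv.Perm (Fin 126)) (a b : ZMod l) (f g : Fin 7 → ZMod l) :
    ac R7 w (a • f + b • g) = a • ac R7 w f + b • ac R7 w g := funext fun _ => by simp [ac, pr_add, pr_smul]

theorem cn_congr {g g' : T7} (a : ℕ) {L : List T7} (h : ∀ x ∈ L, ev l g x = ev l g' x) : cn l g a L = cn l g' a L := by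
  rw [cn_eq, cn_eq]
  exact List.countP_congr fun x hx => by rw [h x hx]

theorem exists_fix [Fact l.Prime] (hc : ¬ l * l ∣ 2903040) {v w : Equiv.Perm (Fin 126)} (hv : v ∈ R7.W) (h1 : orderOf v = l)
    (hw : w ∈ R7.W) (h2 : orderOf w = l) {β : Fin 7 → ZMod l} (h : ac R7 w β = β) :
    ∃ g ∈ R7.W, ac R7 v (ac R7 g β) = ac R7 g β := by
  have h3 : Syl l (Subgroup.zpowers v) R7.W := syl_of_not_dvd (Subgroup.zpowers_le.2 hv)
    (isPGroup_zpowers_of_orderOf (k := 1) (by rwa [pow_one])) fun h => by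
      have := card_mul_relIndex (Subgroup.zpowers_le.2 hv)
      rw [Nat.card_zpowers, h1, card_W7] at this
      exact hc (this ▸ Nat.mul_dvd_mul_left l h)
  obtain ⟨g, hg, e⟩ := h3.exists_conj (h3.of_card_ge (isPGroup_zpowers_of_orderOf (x := w) (k := 1) (by rwa [pow_one]))
    (Subgroup.zpowers_le.2 hw) (by rw [Nat.card_zpowers, Nat.card_zpowers, h1, h2]))
  obtain ⟨n, hn⟩ := (mem_powers_iff_mem_zpowers (x := w)).2 (e ▸ conj_mem_cj g (Subgroup.mem_zpowers v))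
  have h4 : ∀ n : ℕ, ac R7 (w ^ n) β = β := fun n => by
    induction n with
    | zero => exact ac_one β
    | succ n ih => rw [pow_succ', ac_mul hw, h, ih]
  refine ⟨g, hg, ?_⟩
  rw [← ac_mul hg, show g * v = g * v * g⁻¹ * g by group, ac_mul (mul_mem (mul_mem hg hv) (inv_mem hg)), ← hn, h4]

theorem zero_of_fix {v : Equiv.Perm (Fin 126)} {β : Fin 7 → ZMod l} (h : ac R7 v β = β) (c : Fin 7 → ZMod l) (j : Fin 7)
    (hc : ∀ k, ∑ i, c i * ac R7 v (Pi.single k 1) i - c k = if j = k then 1 else 0) : β j = 0 := by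
  simp only [ac, pr_single] at hc
  have : ∑ k, β k * (if j = k then 1 else 0) = ∑ i, c i * (ac R7 v β i - β i) := by
    simp only [← hc, ac, pr, mul_sub, Finset.sum_sub_distrib, Finset.mul_sum]
    rw [Finset.sum_comm]
    simp only [mul_left_comm, mul_comm]
  simpa [h] using this

end

/-- A Coxeter element of type `A₆`. -/
noncomputable def v7 := R7.wprod [0, 2, 3, 4, 5, 6]

/-- A Coxeter element of type `A₄`. -/
noncomputable def v5 := R7.wprod [0, 2, 3, 4]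

theorem v7_ord : orderOf v7 = 7 := haveI := Fact.mk (by decide : Nat.Prime 7)
  ord_eq _ (by decide +kernel) (by decide +kernel)

theorem v5_ord : orderOf v5 = 5 := haveI := Fact.mk Nat.prime_five
  ord_eq _ (by decide +kernel) (by decide +kernel)

/-- Certificates. -/
def c7 : Fin 7 → Fin 7 → ZMod 7 := ![![4, 5, 2, 0, 0, 0, 0], ![0, 0, 0, 0, 0, 0, 0], ![5, 5, 2, 0, 0, 0, 0], ![5, 5, 3, 0, 0, 0, 0], ![5, 5, 3, 1, 0, 0, 0], ![5, 5, 3, 1, 1, 0, 0], ![5, 5, 3, 1, 1, 1, 0]]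

/-- Certificates. -/
def c5 : Fin 7 → Fin 7 → ZMod 5 := ![![1, 2, 3, 0, 0, 0, 0], ![0, 0, 0, 0, 0, 0, 0], ![2, 2, 3, 0, 0, 0, 0], ![2, 2, 4, 0, 0, 0, 0], ![2, 2, 4, 1, 0, 0, 0], ![0, 0, 0, 0, 0, 0, 0], ![0, 0, 0, 0, 0, 0, 0]]

theorem c7_spec : ∀ j, j ≠ 1 → ∀ k, ∑ i, c7 j i * [0, 2, 3, 4, 5, 6].foldl st (Pi.single k 1) i - c7 j k =
    if j = k then 1 else 0 := by decide +kernel

theorem c5_spec : ∀ j, j ≠ 1 → j ≠ 5 → j ≠ 6 → ∀ k, ∑ i, c5 j i * [0, 2, 3, 4].foldl st (Pi.single k 1) i - c5 j k =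
    if j = k then 1 else 0 := by decide +kernel

theorem fix7 {w : Equiv.Perm (Fin 126)} (hw : w ∈ R7.W) (h1 : w ^ 7 = 1) {β : Fin 7 → ZMod 7} (hβ : β ≠ 0) (h : ac R7 w β = β)
    (hu : ∀ v, C1 β (3 * v) = C1 β v) : w = 1 := by
  have := Fact.mk (by decide : Nat.Prime 7)
  by_contra h0
  obtain ⟨g, hg, e⟩ := exists_fix (by decide) (R7.wprod_mem_W _) v7_ord hw (orderOf_eq_prime h1 h0) h
  simp only [← C1_W hg β] at hu
  refine hβ (ac_eq_zero hg ?_)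
  generalize ac R7 g β = γ at e hu
  have h2 : ∀ j, j ≠ 1 → γ j = 0 := fun j hj => zero_of_fix e (c7 j) j (by simpa only [ac_st] using c7_spec j hj)
  have h3 : ∀ a < 7, cn 7 (0, a, 0, 0, 0, 0, 0) 3 TB = cn 7 (0, a, 0, 0, 0, 0, 0) 1 TB →
    cn 7 (0, a, 0, 0, 0, 0, 0) 2 TB = cn 7 (0, a, 0, 0, 0, 0, 0) 3 TB → a = 0 := by decide +kernel
  have h4 : tp γ = (0, (γ 1).val, 0, 0, 0, 0, 0) := by simp [tp, h2]
  simp only [C1_eq (l := 7) rfl, h4] at hu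
  have h5 := (ZMod.val_eq_zero _).1 (h3 _ (ZMod.val_lt _) (hu 1) (hu 3))
  funext j
  by_cases hj : j = 1
  exacts [hj ▸ h5, h2 j hj]

theorem fix5 {w : Equiv.Perm (Fin 126)} (hw : w ∈ R7.W) (h1 : w ^ 5 = 1) {β : Fin 7 → ZMod 5} (hβ : β ≠ 0) (h : ac R7 w β = β)
    (hu : ∀ v, C1 β (2 * v) = C1 β v) : w = 1 := by
  have := Fact.mk Nat.prime_five
  by_contra h0
  obtain ⟨g, hg, e⟩ := exists_fix (by decide) (R7.wprod_mem_W _) v5_ord hw (orderOf_eq_prime h1 h0) h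
  simp only [← C1_W hg β] at hu
  refine hβ (ac_eq_zero hg ?_)
  generalize ac R7 g β = γ at e hu
  have h2 : ∀ j, j ≠ 1 → j ≠ 5 → j ≠ 6 → γ j = 0 := fun j hj hj' hj'' => zero_of_fix e (c5 j) j
    (by simpa only [ac_st] using c5_spec j hj hj' hj'')
  have h3 : ∀ a < 5, ∀ b < 5, ∀ c < 5, cn 5 (0, a, 0, 0, 0, b, c) 2 TB = cn 5 (0, a, 0, 0, 0, b, c) 1 TB →
    a = 0 ∧ b = 0 ∧ c = 0 := by decide +kernel
  have h4 : tp γ = (0, (γ 1).val, 0, 0, 0, (γ 5).val, (γ 6).val) := by simp [tp, h2]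
  simp only [C1_eq (l := 5) rfl, h4] at hu
  have h5 := h3 _ (ZMod.val_lt _) _ (ZMod.val_lt _) _ (ZMod.val_lt _) (hu 1)
  simp only [ZMod.val_eq_zero] at h5
  funext j
  fin_cases j <;> simp [h2, h5]

theorem vec_eq {α : Type*} (a : Fin 7 → α) : a = ![a 0, a 1, a 2, a 3, a 4, a 5, a 6] := by
  funext j
  fin_cases j <;> rfl

/-- The check for one point. -/
def P7 (a b c d e f g : ℕ) : Prop := 2 * a + 2 * b + 3 * c + 4 * d + 3 * e + 2 * f + g ≤ 7 →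
    cn 7 (a % 7, b % 7, c % 7, d % 7, e % 7, f % 7, g % 7) 3 TB = cn 7 (a % 7, b % 7, c % 7, d % 7, e % 7, f % 7, g % 7) 1 TB →
    cn 7 (a % 7, b % 7, c % 7, d % 7, e % 7, f % 7, g % 7) 2 TB = cn 7 (a % 7, b % 7, c % 7, d % 7, e % 7, f % 7, g % 7) 3 TB →
    ∃ w ∈ [[], [6, 5, 4, 3, 1, 2, 0, 3, 2, 4, 3, 1, 5, 4, 3, 2, 0, 6, 5, 4, 3, 2], [6, 5, 4, 3, 1, 2, 0, 3, 2, 4, 3, 1, 5, 4, 3, 2, 0, 6, 5, 4, 3, 1, 2, 3, 4, 5, 6], [6, 5, 4, 3, 1, 2, 0, 3, 2, 4, 3, 1, 5, 4, 3, 2, 0, 6, 5, 4, 3, 1, 2, 3, 4, 5]],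
      w.foldl st (![a, b, c, d, e, f, g] : Fin 7 → ZMod 7) ∈
        [0, ![1, 0, 1, 0, 0, 0, 0], ![1, 0, 0, 0, 0, 1, 1], ![0, 0, 0, 1, 0, 1, 0]]

instance (a b c d e f g : ℕ) : Decidable (P7 a b c d e f g) := by unfold P7; infer_instance

theorem chk7 : ∀ (a b : Fin 4) (c : Fin 3) (d : Fin 2) (e : Fin 3) (f : Fin 4) (g : Fin 8), P7 a b c d e f g := by decide +kernel

theorem u7 {β : Fin 7 → ZMod 7} (hβ : β ≠ 0) (hu : ∀ v, C1 β (3 * v) = C1 β v) : ∃ w ∈ R7.W,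
    ac R7 w β = ![1, 0, 1, 0, 0, 0, 0] ∨ ac R7 w β = ![1, 0, 0, 0, 0, 1, 1] ∨ ac R7 w β = ![0, 0, 0, 1, 0, 1, 0] := by
  obtain ⟨w, hw, a, h1, h2⟩ := alcove (by decide) β
  simp only [← C1_W hw β, h2, C1_eq (l := 7) rfl, tp, ZMod.val_natCast] at hu
  obtain ⟨v, -, h3⟩ := chk7 ⟨a 0, by omega⟩ ⟨a 1, by omega⟩ ⟨a 2, by omega⟩ ⟨a 3, by omega⟩ ⟨a 4, by omega⟩ ⟨a 5, by omega⟩
    ⟨a 6, by omega⟩ h1 (hu 1) (hu 3)
  rw [← ac_st, ← vec_eq fun i => (a i : ZMod 7), ← h2, ← ac_mul hw] at h3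
  have h4 := mul_mem hw (R7.wprod_mem_W v)
  simp only [List.mem_cons, List.not_mem_nil, or_false] at h3
  exact ⟨_, h4, h3.resolve_left fun h => hβ (ac_eq_zero h4 h)⟩

/-- The check for one point. -/
def P5 (a b c d e f g : ℕ) : Prop := 2 * a + 2 * b + 3 * c + 4 * d + 3 * e + 2 * f + g ≤ 5 →
    cn 5 (a % 5, b % 5, c % 5, d % 5, e % 5, f % 5, g % 5) 2 TB = cn 5 (a % 5, b % 5, c % 5, d % 5, e % 5, f % 5, g % 5) 1 TB →
    ∃ w ∈ [[], [6, 5, 4, 3, 1, 2, 0, 3, 2, 4, 3, 1, 5, 4, 3, 2, 0, 6, 5, 4, 3, 1, 2, 3, 4, 5]],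
      w.foldl st (![a, b, c, d, e, f, g] : Fin 7 → ZMod 5) ∈ [0, ![1, 0, 0, 0, 0, 1, 0]]

instance (a b c d e f g : ℕ) : Decidable (P5 a b c d e f g) := by unfold P5; infer_instance

theorem chk5 : ∀ (a b : Fin 3) (c d e : Fin 2) (f : Fin 3) (g : Fin 6), P5 a b c d e f g := by decide +kernel

theorem u5 {β : Fin 7 → ZMod 5} (hβ : β ≠ 0) (hu : ∀ v, C1 β (2 * v) = C1 β v) : ∃ w ∈ R7.W,
    ac R7 w β = ![1, 0, 0, 0, 0, 1, 0] := by
  obtain ⟨w, hw, a, h1, h2⟩ := alcove (by decide) β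
  simp only [← C1_W hw β, h2, C1_eq (l := 5) rfl, tp, ZMod.val_natCast] at hu
  obtain ⟨v, -, h3⟩ := chk5 ⟨a 0, by omega⟩ ⟨a 1, by omega⟩ ⟨a 2, by omega⟩ ⟨a 3, by omega⟩ ⟨a 4, by omega⟩ ⟨a 5, by omega⟩
    ⟨a 6, by omega⟩ h1 (hu 1)
  rw [← ac_st, ← vec_eq fun i => (a i : ZMod 5), ← h2, ← ac_mul hw] at h3
  have h4 := mul_mem hw (R7.wprod_mem_W v)
  simp only [List.mem_cons, List.not_mem_nil, or_false] at h3
  exact ⟨_, h4, h3.resolve_left fun h => hβ (ac_eq_zero h4 h)⟩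

end Cfsg.Lib.AltE7
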