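import Cfsg.Agent.Lib.Exc.E7b

/-! No configurations of characters with the automizers of `7²` in `A₁₄` and `5³` in `A₁₅`. -/

set_option autoImplicit false
set_option synthInstance.maxSize 4000

namespace Cfsg.Lib.AltE7

open Cfsg.Lie Cfsg.Lib.Chev Cfsg.Lib.Twist Finset

/-- Roots of a given level. -/
def Lc0 : List T7 := [
  (34,0,34,0,0,0,0), (34,0,0,0,0,0,0), (0,34,0,0,0,0,0), (0,0,34,0,0,0,0), (0,0,0,0,34,0,0),
  (0,0,0,0,0,0,34), (0,0,0,0,0,0,1), (0,0,0,0,1,0,0), (0,0,1,0,0,0,0), (0,1,0,0,0,0,0),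
  (1,0,0,0,0,0,0), (1,0,1,0,0,0,0)]

/-- Roots of a given level. -/
def Lc1 : List T7 := [
  (33,33,32,31,32,33,34), (34,33,32,31,32,33,34), (34,33,33,31,32,33,34), (0,0,0,0,0,1,0), (0,0,0,0,0,1,1),
  (0,0,0,0,1,1,0), (0,0,0,0,1,1,1), (0,0,0,1,0,0,0), (0,0,0,1,1,0,0), (0,0,1,1,0,0,0),
  (0,0,1,1,1,0,0), (0,1,0,1,0,0,0), (0,1,0,1,1,0,0), (0,1,1,1,0,0,0), (0,1,1,1,1,0,0),
  (1,0,1,1,0,0,0), (1,0,1,1,1,0,0), (1,1,1,1,0,0,0), (1,1,1,1,1,0,0)]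

/-- Roots of a given level. -/
def Le0 : List T7 := [
  (0,34,34,33,34,0,0), (0,34,34,34,34,0,0), (0,34,34,34,0,0,0), (0,34,0,34,34,0,0), (0,34,0,34,0,0,0),
  (0,34,0,0,0,0,0), (0,0,34,34,34,0,0), (0,0,34,34,0,0,0), (0,0,34,0,0,0,0), (0,0,0,34,34,0,0),
  (0,0,0,34,0,0,0), (0,0,0,0,34,0,0), (0,0,0,0,0,0,34), (0,0,0,0,0,0,1), (0,0,0,0,1,0,0),
  (0,0,0,1,0,0,0), (0,0,0,1,1,0,0), (0,0,1,0,0,0,0), (0,0,1,1,0,0,0), (0,0,1,1,1,0,0),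
  (0,1,0,0,0,0,0), (0,1,0,1,0,0,0), (0,1,0,1,1,0,0), (0,1,1,1,0,0,0), (0,1,1,1,1,0,0),
  (0,1,1,2,1,0,0)]

/-- Roots of a given level. -/
def Le1 : List T7 := [
  (33,33,32,31,32,33,34), (0,0,0,0,0,1,0), (0,0,0,0,0,1,1), (0,0,0,0,1,1,0), (0,0,0,0,1,1,1),
  (0,0,0,1,1,1,0), (0,0,0,1,1,1,1), (0,0,1,1,1,1,0), (0,0,1,1,1,1,1), (0,1,0,1,1,1,0),
  (0,1,0,1,1,1,1), (0,1,1,1,1,1,0), (0,1,1,1,1,1,1), (0,1,1,2,1,1,0), (0,1,1,2,1,1,1),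
  (0,1,1,2,2,1,0), (0,1,1,2,2,1,1), (1,0,0,0,0,0,0), (1,0,1,0,0,0,0), (1,0,1,1,0,0,0),
  (1,0,1,1,1,0,0), (1,1,1,1,0,0,0), (1,1,1,1,1,0,0), (1,1,1,2,1,0,0), (1,1,2,2,1,0,0)]

/-- Roots of a given level. -/
def Le2 : List T7 := [
  (34,33,32,31,32,33,34), (34,33,33,31,32,33,34), (34,33,33,32,32,33,34), (34,33,33,32,33,33,34), (34,34,33,32,32,33,34),
  (34,34,33,32,33,33,34), (34,34,33,33,33,33,34), (34,34,34,33,33,33,34), (0,1,1,2,2,2,1), (1,0,1,1,1,1,0),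
  (1,0,1,1,1,1,1), (1,1,1,1,1,1,0), (1,1,1,1,1,1,1), (1,1,1,2,1,1,0), (1,1,1,2,1,1,1),
  (1,1,1,2,2,1,0), (1,1,1,2,2,1,1), (1,1,2,2,1,1,0), (1,1,2,2,1,1,1), (1,1,2,2,2,1,0),
  (1,1,2,2,2,1,1), (1,1,2,3,2,1,0), (1,1,2,3,2,1,1), (1,2,2,3,2,1,0), (1,2,2,3,2,1,1)]

theorem chkC : ∀ a b c e g : Fin 7, cn 7 (a, b, c, 0, e, 0, g) 1 Lc0 = 1 → cn 7 (a, b, c, 0, e, 0, g) 2 Lc0 = 1 →
    cn 7 (a, b, c, 0, e, 0, g) 3 Lc0 = 1 → ∀ d f : Fin 7, cn 7 (a, b, c, d, e, f, g) 0 Lc1 = 1 → cn 7 (a, b, c, d, e, f, g) 1 Lc1 = 3 →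
    cn 7 (a, b, c, d, e, f, g) 2 Lc1 = 3 → cn 7 (a, b, c, d, e, f, g) 3 Lc1 = 3 → cn 7 (a, b, c, d, e, f, g) 4 Lc1 ≠ 3 := by
  decide +kernel

theorem num7 (C : ZMod 7 → ZMod 7 → ℕ) (h1 : ∀ c a, C c (2 * a) = C c a) (h2 : ∀ c a, C c (3 * a) = C a c) :
    (C 0 2 = C 0 1 ∧ C 0 3 = C 0 1 ∧ C 1 0 = C 0 1) ∧ (C 1 2 = C 1 1 ∧ C 1 3 = C 1 1 ∧ C 1 4 = C 1 1) ∧
      ∑ a, C 0 a = C 0 0 + 6 * C 0 1 ∧ ∑ a, C 1 a = C 0 1 + 6 * C 1 1 ∧ ∑ a, C a (-a) = C 0 0 + 6 * C 1 1 := by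
  have t1 : C 0 2 = C 0 1 := h1 0 1
  have t2 : C 0 4 = C 0 2 := h1 0 2
  have t3 : C 0 6 = C 0 3 := h1 0 3
  have t4 : C 0 5 = C 0 6 := h1 0 6
  have t5 : C 0 3 = C 1 0 := h2 0 1
  have t6 : C 1 0 = C 0 1 := h2 1 0
  have t7 : C 1 2 = C 1 1 := h1 1 1
  have t8 : C 1 4 = C 1 2 := h1 1 2
  have t9 : C 1 6 = C 1 3 := h1 1 3
  have t10 : C 1 5 = C 1 6 := h1 1 6
  have t11 : C 1 3 = C 1 1 := h2 1 1
  have s : ∀ c, ∑ a, C c a = C c 0 + C c 1 + C c 2 + C c 3 + C c 4 + C c 5 + C c 6 := fun c => Fin.sum_univ_seven (C c)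
  have h3 : ∀ c a, C (3 * c) (3 * a) = C c a := fun c a => (h2 _ _).trans (h2 _ _)
  have u1 : C 3 4 = C 1 6 := h3 1 6
  have u2 : C 2 5 = C 3 4 := h3 3 4
  have u3 : C 6 1 = C 2 5 := h3 2 5
  have u4 : C 4 3 = C 6 1 := h3 6 1
  have u5 : C 5 2 = C 4 3 := h3 4 3
  have s' : ∑ a, C a (-a) = C 0 0 + C 1 6 + C 2 5 + C 3 4 + C 4 3 + C 5 2 + C 6 1 := Fin.sum_univ_seven fun a => C a (-a)
  rw [s, s, s']
  omega

theorem n07 {β : Fin 7 → ZMod 7} (hu : ∀ v, C1 β (3 * v) = C1 β v) : C1 β 0 ≠ 18 := by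
  by_cases h : β = 0
  · rw [h, C1_eq rfl]
    decide +kernel
  obtain ⟨w, hw, h3⟩ := u7 h hu
  rw [← C1_W hw]
  rcases h3 with e | e | e <;> rw [e, C1_eq rfl] <;> decide +kernel

theorem no7 {f g : Fin 7 → ZMod 7} (hf : f ≠ 0) {π ρ : Equiv.Perm (Fin 126)}
    (h1 : ∀ r, pr R7 f (π r) = pr R7 f r ∧ 2 * pr R7 g (π r) = pr R7 g r)
    (h2 : ∀ r, pr R7 g (ρ r) = pr R7 f r ∧ 3 * pr R7 f (ρ r) = pr R7 g r) : False := by
  have c2 : ∀ x y : ZMod 7, 2 * x = 2 * y ↔ x = y := by decide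
  have c3 : ∀ x y : ZMod 7, 3 * x = 3 * y ↔ x = y := by decide
  obtain ⟨w, hw, h3⟩ := u7 hf fun v => card_perm (ρ * ρ) _ _ fun r => by
    rw [← (h2 r).1, ← (h2 (ρ r)).2, c3, Equiv.Perm.mul_apply]
  have h4 := num7 (C2 f g) (fun c a => card_perm π _ _ fun r => by rw [← (h1 r).1, ← (h1 r).2, c2])
    fun c a => card_perm ρ _ _ fun r => by rw [← (h2 r).1, ← (h2 r).2, c3, and_comm]
  have h5 := n07 (β := f + g) fun v => card_perm (ρ * ρ) _ _ fun r => by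
    rw [pr_add, pr_add, ← (h2 r).1, ← (h2 (ρ r)).2, ← (h2 r).2, ← (h2 (ρ r)).1, ← mul_add, c3, Equiv.Perm.mul_apply]
  have h6 : C1 (f + g) 0 = ∑ a, C2 f g a (-a) := (C1_sum _ f 0).trans (Finset.sum_congr rfl fun a _ => card_perm 1 _ _ fun r => by
    rw [pr_add, Equiv.Perm.one_apply, and_comm]
    exact and_congr_right fun e => by rw [e, add_comm, add_eq_zero_iff_eq_neg])
  rw [h6, h4.2.2.2.2] at h5
  simp only [← C2_W hw f g, ← C1_sum] at h4 h5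
  generalize ac R7 w g = x at h4 h5
  obtain ⟨⟨t1, t2, t3⟩, ⟨t4, t5, t6⟩, t7, t8, -⟩ := h4
  rcases h3 with e | e | e <;> rw [e] at t1 t2 t3 t4 t5 t6 t7 t8 h5 <;> rw [C1_eq rfl] at t7 t8
  · rw [show cn 7 _ _ TB = 30 by decide +kernel] at t7
    rw [show cn 7 _ _ TB = 16 by decide +kernel] at t8
    omega
  · rw [show cn 7 _ _ TB = 24 by decide +kernel] at t7
    rw [show cn 7 _ _ TB = 17 by decide +kernel] at t8
    omega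
  · have s0 : ∀ a, C2 ![0, 0, 0, 1, 0, 1, 0] x 0 a = cn 7 ((x 0).val, (x 1).val, (x 2).val, 0, (x 4).val, 0, (x 6).val) a.val Lc0 :=
      fun a => (C2_eq rfl _ _ _ _ (by decide +kernel)).trans (cn_congr _ fun y hy => by
        have : y.2.2.2.1 = 0 ∧ y.2.2.2.2.2.1 = 0 := by revert y; decide +kernel
        simp [ev, tp, this])
    have s1 := fun a => C2_eq rfl ![0, 0, 0, 1, 0, 1, 0] x 1 a (L := Lc1) (by decide +kernel)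
    rw [show cn 7 _ _ TB = 12 by decide +kernel] at t7
    rw [show cn 7 _ _ TB = 19 by decide +kernel] at t8
    exact chkC (x 0) (x 1) (x 2) (x 4) (x 6) ((s0 1).symm.trans (by omega)) ((s0 2).symm.trans (by omega))
      ((s0 3).symm.trans (by omega)) (x 3) (x 5) ((s1 0).symm.trans (by omega)) ((s1 1).symm.trans (by omega))
      ((s1 2).symm.trans (by omega)) ((s1 3).symm.trans (by omega)) ((s1 4).symm.trans (by omega))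

/-- The admissible partners. -/
def ok5 (b c d e : ZMod 5) : Bool := Nat.testBit
  0x4008040400004001010800001080000004820000090002004001002000401000400800100000090400001200040002100000400804040000400101080001080000040100401000000840000000
  (b.val + 5 * c.val + 25 * d.val + 125 * e.val)

/-- The admissible partners. -/
def ok5' (b c d e : Fin 5) : Bool := ok5 b c d e

theorem chkE : ∀ b c d e g : Fin 5, cn 5 (0, b, c, d, e, 0, g) 2 Le0 = cn 5 (0, b, c, d, e, 0, g) 1 Le0 → ∀ a f : Fin 5,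
    cn 5 (a, b, c, d, e, f, g) 0 Le2 = cn 5 (a, b, c, d, e, f, g) 0 Le1 →
    cn 5 (a, b, c, d, e, f, g) 2 Le1 = cn 5 (a, b, c, d, e, f, g) 1 Le1 →
    cn 5 (a, b, c, d, e, f, g) 4 Le1 = cn 5 (a, b, c, d, e, f, g) 2 Le1 →
    cn 5 (a, b, c, d, e, f, g) 3 Le1 = cn 5 (a, b, c, d, e, f, g) 4 Le1 →
    ok5' b c d e = true ∨ (![a, b, c, d, e, f, g] : Fin 7 → Fin 5) = 0 := by decide +kernel

theorem chkF : ∀ b c d e : ZMod 5, ok5 b c d e = true → ∀ b' c' d' e' : ZMod 5, ok5 b' c' d' e' = true →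
    ok5 (b + 1 * b') (c + 1 * c') (d + 1 * d') (e + 1 * e') = true → ok5 (b + 2 * b') (c + 2 * c') (d + 2 * d') (e + 2 * e') = true →
    ok5 (b + 3 * b') (c + 3 * c') (d + 3 * d') (e + 3 * e') = true →
    ok5 (b + 4 * b') (c + 4 * c') (d + 4 * d') (e + 4 * e') ≠ true := by decide +kernel

theorem good5 {x : Fin 7 → ZMod 5} (hx : x ≠ 0)
    (h1 : ∀ c a, C2 ![1, 0, 0, 0, 0, 1, 0] x c (2 * a) = C2 ![1, 0, 0, 0, 0, 1, 0] x c a)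
    (h2 : ∀ c a, C2 ![1, 0, 0, 0, 0, 1, 0] x (2 * c) a = C2 ![1, 0, 0, 0, 0, 1, 0] x c a) :
    ok5 (x 1) (x 2) (x 3) (x 4) = true := by
  have s0 : ∀ a, C2 ![1, 0, 0, 0, 0, 1, 0] x 0 a = cn 5 (0, (x 1).val, (x 2).val, (x 3).val, (x 4).val, 0, (x 6).val) a.val Le0 :=
    fun a => (C2_eq rfl _ _ _ _ (by decide +kernel)).trans (cn_congr _ fun y hy => by
      have : y.1 = 0 ∧ y.2.2.2.2.2.1 = 0 := by revert y; decide +kernel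
      simp [ev, tp, this])
  have s1 := fun a => C2_eq rfl ![1, 0, 0, 0, 0, 1, 0] x 1 a (L := Le1) (by decide +kernel)
  have s2 := fun a => C2_eq rfl ![1, 0, 0, 0, 0, 1, 0] x (2 * 1) a (L := Le2) (by decide +kernel)
  refine (chkE (x 1) (x 2) (x 3) (x 4) (x 6) ((s0 _).symm.trans ((h1 0 1).trans (s0 1))) (x 0) (x 5)
    ((s2 0).symm.trans ((h2 1 0).trans (s1 0))) ((s1 _).symm.trans ((h1 1 1).trans (s1 1)))
    ((s1 _).symm.trans ((h1 1 2).trans (s1 2))) ((s1 _).symm.trans ((h1 1 4).trans (s1 4)))).resolve_right fun h => hx ?_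
  exact (vec_eq x).trans h

theorem no5 {u f g : Fin 7 → ZMod 5} (hu : u ≠ 0) (h : ∀ a b : ZMod 5, (a, b) ≠ 0 → a • f + b • g ≠ 0 ∧
    (∃ π : Equiv.Perm (Fin 126), ∀ r, pr R7 u (π r) = pr R7 u r ∧ 2 * pr R7 (a • f + b • g) (π r) = pr R7 (a • f + b • g) r) ∧
    ∃ π : Equiv.Perm (Fin 126), ∀ r, 2 * pr R7 u (π r) = pr R7 u r ∧ pr R7 (a • f + b • g) (π r) = pr R7 (a • f + b • g) r) :
    False := by
  have c2 : ∀ x y : ZMod 5, 2 * x = 2 * y ↔ x = y := by decide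
  obtain ⟨w, hw, h3⟩ := u5 hu fun v => by
    obtain ⟨-, -, π, hπ⟩ := h 1 0 (by decide)
    exact card_perm π _ _ fun r => by rw [← (hπ r).1, c2]
  have h4 : ∀ a b : ZMod 5, (a, b) ≠ 0 → ok5 ((a • ac R7 w f + b • ac R7 w g) 1) ((a • ac R7 w f + b • ac R7 w g) 2)
      ((a • ac R7 w f + b • ac R7 w g) 3) ((a • ac R7 w f + b • ac R7 w g) 4) = true := fun a b hab => by
    obtain ⟨t1, ⟨π, t2⟩, ρ, t3⟩ := h a b hab
    rw [← ac_lin]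
    refine good5 (fun e => t1 (ac_eq_zero hw e)) (fun c a => ?_) fun c a => ?_ <;> rw [← h3, C2_W hw, C2_W hw]
    · exact card_perm π _ _ fun r => by rw [← (t2 r).1, ← (t2 r).2, c2]
    · exact card_perm ρ _ _ fun r => by rw [← (t3 r).1, ← (t3 r).2, c2]
  have t0 := h4 1 0 (by decide)
  have t1 := h4 0 1 (by decide)
  have t2 := fun t => h4 1 t (by revert t; decide)
  simp only [one_smul, zero_smul, add_zero, zero_add] at t0 t1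
  simp only [one_smul, Pi.add_apply, Pi.smul_apply, smul_eq_mul] at t2
  exact chkF _ _ _ _ t0 _ _ _ _ t1 (t2 1) (t2 2) (t2 3) (t2 4)

end Cfsg.Lib.AltE7
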