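import Cfsg.Agent.Lib.Exc.E7a
import Cfsg.Agent.Lib.Exc.E6L2

/-! Toral elementary abelian subgroups and their characters. -/

set_option autoImplicit false

namespace Cfsg.Lib.AltE7

open Cfsg.Lie Cfsg.Lib.Chev Cfsg.Lib.Twist Cfsg.Lib.AltSec Cfsg.Lib.AltE6

variable {I Φ : Type*} [Fintype I] [DecidableEq I] {R : RootSys I Φ} {K : Type*} [Field K] {G : Type*} [Group G]
  {S : PreSys R K G} {l : ℕ} {ψ : AddChar (ZMod l) K}

variable (S ψ) in
/-- `h` acts on the root subgroups through the character `β`. -/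
def HasCh (h : G) (β : I → ZMod l) : Prop := ∀ s u, h * S.x s u * h⁻¹ = S.x s (ψ (pr R β s) * u)

theorem HasCh.mul {h h' : G} {β β' : I → ZMod l} (a : HasCh S ψ h β) (b : HasCh S ψ h' β') : HasCh S ψ (h * h') (β + β') :=
  fun s u => by
    rw [show h * h' * S.x s u * (h * h')⁻¹ = h * (h' * S.x s u * h'⁻¹) * h⁻¹ by group, b, a, pr_add, AddChar.map_add_eq_mul, mul_assoc]

theorem HasCh.pow {h : G} {β : I → ZMod l} (a : HasCh S ψ h β) (n : ℕ) : HasCh S ψ (h ^ n) ((n : ZMod l) • β) := by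
  induction n with
  | zero => intro s u; simp [pr]
  | succ n ih => rw [pow_succ, Nat.cast_succ, add_smul, one_smul]; exact ih.mul a

theorem HasCh.uniq (hF : S.Sep) (hψ : Function.Injective ψ) {h : G} {β β' : I → ZMod l} (a : HasCh S ψ h β) (b : HasCh S ψ h β') :
    β = β' := funext fun i => by
  have := hF.x_inj ((a (R.simple i) 1).symm.trans (b (R.simple i) 1))
  rw [mul_one, mul_one, pr_simple, pr_simple] at this
  exact hψ this

theorem HasCh.inj (hZ : ∀ g ∈ S.H, (∀ s u, g * S.x s u * g⁻¹ = S.x s u) → g = 1) {h h' : G} {β : I → ZMod l} (hh : h ∈ S.H)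
    (hh' : h' ∈ S.H) (a : HasCh S ψ h β) (b : HasCh S ψ h' β) : h = h' :=
  (inv_mul_eq_one.1 (hZ _ (mul_mem (inv_mem hh') hh) fun s u => by
    rw [show h'⁻¹ * h * S.x s u * (h'⁻¹ * h)⁻¹ = h'⁻¹ * (h * S.x s u * h⁻¹) * h' by group, a, ← b]; group)).symm

theorem exists_ch (hS : S.St) (hF : S.Sep) (hψ' : ∀ x : K, x ^ l = 1 → ∃ a, x = ψ a) {h : G} (hh : h ∈ S.H) (h2 : h ^ l = 1) :
    ∃ β, HasCh S ψ h β := by
  classical
  obtain ⟨χ, h1, h3⟩ := hS.exists_char hh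
  have h0 : ∀ s (n : ℕ), h ^ n * S.x s 1 * (h ^ n)⁻¹ = S.x s (χ (R.rt s) ^ n) := fun s n => by
    induction n with
    | zero => simp
    | succ n ih => rw [pow_succ' (χ _), ← h3, ← ih, pow_succ']; group
  have h4 : ∀ i, ∃ x, χ (R.rt (R.simple i)) = ψ x := fun i => hψ' _ (hF.x_inj (r := R.simple i) (by rw [← h0, h2]; simp))
  choose β hβ using h4
  refine ⟨β, fun s u => ?_⟩
  rw [h3, pr]
  congr 2
  have : ∀ T : Finset I, χ (∑ i ∈ T, R.rt s i • R.rt (R.simple i)) = ψ (∑ i ∈ T, β i * (R.rt s i : ZMod l)) := by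
    intro T
    induction T using Finset.induction_on with
    | empty => simp [h1.map_zero]
    | insert i T hi ih =>
      rw [Finset.sum_insert hi, Finset.sum_insert hi, h1.map_add, AddChar.map_add_eq_mul, ih, h1.map_zsmul, hβ, mul_comm (β i),
        ← zsmul_eq_mul, AddChar.map_zsmul_eq_zpow]
  rw [← this]; exact congrArg χ (RootSys.W_rt_eq_sum (one_mem _) s)

variable [Finite Φ] [Finite G] [Fact l.Prime] (hS : S.St) (hF : S.Sep) (hO : S.Opp) (hM : S.Mult) (hgen : S.U Set.univ = ⊤)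
  (hZ : ∀ g ∈ S.H, (∀ s u, g * S.x s u * g⁻¹ = S.x s u) → g = 1) (hψ : Function.Injective ψ)
  (hψ' : ∀ x : K, x ^ l = 1 → ∃ a, x = ψ a) (hi : ¬ l ^ 2 ∣ S.H.index)

include hS hF hM hZ hψ' hi in
theorem rank_bound (X : Subgroup G) (T : Subgroup X) (hT : IsPGroup l T) : ∃ A ≤ T, (∀ a ∈ A, ∀ b ∈ A, a * b = b * a) ∧
    A.relIndex T ≤ l ∧ Nat.card {a : X // a ∈ A ∧ a ^ l = 1} ≤ l ^ Fintype.card I := by
  obtain ⟨g, A, t3, t4⟩ := orb hT (X.subtype.comp T.subtype) S.H (v := 1) hi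
  have t5 : ∀ a ∈ A.map T.subtype, g⁻¹ * a.1 * g ∈ S.H := by
    rintro _ ⟨a, ha, rfl⟩
    exact t4 a ha
  refine ⟨A.map T.subtype, Subgroup.map_subtype_le _, fun a ha b hb => Subtype.ext ?_, ?_, ?_⟩
  · simpa [mul_assoc] using congrArg (fun x => g * x * g⁻¹) (hS.H_comm hM (t5 a ha) (t5 b hb))
  · rwa [Subgroup.relIndex, Subgroup.subgroupOf, Subgroup.comap_map_eq_self_of_injective T.subtype_injective, ← pow_one l]
  · choose β hβ using fun a : {a : X // a ∈ A.map T.subtype ∧ a ^ l = 1} => exists_ch hS hF hψ' (t5 a a.2.1) (by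
      rw [← inv_inv g, inv_inv g⁻¹, conj_pow, ← Subgroup.coe_pow, a.2.2]; simp)
    have := Nat.card_le_card_of_injective β fun a b t => Subtype.ext (Subtype.ext (by
      simpa using HasCh.inj hZ (t5 a a.2.1) (t5 b b.2.1) (hβ a) (t ▸ hβ b)))
    simpa [Nat.card_fun] using this

include hS hF hO hM hgen hψ in
theorem fus_ch (g : G) : ∃ π : Equiv.Perm Φ, ∀ h ∈ S.H, ∀ h' ∈ S.H, g * h * g⁻¹ = h' → ∀ β β', HasCh S ψ h β → HasCh S ψ h' β' →
    ∀ r, pr R β' (π r) = pr R β r := by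
  obtain ⟨m, -, w, -, a, h1⟩ := exists_fus hS hO hM hgen g
  exact ⟨w, fun h hh h' hh' e β β' t t' r => hψ (conj_char hF a t t' (e ▸ h1 h hh (e ▸ hh')) r)⟩

include hS hF hO hM hgen hZ hψ hψ' hi in
theorem toral {v : Equiv.Perm Φ} (hv : v ∈ R.W) (hv' : orderOf v = l) (hW : ¬ l ^ 2 ∣ Nat.card R.W) {c : ℕ}
    (hfix : ∀ w ∈ R.W, w ^ l = 1 → ∀ β : I → ZMod l, β ≠ 0 → ac R w β = β →
      (∃ π : Equiv.Perm Φ, ∀ r, c * pr R β (π r) = pr R β r) → w = 1)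
    {E : Type*} [CommGroup E] [Finite E] (hE : ∀ x : E, x ^ l = 1) (σ : E →* G) (hσ : Function.Injective σ)
    (hrat : ∀ A : Subgroup E, A.index ≤ l → ∃ x ∈ A, x ≠ 1 ∧ ∃ g, g * σ x * g⁻¹ = σ x ^ c) : ∃ a : G, ∀ x, a⁻¹ * σ x * a ∈ S.H := by
  choose ω0 h1 h2 using fun n : S.N => hS.exists_act n.2
  let ω : S.N →* Equiv.Perm Φ := MonoidHom.mk' ω0 fun a b => (h2 (a * b)).unique hF ((h2 a).mul (h1 b) (h2 b))
  have h3 : ∀ n : S.N, ω n = 1 → n.1 ∈ S.H := fun n e => hS.mem_H_of_act_one hF n.2 (e ▸ h2 n)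
  have hE' : IsPGroup l E := fun x => ⟨1, by rw [pow_one, hE]⟩
  have h4 : ¬ l ^ 1 ∣ S.N.index := fun h => hi (by
    obtain ⟨n, hn, t⟩ := hS.exists_rep hv
    have t1 : l ∣ ω.ker.index := by
      rw [Subgroup.index_ker, ← hv']
      exact Subgroup.orderOf_dvd_natCard _ ⟨⟨n, hn⟩, (h2 _).unique hF t⟩
    have t2 : S.H.subgroupOf S.N ≤ ω.ker := fun n hn => by
      obtain ⟨χ, t3, t4⟩ := hS.exists_char (g := n.1) hn
      exact (h2 n).unique hF (hS.act_H hn)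
    rw [← Subgroup.relIndex_mul_index S.H_le_N, pow_two]
    exact Nat.mul_dvd_mul (t1.trans (Subgroup.index_dvd_of_le t2)) (pow_one l ▸ h))
  obtain ⟨a, A, t1, t2⟩ := orb hE' σ S.N (v := 0) h4
  obtain rfl : A = ⊤ := Subgroup.index_eq_one.1 (le_antisymm t1 (Nat.pos_of_ne_zero Subgroup.index_ne_zero_of_finite))
  let τ : E →* S.N := ((MulAut.conj a⁻¹).toMonoidHom.comp σ).codRestrict _ fun x => by simpa using t2 x trivial
  have hτ : ∀ x, (τ x).1 = a⁻¹ * σ x * a := fun x => by simp [τ]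
  obtain ⟨x, hx, hx1, g, hg⟩ := hrat (ω.comp τ).ker (by
    obtain ⟨n, hn⟩ := hE'.index (ω.comp τ).ker
    have t3 : l ^ n ∣ Nat.card R.W := by
      rw [← hn, Subgroup.index_ker]
      exact Subgroup.card_dvd_of_le (by rintro _ ⟨y, rfl⟩; exact h1 _)
    rw [hn]
    exact (Nat.pow_le_pow_right (Fact.out : l.Prime).pos (show n ≤ 1 from not_lt.1 fun t => hW ((pow_dvd_pow l t).trans t3))).trans
      (pow_one l).le)
  have t4 := h3 _ hx
  obtain ⟨β, hβ⟩ := exists_ch hS hF hψ' t4 (by rw [← Subgroup.coe_pow, ← map_pow, hE, map_one]; rfl)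
  refine ⟨a, fun y => hτ y ▸ h3 _ (hfix _ (h1 _) (show ω (τ y) ^ l = 1 by rw [← map_pow, ← map_pow, hE, map_one, map_one]) β ?_ ?_ ?_)⟩
  · rintro rfl
    have := hZ _ t4 (by simpa [HasCh, pr] using hβ)
    rw [hτ, mul_eq_one_iff_eq_inv, mul_eq_left, map_eq_one_iff _ hσ] at this
    exact hx1 this
  · funext i
    refine (hψ (conj_char hF (h2 (τ y)) hβ hβ ?_ _)).trans (pr_simple β i)
    rw [← Subgroup.coe_mul, ← map_mul, mul_comm, map_mul]; simp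
  · obtain ⟨π, hπ⟩ := fus_ch hS hF hO hM hgen hψ (a⁻¹ * g * a)
    exact ⟨π, fun r => (pr_smul _ _ _).symm.trans (hπ _ t4 _ (pow_mem t4 c) (by
      rw [hτ, ← inv_inv a, inv_inv a⁻¹, conj_pow, ← hg]; group) _ _ hβ (hβ.pow c) r)⟩

include hS hF hO hM hgen hZ hψ hψ' in
theorem chars {V : Type*} [AddCommGroup V] (hV : ∀ x : Multiplicative V, x ^ l = 1) (σ : Multiplicative V →* G)
    (hσ : Function.Injective σ) {a : G} (ha : ∀ x, a⁻¹ * σ x * a ∈ S.H) : ∃ χ : V →+ (I → ZMod l), Function.Injective χ ∧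
      ∀ g : G, ∃ π : Equiv.Perm Φ, ∀ v v', g * σ (.ofAdd v) * g⁻¹ = σ (.ofAdd v') → ∀ r, pr R (χ v') (π r) = pr R (χ v) r := by
  choose β hβ using fun v : V => exists_ch hS hF hψ' (ha (.ofAdd v)) (by
    rw [← inv_inv a, inv_inv a⁻¹, conj_pow, ← map_pow, hV]; simp)
  refine ⟨AddMonoidHom.mk' β fun v w => (hβ (v + w)).uniq hF hψ ?_, fun v w e => ?_, fun g => ?_⟩
  · convert (hβ v).mul (hβ w) using 1
    rw [ofAdd_add, map_mul]; group
  · have := HasCh.inj hZ (ha _) (ha _) (hβ v) ((show β v = β w from e) ▸ hβ w)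
    rw [mul_left_inj, mul_right_inj] at this
    exact hσ this
  · obtain ⟨π, hπ⟩ := fus_ch hS hF hO hM hgen hψ (a⁻¹ * g * a)
    exact ⟨π, fun v v' e => hπ _ (ha _) _ (ha _) (by rw [← e]; group) _ _ (hβ v) (hβ v')⟩

end Cfsg.Lib.AltE7
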