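import Cfsg.Agent.Lib.Exc.E7c
import Cfsg.Agent.Lib.Exc.E7d
import Cfsg.Agent.Lib.Exc.E7P
import Cfsg.Agent.Lib.Chev.TabE7

/-! Alternating sections of `E₇(q)`. -/

set_option autoImplicit false

namespace Cfsg.Lib.AltE7

open Cfsg.Lie Cfsg.Lib.Chev Cfsg.Lib.Twist Cfsg.Lib.AltSec Cfsg.Lib.AltDeg

universe u

theorem dvd_index7 {R : RootSys (Fin chevE7.rank) (Fin chevE7.nroots)} (hc : Compat chevE7 R) {η : ℕ → ℕ → ℤ} (hm : MatOK chevE7 η)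
    {L : Type*} [Field L] [Finite L] {n : ℕ} (h1 : n ∣ Nat.card L - 1) (h2 : ¬ n ∣ 2903040) : ¬ n ∣ (hc.gsys hm L).H.index := by
  have := Fintype.ofFinite (R.WJ Set.univ)
  have e1 := hc.card_group hm (F := L)
  have e2 := (hc.gsys hm L).H.card_mul_index
  have e3 : Nat.card (hc.gsys hm L).H = Nat.card (hc.sys hm L).H := by
    rw [hc.gsys_H, hc.diagonalSubgroup_eq hm]
    exact Nat.card_congr (Subgroup.subgroupOfEquivOfLe ((hc.sys hm L).H_le_univ.trans (hc.group_eq hm).ge)).toEquiv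
  rw [← hc.card_H hm, ← e2, e3, ← mul_assoc, mul_left_comm] at e1
  rw [Nat.eq_of_mul_eq_mul_left (Nat.mul_pos Nat.card_pos Nat.card_pos) e1, ← ZMod.natCast_eq_zero_iff, Nat.cast_mul,
    R.poin_cast, Nat.cast_pow, (ZMod.natCast_eq_natCast_iff _ 1 _).2 ((Nat.modEq_iff_dvd' Nat.card_pos).2 h1).symm,
    ← R.poin_eq]
  simp only [Nat.cast_one, one_pow, one_mul, Finset.sum_const, Finset.card_univ, nsmul_eq_mul, mul_one]
  rwa [ZMod.natCast_eq_zero_iff, ← Nat.card_eq_fintype_card, R.WJ_univ, card_W_E7 hc]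

theorem ex_mem {E E' : Type*} [Group E'] [CommGroup E] [Finite E] (ι : E' →* E) (A : Subgroup E) (h : A.index < Nat.card E') :
    ∃ x, x ≠ 1 ∧ ι x ∈ A := by
  by_contra h'
  push Not at h'
  have h1 := A.relIndex_dvd_index_of_normal ι.range
  rw [← Subgroup.index_comap, (Subgroup.eq_bot_iff_forall (A.comap ι)).2 fun x hx => not_not.1 fun e => h' x e hx, Subgroup.index_bot] at h1
  exact absurd (Nat.le_of_dvd (Nat.pos_of_ne_zero Subgroup.index_ne_zero_of_finite) h1) (not_le.2 h)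

variable (p : ℕ) [Fact p.Prime] {F : Type u} [Field F] [Finite F] [CharP F p] {X : Subgroup (chevE7.group F)}

theorem pack {l c : ℕ} [Fact l.Prime] (hl : p ≠ l) (hW : ¬ l ^ 2 ∣ 2903040) {v : Equiv.Perm (Fin 126)} (hv : v ∈ R7.W)
    (hv' : orderOf v = l) (hfix : ∀ w ∈ R7.W, w ^ l = 1 → ∀ β : Fin 7 → ZMod l, β ≠ 0 → ac R7 w β = β →
      (∃ π : Equiv.Perm (Fin 126), ∀ r, c * pr R7 β (π r) = pr R7 β r) → w = 1)
    {B : Type} [Group B] (π : X →* B) (hπ : Function.Surjective π) : ∃ (H : Type u) (_ : Group H) (_ : Finite H),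
      (∃ π' : H →* B, Function.Surjective π') ∧ (∀ S : Subgroup H, IsPGroup l S → ∃ A ≤ S, (∀ a ∈ A, ∀ b ∈ A, a * b = b * a) ∧
        A.relIndex S ≤ l ∧ Nat.card {a : H // a ∈ A ∧ a ^ l = 1} ≤ l ^ 7) ∧
      ∀ (V : Type) [AddCommGroup V] [Finite V] (σ : Multiplicative V →* H), (∀ x : Multiplicative V, x ^ l = 1) →
        Function.Injective σ → (∀ A : Subgroup (Multiplicative V), A.index ≤ l → ∃ x ∈ A, x ≠ 1 ∧ ∃ g, g * σ x * g⁻¹ = σ (x ^ c)) →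
        ∃ χ : V →+ (Fin 7 → ZMod l), Function.Injective χ ∧ ∀ g : H, ∃ π : Equiv.Perm (Fin 126), ∀ v v',
          g * σ (.ofAdd v) * g⁻¹ = σ (.ofAdd v') → ∀ r, pr R7 (χ v') (π r) = pr R7 (χ v) r := by
  have hc := compat_E7
  have hm := matOK_E7
  have hP : l.Prime := Fact.out
  obtain ⟨L, _, _, j, h1, -⟩ := descend hc hm p (K := F) (z := 1) (Nat.coprime_one_left p) (one_pow 1) (m := l ^ 2)
    fun h => hl ((Nat.prime_dvd_prime_iff_eq Fact.out hP).1 ((Fact.out : p.Prime).dvd_of_dvd_pow h))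
  obtain ⟨ζ, hζ⟩ := exists_prime_orderOf_dvd_card' (G := Lˣ) l (by rw [Nat.card_units]; exact (dvd_pow_self l two_ne_zero).trans h1)
  have h2 : IsPrimitiveRoot (ζ : L) l := IsPrimitiveRoot.coe_units_iff.2 (hζ ▸ IsPrimitiveRoot.orderOf ζ)
  let ψ := AddChar.zmodChar l h2.pow_eq_one
  have hψ : Function.Injective ψ := fun a b e => ZMod.val_injective _ (h2.pow_inj (ZMod.val_lt _) (ZMod.val_lt _) e)
  have hψ' : ∀ x : L, x ^ l = 1 → ∃ a, x = ψ a := fun x hx => by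
    obtain ⟨i, -, rfl⟩ := h2.eq_pow_of_pow_eq_one hx
    exact ⟨i, (AddChar.zmodChar_apply' _ i).symm⟩
  have : Finite (chevE7.group L) := inferInstance
  obtain ⟨S, hS, hF, hO, hM, hgen, hZ, hi⟩ : ∃ S : PreSys R7 L (chevE7.group L), S.St ∧ S.Sep ∧ S.Opp ∧ S.Mult ∧ S.U Set.univ = ⊤ ∧
      (∀ g ∈ S.H, (∀ s u, g * S.x s u * g⁻¹ = S.x s u) → g = 1) ∧ ¬ l ^ 2 ∣ S.H.index :=
    ⟨hc.gsys hm L, hc.gst hm, hc.gsep hm, hc.gopp hm, hc.gmult hm, hc.ggen hm, gZ hc hm, dvd_index7 hc hm h1 hW⟩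
  let e := X.equivMapOfInjective _ (baseExt_injective (D := chevE7) j)
  refine ⟨X.map (baseExt chevE7 j), inferInstance, inferInstance, ⟨π.comp e.symm.toMonoidHom, hπ.comp e.symm.surjective⟩,
    fun T hT => by simpa using rank_bound hS hF hM hZ hψ' hi _ T hT, fun V _ _ σ hV hσ h => ?_⟩
  have h3 := (Subgroup.subtype_injective _).comp hσ
  obtain ⟨a, ha⟩ := toral hS hF hO hM hgen hZ hψ hψ' hi hv hv' (card_W7 ▸ hW) hfix hV ((Subgroup.subtype _).comp σ) h3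
    fun A hA => by
      obtain ⟨x, t1, t2, g, t3⟩ := h A hA
      exact ⟨x, t1, t2, g.1, by rw [← map_pow]; exact congrArg Subtype.val t3⟩
  obtain ⟨χ, t1, t2⟩ := chars hS hF hO hM hgen hZ hψ hψ' hV _ h3 ha
  refine ⟨χ, t1, fun g => ?_⟩
  obtain ⟨ρ, t3⟩ := t2 g.1
  exact ⟨ρ, fun v v' t => t3 v v' (congrArg Subtype.val t)⟩

theorem fact7 : Fact (Nat.Prime 7) := ⟨by decide⟩

theorem fact5 : Fact (Nat.Prime 5) := ⟨Nat.prime_five⟩

attribute [local instance] fact5 fact7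

theorem no14 (hp : p ≠ 7) (π : X →* alternatingGroup (Fin 14)) (hπ : Function.Surjective π) : False := by
  have c3 : ∀ x y : ZMod 7, 3 * x = 3 * y ↔ x = y := by decide
  obtain ⟨H, _, _, ⟨π', h1⟩, h2, h3⟩ := pack p (l := 7) (c := 3) hp (by decide) (R7.wprod_mem_W _) v7_ord
    (fun w hw t β t1 t2 ⟨ρ, t3⟩ => fix7 hw t t1 t2 fun v => card_perm ρ _ _ fun r => by rw [← t3, Nat.cast_ofNat, c3]) π hπ
  obtain ⟨σ, hσ, ⟨g, hg⟩, g', hg'⟩ := abs14 π' h1 h2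
  obtain ⟨χ, h4, h5⟩ := h3 _ σ (by decide) hσ fun A hA => by
    obtain ⟨x, t1, t2⟩ := ex_mem (MonoidHom.id _) A (by simp; omega)
    refine ⟨x, t2, t1, g' * g', ?_⟩
    have t3 := hg' x.toAdd.1 x.toAdd.2
    rw [show g' * g' * σ x * (g' * g')⁻¹ = g' * (g' * σ (.ofAdd (x.toAdd.1, x.toAdd.2)) * g'⁻¹) * g'⁻¹ by simp [mul_assoc], hg', hg']
    congr 1
    clear * -
    revert x
    decide
  obtain ⟨ρ, hρ⟩ := h5 g
  obtain ⟨ρ', hρ'⟩ := h5 g'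
  refine no7 (f := χ (1, 0)) (g := χ (0, 1)) (fun e => absurd (h4 (e.trans χ.map_zero.symm)) (by decide)) (π := ρ) (ρ := ρ')
    (fun r => ⟨hρ _ _ (hg 1 0) r, ?_⟩) fun r => ⟨hρ' _ _ (hg' 1 0) r, ?_⟩
  · rw [← pr_smul, ← ZMod.map_smul]
    exact hρ _ _ (hg 0 1) r
  · rw [← pr_smul, ← ZMod.map_smul]
    exact hρ' _ _ (hg' 0 1) r

/-- Generators of the automizer. -/
def gen5 (v : ZMod 5 × ZMod 5 × ZMod 5) : Fin 3 → ZMod 5 × ZMod 5 × ZMod 5 :=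
  ![(2 * v.2.1, v.1, v.2.2), (-v.1, v.2.1, v.2.2), (v.2.2, v.1, v.2.1)]

theorem words5 : ∀ a b : ZMod 5, (a, b) ≠ 0 → ∃ w ∈ [[2, 2, 0, 0, 2], [2, 0, 0, 2, 2], [2, 2, 0, 2, 2], [0, 1, 2, 2, 0, 0, 2],
    [0, 0, 2, 0, 0, 0, 2], [2, 0, 0, 0, 2, 1]], w.foldl gen5 (a, b, 0) = (a, b, 0) ∧
      w.foldl gen5 (0, 0, 1) = (2 : ZMod 5) • (0, 0, 1) := by decide +kernel

theorem no15 (hp : p ≠ 5) (π : X →* alternatingGroup (Fin 15)) (hπ : Function.Surjective π) : False := by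
  have c2 : ∀ x y : ZMod 5, 2 * x = 2 * y ↔ x = y := by decide
  obtain ⟨H, _, _, ⟨π', h1⟩, h2, h3⟩ := pack p (l := 5) (c := 2) hp (by decide) (R7.wprod_mem_W _) v5_ord
    (fun w hw t β t1 t2 ⟨ρ, t3⟩ => fix5 hw t t1 t2 fun v => card_perm ρ _ _ fun r => by rw [← t3, Nat.cast_ofNat, c2]) π hπ
  obtain ⟨σ, hσ, ⟨g, hg⟩, ⟨g', hg'⟩, g'', hg''⟩ := abs15 π' h1 h2
  have hw : ∀ w : List (Fin 3), ∃ x : H, ∀ v, x * σ (.ofAdd v) * x⁻¹ = σ (.ofAdd (w.foldl gen5 v)) := fun w => by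
    induction w with
    | nil => exact ⟨1, by simp⟩
    | cons j w ih =>
      obtain ⟨x, hx⟩ := ih
      obtain ⟨y, hy⟩ : ∃ y : H, ∀ v, y * σ (.ofAdd v) * y⁻¹ = σ (.ofAdd (gen5 v j)) := by
        fin_cases j
        exacts [⟨g, fun v => hg _ _ _⟩, ⟨g', fun v => hg' _ _ _⟩, ⟨g'', fun v => hg'' _ _ _⟩]
      exact ⟨x * y, fun v => by rw [List.foldl_cons, ← hx, ← hy]; group⟩
  obtain ⟨x, hx⟩ := hw [0, 0]
  obtain ⟨χ, h4, h5⟩ := h3 _ σ (by decide +kernel) hσ fun A hA => by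
    obtain ⟨y, t1, t2⟩ := ex_mem (MonoidHom.mk' (fun v : Multiplicative (ZMod 5 × ZMod 5) =>
      (.ofAdd (v.toAdd.1, v.toAdd.2, 0) : Multiplicative (ZMod 5 × ZMod 5 × ZMod 5))) (by decide +kernel)) A (by simp; omega)
    refine ⟨_, t2, by clear * - t1; revert y; decide, x, (hx _).trans (congrArg σ ?_)⟩
    clear * -
    revert y
    decide
  have e : ∀ a b : ZMod 5, a • χ (1, 0, 0) + b • χ (0, 1, 0) = χ (a, b, 0) := fun a b => by
    rw [← ZMod.map_smul, ← ZMod.map_smul, ← map_add]; simp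
  refine no5 (u := χ (0, 0, 1)) (f := χ (1, 0, 0)) (g := χ (0, 1, 0))
    (fun e => absurd (h4 (e.trans χ.map_zero.symm)) (by decide)) fun a b hab => ?_
  rw [e]
  obtain ⟨w, -, t1, t2⟩ := words5 a b hab
  obtain ⟨y, hy⟩ := hw w
  obtain ⟨ρ, hρ⟩ := h5 x
  obtain ⟨ρ', hρ'⟩ := h5 y
  refine ⟨fun e => hab (by simpa using h4 (e.trans χ.map_zero.symm)), ⟨ρ, fun r => ⟨hρ _ _ (hx (0, 0, 1)) r, ?_⟩⟩,
    ρ', fun r => ⟨?_, hρ' _ _ ((hy _).trans (by rw [t1])) r⟩⟩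
  · rw [← pr_smul, ← ZMod.map_smul]
    exact hρ _ _ ((hx _).trans (by simp [gen5])) r
  · rw [← pr_smul, ← ZMod.map_smul, ← t2]
    exact hρ' _ _ (hy _) r

theorem main (r : ℕ) (H : Subgroup (chevE7.group F)) (K : Subgroup H) [K.Normal]
    (h : Nonempty (H ⧸ K ≃* alternatingGroup (Fin r))) : r ≤ 13 + (if p = 7 then 1 else 0) := by
  by_contra hr
  obtain ⟨i⟩ := h
  split_ifs at hr with hp
  · obtain ⟨X, π, hπ⟩ := exists_alt (m := 15) (by omega) i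
    exact no15 p (by omega) π hπ
  · obtain ⟨X, π, hπ⟩ := exists_alt (m := 14) (by omega) i
    exact no14 p hp π hπ

end Cfsg.Lib.AltE7
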