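import Cfsg.Agent.Lib.Exc.AltSec2

/-! Abelian subgroups of small index in `l`-subgroups of Chevalley groups, `l` different from the characteristic. -/

set_option autoImplicit false

namespace Cfsg.Lib.AltSec

open Subgroup Cfsg.Lib Cfsg.Lib.Chev Cfsg.Lib.Twist Cfsg.Lie

universe u

theorem orbG {G S : Type*} [Group G] [Finite G] [Group S] [Finite S] {l v : ℕ} [Fact l.Prime] (hS : IsPGroup l S) (f : S →* G)
    (T : Subgroup G) (h : ¬ l ^ (v + 1) ∣ T.index) : ∃ (g : G) (A : Subgroup S), A.index ≤ l ^ v ∧ ∀ a ∈ A, g⁻¹ * f a * g ∈ T := by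
  let := MulAction.compHom (G ⧸ T) f
  by_contra h'
  apply h
  have := Fintype.ofFinite (MulAction.orbitRel.Quotient S (G ⧸ T))
  rw [Subgroup.index, Nat.card_congr (MulAction.selfEquivSigmaOrbits S (G ⧸ T)), Nat.card_sigma]
  refine Finset.dvd_sum fun q _ => ?_
  obtain ⟨n, hn⟩ := hS.card_orbit q.out
  rw [hn]
  refine pow_dvd_pow l (Nat.succ_le_of_lt <| not_le.1 fun t => h' ⟨q.out.out, MulAction.stabilizer S q.out, ?_, fun a ha => ?_⟩)
  · rw [MulAction.index_stabilizer, ← Nat.card_coe_set_eq, hn]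
    exact Nat.pow_le_pow_right (Fact.out : l.Prime).pos t
  · have t1 : f a • q.out = q.out := ha
    rw [← QuotientGroup.out_eq' q.out, MulAction.Quotient.smul_mk, eq_comm, QuotientGroup.eq] at t1
    rwa [mul_assoc]

section

variable {D : ChevalleyDatum} {R : RootSys (Fin D.rank) (Fin D.nroots)} (hc : Compat D R) {η : ℕ → ℕ → ℤ} (hm : MatOK D η)
include hc hm

theorem not_dvd_indexG {L : Type*} [Field L] [Finite L] {n : ℕ} (h1 : n ∣ Nat.card L - 1)
    (h2 : ¬ n ∣ Nat.card R.W) : ¬ n ∣ (hc.gsys hm L).H.index := by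
  have := Fintype.ofFinite (R.WJ Set.univ)
  have e1 := hc.card_group hm (F := L)
  have e2 := (hc.gsys hm L).H.card_mul_index
  have e3 : Nat.card (hc.gsys hm L).H = Nat.card (hc.sys hm L).H := by
    rw [hc.gsys_H, hc.diagonalSubgroup_eq hm]
    exact Nat.card_congr (Subgroup.subgroupOfEquivOfLe ((hc.sys hm L).H_le_univ.trans (hc.group_eq hm).ge)).toEquiv
  rw [← hc.card_H hm, ← e2, e3, ← mul_assoc, mul_left_comm] at e1
  rw [Nat.eq_of_mul_eq_mul_left (Nat.mul_pos Nat.card_pos Nat.card_pos) e1, ← ZMod.natCast_eq_zero_iff, Nat.cast_mul,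
    R.poin_cast, Nat.cast_pow, (ZMod.natCast_eq_natCast_iff _ 1 _).2 ((Nat.modEq_iff_dvd' Nat.card_pos).2 h1).symm,
    ← R.poin_eq]
  simp only [Nat.cast_one, one_pow, one_mul, Finset.sum_const, Finset.card_univ, nsmul_eq_mul, mul_one]
  rwa [ZMod.natCast_eq_zero_iff, ← Nat.card_eq_fintype_card, R.WJ_univ]

theorem torsG {L : Type*} [Field L] {l : ℕ} (hl : l ≠ 0) :
    Finite {h : D.group L // h ∈ (hc.gsys hm L).H ∧ h ^ l = 1} ∧
      Nat.card {h : D.group L // h ∈ (hc.gsys hm L).H ∧ h ^ l = 1} ≤ l ^ D.rank := by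
  classical
  choose χ h1 h3 using fun h : {h : D.group L // h ∈ (hc.gsys hm L).H ∧ h ^ l = 1} => (hc.gst hm).exists_char h.2.1
  have h4 : ∀ h i, χ h (R.rt (R.simple i)) ∈ Polynomial.nthRootsFinset l (1 : L) := by
    intro h i
    have : ∀ m : ℕ, h.1 ^ m * (hc.gsys hm L).x (R.simple i) 1 * (h.1 ^ m)⁻¹ =
        (hc.gsys hm L).x (R.simple i) (χ h (R.rt (R.simple i)) ^ m) := fun m => by
      induction m with
      | zero => simp
      | succ m ih => rw [pow_succ' (χ _ _), ← h3, ← ih, pow_succ']; group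
    have := this l
    rw [h.2.2, one_mul, inv_one, mul_one] at this
    exact (Polynomial.mem_nthRootsFinset (Nat.pos_of_ne_zero hl) 1).2 ((hc.gsep hm).x_inj this).symm
  let F : {h : D.group L // h ∈ (hc.gsys hm L).H ∧ h ^ l = 1} → Fin D.rank → Polynomial.nthRootsFinset l (1 : L) :=
    fun h i => ⟨_, h4 h i⟩
  have hF : Function.Injective F := fun a b e => by
    have e1 : ∀ i, χ a (R.rt (R.simple i)) = χ b (R.rt (R.simple i)) := fun i => congrArg Subtype.val (congrFun e i)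
    have e2 : ∀ s, χ a (R.rt s) = χ b (R.rt s) := fun s => by
      have : ∀ T : Finset (Fin D.rank), χ a (∑ i ∈ T, R.rt s i • R.rt (R.simple i)) =
          χ b (∑ i ∈ T, R.rt s i • R.rt (R.simple i)) := by
        intro T
        induction T using Finset.induction_on with
        | empty => simp [(h1 a).map_zero, (h1 b).map_zero]
        | insert i T hi ih =>
          rw [Finset.sum_insert hi, (h1 a).map_add, (h1 b).map_add, ih, (h1 a).map_zsmul, (h1 b).map_zsmul, e1]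
      have t : R.rt s = ∑ i, R.rt s i • R.rt (R.simple i) := RootSys.W_rt_eq_sum (one_mem _) s
      rw [t]; exact this _
    refine Subtype.ext (eq_of_inv_mul_eq_one (Subtype.ext (hc.eq_one_of_central hm (a.1⁻¹ * b.1).2 fun s u => ?_)))
    have t := (h3 a s u).trans ((congrArg (fun c => (hc.gsys hm L).x s (c * u)) (e2 s)).trans (h3 b s u).symm)
    have t' : a.1⁻¹ * b.1 * (hc.gsys hm L).x s u = (hc.gsys hm L).x s u * (a.1⁻¹ * b.1) := by
      calc a.1⁻¹ * b.1 * (hc.gsys hm L).x s u = a.1⁻¹ * (b.1 * (hc.gsys hm L).x s u * b.1⁻¹) * b.1 := by group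
        _ = _ := by rw [← t]; group
    exact congrArg Subtype.val t'
  refine ⟨Finite.of_injective F hF, (Nat.card_le_card_of_injective F hF).trans ?_⟩
  rw [Nat.card_fun, Nat.card_eq_fintype_card (α := Fin _), Fintype.card_fin, Nat.card_eq_fintype_card, Fintype.card_coe]
  exact Nat.pow_le_pow_left (le_trans (Multiset.toFinset_card_le _) (Polynomial.card_nthRoots l 1)) _

theorem rankG {K : Type u} [Field K] [Finite K] (p : ℕ) [Fact p.Prime] [CharP K p] {l v : ℕ} [Fact l.Prime] (hp : p ≠ l)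
    (hW : ¬ l ^ (v + 1) ∣ Nat.card R.W) {H : Type*} [Group H] [Finite H] (f : H →* D.group K) (hf : Function.Injective f)
    (S : Subgroup H) (hS : IsPGroup l S) : ∃ A ≤ S, (∀ a ∈ A, ∀ b ∈ A, a * b = b * a) ∧ A.relIndex S ≤ l ^ v ∧
      Nat.card {a : H // a ∈ A ∧ a ^ l = 1} ≤ l ^ D.rank := by
  obtain ⟨L, _, _, j, h2, -⟩ := descend hc hm p (z := (1 : D.group K)) (Nat.coprime_one_left p) (one_pow 1) (m := l ^ (v + 1))
    fun h => hp ((Nat.prime_dvd_prime_iff_eq Fact.out Fact.out).1 ((Fact.out : p.Prime).dvd_of_dvd_pow h))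
  let f' := (baseExt D j).comp f
  have hf' : Function.Injective f' := (baseExt_injective j).comp hf
  obtain ⟨g, A, t3, t4⟩ := orbG hS (f'.comp S.subtype) (hc.gsys hm L).H (v := v) (not_dvd_indexG hc hm h2 hW)
  have t5 : ∀ a ∈ A.map S.subtype, g⁻¹ * f' a * g ∈ (hc.gsys hm L).H := by
    rintro _ ⟨a, ha, rfl⟩
    exact t4 a ha
  refine ⟨A.map S.subtype, Subgroup.map_subtype_le _, fun a ha b hb => hf' ?_, ?_, ?_⟩
  · have := (hc.gst hm).H_comm (hc.gmult hm) (t5 a ha) (t5 b hb)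
    rw [map_mul, map_mul]
    calc f' a * f' b = g * (g⁻¹ * f' a * g * (g⁻¹ * f' b * g)) * g⁻¹ := by group
      _ = _ := by rw [this]; group
  · rwa [Subgroup.relIndex, Subgroup.subgroupOf, Subgroup.comap_map_eq_self_of_injective S.subtype_injective]
  · obtain ⟨h5, h6⟩ := torsG hc hm (L := L) (Fact.out : l.Prime).ne_zero
    refine le_trans (Nat.card_le_card_of_injective (fun a => (⟨g⁻¹ * f' a.1 * g, t5 _ a.2.1, by
      rw [← inv_inv g, inv_inv g⁻¹, conj_pow, ← map_pow, a.2.2]; simp⟩ :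
        {h : D.group L // h ∈ (hc.gsys hm L).H ∧ h ^ l = 1})) fun a b e => Subtype.ext (hf' ?_)) h6
    simpa using congrArg Subtype.val e

end

section

variable {K : Type u} [Field K] [Finite K] (p : ℕ) [Fact p.Prime] [CharP K p]

theorem rankE8_3 (hp : p ≠ 3) {H : Type*} [Group H] [Finite H] (f : H →* chevE8.group K) (hf : Function.Injective f)
    (S : Subgroup H) (hS : IsPGroup 3 S) : ∃ A ≤ S, (∀ a ∈ A, ∀ b ∈ A, a * b = b * a) ∧ A.relIndex S ≤ 3 ^ 5 ∧
      Nat.card {a : H // a ∈ A ∧ a ^ 3 = 1} ≤ 3 ^ 8 :=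
  haveI : Fact (Nat.Prime 3) := ⟨by norm_num⟩
  rankG compat_E8 matOK_E8 p hp (by rw [card_W_E8 compat_E8]; norm_num) f hf S hS

theorem rankE8_17 (hp : p ≠ 17) {H : Type*} [Group H] [Finite H] (f : H →* chevE8.group K) (hf : Function.Injective f)
    (S : Subgroup H) (hS : IsPGroup 17 S) : ∃ A ≤ S, (∀ a ∈ A, ∀ b ∈ A, a * b = b * a) ∧ A.relIndex S ≤ 1 ∧
      Nat.card {a : H // a ∈ A ∧ a ^ 17 = 1} ≤ 17 ^ 8 :=
  haveI : Fact (Nat.Prime 17) := ⟨by norm_num⟩
  rankG compat_E8 matOK_E8 p (v := 0) hp (by rw [card_W_E8 compat_E8]; norm_num) f hf S hS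

end

end Cfsg.Lib.AltSec
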