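/-
Root values modulo nine and seventeen in type E₈ (alcove reduction and finite checks).
-/
import Cfsg.Agent.Lib.Exc.E6N
import Cfsg.Agent.Lib.Twist.RootE8

set_option autoImplicit false
set_option maxRecDepth 100000

namespace Cfsg.Lib.AltSec

open Cfsg.Lib.Chev Cfsg.Lib.Twist Cfsg.Lie

section gen

variable {I Φ : Type*} [Fintype I] [DecidableEq I] [Fintype Φ] {R : RootSys I Φ} {n : ℕ}

/-- The multiset of root values. -/
def msR (R : RootSys I Φ) (β : I → ZMod n) : Multiset (ZMod n) := Finset.univ.val.map (parN R β)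

theorem msR_W {w : Equiv.Perm Φ} (hw : w ∈ R.W) (β : I → ZMod n) :
    msR R (fun i => parN R β (w (R.simple i))) = msR R β := by
  have e : parN R (fun i => parN R β (w (R.simple i))) = parN R β ∘ w := funext fun r => (parN_W hw β r).symm
  rw [msR, msR, e, ← Multiset.map_map, Multiset.map_univ_val_equiv]

omit [Fintype Φ] in
theorem parN_smul (u : ZMod n) (β : I → ZMod n) (r : Φ) : parN R (u • β) r = u * parN R β r := by
  simp [parN, Finset.mul_sum, mul_assoc]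

theorem msR_smul (u : ZMod n) (β : I → ZMod n) : msR R (u • β) = (msR R β).map (u * ·) := by
  rw [msR, msR, Multiset.map_map]
  exact Multiset.map_congr rfl fun r _ => parN_smul u β r

omit [Fintype Φ] in
theorem parN_refl (β : I → ZMod n) (r s : Φ) : parN R β (R.refl r s) = parN R β s - (R.pair r s : ZMod n) * parN R β r := by
  simp only [parN, R.rt_refl, Pi.sub_apply, Pi.smul_apply, smul_eq_mul, Int.cast_sub, Int.cast_mul, mul_sub,
    Finset.sum_sub_distrib, Finset.mul_sum]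
  congr 1
  exact Finset.sum_congr rfl fun _ _ => by ring

theorem msR_eig {w : Equiv.Perm Φ} (hw : w ∈ R.W) {u : ZMod n} {β : I → ZMod n}
    (h : ∀ i, u * parN R β (w (R.simple i)) = β i) : (msR R β).map (u * ·) = msR R β := by
  conv_lhs => rw [← msR_W hw β, ← msR_smul]
  exact congrArg (msR R) (funext h)

end gen

/-- The root system with numeral index types. -/
noncomputable def R8 : RootSys (Fin 8) (Fin 240) := RE8

/-- The Cartan matrix. -/
def A8 : Fin 8 → Fin 8 → ℤ := ![![2, 0, -1, 0, 0, 0, 0, 0], ![0, 2, 0, -1, 0, 0, 0, 0], ![-1, 0, 2, -1, 0, 0, 0, 0],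
  ![0, -1, -1, 2, -1, 0, 0, 0], ![0, 0, 0, -1, 2, -1, 0, 0], ![0, 0, 0, 0, -1, 2, -1, 0], ![0, 0, 0, 0, 0, -1, 2, -1],
  ![0, 0, 0, 0, 0, 0, -1, 2]]

theorem A8_eq : ∀ j i : Fin 8, aN tabE8.Am j i = A8 j i := by decide +kernel

/-- The highest root. -/
def th8 : Fin 240 := 239

theorem th8_rt : ∀ i : Fin 8, R8.rt th8 i = (![2, 3, 4, 6, 5, 4, 3, 2] : Fin 8 → ℤ) i := by decide +kernel

theorem th8_pair : ∀ i : Fin 8, R8.pair th8 (R8.simple i) = if i = 7 then 1 else 0 := by decide +kernel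

/-- Four times the squared distance to a point inside the alcove, up to scaling. -/
def F8 (n : ℤ) (t : Fin 8 → ℤ) : ℤ :=
  (30 * (t 1 - t 2)) ^ 2 + (30 * (t 1 + t 2) - 2 * n) ^ 2 + (30 * (t 1 + t 2 + 2 * t 3) - 4 * n) ^ 2 +
  (30 * (t 1 + t 2 + 2 * t 3 + 2 * t 4) - 6 * n) ^ 2 + (30 * (t 1 + t 2 + 2 * t 3 + 2 * t 4 + 2 * t 5) - 8 * n) ^ 2 +
  (30 * (t 1 + t 2 + 2 * t 3 + 2 * t 4 + 2 * t 5 + 2 * t 6) - 10 * n) ^ 2 +
  (30 * (t 1 + t 2 + 2 * t 3 + 2 * t 4 + 2 * t 5 + 2 * t 6 + 2 * t 7) - 12 * n) ^ 2 +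
  (30 * (4 * t 0 + 5 * t 1 + 7 * t 2 + 10 * t 3 + 8 * t 4 + 6 * t 5 + 4 * t 6 + 2 * t 7) - 46 * n) ^ 2

theorem F8_nonneg (n : ℤ) (t : Fin 8 → ℤ) : 0 ≤ F8 n t := by unfold F8; positivity

theorem F8_s (n : ℤ) (t : Fin 8 → ℤ) (j : Fin 8) : F8 n (fun i => t i - A8 j i * t j) = F8 n t + 240 * n * t j := by
  fin_cases j <;> simp [F8, A8] <;> ring

theorem F8_a (n : ℤ) (t : Fin 8 → ℤ) (c : ℤ) (hc : c = 2 * t 0 + 3 * t 1 + 4 * t 2 + 6 * t 3 + 5 * t 4 + 4 * t 5 + 3 * t 6 + 2 * t 7 - n) :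
    F8 n (fun i => t i - (if i = 7 then 1 else 0) * c) = F8 n t - 240 * n * c := by
  subst hc
  simp [F8]
  ring

theorem alcove8 {n : ℕ} [NeZero n] (β : Fin 8 → ZMod n) : ∃ b : Fin 8 → ℕ,
    2 * b 0 + 3 * b 1 + 4 * b 2 + 6 * b 3 + 5 * b 4 + 4 * b 5 + 3 * b 6 + 2 * b 7 ≤ n ∧
      msR R8 (fun i : Fin 8 => ((b i : ℕ) : ZMod n)) = msR R8 β := by
  have hn : (0 : ℤ) < n := Nat.cast_pos.2 (Nat.pos_of_ne_zero (NeZero.ne n))
  obtain ⟨t, ht, hm⟩ := (measure fun t : Fin 8 → ℤ => (F8 n t).toNat).wf.has_min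
    {t | msR R8 (fun i : Fin 8 => ((t i : ℤ) : ZMod n)) = msR R8 β} ⟨fun i => (β i).val, by simp⟩
  have hm' : ∀ s : Fin 8 → ℤ, msR R8 (fun i : Fin 8 => ((s i : ℤ) : ZMod n)) = msR R8 β → F8 n t ≤ F8 n s := fun s hs => by
    have h1 : ¬ (F8 n s).toNat < (F8 n t).toNat := hm s hs
    have h2 := F8_nonneg n s
    have h3 := F8_nonneg n t
    omega
  have h1 : ∀ j, 0 ≤ t j := fun j => by
    have := hm' (fun i => t i - A8 j i * t j) (by
      refine Eq.trans (congrArg (msR R8) (funext fun i => ?_)) ((msR_W (R8.s_mem_W j) _).trans ht)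
      rw [parN_s, ← A8_eq]
      push_cast
      rfl)
    rw [F8_s] at this
    by_contra h
    nlinarith
  have h2 := hm' (fun i => t i - (if i = 7 then 1 else 0) * (2 * t 0 + 3 * t 1 + 4 * t 2 + 6 * t 3 + 5 * t 4 + 4 * t 5 + 3 * t 6 + 2 * t 7 - n)) (by
    refine Eq.trans (congrArg (msR R8) (funext fun i => ?_)) ((msR_W (R8.reflPerm_mem_W th8) _).trans ht)
    rw [RootSys.reflPerm_apply, parN_refl, parN_simple, th8_pair]
    have : parN R8 (fun i : Fin 8 => ((t i : ℤ) : ZMod n)) th8 = ∑ i : Fin 8, ((t i : ℤ) : ZMod n) * ((R8.rt th8 i : ℤ) : ZMod n) := rfl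
    rw [this]
    simp only [th8_rt, Fin.sum_univ_eight]
    simp
    split_ifs <;> ring)
  rw [F8_a _ _ _ rfl] at h2
  refine ⟨fun i => (t i).toNat, ?_, Eq.trans (congrArg (msR R8) (funext fun i => ?_)) ht⟩
  · have h3 : 2 * t 0 + 3 * t 1 + 4 * t 2 + 6 * t 3 + 5 * t 4 + 4 * t 5 + 3 * t 6 + 2 * t 7 - n ≤ 0 := by
      by_contra h
      nlinarith
    dsimp only
    have := h1 0; have := h1 1; have := h1 2; have := h1 3; have := h1 4; have := h1 5; have := h1 6; have := h1 7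
    omega
  · rw [← Int.cast_natCast, Int.toNat_of_nonneg (h1 i)]

/-- `∑_{k<l} f k`. -/
noncomputable def nsum (f : ℕ → ℕ) (l : ℕ) : ℕ := Nat.rec 0 (fun k ih => Nat.add ih (f k)) l

theorem nsum_eq (f : ℕ → ℕ) (l : ℕ) : nsum f l = ∑ i : Fin l, f i := by
  induction l with
  | zero => rfl
  | succ l ih => rw [Fin.sum_univ_castSucc]; exact congrArg (· + f l) ih

/-- A shifted coordinate. -/
def dg (c i : ℕ) : ℕ := Nat.land (Nat.shiftRight c (Nat.mul 6 (Nat.sub (Nat.sub 8 1) i))) 63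

/-- The shifted value of a root. -/
def vN (a b c d e f g h x : ℕ) : ℕ :=
  Nat.add (Nat.add (Nat.add (Nat.add (Nat.add (Nat.add (Nat.add (Nat.mul a (dg x 0)) (Nat.mul b (dg x 1))) (Nat.mul c (dg x 2)))
    (Nat.mul d (dg x 3))) (Nat.mul e (dg x 4))) (Nat.mul f (dg x 5))) (Nat.mul g (dg x 6))) (Nat.mul h (dg x 7))

/-- The sum of a function of the root values modulo `m + 1`. -/
noncomputable def sN (m : ℕ) (φ : ℕ → ℕ) (a b c d e f g h : ℕ) : ℕ :=
  nsum (fun r => φ (Nat.mod (Nat.add (vN a b c d e f g h (cd tabE8.C r)) (8 * m * (a + b + c + d + e + f + g + h))) (Nat.succ m))) 240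

theorem sN_eq (m : ℕ) (φ : ℕ → ℕ) (b : Fin 8 → ℕ) : sN m φ (b 0) (b 1) (b 2) (b 3) (b 4) (b 5) (b 6) (b 7) =
    ((msR R8 fun i : Fin 8 => ((b i : ℕ) : ZMod (m + 1))).map fun x => φ x.val).sum := by
  rw [sN, nsum_eq, msR, Multiset.map_map]
  refine Finset.sum_congr rfl fun r _ => congrArg φ ?_
  refine (ZMod.val_natCast (m + 1) _).symm.trans (congrArg ZMod.val ?_)
  have h1 : ∀ i : Fin 8, R8.rt r i = (dg (cd tabE8.C r) i : ℤ) - 8 := fun i => Int.subNatNat_eq_coe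
  have h2 : ((m : ℕ) : ZMod (m + 1)) = -1 := eq_neg_of_add_eq_zero_left (by exact_mod_cast ZMod.natCast_self (m + 1))
  have : parN R8 (fun i : Fin 8 => ((b i : ℕ) : ZMod (m + 1))) r =
    ∑ i : Fin 8, ((b i : ℕ) : ZMod (m + 1)) * ((R8.rt r i : ℤ) : ZMod (m + 1)) := rfl
  rw [this]
  simp only [h1, Fin.sum_univ_eight, vN, Nat.add_eq, Nat.mul_eq]
  push_cast
  rw [h2]
  simp only [Fin.val_zero, Fin.val_one, Fin.val_two, show ((3 : Fin 8) : ℕ) = 3 from rfl, show ((4 : Fin 8) : ℕ) = 4 from rfl,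
    show ((5 : Fin 8) : ℕ) = 5 from rfl, show ((6 : Fin 8) : ℕ) = 6 from rfl, show ((7 : Fin 8) : ℕ) = 7 from rfl]
  ring

/-- All points of the alcove. -/
noncomputable def allA (n : ℕ) (P : ℕ → ℕ → ℕ → ℕ → ℕ → ℕ → ℕ → ℕ → Bool) : Bool :=
  allLt (n / 2 + 1) fun a => allLt ((n - 2 * a) / 3 + 1) fun b => allLt ((n - 2 * a - 3 * b) / 4 + 1) fun c =>
  allLt ((n - 2 * a - 3 * b - 4 * c) / 6 + 1) fun d => allLt ((n - 2 * a - 3 * b - 4 * c - 6 * d) / 5 + 1) fun e =>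
  allLt ((n - 2 * a - 3 * b - 4 * c - 6 * d - 5 * e) / 4 + 1) fun f =>
  allLt ((n - 2 * a - 3 * b - 4 * c - 6 * d - 5 * e - 4 * f) / 3 + 1) fun g =>
  allLt ((n - 2 * a - 3 * b - 4 * c - 6 * d - 5 * e - 4 * f - 3 * g) / 2 + 1) fun h => P a b c d e f g h

theorem allA_spec {n : ℕ} {P : ℕ → ℕ → ℕ → ℕ → ℕ → ℕ → ℕ → ℕ → Bool} (H : allA n P = true) {a b c d e f g h : ℕ}
    (l : 2 * a + 3 * b + 4 * c + 6 * d + 5 * e + 4 * f + 3 * g + 2 * h ≤ n) : P a b c d e f g h = true :=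
  allLt_spec (allLt_spec (allLt_spec (allLt_spec (allLt_spec (allLt_spec (allLt_spec (allLt_spec H a (by omega)) b (by omega)) c
    (by omega)) d (by omega)) e (by omega)) f (by omega)) g (by omega)) h (by omega)

theorem ck17 : allA 17 (fun a b c d e f g h => Nat.beq (a + b + c + d + e + f + g + h) 0 ||
    !Nat.beq (sN 16 (fun x => Nat.pow 256 x) a b c d e f g h) (sN 16 (fun x => Nat.pow 256 (Nat.mod (Nat.mul 3 x) 17)) a b c d e f g h)) = true := by
  decide +kernel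

theorem ck9 : allA 9 (fun a b c d e f g h =>
    (!Nat.beq (sN 8 (fun x => if x % 3 = 0 then 1 else 0) a b c d e f g h) 240 ||
      decide (8 + sN 8 (fun x => if x = 0 then 1 else 0) a b c d e f g h ∈ [248, 134, 92, 86, 80])) &&
    (Nat.beq (sN 8 (fun x => if x % 3 = 0 then 1 else 0) a b c d e f g h) 240 ||
      !Nat.beq (sN 8 (fun x => Nat.pow 256 x) a b c d e f g h) (sN 8 (fun x => Nat.pow 256 (Nat.mod (Nat.mul 2 x) 9)) a b c d e f g h) ||
      (decide (8 + sN 8 (fun x => if x = 0 then 1 else 0) a b c d e f g h ∈ [28, 30, 34, 48]) &&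
        Nat.beq (sN 8 (fun x => if x % 3 = 0 then 1 else 0) a b c d e f g h) 78))) = true := by
  decide +kernel

theorem no17' {β : Fin 8 → ZMod 17} (h : (msR R8 β).map (((3 : ℕ) : ZMod 17) * ·) = msR R8 β) : β = 0 := by
  obtain ⟨b, h1, h2⟩ := alcove8 (n := 17) β
  have h3 := allA_spec ck17 h1
  rw [sN_eq, sN_eq, h2] at h3
  have h4 := congrArg (fun s : Multiset (ZMod 17) => (s.map fun x => Nat.pow 256 x.val).sum) h
  simp only [Multiset.map_map, Function.comp_def, ZMod.val_mul] at h4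
  rw [show ((msR R8 β).map fun x : ZMod (16 + 1) => Nat.pow 256 (Nat.mod (Nat.mul 3 x.val) 17)).sum =
    ((msR R8 β).map fun x : ZMod (16 + 1) => Nat.pow 256 x.val).sum from h4, Nat.beq_refl] at h3
  simp only [Bool.not_true, Bool.or_false, Nat.beq_eq] at h3
  have h5 : (fun i : Fin 8 => ((b i : ℕ) : ZMod 17)) = 0 := funext fun i => by
    have : b i = 0 := by fin_cases i <;> simp <;> omega
    simp [this]
  funext i
  have h6 : parN R8 β (R8.simple i) ∈ msR R8 β := Multiset.mem_map_of_mem _ (Finset.mem_univ_val _)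
  rw [← h2, h5, parN_simple] at h6
  obtain ⟨r, -, e⟩ := Multiset.mem_map.1 h6
  simpa [parN] using e.symm

/-- The number of roots killed by `u • β`. -/
noncomputable def cn8' (u : ZMod 9) (β : Fin 8 → ZMod 9) : ℕ := (Finset.univ.filter fun r => u * parN R8 β r = 0).card

theorem w9' (β : Fin 8 → ZMod 9) : (cn8' 3 β = 240 → 8 + cn8' 1 β ∈ [248, 134, 92, 86, 80]) ∧
    (cn8' 3 β ≠ 240 → (msR R8 β).map (((2 : ℕ) : ZMod 9) * ·) = msR R8 β → 8 + cn8' 1 β ∈ [28, 30, 34, 48] ∧ 8 + cn8' 3 β = 86) := by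
  obtain ⟨b, h1, h2⟩ := alcove8 (n := 9) β
  have h3 := allA_spec ck9 h1
  simp only [sN_eq] at h3
  rw [h2] at h3
  have e1 : ((msR R8 β).map fun x : ZMod (8 + 1) => if x.val = 0 then 1 else 0).sum = cn8' 1 β := by
    rw [cn8', Finset.card_filter, msR, Multiset.map_map]
    exact Finset.sum_congr rfl fun r _ => by
      change (if (parN R8 β r).val = 0 then 1 else 0) = _
      generalize parN R8 β r = x
      revert x
      decide
  have e3 : ((msR R8 β).map fun x : ZMod (8 + 1) => if x.val % 3 = 0 then 1 else 0).sum = cn8' 3 β := by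
    rw [cn8', Finset.card_filter, msR, Multiset.map_map]
    exact Finset.sum_congr rfl fun r _ => by
      change (if (parN R8 β r).val % 3 = 0 then 1 else 0) = _
      generalize parN R8 β r = x
      revert x
      decide
  rw [e1, e3, Bool.and_eq_true] at h3
  refine ⟨fun h => ?_, fun h h' => ?_⟩
  · have := h3.1
    rw [h, Nat.beq_refl] at this
    simpa using this
  have h4 := congrArg (fun s : Multiset (ZMod 9) => (s.map fun x => Nat.pow 256 x.val).sum) h'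
  simp only [Multiset.map_map, Function.comp_def, ZMod.val_mul] at h4
  have h5 := h3.2
  rw [show ((msR R8 β).map fun x : ZMod (8 + 1) => Nat.pow 256 (Nat.mod (Nat.mul 2 x.val) 9)).sum =
    ((msR R8 β).map fun x : ZMod (8 + 1) => Nat.pow 256 x.val).sum from h4, Nat.beq_refl] at h5
  simp only [Bool.not_true, Bool.or_false, Bool.or_eq_true, Nat.beq_eq, h, false_or, Bool.and_eq_true, decide_eq_true_eq] at h5
  exact ⟨h5.1, by rw [h5.2]⟩

theorem no17 {β : Fin chevE8.rank → ZMod 17} (h : (msR RE8 β).map (((3 : ℕ) : ZMod 17) * ·) = msR RE8 β) : β = 0 := no17' h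

/-- The number of roots killed by `u • β`. -/
noncomputable def cn8 (u : ZMod 9) (β : Fin chevE8.rank → ZMod 9) : ℕ := (Finset.univ.filter fun r => u * parN RE8 β r = 0).card

theorem w9 (β : Fin chevE8.rank → ZMod 9) : (cn8 3 β = 240 → 8 + cn8 1 β ∈ [248, 134, 92, 86, 80]) ∧
    (cn8 3 β ≠ 240 → (msR RE8 β).map (((2 : ℕ) : ZMod 9) * ·) = msR RE8 β → 8 + cn8 1 β ∈ [28, 30, 34, 48] ∧ 8 + cn8 3 β = 86) :=
  w9' β

end Cfsg.Lib.AltSec
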