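/-
Fixed spaces of elements of order three and nine on the adjoint module of type E₈.
-/
import Cfsg.Agent.Lib.Exc.E8W

set_option autoImplicit false
set_option maxRecDepth 100000

namespace Cfsg.Lib.AltSec

open Cfsg.Lib.Chev Cfsg.Lib.Twist Cfsg.Lie Module Matrix

universe u

theorem rank_map8 {F K m : Type*} [Field F] [Field K] [Fintype m] [DecidableEq m] (f : F →+* K)
    (A : Matrix m m F) : (A.map f).rank = A.rank := by
  classical
  obtain ⟨V, U, e, hV, hU, h⟩ := Matrix.exists_rank_normal_form A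
  rw [← Matrix.diagonal_one, ← Matrix.diagonal_zero, Matrix.fromBlocks_diagonal,
    Matrix.submatrix_diagonal_equiv] at h
  generalize (_ ∘ e : m → F) = w at h
  rw [Matrix.isUnit_iff_isUnit_det] at hU hV
  have h1 := congrArg (fun X : Matrix m m F => (X.map f).rank) h
  have h2 := congrArg Matrix.rank h
  simp only [Matrix.map_mul] at h1
  have hU' : IsUnit (U.map f).det := by
    rw [← RingHom.mapMatrix_apply, ← RingHom.map_det]; exact hU.map f
  have hV' : IsUnit (V.map f).det := by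
    rw [← RingHom.mapMatrix_apply, ← RingHom.map_det]; exact hV.map f
  rw [Matrix.rank_mul_eq_left_of_isUnit_det _ _ hU', Matrix.rank_mul_eq_right_of_isUnit_det _ _ hV',
    Matrix.diagonal_map (map_zero f), Matrix.rank_diagonal] at h1
  rw [Matrix.rank_mul_eq_left_of_isUnit_det _ _ hU, Matrix.rank_mul_eq_right_of_isUnit_det _ _ hV,
    Matrix.rank_diagonal] at h2
  rw [h1, h2]
  simp

/-- The adjoint representation. -/
noncomputable def natR (D : ChevalleyDatum) (K : Type*) [Field K] : Representation K (D.group K) (D.Idx → K) :=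
  (Matrix.toLinAlgEquiv' : Matrix D.Idx D.Idx K ≃ₐ[K] _).toMonoidHom.comp ((Units.coeHom _).comp (D.group K).subtype)

section gen

variable {D : ChevalleyDatum}

theorem fx_rank {K : Type*} [Field K] (g : D.group K) :
    finrank K (End.eigenspace (natR D K g) 1) + (g.1.1 - 1).rank = D.rank + D.nroots := by
  have e : End.eigenspace (natR D K g) 1 = LinearMap.ker (g.1.1 - 1).mulVecLin := by
    ext v
    rw [End.mem_eigenspace_iff, LinearMap.mem_ker, mulVecLin_apply, sub_mulVec, one_mulVec, one_smul, sub_eq_zero]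
    rfl
  rw [e, Matrix.rank, add_comm, LinearMap.finrank_range_add_finrank_ker]
  simp

theorem fx_top {K : Type*} [Field K] (g : D.group K) :
    finrank K (End.eigenspace (natR D K g) 1) = D.rank + D.nroots ↔ g = 1 := by
  have := fx_rank g
  refine ⟨fun h => ?_, fun h => by subst h; simpa using this⟩
  have h1 : (g.1.1 - 1).rank = 0 := by omega
  rw [Matrix.rank, Submodule.finrank_eq_zero, LinearMap.range_eq_bot, ← Matrix.toLin'_apply', map_eq_zero_iff _ Matrix.toLin'.injective,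
    sub_eq_zero] at h1
  exact Subtype.ext (Units.ext h1)

variable {R : RootSys (Fin D.rank) (Fin D.nroots)} (hc : Compat D R) {η : ℕ → ℕ → ℤ} (hm : MatOK D η)

include hc hm

open Classical in
theorem fx_eq {K L : Type*} [Field K] [Field L] (j : K →+* L) {z : D.group K} {a h : D.group L}
    (e : a⁻¹ * baseExt D j z * a = h) (hh : h ∈ (hc.gsys hm L).H) {f : Fin D.nroots → L}
    (hf : ∀ s u, h * (hc.gsys hm L).x s u * h⁻¹ = (hc.gsys hm L).x s (f s * u)) :
    finrank K (End.eigenspace (natR D K z) 1) = D.rank + (Finset.univ.filter fun s => f s = 1).card := by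
  have h1 := fx_rank z
  have h2 : (h.1.1 - 1).rank = (z.1.1 - 1).rank := by
    have t : h.1.1 - 1 = (a.1⁻¹).1 * (z.1.1 - 1).map j * a.1.1 := by
      rw [← e, Matrix.map_sub _ (map_sub j), Matrix.map_one _ (map_zero j) (map_one j), mul_sub, sub_mul, mul_one, Units.inv_mul]
      rfl
    rw [t, Matrix.rank_mul_eq_left_of_isUnit_det _ _ ((Matrix.isUnit_iff_isUnit_det _).1 a.1.isUnit),
      Matrix.rank_mul_eq_right_of_isUnit_det _ _ ((Matrix.isUnit_iff_isUnit_det _).1 (a.1⁻¹).isUnit), rank_map8]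
  rw [hc.gsys_H, Subgroup.mem_subgroupOf, hc.diagonalSubgroup_eq hm] at hh
  obtain ⟨χ, hχ, e'⟩ := hc.exists_diagU hm hh
  have h3 : ∀ s, χ (R.rt s) = f s := fun s => by
    have := hc.diagU_conj hm hχ s 1
    rw [← e'] at this
    replace this := this.symm.trans (congrArg Subtype.val (hf s 1))
    simpa using (hc.sep hm).x_inj this
  have h4 : h.1.1 - 1 = diagonal fun a => χ (deg R a) - 1 := by
    rw [e', ← diagonal_one, ← diagonal_sub]
    rfl
  rw [h4, Matrix.rank_diagonal, Fintype.card_subtype, Finset.card_filter, Fintype.sum_sum_type] at h2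
  simp only [deg_inl, deg_inr, hχ.map_zero, sub_self, ne_eq, not_true_eq_false, if_false, Finset.sum_const_zero, zero_add, h3,
    sub_eq_zero] at h2
  have h5 := Finset.card_filter_add_card_filter_not (s := Finset.univ) fun s => f s = 1
  rw [Finset.card_filter (fun s => ¬ f s = 1), Finset.card_univ, Fintype.card_fin] at h5
  have h6 : (∑ s, if ¬ f s = 1 then 1 else 0) = (z.1.1 - 1).rank := by convert h2
  omega

theorem conj_pw {L : Type*} [Field L] {n : ℕ} [NeZero n] {ζ : L} (hζ : IsPrimitiveRoot ζ n) {h : D.group L} {β : Fin D.rank → ZMod n}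
    (hβ : ∀ s u, h * (hc.gsys hm L).x s u * h⁻¹ = (hc.gsys hm L).x s (AddChar.zmodChar n hζ.pow_eq_one (parN R β s) * u))
    (j : ℕ) (s : Fin D.nroots) (u : L) : h ^ j * (hc.gsys hm L).x s u * (h ^ j)⁻¹ =
      (hc.gsys hm L).x s (AddChar.zmodChar n hζ.pow_eq_one (j * parN R β s) * u) := by
  induction j with
  | zero => simp
  | succ j ih => rw [Nat.cast_succ, add_mul, one_mul, add_comm (_ * _), AddChar.map_add_eq_mul, mul_assoc _ _ u, ← hβ, ← ih, pow_succ']; group

theorem exists_dims {K : Type u} [Field K] [Finite K] (p : ℕ) [Fact p.Prime] [CharP K p] {n : ℕ} [NeZero n] (hn : n.Coprime p)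
    {z : D.group K} (hz : z ^ n = 1) : ∃ β : Fin D.rank → ZMod n,
      (∀ k : ℕ, finrank K (End.eigenspace (natR D K (z ^ k)) 1) =
        D.rank + (Finset.univ.filter fun r => (k : ZMod n) * parN R β r = 0).card) ∧
      ∀ k : ℕ, IsConj z (z ^ k) → (msR R β).map ((k : ZMod n) * ·) = msR R β := by
  classical
  obtain ⟨L, _, _, j, h1, a, h2⟩ := descend hc hm p hn hz (m := n) ((Nat.Prime.coprime_iff_not_dvd Fact.out).1 hn.symm)
  obtain ⟨ζ, hζ⟩ : ∃ ζ : L, IsPrimitiveRoot ζ n := by
    obtain ⟨a, ha⟩ := IsCyclic.exists_ofOrder_eq_natCard (α := Lˣ)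
    rw [Nat.card_units] at ha
    have := orderOf_pow_orderOf_div (x := a) (orderOf_pos a).ne' (ha ▸ h1)
    exact ⟨_, IsPrimitiveRoot.coe_units_iff.2 (this ▸ IsPrimitiveRoot.orderOf _)⟩
  generalize e : a⁻¹ * baseExt D j z * a = h at h2
  have e' : ∀ k : ℕ, a⁻¹ * baseExt D j (z ^ k) * a = h ^ k := fun k => by
    rw [← e, ← inv_inv a, inv_inv a⁻¹, conj_pow, map_pow]
  have h3 : h ^ n = 1 := by rw [← e', hz, map_one, mul_one, inv_mul_cancel]
  obtain ⟨β, hβ⟩ := exists_parN (hc.gst hm) (hc.gsep hm) hζ h2 h3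
  have hi : ∀ x y : ZMod n, AddChar.zmodChar n hζ.pow_eq_one x = AddChar.zmodChar n hζ.pow_eq_one y → x = y := fun x y t => by
    rw [AddChar.zmodChar_apply, AddChar.zmodChar_apply] at t
    exact ZMod.val_injective n (hζ.pow_inj (ZMod.val_lt _) (ZMod.val_lt _) t)
  refine ⟨β, fun k => ?_, fun k hk => ?_⟩
  · rw [fx_eq hc hm j (e' k) (pow_mem h2 k) (conj_pw hc hm hζ hβ k)]
    congr 2
    refine Finset.filter_congr fun s _ => ⟨fun t => hi _ _ (t.trans (AddChar.map_zero_eq_one _).symm), fun t => ?_⟩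
    rw [t, AddChar.map_zero_eq_one]
  · obtain ⟨c, hc'⟩ := isConj_iff.1 hk
    have h4 : (a⁻¹ * baseExt D j c * a) * h * (a⁻¹ * baseExt D j c * a)⁻¹ = h ^ k := by
      rw [← e', ← e, ← hc', map_mul, map_mul, map_inv]; group
    obtain ⟨m, -, w, hw, a3, a4⟩ := exists_fus (hc.gst hm) (hc.gopp hm) (hc.gmult hm) (hc.ggen hm) (a⁻¹ * baseExt D j c * a)
    refine msR_eig hw fun i => ?_
    have := conj_char (hc.gsep hm) a3 hβ (conj_pw hc hm hζ hβ k) (h4.symm.trans (a4 h h2 (h4 ▸ pow_mem h2 k))) (R.simple i)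
    rw [parN_simple] at this
    exact hi _ _ this

end gen

variable {K : Type u} [Field K] [Finite K] (p : ℕ) [Fact p.Prime] [CharP K p] (hp : p ≠ 3)

include hp

theorem dims8 {z : chevE8.group K} (hz : z ^ 9 = 1) : ∃ β : Fin chevE8.rank → ZMod 9,
    finrank K (End.eigenspace (natR chevE8 K z) 1) = 8 + cn8 1 β ∧
      finrank K (End.eigenspace (natR chevE8 K (z ^ 3)) 1) = 8 + cn8 3 β ∧
      (IsConj z (z ^ 2) → (msR RE8 β).map (((2 : ℕ) : ZMod 9) * ·) = msR RE8 β) := by
  obtain ⟨β, h1, h2⟩ := exists_dims compat_E8 matOK_E8 p (n := 9)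
    (Nat.Coprime.pow_left 2 ((Nat.coprime_primes Nat.prime_three Fact.out).2 hp.symm)) hz
  exact ⟨β, by have := h1 1; rwa [pow_one] at this, h1 3, h2 2⟩

theorem h3_E8 {H : Type*} [Group H] (ι : H →* chevE8.group K) (hι : Function.Injective ι) (z : H) (h1 : z ^ 3 = 1) (h2 : z ≠ 1) :
    finrank K (End.eigenspace (((natR chevE8 K).comp ι : Representation K H _) z) 1) ∈ [134, 92, 86, 80] := by
  have h3 : ι z ^ 3 = 1 := by rw [← map_pow, h1, map_one]
  obtain ⟨β, b1, b2, -⟩ := dims8 p hp (z := ι z) (by rw [show 9 = 3 * 3 from rfl, pow_mul, h3, one_pow])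
  have h4 := (fx_top _).2 h3
  have h5 : finrank K (End.eigenspace (natR chevE8 K (ι z)) 1) ≠ 8 + 240 := fun t => h2 (hι (((fx_top _).1 t).trans (map_one ι).symm))
  have h6 := (w9 β).1 (by
    have : chevE8.rank + chevE8.nroots = 8 + 240 := rfl
    omega)
  rw [← b1] at h6
  exact (List.mem_cons.1 h6).resolve_left h5

theorem h9_E8 {H : Type*} [Group H] (ι : H →* chevE8.group K) (hι : Function.Injective ι) (z : H) (h1 : z ^ 9 = 1) (h2 : z ^ 3 ≠ 1)
    (h3 : IsConj z (z ^ 2)) :
    finrank K (End.eigenspace (((natR chevE8 K).comp ι : Representation K H _) z) 1) ∈ [28, 30, 34, 48] ∧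
      finrank K (End.eigenspace (((natR chevE8 K).comp ι : Representation K H _) (z ^ 3)) 1) = 86 := by
  obtain ⟨β, b1, b2, b3⟩ := dims8 p hp (z := ι z) (by rw [← map_pow, h1, map_one])
  have h5 : finrank K (End.eigenspace (natR chevE8 K (ι z ^ 3)) 1) ≠ 8 + 240 := fun t =>
    h2 (hι ((map_pow ι z 3).trans (((fx_top _).1 t).trans (map_one ι).symm)))
  have h6 := (w9 β).2 (by omega) (b3 (map_pow ι z 2 ▸ ι.map_isConj h3))
  rw [← b1, ← b2, ← map_pow] at h6
  exact h6

omit hp [Finite K] in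
theorem finrank_E8 : finrank K (chevE8.Idx → K) = 248 := by
  rw [finrank_fintype_fun_eq_card, Fintype.card_sum, Fintype.card_fin, Fintype.card_fin]
  rfl

end Cfsg.Lib.AltSec
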