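import Cfsg.Agent.Lib.Exc.E7P
import Cfsg.Agent.Lib.Coprime.BrauerLift

/-! Fixed spaces of groups of exponent nine; lifting with fusion. -/

set_option autoImplicit false

namespace Cfsg.Lib.AltDeg

open Module Equiv Subgroup Cfsg.Lib.Core Cfsg.Lib.Amalg

universe u

theorem lift_conj {H G B : Type*} [Group H] [Finite H] [Group G] [Finite G] [Group B] {π : H →* G} (hs : Function.Surjective π)
    {l k : ℕ} [Fact l.Prime] (hl : ¬ l ∣ Nat.card π.ker) (τ : B →* G) (hB : ∀ b : B, b ^ l ^ k = 1) :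
    ∃ σ : B →* H, (∀ b, π (σ b) = τ b) ∧ ∀ b b' γ, γ * τ b * γ⁻¹ = τ b' → IsConj (σ b) (σ b') := by
  have p2 : ∀ T : Subgroup H, IsPGroup l T → ∀ a ∈ T, ∀ b ∈ T, π a = π b → a = b := fun T hT a ha b hb e => by
    obtain ⟨j, hj⟩ := isPGroup_iff_mem.1 hT _ (mul_mem ha (inv_mem hb))
    exact mul_inv_eq_one.1 (orderOf_eq_one_iff.1 (Nat.eq_one_of_dvd_coprimes (((Nat.Prime.coprime_iff_not_dvd Fact.out).2 hl).pow_left j)
      (orderOf_dvd_of_pow_eq_one hj) (orderOf_dvd_natCard π.ker (show π (a * b⁻¹) = 1 by simp [e]))))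
  obtain ⟨T, hT⟩ := exists_syl l (τ.range.comap π)
  have p1 : T.map π = τ.range := by
    have := hT.map π
    rw [Subgroup.map_comap_eq_self_of_surjective hs] at this
    exact this.eq_of_isPGroup (isPGroup_iff_mem.2 (by rintro _ ⟨b, rfl⟩; exact ⟨k, by rw [← map_pow, hB, map_one]⟩))
  choose s s1 s2 using fun b => p1.ge (⟨b, rfl⟩ : τ b ∈ τ.range)
  let σ : B →* H := MonoidHom.mk' s fun a b => p2 T hT.isPGroup _ (s1 _) _ (mul_mem (s1 a) (s1 b)) (by rw [map_mul, s2, s2, s2, map_mul])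
  have h0 : ∀ b, σ b ^ l ^ k = 1 := fun b => by rw [← map_pow, hB, map_one]
  have h1 : ∀ b, π (σ b) = τ b := s2
  refine ⟨σ, h1, fun b b' γ h => ?_⟩
  obtain ⟨g, rfl⟩ := hs γ
  have h2 : π (g * σ b * g⁻¹) = π (σ b') := by rw [map_mul, map_mul, map_inv, h1, h1, h]
  obtain ⟨Q, hQ, t1⟩ := exists_syl_ge (isPGroup_zpowers_of_pow (h0 b')) (zpowers_le.2
    (show σ b' ∈ (zpowers (π (σ b'))).comap π from mem_zpowers _))
  obtain ⟨z, ⟨j, hj⟩, t2⟩ := hQ.exists_conj_le (isPGroup_zpowers_of_pow (x := g * σ b * g⁻¹) (k := k) (by rw [conj_pow, h0]; group))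
    (zpowers_le.2 (show _ ∈ (zpowers (π (σ b'))).comap π from h2 ▸ mem_zpowers _))
  refine isConj_iff.2 ⟨z * g, p2 Q hQ.isPGroup _ (by simpa [mul_assoc] using t2 ⟨_, mem_zpowers _, rfl⟩) _ (t1 (mem_zpowers _)) ?_⟩
  rw [show z * g * σ b * (z * g)⁻¹ = z * (g * σ b * g⁻¹) * z⁻¹ by group, map_mul, map_mul, h2, map_inv, ← hj]
  group

theorem dim_nine {B F V : Type*} [Group B] [Finite B] [Field F] [Finite F] (p : ℕ) [Fact p.Prime] [CharP F p] [AddCommGroup V]
    [Module F V] [FiniteDimensional F V] (hp : p ≠ 3) (hB : ∀ b : B, b ^ 9 = 1) (ρ : Representation F B V) (A : Subgroup B) [Fintype A] :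
    (2 * Nat.card A : ℤ) ∣ ∑ g : A, (3 * finrank F (End.eigenspace (ρ g) 1) - finrank F (End.eigenspace (ρ (g ^ 3)) 1) : ℤ) := by
  have : Fact (Nat.Prime 3) := ⟨by decide⟩
  have h3 : IsPGroup 3 B := fun b => ⟨2, hB b⟩
  let _ := ZMod.algebra F p
  let _ : Module (ZMod p) V := Module.compHom V (algebraMap (ZMod p) F)
  have : IsScalarTower (ZMod p) F V := IsScalarTower.of_algebraMap_smul fun _ _ => rfl
  have : FiniteDimensional (ZMod p) V := Module.Finite.trans F V
  obtain ⟨χ, -, hχ⟩ := Cfsg.Lib.Coprime.exists_brauer_lift_rep (p := p) (G := B) (V := V) (fun h => by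
    obtain ⟨n, hn⟩ := IsPGroup.iff_card.1 h3
    exact hp ((Nat.prime_dvd_prime_iff_eq Fact.out Fact.out).1 ((Fact.out : p.Prime).dvd_of_dvd_pow (hn ▸ h))))
    ⟨⟨fun g => (ρ g).restrictScalars (ZMod p), by ext; simp⟩, fun a b => by ext; simp⟩
  have h1 : ∀ (C : Subgroup B) [Fintype C] (W : Submodule F V), (∀ v, v ∈ W ↔ ∀ a ∈ C, ρ a v = v) →
      ∑ a : C, χ a = Nat.card C * (finrank (ZMod p) F * finrank F W) := fun C _ W h => by
    rw [hχ C (W.restrictScalars (ZMod p)) h, ← Nat.cast_mul (finrank (ZMod p) F), Module.finrank_mul_finrank]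
    rfl
  have h2 : ∀ g : B, ∑ i ∈ Finset.range (orderOf g), χ (g ^ i) =
      orderOf g * (finrank (ZMod p) F * finrank F (End.eigenspace (ρ g) 1)) := fun g => by
    classical
    have := Fintype.ofFinite (zpowers g)
    rw [← Nat.card_zpowers, ← h1 (zpowers g) _ fun v => ⟨fun h a ha => by
      obtain ⟨n, rfl⟩ := mem_powers_iff_mem_zpowers.2 ha
      have : ∀ n, ρ (g ^ n) v = v := fun n => by
        induction n with
        | zero => simp
        | succ n ih => rw [pow_succ, map_mul, End.mul_apply, End.mem_eigenspace_iff.1 h, one_smul, ih]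
      exact this n,
      fun h => End.mem_eigenspace_iff.2 (by rw [h g (mem_zpowers g), one_smul])⟩, Nat.card_zpowers, Finset.sum_range]
    exact (finEquivZPowers (isOfFinOrder_of_finite g)).sum_comp fun a => χ a
  have h4 : ∀ g : B, ∑ i ∈ Finset.range 9, χ (g ^ i) = 9 * (finrank (ZMod p) F * finrank F (End.eigenspace (ρ g) 1)) := fun g => by
    have t := h2 g
    obtain ⟨j, hj, e⟩ := (Nat.dvd_prime_pow Nat.prime_three).1 (orderOf_dvd_of_pow_eq_one (n := 3 ^ 2) (hB g))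
    have t' : ∀ i, g ^ i = g ^ (i % 3 ^ j) := fun i => by rw [← e, pow_mod_orderOf]
    rw [e] at t
    rw [Finset.sum_congr rfl fun i _ => congrArg χ (t' i)]
    interval_cases j <;> simp only [Finset.sum_range_succ, Finset.sum_range_zero, Nat.reducePow, Nat.reduceMod, Nat.cast_ofNat,
      Nat.cast_one] at t ⊢
    exacts [by linear_combination 9 * t, by linear_combination 3 * t, t]
  have h5 : ∀ g : B, χ g + χ (g ^ 2) + χ (g ^ 4) + χ (g ^ 5) + χ (g ^ 7) + χ (g ^ 8) = 3 * finrank (ZMod p) F *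
      (3 * finrank F (End.eigenspace (ρ g) 1) - finrank F (End.eigenspace (ρ (g ^ 3)) 1)) := fun g => by
    have t := h4 g
    have t' := h4 (g ^ 3)
    rw [Finset.sum_congr rfl fun i _ => congrArg χ ((pow_mul g 3 i).symm.trans (pow_eq_pow_mod _ (hB g)))] at t'
    simp only [Finset.sum_range_succ, Finset.sum_range_zero, Nat.reduceMul, Nat.reduceMod, pow_one] at t t'
    linear_combination t - t' / 3
  have h6 : ∀ n, Nat.Coprime 3 n → ∑ g : A, χ (g ^ n) = ∑ g : A, χ g := fun n hn => by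
    obtain ⟨m, hm⟩ := IsPGroup.iff_card.1 (h3.to_subgroup A)
    exact (powCoprime (G := A) (hm ▸ hn.pow_left m)).sum_comp fun g => χ g
  let W : Submodule F V :=
    { carrier := {v | ∀ a ∈ A, ρ a v = v}
      zero_mem' := fun a _ => by simp
      add_mem' := fun {x y} hx hy a ha => by rw [map_add, hx a ha, hy a ha]
      smul_mem' := fun c x hx a ha => by rw [map_smul, hx a ha] }
  have h7 := Finset.sum_congr (s₁ := Finset.univ) rfl fun (g : A) _ => h5 g
  simp only [Finset.sum_add_distrib, h6 2 (by decide), h6 4 (by decide), h6 5 (by decide), h6 7 (by decide), h6 8 (by decide),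
    h1 A W fun _ => Iff.rfl, ← Finset.mul_sum] at h7
  refine ⟨finrank F W, Int.cast_injective (α := ℂ) (mul_left_cancel₀ (a := 3 * (finrank (ZMod p) F : ℂ))
    (mul_ne_zero (by norm_num) (Nat.cast_ne_zero.2 finrank_pos.ne')) ?_)⟩
  push_cast
  linear_combination -h7

end Cfsg.Lib.AltDeg
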