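import Cfsg.Agent.Lib.Exc.E8P0
import Cfsg.Agent.Lib.Exc.E8P1
import Cfsg.Agent.Lib.Exc.E6W

/-! No alternating section of degree eighteen under the fixed space constraints of dimension 248. -/

set_option autoImplicit false

namespace Cfsg.Lib.AltDeg

open Module Equiv Subgroup P81

universe u

theorem lift18 {H : Type u} [Group H] [Finite H] (π : H →* alternatingGroup (Fin 18)) (hs : Function.Surjective π)
    (hR : ∀ S : Subgroup H, IsPGroup 3 S → ∃ A ≤ S, (∀ a ∈ A, ∀ b ∈ A, a * b = b * a) ∧ A.relIndex S ≤ 3 ^ 5 ∧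
      Nat.card {a : H // a ∈ A ∧ a ^ 3 = 1} ≤ 3 ^ 8) :
    ∃ σ : P81 × P81 →* H, Function.Injective σ ∧ ∀ b b' γ, γ * tau b * γ⁻¹ = tau b' → IsConj (σ b) (σ b') := by
  have : Fact (Nat.Prime 3) := ⟨by decide⟩
  obtain ⟨X, hs', hmin⟩ := exists_min hs
  obtain ⟨σ, h1, h2⟩ := lift_conj (l := 3) (k := 2) hs' (not_dvd_ker hs' hmin (by omega) (by decide) fun P =>
    cen_of_rank hs' hmin (by omega) (d := 3 ^ 8) (e := 3 ^ 5) (by decide) fun S hS => by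
      obtain ⟨A, s1, s2, s3, s4⟩ := hR _ (hS.map X.subtype)
      exact ⟨A.subgroupOf X, fun a ha => by simpa using s1 ha, fun a ha b hb => Subtype.ext (s2 _ ha _ hb),
        (relIndex_comap _ _ _).trans_le s3, le_trans (Nat.card_le_card_of_injective
          (fun a => ⟨a.1.1, a.2.1, congrArg Subtype.val a.2.2⟩) fun a b e =>
            Subtype.ext (Subtype.ext (congrArg (fun x : {a : H // a ∈ A ∧ a ^ 3 = 1} => x.1) e))) s4⟩) tau pow_nine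
  refine ⟨X.subtype.comp σ, fun a b e => pm2_inj (congrArg Subtype.val (?_ : tau a = tau b)),
    fun b b' γ h => X.subtype.map_isConj (h2 b b' γ h)⟩
  rw [← h1, ← h1]
  exact congrArg π e

theorem abs18 {H : Type u} [Group H] [Finite H] {F V : Type*} [Field F] [Finite F] (p : ℕ) [Fact p.Prime] [CharP F p]
    [AddCommGroup V] [Module F V] [FiniteDimensional F V] (hp : p ≠ 3) (π : H →* alternatingGroup (Fin 18))
    (hs : Function.Surjective π) (ρ : Representation F H V) (hV : finrank F V = 248)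
    (hR : ∀ S : Subgroup H, IsPGroup 3 S → ∃ A ≤ S, (∀ a ∈ A, ∀ b ∈ A, a * b = b * a) ∧ A.relIndex S ≤ 3 ^ 5 ∧
      Nat.card {a : H // a ∈ A ∧ a ^ 3 = 1} ≤ 3 ^ 8)
    (h3 : ∀ z : H, z ^ 3 = 1 → z ≠ 1 → IsConj z (z ^ 2) → finrank F (End.eigenspace (ρ z) 1) ∈ [134, 92, 86, 80])
    (h9 : ∀ z : H, z ^ 9 = 1 → z ^ 3 ≠ 1 → IsConj z (z ^ 2) → finrank F (End.eigenspace (ρ z) 1) ∈ [28, 30, 34, 48] ∧
      finrank F (End.eigenspace (ρ (z ^ 3)) 1) = 86) : False := by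
  obtain ⟨σ, hi, hc⟩ := lift18 π hs hR
  obtain ⟨D, hD⟩ : ∃ D : P81 × P81 → ℕ, ∀ g, D g = finrank F (End.eigenspace (ρ (σ g)) 1) := ⟨_, fun _ => rfl⟩
  have c1 : ∀ g, IsConj (σ g) (σ (rep g)) := fun g => by
    obtain ⟨γ, h⟩ := conj_rep g
    exact hc _ _ γ h
  have c2 : ∀ g g', IsConj (σ g) (σ g') → D g = D g' := fun g g' ⟨c, h⟩ => by
    rw [hD, hD]; exact (eig_eq ρ h.eq.symm 1).symm
  have c3 : ∀ g, IsConj (σ g) (σ g ^ 2) := fun g => by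
    have t : ∀ u : P81, ty (u ^ 2) = ty u := by decide +kernel
    have t' : rep (g ^ 2) = rep g := by simp only [rep, Prod.pow_fst, Prod.pow_snd, t]
    rw [← map_pow]
    exact (c1 g).trans (t' ▸ (c1 _).symm)
  have d1 : D 1 = 248 := by
    rw [hD, map_one, map_one, show End.eigenspace (1 : End F V) 1 = ⊤ from
      eq_top_iff.2 fun v _ => End.mem_eigenspace_iff.2 (by simp), finrank_top, hV]
  have d3 : ∀ g, g ^ 3 = 1 ∧ g ≠ 1 → D g ∈ [134, 92, 86, 80] ∧ D (g ^ 3) = 248 := fun g h =>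
    ⟨hD g ▸ h3 _ (by rw [← map_pow, h.1, map_one]) (fun e => h.2 (hi (e.trans (map_one σ).symm))) (c3 g), by rw [h.1, d1]⟩
  have d9 : ∀ g, g ^ 3 ≠ 1 → D g ∈ [28, 30, 34, 48] ∧ D (g ^ 3) = 86 := fun g h => by
    rw [hD, hD, map_pow]
    exact h9 (σ g) (by rw [← map_pow, pow_nine, map_one]) (fun e => h (hi (by rw [map_pow, e, map_one]))) (c3 g)
  obtain ⟨G, hG⟩ : ∃ G : Fin 5 × Fin 5 → ℤ, ∀ t, G t = 3 * D (rp t.1, rp t.2) - D ((rp t.1, rp t.2) ^ 3) := ⟨_, fun _ => rfl⟩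
  have key : ∀ (A : Subgroup (P81 × P81)) [DecidablePred (· ∈ A)], (2 * Nat.card A : ℤ) ∣
      ∑ t, ((Finset.univ.filter fun g : P81 × P81 => g ∈ A ∧ can (ty g.1, ty g.2) = t).card : ℤ) * G t := fun A _ => by
    rw [← sum_type A G, Finset.sum_congr rfl fun (g : A) _ => (?_ : _ = (3 * finrank F (End.eigenspace (ρ (σ g)) 1) -
      finrank F (End.eigenspace (ρ (σ (g ^ 3))) 1) : ℤ))]
    · exact dim_nine p hp pow_nine (ρ.comp σ) A
    rw [hG, ← hD, ← hD, c2 _ _ (c1 g), c2 (g.1 ^ 3) (rep g ^ 3) (by rw [map_pow, map_pow]; exact (c1 g).pow 3)]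
    rfl
  have k1 := key A1
  have k2 := key A2
  rw [card1] at k1
  rw [card2] at k2
  simp only [cnt1, cnt2, Fintype.sum_prod_type, Fin.sum_univ_five, Matrix.cons_val, hG, Nat.cast_ofNat, Nat.cast_zero, Nat.cast_one,
    zero_mul] at k1 k2
  have e0 : D (rp 0, rp 0) = 248 := d1
  have e0' : D ((rp 0, rp 0) ^ 3) = 248 := by rw [show (rp 0, rp 0) ^ 3 = 1 by decide +kernel, d1]
  have e3 : D (rp 3, rp 0) = 86 := by
    rw [← (d9 (rp 4, rp 0) (by decide +kernel)).2, c2 _ _ (c1 ((rp 4, rp 0) ^ 3)), show rep ((rp 4, rp 0) ^ 3) = (rp 3, rp 0) by decide +kernel]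
  have e6 : D (rp 3, rp 3) = 86 := by
    rw [← (d9 (rp 4, rp 4) (by decide +kernel)).2, c2 _ _ (c1 ((rp 4, rp 4) ^ 3)), show rep ((rp 4, rp 4) ^ 3) = (rp 3, rp 3) by decide +kernel]
  obtain ⟨t1, s1⟩ := d3 (rp 1, rp 0) (by decide +kernel)
  obtain ⟨t2, s2⟩ := d3 (rp 2, rp 0) (by decide +kernel)
  obtain ⟨-, s3⟩ := d3 (rp 3, rp 0) (by decide +kernel)
  obtain ⟨t4, s4⟩ := d3 (rp 3, rp 1) (by decide +kernel)
  obtain ⟨t5, s5⟩ := d3 (rp 3, rp 2) (by decide +kernel)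
  obtain ⟨-, s6⟩ := d3 (rp 3, rp 3) (by decide +kernel)
  obtain ⟨a1, b1⟩ := d9 (rp 4, rp 1) (by decide +kernel)
  obtain ⟨a2, b2⟩ := d9 (rp 4, rp 2) (by decide +kernel)
  obtain ⟨a3, b3⟩ := d9 (rp 4, rp 3) (by decide +kernel)
  obtain ⟨a4, b4⟩ := d9 (rp 4, rp 4) (by decide +kernel)
  rw [e0, e0', e3, e6, s2, s3, s4, s5, s6, b1, b2, b3] at k1 k2
  rw [s1] at k1
  rw [b4] at k2
  exact arith _ t1 _ t2 _ t4 _ t5 _ a1 _ a2 _ a3 (by omega) _ a4 (by omega)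

end Cfsg.Lib.AltDeg
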