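/-
No alternating section of degree nineteen in type E₈ outside characteristic seventeen.
-/
import Cfsg.Agent.Lib.Exc.E8L2
import Cfsg.Agent.Lib.Exc.E7P
import Cfsg.Agent.Lib.Exc.E8L1
import Cfsg.Agent.Lib.Exc.E8P

set_option autoImplicit false
set_option maxRecDepth 100000

namespace Cfsg.Lib.AltSec

open Cfsg.Lib.Chev Cfsg.Lib.Twist Cfsg.Lie Module Equiv Cfsg.Lib.AltDeg

universe u

/-- A cyclic group of order seventeen. -/
def f17 : Multiplicative (ZMod 17) →* alternatingGroup (Fin 19) :=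
  (MonoidHom.mk' (fun v => c[0, 1, 2, 3, 4, 5, 6, 7, 8, 9, 10, 11, 12, 13, 14, 15, 16] ^ v.toAdd.val) fun a b => by
    rw [toAdd_mul, pow_val_add (by decide +kernel)]).codRestrict _ fun v =>
      pow_mem (Perm.mem_alternatingGroup.2 (by decide +kernel)) _

theorem abs19 {H : Type u} [Group H] [Finite H] (π : H →* alternatingGroup (Fin 19)) (hs : Function.Surjective π)
    (hR : ∀ S : Subgroup H, IsPGroup 17 S → ∃ A ≤ S, (∀ a ∈ A, ∀ b ∈ A, a * b = b * a) ∧ A.relIndex S ≤ 17 ^ 0 ∧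
      Nat.card {a : H // a ∈ A ∧ a ^ 17 = 1} ≤ 17 ^ 8) : ∃ x : H, x ≠ 1 ∧ x ^ 17 = 1 ∧ IsConj x (x ^ 3) := by
  obtain ⟨σ, h1, h2⟩ := lift_alt (hF := ⟨by decide⟩) (by decide) π hs (by decide) (by decide) hR f17
    ((injective_iff_map_eq_one _).2 (by decide +kernel)) (by decide +kernel)
  obtain ⟨g, hg⟩ := h2 ⟨c[1, 3, 9, 10, 13, 5, 15, 11, 16, 14, 8, 7, 4, 12, 2, 6] * c[17, 18], Perm.mem_alternatingGroup.2 (by decide +kernel)⟩
    (fun v => v ^ 3) (by decide +kernel)
  refine ⟨σ (.ofAdd 1), fun e => absurd (h1 (e.trans (map_one σ).symm)) (by decide), ?_, isConj_iff.2 ⟨g, by rw [hg, map_pow]⟩⟩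
  rw [← map_pow, show (Multiplicative.ofAdd (1 : ZMod 17)) ^ 17 = 1 by decide, map_one]

theorem not_alt19_of {K : Type u} [Field K] [Finite K] (p : ℕ) [Fact p.Prime] [CharP K p] (hp : p ≠ 17) {H : Type*} [Group H] [Finite H]
    (ι : H →* chevE8.group K) (hι : Function.Injective ι) (π : H →* alternatingGroup (Fin 19)) (hs : Function.Surjective π)
    (hR : ∀ S : Subgroup H, IsPGroup 17 S → ∃ A ≤ S, (∀ a ∈ A, ∀ b ∈ A, a * b = b * a) ∧ A.relIndex S ≤ 17 ^ 0 ∧
      Nat.card {a : H // a ∈ A ∧ a ^ 17 = 1} ≤ 17 ^ 8) : False := by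
  obtain ⟨x, h1, h2, h3⟩ := abs19 π hs hR
  obtain ⟨β, b1, b2⟩ := exists_dims compat_E8 matOK_E8 p (n := 17) ((Nat.coprime_primes (by decide) Fact.out).2 hp.symm)
    (z := ι x) (by rw [← map_pow, h2, map_one])
  have h4 := b1 1
  rw [no17 (b2 3 (map_pow ι x 3 ▸ ι.map_isConj h3)), pow_one, Finset.filter_true_of_mem fun r _ => by simp [parN],
    Finset.card_univ, Fintype.card_fin] at h4
  exact h1 (hι (((fx_top _).1 h4).trans (map_one ι).symm))

theorem not_alt19 {K : Type u} [Field K] [Finite K] (p : ℕ) [Fact p.Prime] [CharP K p] (hp : p ≠ 17)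
    {X : Subgroup (chevE8.group K)} (π : X →* alternatingGroup (Fin 19)) (hπ : Function.Surjective π) : False :=
  not_alt19_of p hp X.subtype X.subtype_injective π hπ (rankE8_17 p hp X.subtype X.subtype_injective)

theorem not_alt18 {K : Type u} [Field K] [Finite K] (p : ℕ) [Fact p.Prime] [CharP K p] (hp : p ≠ 3)
    {X : Subgroup (chevE8.group K)} (π : X →* alternatingGroup (Fin 18)) (hπ : Function.Surjective π) : False :=
  abs18 p hp π hπ ((natR chevE8 K).comp X.subtype) finrank_E8 (rankE8_3 p hp X.subtype X.subtype_injective)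
    (fun z h1 h2 _ => h3_E8 p hp X.subtype X.subtype_injective z h1 h2) (h9_E8 p hp X.subtype X.subtype_injective)

end Cfsg.Lib.AltSec
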