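import Cfsg.Agent.Lib.Exc.E7d
import Cfsg.Agent.Lib.Twist.RootE8

/-! Characters of the root lattice of type `E₈` modulo 9 and 17. -/

set_option autoImplicit false
set_option synthInstance.maxSize 4000

namespace Cfsg.Lib.AltE8

open Cfsg.Lie Cfsg.Lib.Chev Cfsg.Lib.Twist Finset Cfsg.Lib.AltE7

/-- The root system. -/
noncomputable def R8 : RootSys (Fin 8) (Fin 240) := RE8

/-- The Cartan matrix. -/
def A8 : Fin 8 → Fin 8 → ℤ := ![![2, 0, -1, 0, 0, 0, 0, 0], ![0, 2, 0, -1, 0, 0, 0, 0], ![-1, 0, 2, -1, 0, 0, 0, 0], ![0, -1, -1, 2, -1, 0, 0, 0], ![0, 0, 0, -1, 2, -1, 0, 0], ![0, 0, 0, 0, -1, 2, -1, 0], ![0, 0, 0, 0, 0, -1, 2, -1], ![0, 0, 0, 0, 0, 0, -1, 2]]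

theorem A8_eq : R8.A = A8 := by decide +kernel

theorem th_rt : R8.rt 239 = ![2, 3, 4, 6, 5, 4, 3, 2] := by decide +kernel

theorem th_pair : ∀ i, R8.pair 239 (R8.simple i) = if i = 7 then 1 else 0 := by decide +kernel

/-- Squared distance to an interior point of the alcove. -/
def Mq (x : Fin 8 → ℤ) : ℤ := (10 * (1 * x 7) - 1) ^ 2 +
  (10 * (1 * x 5) - 1) ^ 2 +
  (10 * (1 * x 3) - 1) ^ 2 +
  (10 * (1 * x 1 + 1 * x 2 + 1 * x 3) - 3) ^ 2 +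
  (10 * (1 * x 1 + 1 * x 2 + 2 * x 3 + 2 * x 4 + 1 * x 5) - 7) ^ 2 +
  (10 * (1 * x 1 + 1 * x 2 + 2 * x 3 + 2 * x 4 + 2 * x 5 + 2 * x 6 + 1 * x 7) - 11) ^ 2 +
  (10 * (2 * x 0 + 2 * x 1 + 4 * x 2 + 5 * x 3 + 4 * x 4 + 3 * x 5 + 2 * x 6 + 1 * x 7) - 23) ^ 2 +
  (10 * (2 * x 0 + 3 * x 1 + 3 * x 2 + 5 * x 3 + 4 * x 4 + 3 * x 5 + 2 * x 6 + 1 * x 7) - 23) ^ 2

theorem Mq_s (x : Fin 8 → ℤ) (j : Fin 8) : Mq (fun i => x i - A8 j i * x j) = Mq x + 40 * x j := by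
  fin_cases j <;> simp [Mq, A8] <;> ring

theorem alcove {l : ℕ} (hl : 3 ≤ l) (β : Fin 8 → ZMod l) : ∃ w ∈ R8.W, ∃ a : Fin 8 → ℕ,
    2 * a 0 + 3 * a 1 + 4 * a 2 + 6 * a 3 + 5 * a 4 + 4 * a 5 + 3 * a 6 + 2 * a 7 ≤ l ∧ ac R8 w β = fun i => (a i : ZMod l) := by
  obtain ⟨x, rfl⟩ : ∃ x : Fin 8 → ℤ, β = fun i => (x i : ZMod l) := ⟨fun i => (β i).cast, by simp⟩
  induction h : (Mq x).toNat using Nat.strong_induction_on generalizing x with
  | _ n ih =>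
  have h0 : ∀ y, 0 ≤ Mq y := fun y => by unfold Mq; positivity
  have key : ∀ y : Fin 8 → ℤ, Mq y < Mq x → ∀ v ∈ R8.W, (ac R8 v fun i => (x i : ZMod l)) = (fun i => (y i : ZMod l)) →
      ∃ w ∈ R8.W, ∃ a : Fin 8 → ℕ, 2 * a 0 + 3 * a 1 + 4 * a 2 + 6 * a 3 + 5 * a 4 + 4 * a 5 + 3 * a 6 + 2 * a 7 ≤ l ∧
        (ac R8 w fun i => (x i : ZMod l)) = fun i => (a i : ZMod l) := fun y hy v hv e => by
    obtain ⟨w, hw, a, h1, h2⟩ := ih _ (by have := h0 y; omega) y rfl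
    exact ⟨v * w, mul_mem hv hw, a, h1, by rw [ac_mul hv, e, h2]⟩
  by_cases h1 : ∃ j, x j < 0
  · obtain ⟨j, hj⟩ := h1
    refine key (fun i => x i - A8 j i * x j) (by rw [Mq_s]; omega) _ (R8.s_mem_W j) ?_
    rw [ac_s, A8_eq]; simp
  push Not at h1
  obtain ⟨d, hd⟩ : ∃ d, d = 2 * x 0 + 3 * x 1 + 4 * x 2 + 6 * x 3 + 5 * x 4 + 4 * x 5 + 3 * x 6 + 2 * x 7 - l := ⟨_, rfl⟩
  by_cases h2 : 0 < d
  · refine key (fun i => x i - if i = 7 then d else 0) ?_ _ (R8.reflPerm_mem_W 239) ?_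
    · have : Mq (fun i => x i - if i = 7 then d else 0) = Mq x - 40 * (d * (10 * l - 29)) := by
        simp [Mq, hd]; ring
      have := mul_pos h2 (show (0 : ℤ) < 10 * l - 29 by omega)
      omega
    · rw [ac_refl]
      funext i
      rw [th_pair, pr, th_rt, hd]
      split_ifs <;> simp [Fin.sum_univ_eight]
      ring
  · refine ⟨1, one_mem _, fun i => (x i).toNat, ?_, ?_⟩
    · have := h1 0; have := h1 1; have := h1 2; have := h1 3; have := h1 4; have := h1 5; have := h1 6; have := h1 7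
      beta_reduce
      omega
    · rw [ac_one]
      funext i
      rw [← Int.cast_natCast, Int.toNat_of_nonneg (h1 i)]

/-- Coordinates. -/
abbrev T8 := ℕ × ℕ × ℕ × ℕ × ℕ × ℕ × ℕ × ℕ

instance decT8 : DecidableEq T8 := inferInstance

/-- Pairing modulo `l`. -/
def ev (l : ℕ) (g x : T8) : ℕ := Nat.mod (Nat.add (Nat.add (Nat.add (Nat.add (Nat.add (Nat.add (Nat.add (Nat.mul g.1 x.1)
  (Nat.mul g.2.1 x.2.1))
  (Nat.mul g.2.2.1 x.2.2.1))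
  (Nat.mul g.2.2.2.1 x.2.2.2.1))
  (Nat.mul g.2.2.2.2.1 x.2.2.2.2.1))
  (Nat.mul g.2.2.2.2.2.1 x.2.2.2.2.2.1))
  (Nat.mul g.2.2.2.2.2.2.1 x.2.2.2.2.2.2.1))
  (Nat.mul g.2.2.2.2.2.2.2 x.2.2.2.2.2.2.2)) l

/-- Counting. -/
def cn (l : ℕ) (g : T8) (a : ℕ) : List T8 → ℕ :=
  List.rec 0 fun x _ n => cond (Nat.beq (ev l g x) a) (Nat.succ n) n

/-- The roots modulo 153. -/
def TB : List T8 := [
  (151,150,149,147,148,149,150,151), (151,150,149,147,148,149,150,152), (151,150,149,147,148,149,151,152), (151,150,149,147,148,150,151,152),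
  (151,150,149,147,149,150,151,152), (151,150,149,148,149,150,151,152), (151,150,150,148,149,150,151,152), (151,151,149,148,149,150,151,152),
  (151,151,150,148,149,150,151,152), (151,151,150,149,149,150,151,152), (151,151,150,149,150,150,151,152), (151,151,150,149,150,151,151,152),
  (151,151,150,149,150,151,152,152), (151,151,150,149,150,151,152,0), (152,150,150,148,149,150,151,152), (152,151,150,148,149,150,151,152),
  (152,151,150,149,149,150,151,152), (152,151,150,149,150,150,151,152), (152,151,150,149,150,151,151,152), (152,151,150,149,150,151,152,152),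
  (152,151,150,149,150,151,152,0), (152,151,151,149,149,150,151,152), (152,151,151,149,150,150,151,152), (152,151,151,149,150,151,151,152),
  (152,151,151,149,150,151,152,152), (152,151,151,149,150,151,152,0), (152,151,151,150,150,150,151,152), (152,151,151,150,150,151,151,152),
  (152,151,151,150,150,151,152,152), (152,151,151,150,150,151,152,0), (152,151,151,150,151,151,151,152), (152,151,151,150,151,151,152,152),
  (152,151,151,150,151,151,152,0), (152,151,151,150,151,152,152,152), (152,151,151,150,151,152,152,0), (152,151,151,150,151,152,0,0),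
  (152,152,151,150,150,150,151,152), (152,152,151,150,150,151,151,152), (152,152,151,150,150,151,152,152), (152,152,151,150,150,151,152,0),
  (152,152,151,150,151,151,151,152), (152,152,151,150,151,151,152,152), (152,152,151,150,151,151,152,0), (152,152,151,150,151,152,152,152),
  (152,152,151,150,151,152,152,0), (152,152,151,150,151,152,0,0), (152,152,151,151,151,151,151,152), (152,152,151,151,151,151,152,152),
  (152,152,151,151,151,151,152,0), (152,152,151,151,151,152,152,152), (152,152,151,151,151,152,152,0), (152,152,151,151,151,152,0,0),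
  (152,152,151,151,152,152,152,152), (152,152,151,151,152,152,152,0), (152,152,151,151,152,152,0,0), (152,152,151,151,152,0,0,0),
  (152,152,152,151,151,151,151,152), (152,152,152,151,151,151,152,152), (152,152,152,151,151,151,152,0), (152,152,152,151,151,152,152,152),
  (152,152,152,151,151,152,152,0), (152,152,152,151,151,152,0,0), (152,152,152,151,152,152,152,152), (152,152,152,151,152,152,152,0),
  (152,152,152,151,152,152,0,0), (152,152,152,151,152,0,0,0), (152,152,152,152,152,152,152,152), (152,152,152,152,152,152,152,0),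
  (152,152,152,152,152,152,0,0), (152,152,152,152,152,0,0,0), (152,152,152,152,0,0,0,0), (152,0,152,152,152,152,152,152),
  (152,0,152,152,152,152,152,0), (152,0,152,152,152,152,0,0), (152,0,152,152,152,0,0,0), (152,0,152,152,0,0,0,0),
  (152,0,152,0,0,0,0,0), (152,0,0,0,0,0,0,0), (0,152,152,151,151,151,151,152), (0,152,152,151,151,151,152,152),
  (0,152,152,151,151,151,152,0), (0,152,152,151,151,152,152,152), (0,152,152,151,151,152,152,0), (0,152,152,151,151,152,0,0),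
  (0,152,152,151,152,152,152,152), (0,152,152,151,152,152,152,0), (0,152,152,151,152,152,0,0), (0,152,152,151,152,0,0,0),
  (0,152,152,152,152,152,152,152), (0,152,152,152,152,152,152,0), (0,152,152,152,152,152,0,0), (0,152,152,152,152,0,0,0),
  (0,152,152,152,0,0,0,0), (0,152,0,152,152,152,152,152), (0,152,0,152,152,152,152,0), (0,152,0,152,152,152,0,0),
  (0,152,0,152,152,0,0,0), (0,152,0,152,0,0,0,0), (0,152,0,0,0,0,0,0), (0,0,152,152,152,152,152,152),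
  (0,0,152,152,152,152,152,0), (0,0,152,152,152,152,0,0), (0,0,152,152,152,0,0,0), (0,0,152,152,0,0,0,0),
  (0,0,152,0,0,0,0,0), (0,0,0,152,152,152,152,152), (0,0,0,152,152,152,152,0), (0,0,0,152,152,152,0,0),
  (0,0,0,152,152,0,0,0), (0,0,0,152,0,0,0,0), (0,0,0,0,152,152,152,152), (0,0,0,0,152,152,152,0),
  (0,0,0,0,152,152,0,0), (0,0,0,0,152,0,0,0), (0,0,0,0,0,152,152,152), (0,0,0,0,0,152,152,0),
  (0,0,0,0,0,152,0,0), (0,0,0,0,0,0,152,152), (0,0,0,0,0,0,152,0), (0,0,0,0,0,0,0,152),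
  (0,0,0,0,0,0,0,1), (0,0,0,0,0,0,1,0), (0,0,0,0,0,0,1,1), (0,0,0,0,0,1,0,0),
  (0,0,0,0,0,1,1,0), (0,0,0,0,0,1,1,1), (0,0,0,0,1,0,0,0), (0,0,0,0,1,1,0,0),
  (0,0,0,0,1,1,1,0), (0,0,0,0,1,1,1,1), (0,0,0,1,0,0,0,0), (0,0,0,1,1,0,0,0),
  (0,0,0,1,1,1,0,0), (0,0,0,1,1,1,1,0), (0,0,0,1,1,1,1,1), (0,0,1,0,0,0,0,0),
  (0,0,1,1,0,0,0,0), (0,0,1,1,1,0,0,0), (0,0,1,1,1,1,0,0), (0,0,1,1,1,1,1,0),
  (0,0,1,1,1,1,1,1), (0,1,0,0,0,0,0,0), (0,1,0,1,0,0,0,0), (0,1,0,1,1,0,0,0),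
  (0,1,0,1,1,1,0,0), (0,1,0,1,1,1,1,0), (0,1,0,1,1,1,1,1), (0,1,1,1,0,0,0,0),
  (0,1,1,1,1,0,0,0), (0,1,1,1,1,1,0,0), (0,1,1,1,1,1,1,0), (0,1,1,1,1,1,1,1),
  (0,1,1,2,1,0,0,0), (0,1,1,2,1,1,0,0), (0,1,1,2,1,1,1,0), (0,1,1,2,1,1,1,1),
  (0,1,1,2,2,1,0,0), (0,1,1,2,2,1,1,0), (0,1,1,2,2,1,1,1), (0,1,1,2,2,2,1,0),
  (0,1,1,2,2,2,1,1), (0,1,1,2,2,2,2,1), (1,0,0,0,0,0,0,0), (1,0,1,0,0,0,0,0),
  (1,0,1,1,0,0,0,0), (1,0,1,1,1,0,0,0), (1,0,1,1,1,1,0,0), (1,0,1,1,1,1,1,0),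
  (1,0,1,1,1,1,1,1), (1,1,1,1,0,0,0,0), (1,1,1,1,1,0,0,0), (1,1,1,1,1,1,0,0),
  (1,1,1,1,1,1,1,0), (1,1,1,1,1,1,1,1), (1,1,1,2,1,0,0,0), (1,1,1,2,1,1,0,0),
  (1,1,1,2,1,1,1,0), (1,1,1,2,1,1,1,1), (1,1,1,2,2,1,0,0), (1,1,1,2,2,1,1,0),
  (1,1,1,2,2,1,1,1), (1,1,1,2,2,2,1,0), (1,1,1,2,2,2,1,1), (1,1,1,2,2,2,2,1),
  (1,1,2,2,1,0,0,0), (1,1,2,2,1,1,0,0), (1,1,2,2,1,1,1,0), (1,1,2,2,1,1,1,1),
  (1,1,2,2,2,1,0,0), (1,1,2,2,2,1,1,0), (1,1,2,2,2,1,1,1), (1,1,2,2,2,2,1,0),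
  (1,1,2,2,2,2,1,1), (1,1,2,2,2,2,2,1), (1,1,2,3,2,1,0,0), (1,1,2,3,2,1,1,0),
  (1,1,2,3,2,1,1,1), (1,1,2,3,2,2,1,0), (1,1,2,3,2,2,1,1), (1,1,2,3,2,2,2,1),
  (1,1,2,3,3,2,1,0), (1,1,2,3,3,2,1,1), (1,1,2,3,3,2,2,1), (1,1,2,3,3,3,2,1),
  (1,2,2,3,2,1,0,0), (1,2,2,3,2,1,1,0), (1,2,2,3,2,1,1,1), (1,2,2,3,2,2,1,0),
  (1,2,2,3,2,2,1,1), (1,2,2,3,2,2,2,1), (1,2,2,3,3,2,1,0), (1,2,2,3,3,2,1,1),
  (1,2,2,3,3,2,2,1), (1,2,2,3,3,3,2,1), (1,2,2,4,3,2,1,0), (1,2,2,4,3,2,1,1),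
  (1,2,2,4,3,2,2,1), (1,2,2,4,3,3,2,1), (1,2,2,4,4,3,2,1), (1,2,3,4,3,2,1,0),
  (1,2,3,4,3,2,1,1), (1,2,3,4,3,2,2,1), (1,2,3,4,3,3,2,1), (1,2,3,4,4,3,2,1),
  (1,2,3,5,4,3,2,1), (1,3,3,5,4,3,2,1), (2,2,3,4,3,2,1,0), (2,2,3,4,3,2,1,1),
  (2,2,3,4,3,2,2,1), (2,2,3,4,3,3,2,1), (2,2,3,4,4,3,2,1), (2,2,3,5,4,3,2,1),
  (2,2,4,5,4,3,2,1), (2,3,3,5,4,3,2,1), (2,3,4,5,4,3,2,1), (2,3,4,6,4,3,2,1),
  (2,3,4,6,5,3,2,1), (2,3,4,6,5,4,2,1), (2,3,4,6,5,4,3,1), (2,3,4,6,5,4,3,2)]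

/-- A root modulo 153. -/
noncomputable def vec (r : Fin 240) : T8 := ((R8.rt r 0 % 153).toNat, (R8.rt r 1 % 153).toNat, (R8.rt r 2 % 153).toNat, (R8.rt r 3 % 153).toNat, (R8.rt r 4 % 153).toNat, (R8.rt r 5 % 153).toNat, (R8.rt r 6 % 153).toNat, (R8.rt r 7 % 153).toNat)

theorem TB_eq : (List.finRange 240).map vec = TB := by decide +kernel

/-- Coordinates of a character. -/
def tp {l : ℕ} (g : Fin 8 → ZMod l) : T8 := ((g 0).val, (g 1).val, (g 2).val, (g 3).val, (g 4).val, (g 5).val, (g 6).val, (g 7).val)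

theorem pr_val {l : ℕ} [NeZero l] (h : (153 : ZMod l) = 0) (g : Fin 8 → ZMod l) (r : Fin 240) :
    (pr R8 g r).val = ev l (tp g) (vec r) := by
  have h1 : ∀ x : ℤ, (((x % 153).toNat : ℕ) : ZMod l) = x := fun x => by
    rw [← Int.cast_natCast, Int.toNat_of_nonneg (Int.emod_nonneg _ (by decide)), Int.emod_def]
    push_cast
    rw [h]; ring
  change _ = (_ + _ + _ + _ + _ + _ + _ + _) % l
  rw [← ZMod.val_natCast]
  congr 1
  simp [pr, Fin.sum_univ_eight, tp, vec, h1]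

theorem cn_eq (l : ℕ) (g : T8) (a : ℕ) (L : List T8) : cn l g a L = L.countP fun x => decide (ev l g x = a) := by
  induction L with
  | nil => rfl
  | cons x L ih =>
    rw [List.countP_cons, ← ih]
    change cond (Nat.beq (ev l g x) a) (cn l g a L + 1) (cn l g a L) = _
    by_cases h : ev l g x = a
    · simp [h]
    · rw [show Nat.beq (ev l g x) a = false from Bool.eq_false_iff.2 fun e => h (Nat.eq_of_beq_eq_true e)]
      simp [h]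

/-- Number of roots with a given value. -/
noncomputable def C1 {l : ℕ} (f : Fin 8 → ZMod l) (c : ZMod l) : ℕ := #{r | pr R8 f r = c}

theorem C1_eq {l : ℕ} [NeZero l] (h : (153 : ZMod l) = 0) (f : Fin 8 → ZMod l) (c : ZMod l) : C1 f c = cn l (tp f) c.val TB := by
  rw [cn_eq, ← TB_eq, List.countP_map, List.countP_eq_length_filter]
  change (List.filter (fun r => decide (pr R8 f r = c)) (List.finRange 240)).length = _
  congr 2
  funext r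
  simp [← pr_val h, (ZMod.val_injective l).eq_iff]

theorem card_perm (π : Equiv.Perm (Fin 240)) (p q : Fin 240 → Prop) [DecidablePred p] [DecidablePred q] (h : ∀ r, p r ↔ q (π r)) :
    #{r | p r} = #{r | q r} := Finset.card_bijective π π.bijective (by simpa using h)

theorem C1_W {l : ℕ} {w : Equiv.Perm (Fin 240)} (hw : w ∈ R8.W) (f : Fin 8 → ZMod l) (c : ZMod l) : C1 (ac R8 w f) c = C1 f c :=
  card_perm w _ _ fun r => by rw [pr_W hw]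

theorem ac_eq_zero {l : ℕ} {w : Equiv.Perm (Fin 240)} (hw : w ∈ R8.W) {f : Fin 8 → ZMod l} (h : ac R8 w f = 0) : f = 0 := by
  rw [← ac_one (R := R8) f, ← mul_inv_cancel w, ac_mul hw, h]
  funext i
  simp [ac, pr]

/-- The check for one point. -/
def P17 (x : T8) : Prop := cn 17 x 3 TB = cn 17 x 1 TB → cn 17 x 9 TB = cn 17 x 3 TB → cn 17 x 10 TB = cn 17 x 9 TB →
  cn 17 x 13 TB = cn 17 x 10 TB → cn 17 x 5 TB = cn 17 x 13 TB → x = (0, 0, 0, 0, 0, 0, 0, 0)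

instance (x : T8) : Decidable (P17 x) := by unfold P17; infer_instance

/-- The check for a slice of the alcove. -/
def Q17 (h : ℕ) : Prop := ∀ (d : Fin 3) (e : Fin 4), 2 * h + 6 * d + 5 * e ≤ 17 → ∀ c f : Fin 5, 2 * h + 6 * d + 5 * e + 4 * c + 4 * f ≤ 17 →
  ∀ b g : Fin 6, 2 * h + 6 * d + 5 * e + 4 * c + 4 * f + 3 * b + 3 * g ≤ 17 → ∀ a : Fin 9,
    2 * h + 6 * d + 5 * e + 4 * c + 4 * f + 3 * b + 3 * g + 2 * a ≤ 17 → P17 (a, b, c, d, e, f, g, h)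

instance (h : ℕ) : Decidable (Q17 h) := by unfold Q17; infer_instance

theorem q0 : Q17 0 := by decide +kernel

theorem q1 : Q17 1 := by decide +kernel

theorem q2 : Q17 2 := by decide +kernel

theorem q3 : ∀ h : Fin 6, Q17 (h + 3) := by decide +kernel

theorem no17 {β : Fin 8 → ZMod 17} (hu : ∀ v, C1 β (3 * v) = C1 β v) : β = 0 := by
  obtain ⟨w, hw, a, h1, h2⟩ := alcove (by decide) β
  have h3 : ∀ i, a i % 17 = a i := fun i => Nat.mod_eq_of_lt (by fin_cases i <;> simp <;> omega)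
  simp only [← C1_W hw β, h2, C1_eq (l := 17) rfl, tp, ZMod.val_natCast, h3] at hu
  have h4 : Q17 (a 7) := by
    obtain h | h | h | h : a 7 = 0 ∨ a 7 = 1 ∨ a 7 = 2 ∨ 3 ≤ a 7 := by omega
    exacts [h ▸ q0, h ▸ q1, h ▸ q2, Nat.sub_add_cancel h ▸ q3 ⟨a 7 - 3, by omega⟩]
  have h5 := h4 ⟨a 3, by omega⟩ ⟨a 4, by omega⟩ (by simp; omega) ⟨a 2, by omega⟩ ⟨a 5, by omega⟩ (by simp; omega) ⟨a 1, by omega⟩
    ⟨a 6, by omega⟩ (by simp; omega) ⟨a 0, by omega⟩ (by simp; omega) (hu 1) (hu 3) (hu 9) (hu 10) (hu 13)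
  simp only [Prod.mk.injEq] at h5
  refine ac_eq_zero hw (h2.trans (funext fun i => ?_))
  fin_cases i <;> simp [h5]

/-- The check for one point. -/
def P9 (x : T8) : Prop := cn 9 x 2 TB = cn 9 x 1 TB → cn 9 x 4 TB = cn 9 x 2 TB →
  (cn 9 x 0 TB, cn 9 x 0 TB + cn 9 x 3 TB + cn 9 x 6 TB) ∈
    [(240, 240), (126, 240), (84, 240), (78, 240), (72, 240), (20, 78), (22, 78), (26, 78), (40, 78)]

instance (x : T8) : Decidable (P9 x) := by unfold P9; infer_instance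

theorem q9 : ∀ (d e : Fin 2), 6 * d.1 + 5 * e.1 ≤ 9 → ∀ c f : Fin 3, 6 * d.1 + 5 * e.1 + 4 * c.1 + 4 * f.1 ≤ 9 →
  ∀ b g : Fin 4, 6 * d.1 + 5 * e.1 + 4 * c.1 + 4 * f.1 + 3 * b.1 + 3 * g.1 ≤ 9 → ∀ a h : Fin 5,
    6 * d.1 + 5 * e.1 + 4 * c.1 + 4 * f.1 + 3 * b.1 + 3 * g.1 + 2 * a.1 + 2 * h.1 ≤ 9 → P9 (a, b, c, d, e, f, g, h) := by
  decide +kernel

theorem rat9 {β : Fin 8 → ZMod 9} (hu : ∀ v, C1 β (2 * v) = C1 β v) : (C1 β 0, C1 β 0 + C1 β 3 + C1 β 6) ∈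
    [(240, 240), (126, 240), (84, 240), (78, 240), (72, 240), (20, 78), (22, 78), (26, 78), (40, 78)] := by
  obtain ⟨w, hw, a, h1, h2⟩ := alcove (by decide) β
  have h3 : ∀ i, a i % 9 = a i := fun i => Nat.mod_eq_of_lt (by fin_cases i <;> simp <;> omega)
  simp only [← C1_W hw β, h2, C1_eq (l := 9) rfl, tp, ZMod.val_natCast, h3] at hu ⊢
  exact q9 ⟨a 3, by omega⟩ ⟨a 4, by omega⟩ (by simp; omega) ⟨a 2, by omega⟩ ⟨a 5, by omega⟩ (by simp; omega) ⟨a 1, by omega⟩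
    ⟨a 6, by omega⟩ (by simp; omega) ⟨a 0, by omega⟩ ⟨a 7, by omega⟩ (by simp; omega) (hu 1) (hu 2)

end Cfsg.Lib.AltE8
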