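import Cfsg.Agent.Lib.Exc.E8M
import Cfsg.Agent.Lib.Exc.E7P
import Cfsg.Agent.Lib.Chev.TabE8

/-! `A₁₉` is not a section of `E₈(q)` outside characteristic 17. -/

set_option autoImplicit false

namespace Cfsg.Lib.AltE8

open Cfsg.Lie Cfsg.Lib.Chev Cfsg.Lib.Twist Cfsg.Lib.AltSec Cfsg.Lib.AltDeg Cfsg.Lib.AltE7 Equiv

universe u

theorem exists_psi (L : Type*) [Field L] [Finite L] {l : ℕ} [NeZero l] (h : l ∣ Nat.card L - 1) : ∃ ψ : AddChar (ZMod l) L,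
    Function.Injective ψ ∧ ∀ x : L, x ^ l = 1 → ∃ a, x = ψ a := by
  obtain ⟨ζ, hζ⟩ : ∃ ζ : Lˣ, orderOf ζ = l := by
    obtain ⟨g, hg⟩ := IsCyclic.exists_ofOrder_eq_natCard (α := Lˣ)
    rw [← Nat.card_units, ← hg] at h
    exact ⟨g ^ (orderOf g / l), orderOf_pow_orderOf_div (orderOf_pos g).ne' h⟩
  have h2 : IsPrimitiveRoot (ζ : L) l := IsPrimitiveRoot.coe_units_iff.2 (hζ ▸ IsPrimitiveRoot.orderOf ζ)
  refine ⟨AddChar.zmodChar l h2.pow_eq_one, fun a b e => ZMod.val_injective _ (h2.pow_inj (ZMod.val_lt _) (ZMod.val_lt _) e),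
    fun x hx => ?_⟩
  obtain ⟨i, -, rfl⟩ := h2.eq_pow_of_pow_eq_one hx
  exact ⟨i, (AddChar.zmodChar_apply' _ i).symm⟩

/-- A cyclic group of order 17. -/
def f17 : Multiplicative (ZMod 17) →* alternatingGroup (Fin 19) :=
  (MonoidHom.mk' (fun v => c[0, 1, 2, 3, 4, 5, 6, 7, 8, 9, 10, 11, 12, 13, 14, 15, 16] ^ v.toAdd.val) fun a b => by
    rw [toAdd_mul, pow_val_add (by decide +kernel)]).codRestrict _ fun v =>
      pow_mem (Perm.mem_alternatingGroup.2 (by decide +kernel)) _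

theorem fact17 : Fact (Nat.Prime 17) := ⟨by norm_num⟩

attribute [local instance] fact17

theorem not_alt19 {K : Type u} [Field K] [Finite K] (p : ℕ) [Fact p.Prime] [CharP K p] (hp : p ≠ 17)
    {X : Subgroup (chevE8.group K)} (π : X →* alternatingGroup (Fin 19)) (hπ : Function.Surjective π) : False := by
  have hc := compat_E8
  have hm := matOK_E8
  obtain ⟨L, _, _, j, h1, -⟩ := descend hc hm p (K := K) (z := 1) (Nat.coprime_one_left p) (one_pow 1) (m := 17)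
    fun h => hp ((Nat.prime_dvd_prime_iff_eq Fact.out fact17.out).1 h)
  obtain ⟨ψ, hψ, hψ'⟩ := exists_psi L h1
  have : Finite (chevE8.group L) := inferInstance
  obtain ⟨S, hS, hF, hO, hM, hgen, hZ, hi⟩ : ∃ S : PreSys R8 L (chevE8.group L), S.St ∧ S.Sep ∧ S.Opp ∧ S.Mult ∧ S.U Set.univ = ⊤ ∧
      (∀ g ∈ S.H, (∀ s u, g * S.x s u * g⁻¹ = S.x s u) → g = 1) ∧ ¬ 17 ∣ S.H.index :=
    ⟨hc.gsys hm L, hc.gst hm, hc.gsep hm, hc.gopp hm, hc.gmult hm, hc.ggen hm, gZ hc hm,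
      not_dvd_index hc hm h1 (by rw [card_W_E8 hc]; decide)⟩
  let e := X.equivMapOfInjective _ (baseExt_injective (D := chevE8) j)
  have hV : ∀ x : Multiplicative (ZMod 17), x ^ 17 = 1 := by decide +kernel
  obtain ⟨σ, hσ, h2⟩ := lift_alt (by decide) (π.comp e.symm.toMonoidHom) (hπ.comp e.symm.surjective) (l := 17) (by decide)
    (d := 17 ^ Fintype.card (Fin 8)) (e := 17) (by decide)
    (rank_bound hS hF hM hZ hψ' (fun h => hi ((dvd_pow_self 17 two_ne_zero).trans h)) _) f17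
    ((injective_iff_map_eq_one _).2 (by decide +kernel)) hV
  obtain ⟨g, hg⟩ := h2 ⟨c[1, 3, 9, 10, 13, 5, 15, 11, 16, 14, 8, 7, 4, 12, 2, 6] * c[17, 18],
    Perm.mem_alternatingGroup.2 (by decide +kernel)⟩ (fun v => .ofAdd (3 * v.toAdd)) (by decide +kernel)
  obtain ⟨a, A, t1, t2⟩ := AltE6.orb (l := 17) (fun x => ⟨1, by rw [pow_one, hV]⟩) ((Subgroup.subtype _).comp σ) S.H (v := 0) hi
  obtain rfl : A = ⊤ := Subgroup.index_eq_one.1 (le_antisymm t1 (Nat.pos_of_ne_zero Subgroup.index_ne_zero_of_finite))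
  obtain ⟨χ, t3, t4⟩ := chars hS hF hO hM hgen hZ hψ hψ' hV _ ((Subgroup.subtype_injective _).comp hσ) fun x => t2 x trivial
  obtain ⟨ρ, hρ⟩ := t4 g.1
  have c3 : ∀ x y : ZMod 17, 3 * x = 3 * y ↔ x = y := by decide +kernel
  refine absurd (t3 ((no17 (β := χ 1) fun v => card_perm ρ _ _ fun r => ?_).trans χ.map_zero.symm)) (by decide)
  rw [← hρ 1 ((3 : ZMod 17) • 1) (congrArg Subtype.val (hg (.ofAdd 1))), ZMod.map_smul, pr_smul, c3]

end Cfsg.Lib.AltE8
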