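import Mathlib

/-! A Sylow 3-subgroup of the alternating group of degree eighteen and its fusion. -/

set_option autoImplicit false
set_option maxRecDepth 100000

namespace Cfsg.Lib.AltDeg

open Equiv

/-- The wreath product of order 81. -/
structure P81 where
  /-- first coordinate -/
  a : ZMod 3
  /-- second coordinate -/
  b : ZMod 3
  /-- third coordinate -/
  c : ZMod 3
  /-- the shift -/
  s : ZMod 3
  deriving DecidableEq, Fintype

namespace P81

/-- A coordinate. -/
def cf (u : P81) (i : ZMod 3) : ZMod 3 := if i = 0 then u.a else if i = 1 then u.b else u.c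

instance : Mul P81 := ⟨fun g h => ⟨h.a + g.cf h.s, h.b + g.cf (1 + h.s), h.c + g.cf (2 + h.s), g.s + h.s⟩⟩
instance : One P81 := ⟨⟨0, 0, 0, 0⟩⟩
instance : Inv P81 := ⟨fun g => ⟨-g.cf (-g.s), -g.cf (1 - g.s), -g.cf (2 - g.s), -g.s⟩⟩

/-- The action on nine points. -/
def fn (u : P81) (y : Fin 9) : Fin 9 :=
  Fin.ofNat 9 (3 * (((y.val / 3 : ℕ) : ZMod 3) + u.s).val + ((y.val : ZMod 3) + u.cf (y.val / 3 : ℕ)).val)

theorem fn_mul : ∀ u v y, fn (u * v) y = fn u (fn v y) := by decide +kernel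
theorem fn_inj : ∀ u v, (∀ y, fn u y = fn v y) → u = v := by decide +kernel

instance : Group P81 := Group.ofLeftAxioms (fun _ _ _ => fn_inj _ _ fun _ => by simp only [fn_mul]) (by decide +kernel)
  (by decide +kernel)

/-- The permutation representation. -/
def pm : P81 →* Perm (Fin 9) := MonoidHom.mk' (fun u => ⟨fn u, fn u⁻¹, fun y => by revert u y; decide +kernel,
  fun y => by revert u y; decide +kernel⟩) fun u v => Perm.ext (fn_mul u v)

/-- The cycle type. -/
def ty (u : P81) : Fin 5 := if u.s = 0 then (if u.a = 0 then 0 else 1) + (if u.b = 0 then 0 else 1) + (if u.c = 0 then 0 else 1)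
  else if u.a + u.b + u.c = 0 then 3 else 4

/-- Representatives. -/
def rp : Fin 5 → P81 := ![⟨0, 0, 0, 0⟩, ⟨1, 0, 0, 0⟩, ⟨1, 1, 0, 0⟩, ⟨1, 1, 1, 0⟩, ⟨1, 0, 0, 1⟩]

/-- Canonical pairs of types. -/
def can (t : Fin 5 × Fin 5) : Fin 5 × Fin 5 :=
  if t.1 = 4 then t else if t.2 = 4 then (4, t.1) else if t.1.val + t.2.val ≤ 3 then (t.1 + t.2, 0) else (3, t.1 + t.2 - 3)

theorem conj_of_fun {n : ℕ} {a b : Perm (Fin n)} (w : Fin n → Fin n) (h : Function.Injective w ∧ ∀ y, w (a y) = b (w y)) : IsConj a b :=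
  isConj_iff.2 ⟨Equiv.ofBijective w h.1.bijective_of_finite, mul_inv_eq_iff_eq_mul.2 (Perm.ext h.2)⟩

theorem conj9 (u : P81) : IsConj (pm u) (pm (rp (ty u))) := conj_of_fun (fun y => Fin.ofNat 9
  (0x174528630528174630786453120453867120678453120876453120435768210876435210876453120453678120867453120786543120435687210687435210876543120174285630852174630876543120435876210768435210453876120174852630285174630543876120453786120786453120876543120345867120867345120786453210543768210687543210876453210417528630852417630876453210543687210768543210786543210417285630285417630876543210345678120786345120876543210417852630528417630453876210345786120678345120543876210543876210876543210876543210354768210768354210453120876741528630285741630543120876534867120786534120876120543741285630528741630453210876534678120678534120543210876354687210876354210876210543534786120867534120120876543354876210687354210210876543741852630852741630876543210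
    >>> (4 * (9 * (27 * u.a.val + 9 * u.b.val + 3 * u.c.val + u.s.val) + y.val)) % 16)) (by revert u; decide +kernel)

/-- The action on eighteen points. -/
def pm2 : P81 × P81 →* Perm (Fin 18) := ((finSumFinEquiv (m := 9) (n := 9)).permCongrHom.toMonoidHom.comp
  (Perm.sumCongrHom _ _)).comp (pm.prodMap pm)

theorem pow_nine (g : P81 × P81) : g ^ 9 = 1 :=
  have : ∀ u : P81, u ^ 9 = 1 := by decide +kernel
  Prod.ext (this _) (this _)

theorem pm2_inj : Function.Injective pm2 :=
  have : Function.Injective pm := fun u v h => fn_inj u v fun y => congrArg (· y) h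
  ((finSumFinEquiv (m := 9) (n := 9)).permCongrHom.injective.comp Perm.sumCongrHom_injective).comp (this.prodMap this)

/-- The embedding into the alternating group. -/
def tau : P81 × P81 →* alternatingGroup (Fin 18) := pm2.codRestrict _ fun g => Perm.mem_alternatingGroup.2 (by
  have h : Perm.sign (pm2 g) ^ 9 = 1 := by rw [← map_pow, ← map_pow, pow_nine, map_one, map_one]
  rcases Int.units_eq_one_or (Perm.sign (pm2 g)) with e | e
  · exact e
  · rw [e] at h; exact absurd h (by decide))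

/-- The canonical representative. -/
def rep (g : P81 × P81) : P81 × P81 := (rp (can (ty g.1, ty g.2)).1, rp (can (ty g.1, ty g.2)).2)

theorem conj18 (t : Fin 5 × Fin 5) : IsConj (pm2 (rp t.1, rp t.2)) (pm2 (rp (can t).1, rp (can t).2)) := conj_of_fun (fun y => Fin.ofNat 18
  (0x2307b9ac5a928398a4188208c1ee6b16a4a0e629062082307b9ac5a928398a4188208c1ee6b16a4a0e629062082307b9ac5a928398a41882041cc520c410460f7358b526307b9ac5a928398a4188208c1ee6b16a4a0e629062082307b9ac5a928398a4188208c1ee6b16a4a0e62906208107314831041183dcd62d497358b525073460f29062082307ad4941cce6b0a4188208c1ee6b10732d4929062082307b9ac5a928398a41882041cc520c410460f7358b5256a4a0e62907183dcd608208c1e8398a41b9ac5a922082307b9ac2906b52507308208c1ee6b16a4a0e62906208107314831041183dcd62d4941cc520c410460f7358b52630794831040e6b16a4a0e68c1ee6b04102d4941cc520e307b9ac5a928398a418820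
    >>> (5 * (18 * (5 * t.1.val + t.2.val) + y.val)) % 32)) (by revert t; decide +kernel)

theorem odd18 : ∀ t : Fin 5 × Fin 5, ∃ c ∈ [c[16, 17], c[12, 15] * c[13, 16] * c[14, 17],
    c[0, 9] * c[1, 10] * c[2, 11] * c[3, 12] * c[4, 13] * c[5, 14] * c[6, 15] * c[7, 16] * c[8, 17]],
    c * pm2 (rp (can t).1, rp (can t).2) = pm2 (rp (can t).1, rp (can t).2) * c ∧ Perm.sign c = -1 := by decide +kernel

theorem conj_rep (g : P81 × P81) : ∃ γ, γ * tau g * γ⁻¹ = tau (rep g) := by
  have h1 : IsConj (pm2 g) (pm2 (rp (ty g.1), rp (ty g.2))) := by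
    obtain ⟨c, hc⟩ := isConj_iff.1 (conj9 g.1)
    obtain ⟨d, hd⟩ := isConj_iff.1 (conj9 g.2)
    exact MonoidHom.map_isConj ((finSumFinEquiv (m := 9) (n := 9)).permCongrHom.toMonoidHom.comp (Perm.sumCongrHom _ _))
      (isConj_iff.2 ⟨(c, d), Prod.ext hc hd⟩)
  obtain ⟨w, hw⟩ := isConj_iff.1 (h1.trans (conj18 (ty g.1, ty g.2)))
  obtain ⟨c, -, h2, h3⟩ := odd18 (ty g.1, ty g.2)
  rcases Int.units_eq_one_or (Perm.sign w) with e | e
  · exact ⟨⟨w, e⟩, Subtype.ext hw⟩
  · refine ⟨⟨c * w, Perm.mem_alternatingGroup.2 (by rw [map_mul, h3, e]; rfl)⟩, Subtype.ext ?_⟩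
    change c * w * pm2 g * (c * w)⁻¹ = pm2 _
    rw [show c * w * pm2 g * (c * w)⁻¹ = c * (w * pm2 g * w⁻¹) * c⁻¹ by group, hw, h2, mul_inv_cancel_right]
    rfl

/-- The first subgroup. -/
def A1 : Subgroup (P81 × P81) where
  carrier := {g | g.2.s = 0 ∧ g.1.s + g.2.b + g.2.c = 0}
  one_mem' := ⟨rfl, rfl⟩
  mul_mem' := by
    rintro ⟨u, v⟩ ⟨u', v'⟩ ⟨h1, h2⟩ ⟨h3, h4⟩
    have : ∀ v v' : P81, v.s = 0 → v'.s = 0 → (v * v').s = 0 ∧ (v * v').b = v'.b + v.b ∧ (v * v').c = v'.c + v.c := by decide +kernel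
    obtain ⟨t1, t2, t3⟩ := this v v' h1 h3
    exact ⟨t1, by change u.s + u'.s + (v * v').b + (v * v').c = 0; rw [t2, t3]; linear_combination h2 + h4⟩
  inv_mem' := by
    rintro ⟨u, v⟩ ⟨h1, h2⟩
    have : ∀ v : P81, v.s = 0 → v⁻¹.s = 0 ∧ v⁻¹.b = -v.b ∧ v⁻¹.c = -v.c := by decide +kernel
    obtain ⟨t1, t2, t3⟩ := this v h1
    exact ⟨t1, by change -u.s + v⁻¹.b + v⁻¹.c = 0; rw [t2, t3]; linear_combination -h2⟩

/-- The second subgroup. -/
def A2 : Subgroup (P81 × P81) where
  carrier := {g | g.1.a + g.1.b + g.1.c + (g.2.a + g.2.b + g.2.c) = 0}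
  one_mem' := rfl
  mul_mem' := by
    rintro ⟨u, v⟩ ⟨u', v'⟩ h1 h2
    have : ∀ v v' : P81, (v * v').a + (v * v').b + (v * v').c = v.a + v.b + v.c + (v'.a + v'.b + v'.c) := by decide +kernel
    change (u * u').a + (u * u').b + (u * u').c + ((v * v').a + (v * v').b + (v * v').c) = 0
    rw [this, this]; linear_combination h1.out + h2.out
  inv_mem' := by
    rintro ⟨u, v⟩ h1
    have : ∀ v : P81, v⁻¹.a + v⁻¹.b + v⁻¹.c = -(v.a + v.b + v.c) := by decide +kernel
    change u⁻¹.a + u⁻¹.b + u⁻¹.c + (v⁻¹.a + v⁻¹.b + v⁻¹.c) = 0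
    rw [this, this]; linear_combination -h1.out

instance : DecidablePred (· ∈ A1) := fun g => inferInstanceAs (Decidable (g.2.s = 0 ∧ g.1.s + g.2.b + g.2.c = 0))
instance : DecidablePred (· ∈ A2) := fun g => inferInstanceAs (Decidable (g.1.a + g.1.b + g.1.c + (g.2.a + g.2.b + g.2.c) = 0))

theorem sum_type (A : Subgroup (P81 × P81)) [DecidablePred (· ∈ A)] (F : Fin 5 × Fin 5 → ℤ) :
    ∑ g : A, F (can (ty g.1.1, ty g.1.2)) =
      ∑ t, ((Finset.univ.filter fun g : P81 × P81 => g ∈ A ∧ can (ty g.1, ty g.2) = t).card : ℤ) * F t := by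
  rw [← Finset.sum_subtype (Finset.univ.filter (· ∈ A)) (by simp) fun g : P81 × P81 => F (can (ty g.1, ty g.2)),
    ← Finset.sum_fiberwise_of_maps_to (g := fun g : P81 × P81 => can (ty g.1, ty g.2)) (t := Finset.univ) fun _ _ => Finset.mem_univ _]
  refine Finset.sum_congr rfl fun t _ => ?_
  rw [Finset.filter_filter, Finset.sum_congr rfl fun g hg => congrArg F (Finset.mem_filter.1 hg).2.2, Finset.sum_const, nsmul_eq_mul]

theorem cnt1 : ∀ t, (Finset.univ.filter fun g : P81 × P81 => g ∈ A1 ∧ can (ty g.1, ty g.2) = t).card =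
    ![![1, 0, 0, 0, 0], ![8, 0, 0, 0, 0], ![26, 0, 0, 0, 0], ![48, 100, 154, 68, 0], ![0, 72, 180, 72, 0]] t.1 t.2 := by decide +kernel

theorem cnt2 : ∀ t, (Finset.univ.filter fun g : P81 × P81 => g ∈ A2 ∧ can (ty g.1, ty g.2) = t).card =
    ![![1, 0, 0, 0, 0], ![0, 0, 0, 0, 0], ![30, 0, 0, 0, 0], ![76, 90, 276, 418, 0], ![0, 216, 216, 216, 648]] t.1 t.2 := by decide +kernel

theorem arith : ∀ t1 ∈ [134, 92, 86, 80], ∀ t2 ∈ [134, 92, 86, 80], ∀ t4 ∈ [134, 92, 86, 80], ∀ t5 ∈ [134, 92, 86, 80],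
    ∀ a1 ∈ [28, 30, 34, 48], ∀ a2 ∈ [28, 30, 34, 48], ∀ a3 ∈ [28, 30, 34, 48],
      (744 + 3 * (8 * t1 + 26 * t2 + 48 * 86 + 100 * t4 + 154 * t5 + 68 * 86 + 72 * a1 + 180 * a2 + 72 * a3)) % 1458 =
        (405 * 248 + 324 * 86) % 1458 →
      ∀ w ∈ [28, 30, 34, 48], (744 + 3 * (30 * t2 + 76 * 86 + 90 * t4 + 276 * t5 + 418 * 86 + 216 * a1 + 216 * a2 + 216 * a3 + 648 * w)) % 4374 ≠
        (891 * 248 + 1296 * 86) % 4374 := by decide +kernel

theorem card1 : Nat.card A1 = 729 := by rw [Nat.card_eq_fintype_card]; decide +kernel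
theorem card2 : Nat.card A2 = 2187 := by rw [Nat.card_eq_fintype_card]; decide +kernel

end P81

end Cfsg.Lib.AltDeg
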