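import Cfsg.Agent.Lib.Coprime.Frobenius

/-!
# Norms of Frobenius complements on abelian normal subgroups
-/

set_option autoImplicit false
set_option linter.unusedSectionVars false

namespace Cfsg.Lib.Exc

open Cfsg Subgroup Finset
open scoped IsMulCommutative

theorem frob_prod {X A : Type*} [Group X] [CommGroup A] (φ : X →* MulAut A) (K : Subgroup X) [Fintype K] {f : X} {n : ℕ}
    (hf : f ∈ normalizer (K : Set X)) (hfp : ∀ i, 0 < i → i < n → K ⊓ centralizer {f ^ i} = ⊥) (hn : 0 < n)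
    (hN : ∀ k ∈ K, ∀ w, ∏ i ∈ range n, φ (k * f ^ i * k⁻¹) w = 1) (w : A) :
    w ^ Nat.card K = ∏ k : K, φ k w := by
  obtain ⟨n, rfl⟩ := Nat.exists_eq_add_of_le' hn
  have h1 : ∏ i ∈ range (n + 1), ∏ k : K, φ (k * f ^ i * (k : X)⁻¹) w = 1 := by
    rw [prod_comm]; exact prod_eq_one fun k _ => hN k k.2 w
  have h2 : ∏ i ∈ range (n + 1), ∏ k : K, φ (k * f ^ i) w = 1 := by
    rw [prod_comm]
    refine prod_eq_one fun k _ => ?_
    have := congrArg (φ k) (hN 1 (one_mem _) w)
    simpa [map_prod] using this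
  have h3 : ∀ i ∈ range n, ∏ k : K, φ (k * f ^ (i + 1) * (k : X)⁻¹) w = ∏ k : K, φ (k * f ^ (i + 1)) w := fun i hi =>
    Fintype.prod_bijective _ (Coprime.commMap_bijective (pow_mem hf (i + 1)) (hfp (i + 1) (by omega)
      (by simpa using hi))) _ _ fun k => by simp [Coprime.commMap]
  rw [prod_range_succ'] at h1 h2
  rw [prod_congr rfl h3] at h1
  have := mul_left_cancel (h1.trans h2.symm)
  simpa [Nat.card_eq_fintype_card] using this

theorem frob_fix {X A : Type*} [Group X] [CommGroup A] (φ : X →* MulAut A) (K : Subgroup X) [Finite K] {f : X} {n : ℕ}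
    (hf : f ∈ normalizer (K : Set X)) (hfp : ∀ i, 0 < i → i < n → K ⊓ centralizer {f ^ i} = ⊥) (hn : 0 < n)
    (hN : ∀ k ∈ K, ∀ w, ∏ i ∈ range n, φ (k * f ^ i * k⁻¹) w = 1) {w : A} (hw : (orderOf w).Coprime (Nat.card K))
    {k : X} (hk : k ∈ K) : φ k w = w := by
  have := Fintype.ofFinite K
  have h1 := frob_prod φ K hf hfp hn hN w
  have h2 : φ k (w ^ Nat.card K) = w ^ Nat.card K := by
    rw [h1, map_prod]
    exact Fintype.prod_bijective _ (Group.mulLeft_bijective (⟨k, hk⟩ : K)) _ _ fun a => by simp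
  obtain ⟨m, hm⟩ := exists_pow_eq_self_of_coprime hw.symm
  rw [← hm, map_pow, h2]

theorem mul_pow_eq_prod {G : Type*} [Group G] (W : Subgroup G) [W.Normal] [IsMulCommutative W] (w : W) (g : G) (n : ℕ) :
    ((w : G) * g) ^ n = (∏ i ∈ range n, MulAut.conjNormal (g ^ i) w : W) * g ^ n := by
  induction n with
  | zero => simp
  | succ n ih => rw [pow_succ, ih, prod_range_succ, Subgroup.coe_mul, MulAut.conjNormal_apply, pow_succ]; group

/-- if the norms of the conjugates of the complement generator `f` kill `W`, the kernel centralizes `W` -/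
theorem free_comm {G X : Type*} [Group G] [Group X] (π : G →* X) (hπ : Function.Surjective π) (W : Subgroup G) [W.Normal]
    [IsMulCommutative W] (hC : π.ker ≤ centralizer W) (K : Subgroup X) [Finite K] {f : X} {n : ℕ}
    (hf : f ∈ normalizer (K : Set X)) (hfp : ∀ i, 0 < i → i < n → K ⊓ centralizer {f ^ i} = ⊥) (hn : 0 < n)
    (hN : ∀ g, IsConj f (π g) → ∀ v ∈ W, (v * g) ^ n = g ^ n) {w : G} (hw : w ∈ W) (hc : (orderOf w).Coprime (Nat.card K))
    {g : G} (hg : π g ∈ K) : Commute g w := by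
  let φ : X →* MulAut W := π.liftOfRightInverse _ (Function.rightInverse_surjInv hπ) ⟨MulAut.conjNormal, fun x hx => by
    ext a
    simp [← hC hx a a.2]⟩
  have hφ : ∀ g, φ (π g) = MulAut.conjNormal g := fun g => π.liftOfRightInverse_comp_apply _ _ _ g
  have := frob_fix φ K hf hfp hn (fun k _ v => by
    obtain ⟨y, hy⟩ := hπ (k * f * k⁻¹)
    have h1 := mul_pow_eq_prod W v y n
    rw [hN y (isConj_iff.2 ⟨k, hy.symm⟩) v v.2] at h1
    simp only [← conj_pow, ← hy, ← map_pow, hφ]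
    exact Subtype.ext (right_eq_mul.1 h1)) (w := ⟨w, hw⟩) (by rwa [← orderOf_coe]) hg
  rw [hφ] at this
  exact mul_inv_eq_iff_eq_mul.1 (congrArg Subtype.val this)

end Cfsg.Lib.Exc
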