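/-
The Frobenius action on a toral element; elements of order 65 in `E₇(2)`.
-/
import Cfsg.Agent.Lib.Exc.AltSec2

set_option autoImplicit false

namespace Cfsg.Lib.FrobW

open Module Polynomial Cfsg.Lib Cfsg.Lib.Chev Cfsg.Lib.Twist Cfsg.Lie Cfsg.Lib.AltSec

universe u

section lin

variable {V : Type*} [AddCommGroup V] [Module ℚ V] [FiniteDimensional ℚ V]

theorem le_finrank_ker {f : End ℚ V} {P : ℚ[X]} (hP : Irreducible P) (hm : P.Monic) (h : LinearMap.ker (aeval f P) ≠ ⊥) :
    P.natDegree ≤ finrank ℚ (LinearMap.ker (aeval f P)) := by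
  have h1 : ∀ v ∈ LinearMap.ker (aeval f P), f v ∈ LinearMap.ker (aeval f P) := fun v hv => by
    have : aeval f P * f = f * aeval f P := by
      have := (Commute.all P X).map (aeval f)
      rwa [aeval_X] at this
    rw [LinearMap.mem_ker, ← End.mul_apply, this, End.mul_apply, LinearMap.mem_ker.1 hv, map_zero]
  have h2 : ∀ (Q : ℚ[X]) v, ((aeval (f.restrict h1) Q v :) : V) = aeval f Q v := fun Q v => by
    induction Q using Polynomial.induction_on' with
    | add p q hp hq => simp [hp, hq]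
    | monomial n a => simp [aeval_monomial, End.pow_restrict n h1]
  have := Submodule.nontrivial_iff_ne_bot.2 h
  have h3 := natDegree_le_of_dvd (LinearMap.minpoly_dvd_charpoly (f.restrict h1)) (LinearMap.charpoly_monic _).ne_zero
  rwa [← minpoly.eq_of_irreducible_of_monic hP (x := f.restrict h1)
    (LinearMap.ext fun v => Subtype.ext ((h2 P v).trans v.2)) hm, LinearMap.charpoly_natDegree] at h3

theorem six_le {f : End ℚ V} (h4 : LinearMap.ker (aeval f (cyclotomic 4 ℚ)) ≠ ⊥)
    (h12 : LinearMap.ker (aeval f (cyclotomic 12 ℚ)) ≠ ⊥) : 6 ≤ finrank ℚ (LinearMap.ker (f ^ 3 * f ^ 3 + 1)) := by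
  have e1 := le_finrank_ker (cyclotomic.irreducible_rat (by decide)) (cyclotomic.monic _ _) h4
  have e2 := le_finrank_ker (cyclotomic.irreducible_rat (by decide)) (cyclotomic.monic _ _) h12
  have hc := cyclotomic.isCoprime_rat (show 4 ≠ 12 by decide)
  have e3 := Submodule.finrank_sup_add_finrank_inf_eq (LinearMap.ker (aeval f (cyclotomic 4 ℚ)))
    (LinearMap.ker (aeval f (cyclotomic 12 ℚ)))
  have e4 : cyclotomic 4 ℚ * cyclotomic 12 ℚ = X ^ 3 * X ^ 3 + 1 := by
    rw [← cyclotomic_expand_eq_cyclotomic (n := 2) Nat.prime_two dvd_rfl,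
      ← cyclotomic_expand_eq_cyclotomic (n := 6) Nat.prime_two (by decide), cyclotomic_two, cyclotomic_six]
    simp; ring
  rw [sup_ker_aeval_eq_ker_aeval_mul_of_coprime f hc, (disjoint_ker_aeval_of_isCoprime f hc).eq_bot, finrank_bot, e4] at e3
  rw [natDegree_cyclotomic] at e1 e2
  have e5 : Nat.totient 4 = 2 := by decide
  have e6 : Nat.totient 12 = 4 := by decide
  rw [map_add, map_mul, map_pow, aeval_X, map_one] at e3
  omega

/-- An isometry whose square is minus a reflection. -/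
theorem refl_sq (B : V →ₗ[ℚ] V →ₗ[ℚ] ℚ) (hB : ∀ x y, B x y = B y x) {u : End ℚ V} (hu : ∀ x y, B (u x) (u y) = B x y)
    (hk : finrank ℚ V ≤ finrank ℚ (LinearMap.ker (u * u + 1)) + 1) {b : V}
    (hb : B ((u * u + 1) b) ((u * u + 1) b) ≠ 0) (v w : V) :
    B ((u * u + 1) v) w ^ 2 = 4 * (B (u v) v * B (u w) w) := by
  have e1 := (u * u + 1).finrank_range_add_finrank_ker
  obtain ⟨a, ha⟩ := finrank_le_one_iff.1 (show finrank ℚ (LinearMap.range (u * u + 1)) ≤ 1 by omega)
  have h1 : ∀ v, ∃ c : ℚ, u (u v) + v = c • a.1 := fun v =>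
    (ha ⟨_, v, rfl⟩).imp fun c hc => (congrArg Subtype.val hc).symm
  obtain ⟨a, z, hz⟩ := a
  simp only [LinearMap.add_apply, End.mul_apply, End.one_apply] at h1 hz hb ⊢
  have h2 : B a a ≠ 0 := fun h => by
    obtain ⟨c, hc⟩ := h1 b
    simp [hc, h] at hb
  obtain ⟨ε, hε⟩ : ∃ ε : ℚ, u a = ε • a := (h1 (u z)).imp fun c hc => by rw [← hc, ← hz, map_add]
  have h3 : ε * ε = 1 := by
    have := hu a a
    simp only [hε, map_smul, LinearMap.smul_apply, smul_eq_mul] at this
    exact mul_right_cancel₀ h2 (by linear_combination this)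
  have h4 : ∀ v, ∃ c : ℚ, u (u v) + v = c • a ∧ c * B a a = 2 * B a v ∧ 2 * B (u v) v = ε * c * B a v := fun v => by
    obtain ⟨c, hc⟩ := h1 v
    have e1 := hu a v
    have e2 := hu a (u v)
    have e3 := hu (u v) v
    rw [eq_sub_of_add_eq hc] at e2 e3
    simp only [hε, map_smul, map_sub, LinearMap.smul_apply, LinearMap.sub_apply, smul_eq_mul] at e1 e2 e3
    rw [hB v (u v)] at e3
    exact ⟨c, hc, by linear_combination ε * e2 + e1 + (B a v - c * B a a) * h3,
      by linear_combination -e3 + c * ε * e1 - (c * B a (u v)) * h3⟩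
  obtain ⟨c, c1, c2, c3⟩ := h4 v
  obtain ⟨d, -, d2, d3⟩ := h4 w
  rw [c1, map_smul, LinearMap.smul_apply, smul_eq_mul]
  have h5 : c * B a w = d * B a v := mul_right_cancel₀ h2 (by linear_combination B a w * c2 - B a v * d2)
  linear_combination c * B a w * h5 - 2 * B (u w) w * c3 - ε * c * B a v * d3 - c * d * B a v * B a w * h3

theorem sq_add_one_ne {u : End ℚ V} (h : Odd (finrank ℚ V)) : u * u + 1 ≠ 0 := fun e => by
  have := congrArg LinearMap.det (eq_neg_of_add_eq_zero_left e)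
  rw [map_mul, ← neg_one_smul ℚ, LinearMap.det_smul, map_one, h.neg_one_pow] at this
  nlinarith [mul_self_nonneg (LinearMap.det u)]

end lin

section root

variable {I Φ : Type*} [Fintype I] [DecidableEq I] {R : RootSys I Φ} {w : Equiv.Perm Φ}

/-- The rational vector of an integral vector. -/
def io (I : Type*) : (I → ℤ) →+ (I → ℚ) := (Int.castAddHom ℚ).compLeft I

/-- The reflection representation. -/
def rho (R : RootSys I Φ) (w : Equiv.Perm Φ) : End ℚ (I → ℚ) := Matrix.toLin' (Matrix.of fun j i => R.rt (w (R.simple i)) j)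

theorem rho_rt (hw : w ∈ R.W) (r : Φ) : rho R w (io I (R.rt r)) = io I (R.rt (w r)) := by
  rw [RootSys.W_rt_eq_sum hw r]
  funext j
  simp [rho, io, Matrix.mulVec, dotProduct, mul_comm]

theorem rho_pow (hw : w ∈ R.W) (n : ℕ) (r : Φ) : (rho R w ^ n) (io I (R.rt r)) = io I (R.rt ((w ^ n) r)) := by
  induction n with
  | zero => rfl
  | succ n ih => rw [pow_succ', pow_succ', End.mul_apply, ih, rho_rt hw, Equiv.Perm.mul_apply]

theorem ext_rt {M : Type*} [AddCommGroup M] [Module ℚ M] {f g : (I → ℚ) →ₗ[ℚ] M}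
    (h : ∀ i, f (io I (R.rt (R.simple i))) = g (io I (R.rt (R.simple i)))) : f = g :=
  (Pi.basisFun ℚ I).ext fun i => by
    have : io I (R.rt (R.simple i)) = Pi.basisFun ℚ I i := by
      funext j; simp [io, R.rt_simple, Pi.single_apply]
    exact this ▸ h i

theorem ker_ne_bot (hw : w ∈ R.W) {N : ℕ} (hN : w ^ N = 1) {A : Type*} [AddCommGroup A] (c : (I → ℤ) →+ A) {q : ℕ}
    (hc : ∀ r, c (R.rt (w r)) = q • c (R.rt r)) {l : ℕ} (hl : l.Prime) (hlN : ¬ l ∣ N) {r : Φ} (hr : l ∣ addOrderOf (c (R.rt r)))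
    {d : ℕ} (hd : d ∣ N) (hq : (l : ℤ) ∣ (cyclotomic d ℤ).eval (q : ℤ)) :
    LinearMap.ker (aeval (rho R w) (cyclotomic d ℚ)) ≠ ⊥ := fun h => by
  obtain ⟨Q, hQ⟩ : cyclotomic d ℤ ∣ X ^ N - 1 := by
    obtain ⟨k, rfl⟩ := hd
    exact (cyclotomic.dvd_X_pow_sub_one d ℤ).trans (pow_mul (X : ℤ[X]) d k ▸ sub_one_dvd_pow_sub_one _ k)
  have h0 : ∀ n : ℕ, c (R.rt ((w ^ n) r)) = q ^ n • c (R.rt r) := fun n => by
    induction n with
    | zero => simp
    | succ n ih => rw [pow_succ', Equiv.Perm.mul_apply, hc, ih, pow_succ', mul_smul]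
  have h1 : ∀ Q : ℤ[X], ∃ y, aeval (rho R w) Q (io I (R.rt r)) = io I y ∧ c y = Q.eval (q : ℤ) • c (R.rt r) := fun Q => by
    induction Q using Polynomial.induction_on' with
    | add p q hp hq =>
      obtain ⟨y, y1, y2⟩ := hp
      obtain ⟨z, z1, z2⟩ := hq
      exact ⟨y + z, by simp [y1, z1], by simp [y2, z2, add_smul]⟩
    | monomial n a =>
      refine ⟨a • R.rt ((w ^ n) r), by rw [map_zsmul]; simp [aeval_monomial, rho_pow hw], ?_⟩
      rw [map_zsmul, h0, eval_monomial, mul_smul, ← Nat.cast_pow, natCast_zsmul]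
  obtain ⟨y, y1, y2⟩ := h1 Q
  have h2 : io I y = 0 := by
    rw [← map_cyclotomic_int, ← algebraMap_int_eq, aeval_map_algebraMap] at h
    rw [← y1, ← Submodule.mem_bot ℚ, ← h, LinearMap.mem_ker, ← End.mul_apply, ← map_mul, ← hQ]
    simp [rho_pow hw, hN]
  rw [show y = 0 from funext fun i => Int.cast_eq_zero.1 (congrFun h2 i), map_zero, eq_comm,
    ← addOrderOf_dvd_iff_zsmul_eq_zero] at y2
  have h3 : (l : ℤ) ∣ Q.eval (q : ℤ) := (Int.natCast_dvd_natCast.2 hr).trans y2
  have h4 := congrArg (eval (q : ℤ)) hQ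
  have h5 := congrArg (fun P => eval (q : ℤ) (X * derivative P)) hQ
  simp only [derivative_sub, derivative_one, sub_zero, derivative_mul, eval_mul, eval_add, eval_X, eval_sub, eval_pow,
    eval_one, derivative_X_pow, eval_C] at h4 h5
  have h6 : (q : ℤ) * q ^ (N - 1) = q ^ N := by
    rw [← pow_succ', Nat.sub_add_cancel (Nat.pos_of_ne_zero fun h => hlN (by simp [h]))]
  refine hlN (Int.natCast_dvd_natCast.1 ?_)
  rw [show (N : ℤ) = q * (N * q ^ (N - 1)) - N * (q ^ N - 1) by rw [← h6]; ring, h4, h5]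
  exact ((((h3.mul_left _).add (hq.mul_right _)).mul_left _).sub ((hq.mul_right _).mul_left _))

/-- No element of the Weyl group of type `E₇` acts as multiplication by 2 on a character of order 65. -/
theorem not_65 (hI : Fintype.card I = 7) (hW : Nat.card R.W = 2903040) (hl : ∀ r, R.len r = 1)
    (h1 : ∀ r, ∃ i, Odd (R.pair (R.simple i) r))
    (h2 : ∀ r s, (∀ i, Even (R.pair (R.simple i) r + R.pair (R.simple i) s)) → s = r ∨ s = R.neg r)
    (hw : w ∈ R.W) {A : Type*} [AddCommGroup A] (c : (I → ℤ) →+ A) (hc : ∀ r, c (R.rt (w r)) = 2 • c (R.rt r))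
    (h65 : ∀ r, 65 • c (R.rt r) = 0) {r s : Φ} (hr : 13 • c (R.rt r) ≠ 0) (hs : 5 • c (R.rt s) ≠ 0) : False := by
  have hv := pow_mem hw 25
  have hN : (w ^ 25) ^ 580608 = 1 := by
    rw [← pow_mul, show 25 * 580608 = 2903040 * 5 from rfl, pow_mul, ← hW,
      orderOf_dvd_iff_pow_eq_one.1 (Subgroup.orderOf_dvd_natCard _ hw), one_pow]
  have h0 : ∀ (n : ℕ) r, c (R.rt ((w ^ n) r)) = 2 ^ n • c (R.rt r) := fun n r => by
    induction n with
    | zero => simp
    | succ n ih => rw [pow_succ', Equiv.Perm.mul_apply, hc, ih, pow_succ', mul_smul]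
  have hc' : ∀ r, c (R.rt ((w ^ 25) r)) = 2 • c (R.rt r) := fun r => by
    rw [h0, show 2 ^ 25 = 516222 * 65 + 2 from rfl, add_smul, mul_smul, h65, smul_zero, zero_add]
  have ho : ∀ {a b r}, a * b = 65 → a.Prime → b • c (R.rt r) ≠ 0 → a ∣ addOrderOf (c (R.rt r)) := fun {a b r} e ha h => by
    by_contra h3
    exact h (addOrderOf_dvd_iff_nsmul_eq_zero.1 (((Nat.Prime.coprime_iff_not_dvd ha).2 h3).symm.dvd_of_dvd_mul_left
      (e ▸ addOrderOf_dvd_iff_nsmul_eq_zero.2 (h65 r))))
  have h6 := six_le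
    (ker_ne_bot hv hN c hc' (l := 5) (by norm_num) (by decide) (ho rfl (by norm_num) hr) (d := 4) (by decide) (by
      rw [← cyclotomic_expand_eq_cyclotomic (n := 2) Nat.prime_two dvd_rfl, cyclotomic_two]; simp))
    (ker_ne_bot hv hN c hc' (l := 13) (by norm_num) (by decide) (ho rfl (by norm_num) hs) (d := 12) (by decide) (by
      rw [← cyclotomic_expand_eq_cyclotomic (n := 6) Nat.prime_two (by decide), cyclotomic_six]; simp))
  have ht := pow_mem hv 3
  have hu := rho_pow hv 3
  generalize rho R (w ^ 25) ^ 3 = u at h6 hu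
  generalize (w ^ 25) ^ 3 = t at ht hu
  let B : (I → ℚ) →ₗ[ℚ] (I → ℚ) →ₗ[ℚ] ℚ := Matrix.toLinearMap₂' ℚ (Matrix.of fun i j => (R.A i j : ℚ))
  have hB : ∀ r s, B (io I (R.rt r)) (io I (R.rt s)) = R.pair r s := fun r s => by
    have : R.co r = R.rt r := funext fun i => by simpa [hl] using R.len_co r i
    simp [B, Matrix.toLinearMap₂'_apply, io, RootSys.pair, RootSys.pairV, RootSys.wt, this, Finset.mul_sum, mul_comm,
      mul_left_comm]
  have hS : ∀ r s, R.pair r s = R.pair s r := fun r s => by simpa [hl] using R.len_pair_symm r s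
  have hB' : B = B.flip := ext_rt fun i => ext_rt fun j => by rw [LinearMap.flip_apply, hB, hB, hS]
  have hu' : B.compl₁₂ u u = B := ext_rt fun i => ext_rt fun j => by
    rw [LinearMap.compl₁₂_apply, hu, hu, hB, hB, RootSys.W_pair ht]
  have hT : ∀ r, (u * u + 1) (io I (R.rt r)) = io I (R.rt (t (t r))) + io I (R.rt r) := fun r => by
    rw [LinearMap.add_apply, End.mul_apply, hu, hu, End.one_apply]
  obtain ⟨i, hi⟩ := not_forall.1 fun h => sq_add_one_ne (u := u) (by simp [hI]; decide) (ext_rt h)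
  generalize R.simple i = β at hi
  have h3 : t (t β) ≠ R.neg β := fun h => hi (by rw [hT, h, R.rt_neg, map_neg, neg_add_cancel, LinearMap.zero_apply])
  have key : ∀ r s, (R.pair (t (t r)) s + R.pair r s) ^ 2 = 4 * (R.pair (t r) r * R.pair (t s) s) := fun r s => by
    have := refl_sq B (fun x y => DFunLike.congr_fun (DFunLike.congr_fun hB' x) y)
      (fun x y => DFunLike.congr_fun (DFunLike.congr_fun hu' x) y) (by simp [hI]; omega) (b := io I (R.rt β)) (by
        simp only [hT, map_add, LinearMap.add_apply, hB, R.pair_self, hS (t (t β)) β]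
        norm_cast
        by_cases h : t (t β) = β
        · rw [h, R.pair_self]; decide
        · have := R.pair_mul_lt h h3
          rw [hS (t (t β)) β] at this
          intro h4
          rw [show R.pair β (t (t β)) = -2 by omega] at this
          omega) (io I (R.rt r)) (io I (R.rt s))
    rw [hT, hu, hu, map_add, LinearMap.add_apply, hB, hB, hB, hB] at this
    exact_mod_cast this
  have h4 : t (t β) = β := (h2 β _ fun j => by
    rw [add_comm, hS _ (t (t β)), hS _ β]
    have : Even ((R.pair (t (t β)) (R.simple j) + R.pair β (R.simple j)) ^ 2) := by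
      rw [key]; exact Even.mul_right (by decide) _
    exact (Int.even_pow.1 this).1).resolve_right h3
  obtain ⟨j, hj⟩ := h1 β
  have k1 := key β β
  have k2 := key β (R.simple j)
  rw [h4] at k1 k2
  rw [R.pair_self] at k1
  have k3 : Even (R.pair (t β) β) := (Int.even_pow.1 (⟨2, by linarith⟩ : Even (R.pair (t β) β ^ 2))).1
  rw [← Int.not_even_iff_odd, hS] at hj
  have k4 := k3.mul_right (R.pair (t (R.simple j)) (R.simple j))
  rw [show _ * _ = R.pair β (R.simple j) ^ 2 by linarith] at k4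
  exact hj (Int.even_pow.1 k4).1

end root

section mat

variable {D : ChevalleyDatum} {R : RootSys (Fin D.rank) (Fin D.nroots)} (hc : Compat D R) {η : ℕ → ℕ → ℤ} (hm : MatOK D η)

include hc hm

/-- The Frobenius map acts on the character of a semisimple element through an element of the Weyl group. -/
theorem frob_char {K : Type u} [Field K] [Finite K] (p : ℕ) [Fact p.Prime] [CharP K p] {z : D.group K}
    (hn : (orderOf z).Coprime p) : ∃ (A : Type u) (_ : AddCommGroup A) (c : (Fin D.rank → ℤ) →+ A), ∃ w ∈ R.W,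
      (∀ r, c (R.rt (w r)) = Nat.card K • c (R.rt r)) ∧ ∀ k : ℕ, (∀ r, k • c (R.rt r) = 0) ↔ z ^ k = 1 := by
  obtain ⟨L, _, _, j, -, a, ha⟩ := descend hc hm p hn (pow_orderOf_eq_one z) (m := 1) (Fact.out : p.Prime).not_dvd_one
  have := Fintype.ofFinite K
  obtain ⟨n, -, hq⟩ := FiniteField.card K p
  have : CharP L p := charP_of_injective_ringHom j.injective p
  have : ExpChar L p := .prime Fact.out
  have hS := hc.gst hm (F := L)
  have hF := hc.gsep hm (F := L)
  obtain ⟨χ, h1, h2⟩ := hS.exists_char ha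
  let σ := baseExt D (iterateFrobenius L p n)
  have h3 : σ (baseExt D j z) = baseExt D j z := by
    refine ((hc.adFam hm).map_map j (iterateFrobenius L p n) z).trans ?_
    rw [show (iterateFrobenius L p n).comp j = j from RingHom.ext fun x => by
      rw [RingHom.comp_apply, iterateFrobenius_def, ← map_pow, ← hq, FiniteField.pow_card]]
    rfl
  generalize hh : a⁻¹ * baseExt D j z * a = h at ha h2
  have h4 : ∀ s u, σ h * (hc.gsys hm L).x s u * (σ h)⁻¹ = (hc.gsys hm L).x s (χ (R.rt s) ^ Nat.card K * u) := fun s u => by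
    obtain ⟨u, rfl⟩ := (iterateFrobenius L p n).injective.surjective_of_finite (Equiv.refl _) u
    rw [← hc.baseExt_x hm, ← map_inv, ← map_mul, ← map_mul, h2, hc.baseExt_x hm, map_mul, iterateFrobenius_def,
      Nat.card_eq_fintype_card, hq]
  obtain ⟨m, -, w, hw, a3, a4⟩ := exists_fus hS (hc.gopp hm) (hc.gmult hm) (hc.ggen hm) (a⁻¹ * σ a)
  have h5 : a⁻¹ * σ a * σ h * (a⁻¹ * σ a)⁻¹ = h := by
    rw [← hh, map_mul, map_mul, h3, map_inv]; group
  have h6 := a4 _ (map_mem_H hc hm _ ha) (h5.symm ▸ ha)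
  refine ⟨Additive Lˣ, inferInstance, AddMonoidHom.mk' (fun v => Additive.ofMul (Units.mk0 _ (h1.ne_zero v)))
    fun v w => Units.ext (h1.map_add v w), w, hw, fun r => Units.ext (conj_char hF a3 h4 h2 (h5.symm.trans h6) r), fun k => ?_⟩
  have h7 : ∀ s u, h ^ k * (hc.gsys hm L).x s u * (h ^ k)⁻¹ = (hc.gsys hm L).x s (χ (R.rt s) ^ k * u) := fun s u => by
    induction k with
    | zero => simp
    | succ k ih => rw [pow_succ', mul_inv_rev, mul_assoc h, ← mul_assoc, mul_assoc h, ih, h2, pow_succ', mul_assoc]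
  have h8 : h ^ k = 1 ↔ z ^ k = 1 := by
    rw [← hh, ← orderOf_dvd_iff_pow_eq_one, ← orderOf_dvd_iff_pow_eq_one, ← orderOf_injective _ (baseExt_injective j) z,
      ← (MulAut.conj a⁻¹).orderOf_eq (baseExt D j z), MulAut.conj_apply, inv_inv]
  rw [← h8]
  refine ⟨fun H => ?_, fun H r => Units.ext ?_⟩
  · refine Subtype.ext (hc.eq_one_of_central hm (h ^ k).2 fun s u => ?_)
    have := h7 s u
    rw [show χ (R.rt s) ^ k = 1 from congrArg Units.val (H s), one_mul, mul_inv_eq_iff_eq_mul] at this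
    exact congrArg Subtype.val this
  · have := h7 r 1
    rw [H, one_mul, inv_one, mul_one, mul_one] at this
    exact (hF.x_inj this).symm

end mat

/-- The parities of the pairings of a root of `E₇` with the fundamental roots. -/
noncomputable def parE7 (r : ℕ) : ℕ := Nat.rec 0 (fun i ih => 2 * ih + (wtN chevE7 tabE7 r i % 2).toNat) 7

theorem chk_parE7 : allLt 126 (fun r => Nat.beq (lk tabE7.L r) 1 && !(Nat.beq (parE7 r) 0) &&
    allLt 126 fun s => !(Nat.beq (parE7 r) (parE7 s)) || Nat.beq s r || Nat.beq s (chevE7.neg r)) = true := by decide +kernel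

theorem orderOf_E7_ne {K : Type u} [Field K] [Finite K] (hK : Nat.card K = 2) (z : chevE7.group K) : orderOf z ≠ 65 := fun h => by
  have : CharP K 2 := by
    have := Fintype.ofFinite K
    exact charP_of_card_eq_prime (Nat.card_eq_fintype_card.symm.trans hK)
  obtain ⟨A, _, c, w, hw, h1, h2⟩ := frob_char compat_E7 matOK_E7 2 (z := z) (by rw [h]; decide)
  obtain ⟨r, hr⟩ := not_forall.1 fun H => absurd (h ▸ orderOf_dvd_of_pow_eq_one ((h2 13).1 H)) (by decide)
  obtain ⟨s, hs⟩ := not_forall.1 fun H => absurd (h ▸ orderOf_dvd_of_pow_eq_one ((h2 5).1 H)) (by decide)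
  have h3 : ∀ r : Fin chevE7.nroots, (lk tabE7.L r = 1 ∧ parE7 r ≠ 0) ∧
      ∀ s : Fin chevE7.nroots, (parE7 r ≠ parE7 s ∨ s.1 = r.1) ∨ s.1 = chevE7.neg r := fun r => by
    have := allLt_spec chk_parE7 r r.2
    simp only [Bool.and_eq_true, Bool.not_eq_true', ← Bool.not_eq_true, Nat.beq_eq] at this
    exact ⟨this.1, fun s => by simpa [← Bool.not_eq_true, or_assoc, imp_iff_not_or] using allLt_spec this.2 s s.2⟩
  have h4 : ∀ (i : Fin chevE7.rank) r, RE7.pair (RE7.simple i) r = wtN chevE7 tabE7 r i := fun i r => by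
    rw [RE7.pair_simple, RootOK.wtN_eq]; rfl
  have h5 : ∀ (f g : ℕ → ℤ) (n : ℕ), (∀ i < n, f i % 2 = g i % 2) →
      (Nat.rec 0 (fun i ih => 2 * ih + (f i % 2).toNat) n : ℕ) = Nat.rec 0 (fun i ih => 2 * ih + (g i % 2).toNat) n := by
    intro f g n H
    induction n with
    | zero => rfl
    | succ n ih => exact congrArg₂ (fun x y => 2 * x + Int.toNat y) (ih fun i hi => H i (by omega)) (H n (by omega))
  refine not_65 (R := RE7) (Fintype.card_fin _) (card_W_E7 compat_E7) (fun r => (h3 r).1.1) (fun r => ?_) (fun r s H => ?_) hw c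
    (hK ▸ h1) ((h2 65).2 (h ▸ pow_orderOf_eq_one z)) hr hs
  · by_contra H
    refine (h3 r).1.2 (h5 _ 0 7 fun i hi => ?_)
    have := Int.not_odd_iff_even.1 (not_exists.1 H ⟨i, hi⟩)
    rw [h4, Int.even_iff] at this
    exact this
  · refine ((h3 r).2 s).imp (fun h => Fin.ext (h.resolve_left fun h => h (h5 _ _ 7 fun i hi => ?_)))
      fun h => Fin.ext (h.trans (compat_E7.neg_eq r).symm)
    have := H ⟨i, hi⟩
    rw [h4, h4, Int.even_iff] at this
    simp only at this
    omega

end Cfsg.Lib.FrobW
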