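/-
Lower bounds for degrees of complex representations of groups with root subgroups: the abstract part.
-/
import Mathlib.RepresentationTheory.Character
import Mathlib.NumberTheory.LegendreSymbol.AddCharacter
import Cfsg.Agent.Lib.Chev.Eval

set_option autoImplicit false

namespace Cfsg.Lib.MinDeg

open Subgroup Module LinearMap Cfsg.Lib.Chev
open scoped commutatorElement

variable {G V : Type*} [Group G] [Finite G] [AddCommGroup V] [Module ℂ V] (ρ : G →* End ℂ V)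

/-- The stabilizer of a subspace. -/
def St (Y : Submodule ℂ V) : Subgroup G where
  carrier := {g | ∀ v ∈ Y, ρ g v ∈ Y}
  one_mem' := fun v hv => by simpa using hv
  mul_mem' := fun {a b} ha hb v hv => by rw [map_mul]; exact ha _ (hb v hv)
  inv_mem' := fun {a} ha v hv => by
    have h : ∀ n : ℕ, ρ (a ^ n) v ∈ Y := fun n => by
      induction n with
      | zero => simpa using hv
      | succ n ih => rw [pow_succ', map_mul]; exact ha _ ih
    obtain ⟨n, hn⟩ := (mem_powers_iff_mem_zpowers (x := a)).2 (inv_mem (mem_zpowers a))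
    exact hn ▸ h n

/-- The pointwise stabilizer of a subspace. -/
def Tr (Y : Submodule ℂ V) : Subgroup G where
  carrier := {g | ∀ v ∈ Y, ρ g v = v}
  one_mem' := fun v _ => by simp
  mul_mem' := fun {a b} ha hb v hv => by rw [map_mul, End.mul_apply, hb v hv, ha v hv]
  inv_mem' := fun {a} ha v hv => by
    conv_lhs => rw [← ha v hv, ← End.mul_apply, ← map_mul, inv_mul_cancel, map_one, End.one_apply]

theorem Tr_le_St (Y : Submodule ℂ V) : Tr ρ Y ≤ St ρ Y := fun _ hg v hv => (hg v hv).symm ▸ hv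

/-- The fixed vectors of a subgroup. -/
def fx (A : Subgroup G) : Submodule ℂ V where
  carrier := {v | ∀ g ∈ A, ρ g v = v}
  zero_mem' := fun _ _ => map_zero _
  add_mem' := fun {a b} ha hb g hg => by rw [map_add, ha g hg, hb g hg]
  smul_mem' := fun c v hv g hg => by rw [map_smul, hv g hg]

variable [FiniteDimensional ℂ V]

theorem heis0 (A : Subgroup G) (h : ∀ x ∈ A, x ≠ 1 → trace ℂ V (ρ x) = 0) :
    finrank ℂ V = Nat.card A * finrank ℂ (fx ρ A) := by
  classical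
  have := Fintype.ofFinite A
  have h2 := Representation.card_inv_mul_sum_char_eq_finrank (ρ.comp A.subtype)
  have e : Representation.invariants (ρ.comp A.subtype) = fx ρ A := by
    ext v; exact ⟨fun h g hg => h ⟨g, hg⟩, fun h g => h g g.2⟩
  rw [e, Finset.sum_eq_single (f := Representation.character (ρ.comp A.subtype)) (1 : A)
    (fun x _ hx => h x x.2 (by simpa using hx)) (by simp), Representation.char_one] at h2
  refine Nat.cast_injective (R := ℂ) ?_
  push_cast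
  rw [← h2, mul_inv_cancel_left₀ (by simp)]

theorem heis (Y : Submodule ℂ V) {A : Subgroup G} (hA : A ≤ St ρ Y)
    (h : ∀ x ∈ A, x ≠ 1 → ∃ y ∈ St ρ Y, ∃ ω : ℂ, ω ≠ 1 ∧ ∀ v ∈ Y, ρ ⁅y, x⁆ v = ω • v) :
    finrank ℂ Y = Nat.card A * finrank ℂ (Y ⊓ fx ρ A : Submodule ℂ V) := by
  let τ : St ρ Y →* End ℂ Y := ⟨⟨fun g => (ρ g).restrict g.2, by ext; simp⟩, fun a b => by ext; simp; rfl⟩
  have h1 := heis0 τ (A.subgroupOf (St ρ Y)) fun x hx h1 => by
    obtain ⟨y, hy, ω, h2, h3⟩ := h x hx (by simpa using h1)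
    have h4 : τ (⟨y, hy⟩ * x * ⟨y, hy⟩⁻¹) = ω • τ x := by
      ext v
      have := h3 _ (x.2 v v.2)
      rw [← End.mul_apply, ← map_mul, commutatorElement_def, inv_mul_cancel_right] at this
      exact this
    have h5 := congrArg (trace ℂ Y) h4
    rw [map_mul, trace_mul_comm, ← map_mul, inv_mul_cancel_left, map_smul, smul_eq_mul] at h5
    by_contra h6
    exact h2 (mul_right_cancel₀ h6 (h5.symm.trans (one_mul _).symm))
  rw [h1, Nat.card_congr (subgroupOfEquivOfLe hA).toEquiv, ← Submodule.finrank_map_subtype_eq]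
  refine congrArg (fun W : Submodule ℂ V => Nat.card A * finrank ℂ W) (Submodule.ext fun v => ?_)
  constructor
  · rintro ⟨w, hw, rfl⟩
    exact ⟨w.2, fun g hg => congrArg Subtype.val (hw ⟨g, hA hg⟩ hg)⟩
  · exact fun hv => ⟨⟨v, hv.1⟩, fun g hg => Subtype.ext (hv.2 g hg), rfl⟩

theorem line {Y : Submodule ℂ V} (hY : finrank ℂ Y = 1) {g k : G} (hg : g ∈ St ρ Y) (hk : k ∈ St ρ Y) : ⁅g, k⁆ ∈ Tr ρ Y := by
  obtain ⟨v0, -, h0⟩ := finrank_eq_one_iff'.1 hY
  have key : ∀ g ∈ St ρ Y, ∃ a : ℂ, ∀ v ∈ Y, ρ g v = a • v := fun g hg => by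
    obtain ⟨a, ha⟩ := h0 ⟨_, hg v0 v0.2⟩
    refine ⟨a, fun v hv => ?_⟩
    obtain ⟨b, hb⟩ := h0 ⟨v, hv⟩
    have h1 : a • v0.1 = ρ g v0 := congrArg Subtype.val ha
    have h2 : b • v0.1 = v := congrArg Subtype.val hb
    rw [← h2, map_smul, ← h1, smul_comm]
  obtain ⟨a, ha⟩ := key g hg
  obtain ⟨b, hb⟩ := key k hk
  intro v hv
  have hw := mul_mem (inv_mem hg) (inv_mem hk) v hv
  have e : ρ (k * g) (ρ (g⁻¹ * k⁻¹) v) = v := by rw [← End.mul_apply, ← map_mul]; simp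
  rw [commutatorElement_def, mul_assoc (g * k), map_mul, End.mul_apply, ← e, ← e.symm, map_mul, map_mul, End.mul_apply,
    End.mul_apply]
  conv_rhs => rw [← e, map_mul, End.mul_apply]
  rw [map_mul, End.mul_apply] at hw
  rw [map_mul, End.mul_apply, hb _ hw, ha _ hw, map_smul, map_smul, hb _ hw, ha _ hw, smul_comm]

variable {F : Type*} [Field F] [Fintype F] (ψ : AddChar F ℂ)

/-- Eigenspaces of a root subgroup. -/
def eg (z : F → G) (c : F) : Submodule ℂ V where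
  carrier := {v | ∀ t, ρ (z t) v = ψ (c * t) • v}
  zero_mem' := fun _ => by simp
  add_mem' := fun {a b} ha hb t => by rw [map_add, ha t, hb t, smul_add]
  smul_mem' := fun a v hv t => by rw [map_smul, hv t, smul_comm]

variable {ψ} (hψ : ψ.IsPrimitive)
include hψ

omit [Finite G] [FiniteDimensional ℂ V] in
theorem sum_psi [DecidableEq F] (b : F) : ∑ t, ψ (b * t) = if b = 0 then (Fintype.card F : ℂ) else 0 := by
  simpa [mul_comm b] using AddChar.sum_mulShift b hψ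

omit [Finite G] in
theorem sum_eg (z : F → G) (W : Submodule ℂ V) :
    ∑ c, finrank ℂ (eg ρ ψ z c ⊓ W : Submodule ℂ V) ≤ finrank ℂ W := by
  classical
  let f : (∀ c, (eg ρ ψ z c ⊓ W : Submodule ℂ V)) →ₗ[ℂ] W := ∑ c, Submodule.inclusion inf_le_right ∘ₗ proj c
  rw [← finrank_pi_fintype]
  refine finrank_le_finrank_of_injective (f := f) ((injective_iff_map_eq_zero _).2 fun y hy => funext fun c => Subtype.ext ?_)
  have h1 : ∑ e, (y e).1 = 0 := by simpa [f] using congrArg Subtype.val hy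
  have h2 : ∑ t, ψ (-c * t) • ρ (z t) (∑ e, (y e).1) = (Fintype.card F : ℂ) • (y c).1 := by
    have h3 : ∀ e t, ρ (z t) (y e).1 = ψ (e * t) • (y e).1 := fun e t => (y e).2.1 t
    simp only [map_sum, h3, Finset.smul_sum, smul_smul, ← AddChar.map_add_eq_mul, ← add_mul]
    rw [Finset.sum_comm]
    simp only [← Finset.sum_smul, sum_psi hψ, neg_add_eq_zero, ite_smul, zero_smul, Finset.sum_ite_eq, Finset.mem_univ, if_true]
  simp only [h1, map_zero, smul_zero, Finset.sum_const_zero] at h2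
  simpa using h2.symm

omit [Finite G] [FiniteDimensional ℂ V] in
theorem exists_eg {z : F → G} (hz : ∀ s t, z (s + t) = z s * z t) (h : ∀ c ≠ 0, eg ρ ψ z c = ⊥) (t : F) : ρ (z t) = 1 := by
  classical
  have h0 : z 0 = 1 := by simpa using hz 0 0
  have h1 : ∀ c v, ∑ s, ψ (-s * c) • ρ (z s) v ∈ eg ρ ψ z c := fun c v t => by
    simp only [map_sum, map_smul, ← End.mul_apply, ← map_mul, ← hz, Finset.smul_sum, smul_smul, ← AddChar.map_add_eq_mul]
    exact Fintype.sum_equiv (Equiv.addLeft t) _ _ fun s => by simp only [Equiv.coe_addLeft]; congr 2; ring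
  ext v
  have h2 : ∑ c, ∑ s, ψ (-s * c) • ρ (z s) v = (Fintype.card F : ℂ) • v := by
    rw [Finset.sum_comm]
    simp [← Finset.sum_smul, -neg_mul, sum_psi hψ, h0]
  rw [Finset.sum_eq_single 0 (fun c _ hc => by simpa [h c hc] using h1 c v) (by simp)] at h2
  have h3 := h1 0 v t
  rw [h2, map_smul, zero_mul, AddChar.map_zero_eq_one, one_smul] at h3
  exact smul_right_injective V (by simp) h3

omit [Finite G] in
theorem eg_trace {z : F → G} (hz : ∀ s t, z (s + t) = z s * z t) (h : ∀ s ≠ 0, IsConj (z 1) (z s)) :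
    (Fintype.card F : ℂ) * finrank ℂ (eg ρ ψ z 1) = finrank ℂ V - trace ℂ V (ρ (z 1)) := by
  classical
  have h0 : z 0 = 1 := by simpa using hz 0 0
  have hq : (Fintype.card F : ℂ) ≠ 0 := by simp
  have h1 : IsProj (eg ρ ψ z 1) ((Fintype.card F : ℂ)⁻¹ • ∑ s, ψ (-s) • ρ (z s)) := ⟨fun v => Submodule.smul_mem _ _ fun t => by
    simp only [LinearMap.sum_apply, LinearMap.smul_apply, map_sum, map_smul, ← End.mul_apply, ← map_mul, ← hz, Finset.smul_sum,
      smul_smul, ← AddChar.map_add_eq_mul]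
    exact Fintype.sum_equiv (Equiv.addLeft t) _ _ fun s => by simp only [Equiv.coe_addLeft]; congr 2; ring, fun v hv => by
    have hv' : ∀ t, ρ (z t) v = ψ (1 * t) • v := hv
    simp [LinearMap.sum_apply, hv', smul_smul, ← AddChar.map_add_eq_mul, ← Nat.cast_smul_eq_nsmul ℂ]⟩
  have h2 : ∀ s ≠ 0, trace ℂ V (ρ (z s)) = trace ℂ V (ρ (z 1)) := fun s hs => by
    obtain ⟨c, hc⟩ := isConj_iff.1 (h s hs)
    rw [← hc, map_mul, trace_mul_comm, ← map_mul, inv_mul_cancel_left]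
  have h3 := sum_psi hψ (-1)
  rw [← h1.trace, map_smul, smul_eq_mul, mul_inv_cancel_left₀ hq, map_sum, ← Finset.sum_erase_add _ _ (Finset.mem_univ 0),
    Finset.sum_congr rfl fun s hs => by rw [map_smul, h2 s (Finset.ne_of_mem_erase hs), smul_eq_mul], ← Finset.sum_mul]
  rw [← Finset.sum_erase_add _ _ (Finset.mem_univ 0)] at h3
  simp only [neg_mul, one_mul, neg_zero, AddChar.map_zero_eq_one, neg_eq_zero, one_ne_zero, if_false] at h3
  simp only [h0, neg_zero, AddChar.map_zero_eq_one, map_one, one_smul, trace_one]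
  linear_combination trace ℂ V (ρ (z 1)) * h3

omit hψ [Finite G] [Fintype F] in
theorem eg_conj {z z' : F → G} {c : F} {g : G} (h : ∀ t, g * z t * g⁻¹ = z' (c * t)) (hc : c ≠ 0) :
    finrank ℂ (eg ρ ψ z c) = finrank ℂ (eg ρ ψ z' 1) := by
  have hi : ∀ g, Function.Injective (ρ g) := fun g => Function.LeftInverse.injective (g := ρ g⁻¹) fun v => by
    rw [← End.mul_apply, ← map_mul]; simp
  refine le_antisymm (finrank_le_finrank_of_injective (f := (ρ g).restrict fun v hv t => ?_) fun a b e =>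
    Subtype.ext (hi g (congrArg Subtype.val e))) (finrank_le_finrank_of_injective (f := (ρ g⁻¹).restrict fun v hv t => ?_) fun a b e =>
    Subtype.ext (hi g⁻¹ (congrArg Subtype.val e)))
  · obtain ⟨t, rfl⟩ := mul_left_surjective₀ hc t
    simp only [← h, ← End.mul_apply, ← map_mul, inv_mul_cancel_right, one_mul]
    rw [map_mul, End.mul_apply, hv, map_smul]
  · have := hv (c * t)
    rw [← h, one_mul] at this
    rw [← map_smul, ← this, ← End.mul_apply, ← End.mul_apply, ← map_mul, ← map_mul]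
    congr 2; group

omit hψ

/-- Decision procedures for relations between root subgroups. -/
structure Orc where
  cmk : ℕ → ℕ → ℕ → Bool
  sur : ℕ → ℕ → ℕ → Bool
  hei : ℕ → ℕ → ℕ → Bool
  cj : ℕ → ℕ → ℕ → Bool
  lg : ℕ → Bool
  w : ℕ → ℕ

/-- All members of a list. -/
noncomputable def allL (l : List ℕ) (f : ℕ → Bool) : Bool := List.rec true (fun a _ ih => Bool.rec false ih (f a)) l

theorem allL_spec {l : List ℕ} {f : ℕ → Bool} (h : allL l f = true) : ∀ a ∈ l, f a = true := by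
  induction l with
  | nil => simp
  | cons a l ih =>
    have h' : (Bool.rec false (allL l f) (f a) : Bool) = true := h
    cases e : f a <;> rw [e] at h'
    · cases h'
    · exact List.forall_mem_cons.2 ⟨e, ih h'⟩

/-- Insert into a bit set. -/
def ins (T a : ℕ) : ℕ := Nat.lor T (Nat.pow 2 a)

theorem bt_ins {T a s : ℕ} (h : bt (ins T a) s = true) : bt T s = true ∨ s = a := by
  rw [bt_eq] at h ⊢
  have : (T ||| 2 ^ a).testBit s = true := h
  rw [Nat.testBit_or, Nat.testBit_two_pow, Bool.or_eq_true, decide_eq_true_eq] at this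
  exact this.imp_right Eq.symm

/-- The bit set of a list. -/
noncomputable def msk (l : List ℕ) : ℕ := List.rec 0 (fun a _ T => ins T a) l

theorem mem_of_msk {l : List ℕ} {s : ℕ} (h : bt (msk l) s = true) : s ∈ l := by
  induction l with
  | nil => simp [msk, bt_eq] at h
  | cons a l ih => exact (bt_ins h).elim (fun h => List.mem_cons_of_mem _ (ih h)) fun h => h ▸ List.mem_cons_self

/-- Add the first components. -/
noncomputable def ext (L : List (ℕ × ℕ)) : List ℕ → List ℕ := List.rec (fun l => l) (fun p _ ih l => ih (p.1 :: l)) L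

namespace Orc

variable (O : Orc)

/-- `δ` preserves the space. -/
noncomputable def pres (β : ℕ) (l : List ℕ) (T δ : ℕ) : Bool := O.cmk β δ T && allL l fun γ => O.cmk γ δ T

/-- A chain of Heisenberg pairs. -/
noncomputable def chain (β : ℕ) (L : List (ℕ × ℕ)) : List ℕ → ℕ → Bool :=
  List.rec (fun _ _ => true) (fun p _ ih l T => O.hei p.1 p.2 β && O.pres β l T p.1 && O.pres β l T p.2 &&
    ih (p.1 :: l) (ins T p.1)) L

/-- The weight of a chain. -/
noncomputable def wt (L : List (ℕ × ℕ)) : ℕ := List.rec 0 (fun p _ ih => Nat.add (O.w p.1) ih) L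

/-- Deductions for a line. -/
noncomputable def steps (β : ℕ) (J : List ℕ) (fin : ℕ → Bool) (L : List (ℕ × ℕ × ℕ)) : ℕ → ℕ → Bool :=
  List.rec (fun T _ => fin T) (fun p _ ih T S => Bool.rec
    (bt S p.2.1 && bt S p.2.2 && O.sur p.2.1 p.2.2 p.1 && ih (ins T p.1) (ins S p.1))
    (O.pres β J T p.1 && ih T (ins S p.1)) (Nat.beq p.2.1 p.2.2)) L

/-- Certificates. -/
abbrev Cert := List (ℕ × ℕ) × List (ℕ × ℕ) × List (ℕ × ℕ × ℕ) × List ℕ

/-- The check for one root. -/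
noncomputable def one (N β e : ℕ) (l : List ℕ) (C : Cert) : Bool :=
  O.lg β && O.chain β (C.2.1 ++ C.1) [] 0 && Nat.beq (O.wt (C.2.1 ++ C.1)) N &&
    O.steps β (ext (C.2.1 ++ C.1) []) (fun T => allL (ext C.2.1 (C.2.2.2 ++ l)) (bt T)) C.2.2.1
      (msk (ext (C.2.1 ++ C.1) [])) (msk (ext (C.2.1 ++ C.1) [])) &&
    O.chain β C.2.1 (C.2.2.2 ++ l) (msk (C.2.2.2 ++ l)) && Nat.beq (O.wt C.2.1) e

/-- The check for a list of roots. -/
noncomputable def all (N : ℕ) (B : List (ℕ × ℕ × Cert)) : List ℕ → Bool :=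
  List.rec (fun _ => true) (fun p _ ih l => O.one N p.1 p.2.1 l p.2.2 && ih (p.1 :: l)) B

theorem all_append (N : ℕ) (B B' : List (ℕ × ℕ × Cert)) {l l' : List ℕ} (h : O.all N B l = true)
    (e : (B.map Prod.fst).reverse ++ l = l') (h' : O.all N B' l' = true) : O.all N (B ++ B') l = true := by
  induction B generalizing l with
  | nil => subst e; exact h'
  | cons p B ih =>
    have h1 : (O.one N p.1 p.2.1 l p.2.2 && O.all N B (p.1 :: l)) = true := h
    rw [Bool.and_eq_true] at h1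
    exact (Bool.and_eq_true _ _).mpr ⟨h1.1, ih h1.2 (by simpa using e)⟩

/-- All long roots are connected with `β0`. -/
noncomputable def conn (n β0 U U' : ℕ) : Bool :=
  allLt n fun β => !O.lg β || Nat.beq β β0 || (Nat.blt β (lk U' β) && O.lg (lk U' β) && O.cj (lk U β) β (lk U' β))

end Orc

/-- Root subgroups satisfying the relations given by an oracle. -/
structure RG (O : Orc) (n : ℕ) (F G : Type*) [Field F] [Fintype F] [Group G] where
  R : ℕ → Subgroup G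
  z : ℕ → F → G
  lt : ∀ β, O.lg β = true → β < n
  z_add : ∀ β, O.lg β = true → ∀ s t, z β (s + t) = z β s * z β t
  z_mem : ∀ β, O.lg β = true → ∀ t, z β t ∈ R β
  cmk : ∀ a b T, O.cmk a b T = true → ∀ X : Subgroup G, (∀ s, bt T s = true → R s ≤ X) → ∀ x ∈ R a, ∀ y ∈ R b, ⁅x, y⁆ ∈ X
  sur : ∀ a b c, O.sur a b c = true → ∀ g ∈ R c, ∃ x ∈ R a, ∃ y ∈ R b, ⁅x, y⁆ = g
  hei : ∀ a b β, O.hei a b β = true → Nat.card (R a) = Fintype.card F ^ O.w a ∧
    ∀ x ∈ R a, x ≠ 1 → ∀ c, ∃ y ∈ R b, ⁅y, x⁆ = z β c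
  cj : ∀ a b c, O.cj a b c = true → ∀ e ≠ 0, ∃ g, ∀ t, g * z b t * g⁻¹ = z c (e * t)

namespace RG

variable {O : Orc} {n : ℕ} (D : RG O n F G)

local notation "𝔮" => Fintype.card F

/-- Vectors fixed by the root subgroups of a list. -/
def fl (l : List ℕ) : Submodule ℂ V := ⨅ s ∈ l, fx ρ (D.R s)

variable (ψ) in
/-- The basic subspaces. -/
def Y (β : ℕ) (c : F) (l : List ℕ) : Submodule ℂ V := eg ρ ψ (D.z β) c ⊓ D.fl ρ l

omit [Finite G] [FiniteDimensional ℂ V] in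
theorem mem_fl {l : List ℕ} {v : V} : v ∈ D.fl ρ l ↔ ∀ s ∈ l, ∀ g ∈ D.R s, ρ g v = v := by
  simp only [fl, Submodule.mem_iInf]; rfl

omit [FiniteDimensional ℂ V] in
theorem le_Tr {β : ℕ} {c : F} {l : List ℕ} {s : ℕ} (h : s ∈ l) : D.R s ≤ Tr ρ (D.Y ρ ψ β c l) :=
  fun g hg _ hv => (D.mem_fl ρ).1 hv.2 s h g hg

omit [FiniteDimensional ℂ V] in
theorem pres_spec {β : ℕ} (hβ : O.lg β = true) {c : F} {l : List ℕ} {T δ : ℕ}
    (hT : ∀ s, bt T s = true → D.R s ≤ Tr ρ (D.Y ρ ψ β c l)) (h : O.pres β l T δ = true) : D.R δ ≤ St ρ (D.Y ρ ψ β c l) := by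
  rw [Orc.pres, Bool.and_eq_true] at h
  intro y hy v hv
  have key : ∀ γ, O.cmk γ δ T = true → ∀ x ∈ D.R γ, ρ x (ρ y v) = ρ y (ρ x v) := fun γ h x hx => by
    have := D.cmk _ _ _ h _ hT _ (inv_mem hx) _ (inv_mem hy) v hv
    conv_rhs => rw [← this]
    simp only [← End.mul_apply, ← map_mul, commutatorElement_def]
    congr 2; group
  exact ⟨fun t => by rw [key β h.1 _ (D.z_mem β hβ t), hv.1 t, map_smul], (D.mem_fl ρ).2 fun s hs g hg => by
    rw [key s (allL_spec h.2 s hs) g hg, (D.mem_fl ρ).1 hv.2 s hs g hg]⟩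

include hψ in
theorem chain_spec {β : ℕ} (hβ : O.lg β = true) {c : F} (hc : c ≠ 0) {L : List (ℕ × ℕ)} {l : List ℕ} {T : ℕ}
    (hT : ∀ s, bt T s = true → s ∈ l) (h : O.chain β L l T = true) :
    finrank ℂ (D.Y ρ ψ β c l) = 𝔮 ^ O.wt L * finrank ℂ (D.Y ρ ψ β c (ext L l)) := by
  induction L generalizing l T with
  | nil => exact (one_mul _).symm
  | cons p L ih =>
    have h1 : (O.hei p.1 p.2 β && O.pres β l T p.1 && O.pres β l T p.2 && O.chain β L (p.1 :: l) (ins T p.1)) = true := h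
    simp only [Bool.and_eq_true] at h1
    obtain ⟨⟨⟨h1, h2⟩, h3⟩, h4⟩ := h1
    have hT' := fun s hs => D.le_Tr ρ (ψ := ψ) (β := β) (c := c) (hT s hs)
    obtain ⟨a1, a2⟩ := D.hei _ _ _ h1
    obtain ⟨w, hw⟩ : ∃ w, ψ (c * w) ≠ 1 := by
      by_contra! e
      exact hψ hc (AddChar.ext _ _ fun x => by simpa using e x)
    have h5 := heis ρ _ (D.pres_spec ρ hβ hT' h2) fun x hx h1 => by
      obtain ⟨y, hy, e⟩ := a2 x hx h1 w
      exact ⟨y, D.pres_spec ρ hβ hT' h3 hy, _, hw, fun v hv => e ▸ hv.1 w⟩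
    have h6 : D.Y ρ ψ β c l ⊓ fx ρ (D.R p.1) = D.Y ρ ψ β c (p.1 :: l) := by
      simp only [Y, fl, List.mem_cons, iInf_or, iInf_inf_eq, iInf_iInf_eq_left, inf_assoc, inf_comm (fx ρ _)]
    rw [h5, h6, a1, ih (fun s hs => (bt_ins hs).elim (fun h => List.mem_cons_of_mem _ (hT s h)) fun h => h ▸ List.mem_cons_self) h4,
      ← mul_assoc, ← pow_add]
    rfl

theorem steps_spec {β : ℕ} (hβ : O.lg β = true) {c : F} {J : List ℕ} (hY : finrank ℂ (D.Y ρ ψ β c J) = 1) {fin : ℕ → Bool}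
    {L : List (ℕ × ℕ × ℕ)} {T S : ℕ} (hT : ∀ s, bt T s = true → D.R s ≤ Tr ρ (D.Y ρ ψ β c J))
    (hS : ∀ s, bt S s = true → D.R s ≤ St ρ (D.Y ρ ψ β c J)) (h : O.steps β J fin L T S = true) :
    ∃ T', (∀ s, bt T' s = true → D.R s ≤ Tr ρ (D.Y ρ ψ β c J)) ∧ fin T' = true := by
  induction L generalizing T S with
  | nil => exact ⟨T, hT, h⟩
  | cons p L ih =>
    have h1 : (Bool.rec (bt S p.2.1 && bt S p.2.2 && O.sur p.2.1 p.2.2 p.1 && O.steps β J fin L (ins T p.1) (ins S p.1))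
      (O.pres β J T p.1 && O.steps β J fin L T (ins S p.1)) (Nat.beq p.2.1 p.2.2) : Bool) = true := h
    cases e : Nat.beq p.2.1 p.2.2 <;> rw [e] at h1 <;> simp only [Bool.and_eq_true] at h1
    · have h2 : D.R p.1 ≤ Tr ρ (D.Y ρ ψ β c J) := fun g hg => by
        obtain ⟨x, hx, y, hy, rfl⟩ := D.sur _ _ _ h1.1.2 g hg
        exact line ρ hY (hS _ h1.1.1.1 hx) (hS _ h1.1.1.2 hy)
      exact ih (fun s hs => (bt_ins hs).elim (hT s) fun h => h ▸ h2)
        (fun s hs => (bt_ins hs).elim (hS s) fun h => h ▸ h2.trans (Tr_le_St ρ _)) h1.2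
    · exact ih hT (fun s hs => (bt_ins hs).elim (hS s) fun h => h ▸ D.pres_spec ρ hβ hT h1.1) h1.2

omit [Finite G] [FiniteDimensional ℂ V] in
theorem Y_nil (β : ℕ) (c : F) : D.Y ρ ψ β c [] = eg ρ ψ (D.z β) c := by simp [Y, fl]

include hψ in
theorem one_spec {N β e : ℕ} {l : List ℕ} {C : Orc.Cert} (h : O.one N β e l C = true) {c : F} (hc : c ≠ 0) :
    O.lg β = true ∧ ∃ a, finrank ℂ (eg ρ ψ (D.z β) c) = 𝔮 ^ N * a ∧ (a = 1 → 𝔮 ^ e ≤ finrank ℂ (D.Y ρ ψ β c l)) := by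
  simp only [Orc.one, Bool.and_eq_true, Nat.beq_eq] at h
  obtain ⟨⟨⟨⟨⟨h1, h2⟩, rfl⟩, h4⟩, h5⟩, rfl⟩ := h
  refine ⟨h1, _, D.Y_nil ρ β c ▸ D.chain_spec ρ hψ h1 hc (by simp [bt_eq]) h2, fun ha => ?_⟩
  obtain ⟨T, a1, a2⟩ := D.steps_spec ρ h1 ha (fun s hs => D.le_Tr ρ (mem_of_msk hs))
    (fun s hs => (D.le_Tr ρ (mem_of_msk hs)).trans (Tr_le_St ρ _)) h4
  have h6 := Submodule.finrank_mono (show D.Y ρ ψ β c _ ≤ D.Y ρ ψ β c (ext C.2.1 (C.2.2.2 ++ l)) from
    fun v hv => ⟨hv.1, (D.mem_fl ρ).2 fun s hs g hg => a1 s (allL_spec a2 s hs) hg v hv⟩)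
  have h7 := Submodule.finrank_mono (show D.Y ρ ψ β c (C.2.2.2 ++ l) ≤ D.Y ρ ψ β c l from
    fun v hv => ⟨hv.1, (D.mem_fl ρ).2 fun s hs => (D.mem_fl ρ).1 hv.2 s (List.mem_append_right _ hs)⟩)
  rw [D.chain_spec ρ hψ h1 hc (fun _ => mem_of_msk) h5] at h7
  exact le_trans (Nat.le_mul_of_pos_right _ (by omega)) h7

include hψ in
omit [Finite G] in
theorem filt {β : ℕ} (hβ : O.lg β = true) {l : List ℕ} {m : ℕ} (h : ∀ c ≠ 0, m ≤ finrank ℂ (D.Y ρ ψ β c l)) :
    (𝔮 - 1) * m + finrank ℂ (D.fl ρ (β :: l)) ≤ finrank ℂ (D.fl ρ l) := by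
  classical
  refine le_trans ?_ (sum_eg ρ hψ (D.z β) (D.fl ρ l))
  rw [← Finset.sum_erase_add _ _ (Finset.mem_univ 0)]
  refine add_le_add ?_ (Submodule.finrank_mono fun v hv => ⟨fun t => ?_, (D.mem_fl ρ).2 fun s hs =>
    (D.mem_fl ρ).1 hv s (List.mem_cons_of_mem _ hs)⟩)
  · have := Finset.card_nsmul_le_sum (Finset.univ.erase 0) _ m fun c hc => h c (Finset.ne_of_mem_erase hc)
    rwa [Finset.card_erase_of_mem (Finset.mem_univ _), Finset.card_univ] at this
  · simpa using (D.mem_fl ρ).1 hv β List.mem_cons_self _ (D.z_mem β hβ t)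

include hψ in
theorem all_spec {N : ℕ} (hN : ∀ β, O.lg β = true → ∀ c ≠ 0, finrank ℂ (eg ρ ψ (D.z β) c) = 𝔮 ^ N)
    {B : List (ℕ × ℕ × Orc.Cert)} {l : List ℕ} (h : O.all N B l = true) :
    (𝔮 - 1) * ((B.map fun p => p.2.1).map fun e => 𝔮 ^ e).sum ≤ finrank ℂ (D.fl ρ l) := by
  induction B generalizing l with
  | nil => simp
  | cons p B ih =>
    have h1 : (O.one N p.1 p.2.1 l p.2.2 && O.all N B (p.1 :: l)) = true := h
    rw [Bool.and_eq_true] at h1
    have h2 := ih h1.2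
    have h3 := (D.one_spec ρ hψ h1.1 one_ne_zero).1
    have h4 := D.filt ρ hψ h3 (m := 𝔮 ^ p.2.1) (l := l) fun c hc => by
      obtain ⟨-, a, a1, a2⟩ := D.one_spec ρ hψ h1.1 hc
      rw [hN _ h3 c hc] at a1
      exact a2 (by simpa using a1.symm)
    simp only [List.map_cons, List.sum_cons, mul_add]
    omega

omit [Finite G] in
theorem conj_of_conn {β0 β1 a U U' : ℕ} (h : O.conn n β0 U U' = true) (h1 : O.cj a β1 β0 = true) (β : ℕ) (hβ : O.lg β = true)
    (e : F) (he : e ≠ 0) : ∃ g, ∀ t, g * D.z β t * g⁻¹ = D.z β0 (e * t) := by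
  induction hm : n - β using Nat.strong_induction_on generalizing β e with
  | _ m ih =>
  have h2 := allLt_spec h β (D.lt β hβ)
  simp only [hβ, Bool.not_true, Bool.false_or, Bool.or_eq_true, Bool.and_eq_true, Nat.beq_eq, Nat.blt_eq] at h2
  rcases h2 with rfl | ⟨⟨h2, h3⟩, h4⟩
  · obtain ⟨g, hg⟩ := D.cj _ _ _ h1 e he
    obtain ⟨k, hk⟩ := D.cj _ _ _ h1 1 one_ne_zero
    exact ⟨g * k⁻¹, fun t => by rw [← hg, ← one_mul t, ← hk, one_mul]; group⟩
  · obtain ⟨g, hg⟩ := ih _ (by have := D.lt _ h3; omega) _ h3 e he rfl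
    obtain ⟨k, hk⟩ := D.cj _ _ _ h4 1 one_ne_zero
    exact ⟨g * k, fun t => by rw [← hg, ← one_mul t, ← hk, one_mul]; group⟩

theorem main {β0 β1 a δ U U' N e : ℕ} {C : Orc.Cert} {B : List (ℕ × ℕ × Orc.Cert)} (h : O.conn n β0 U U' = true)
    (h1 : O.cj a β1 β0 = true) (h2 : O.all (N + 1) ((β0, e, C) :: B) [] = true) (h3 : O.lg β1 = true)
    (h4 : O.chain β1 [(β0, δ)] [] 0 = true) (h5 : O.w β0 = 1) (hρ : ρ (D.z β0 1) ≠ 1) :
    ((𝔮 - 1) * ((((β0, e, C) :: B).map fun p => p.2.1).map fun e => 𝔮 ^ e).sum ≤ finrank ℂ V ∧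
      (finrank ℂ V : ℂ) - trace ℂ V (ρ (D.z β0 1)) = 𝔮 ^ (N + 2)) ∨
      (𝔮 - 1) * (2 * 𝔮 ^ (N + 1)) + (𝔮 - 1) * (2 * 𝔮 ^ N) ≤ finrank ℂ V := by
  have hψ := AddChar.FiniteField.primitiveChar_to_Complex_isPrimitive F
  generalize AddChar.FiniteField.primitiveChar_to_Complex F = ψ at hψ
  have k1 : ∀ β, O.lg β = true → ∀ c ≠ 0, finrank ℂ (eg ρ ψ (D.z β) c) = finrank ℂ (eg ρ ψ (D.z β0) 1) := fun β hβ c hc =>
    let ⟨_, hg⟩ := D.conj_of_conn h h1 β hβ c hc; eg_conj ρ hg hc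
  have k2 : (O.one (N + 1) β0 e [] C && O.all (N + 1) B [β0]) = true := h2
  rw [Bool.and_eq_true] at k2
  obtain ⟨k3, m, k4, -⟩ := D.one_spec ρ hψ k2.1 one_ne_zero
  have k5 : D.fl ρ [] = ⊤ := by simp [fl]
  obtain rfl | rfl | hm : m = 0 ∨ m = 1 ∨ 2 ≤ m := by omega
  · exact absurd (exists_eg ρ hψ (D.z_add _ k3) (fun c hc => Submodule.finrank_eq_zero.1 (by rw [k1 _ k3 c hc, k4, mul_zero])) 1) hρ
  · rw [mul_one] at k4
    have k6 := D.all_spec ρ hψ (fun β hβ c hc => (k1 β hβ c hc).trans k4) h2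
    rw [k5, finrank_top] at k6
    refine Or.inl ⟨k6, ?_⟩
    rw [← eg_trace ρ hψ (D.z_add _ k3) fun s hs => let ⟨g, hg⟩ := D.conj_of_conn h h1 β0 k3 s hs
      isConj_iff.2 ⟨g, by rw [hg, mul_one]⟩, k4]
    push_cast; ring
  · have a1 := D.filt ρ hψ k3 (l := []) (m := 2 * 𝔮 ^ (N + 1)) fun c hc => by
      rw [D.Y_nil, k1 _ k3 c hc, k4, mul_comm]; exact Nat.mul_le_mul_left _ hm
    have a2 := D.filt ρ hψ h3 (l := [β0]) (m := 2 * 𝔮 ^ N) fun c hc => by
      have := D.chain_spec ρ hψ h3 hc (by simp [bt_eq]) h4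
      rw [D.Y_nil, k1 _ h3 c hc, k4, show O.wt [(β0, δ)] = 1 from h5, pow_one, pow_succ', mul_assoc,
        Nat.mul_right_inj Fintype.card_ne_zero] at this
      rw [mul_comm]; exact (Nat.mul_le_mul_left _ hm).trans this.le
    rw [k5, finrank_top] at a1
    omega

end RG

end Cfsg.Lib.MinDeg
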