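/-
Lower bounds for degrees of complex representations of G₂(q): joint eigenspaces of root subgroups.
-/
import Cfsg.Agent.Lib.Exc.MinDeg

set_option autoImplicit false

namespace Cfsg.Lib.G2Deg

open Subgroup Module LinearMap Cfsg.Lib.MinDeg
open scoped commutatorElement

/-- Cartan integers. -/
def pr (r s : ℕ) : ℤ := (([[2, 1, 1, 1, 0, 1, -1, 0, -1, -1, -1, -2], [1, 2, 1, 0, 1, -1, 1, -1, 0, -1, -2, -1],
  [3, 3, 2, 1, 1, 0, 0, -1, -1, -2, -3, -3], [3, 0, 1, 2, -1, 3, -3, 1, -2, -1, 0, -3],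
  [0, 3, 1, -1, 2, -3, 3, -2, 1, -1, -3, 0], [1, -1, 0, 1, -1, 2, -2, 1, -1, 0, 1, -1],
  [-1, 1, 0, -1, 1, -2, 2, -1, 1, 0, -1, 1], [0, -3, -1, 1, -2, 3, -3, 2, -1, 1, 3, 0],
  [-3, 0, -1, -2, 1, -3, 3, -1, 2, 1, 0, 3], [-3, -3, -2, -1, -1, 0, 0, 1, 1, 2, 3, 3],
  [-1, -2, -1, 0, -1, 1, -1, 1, 0, 1, 2, 1], [-2, -1, -1, -1, 0, -1, 1, 0, 1, 1, 1, 2]] : List (List ℤ)).getD r []).getD s 0

/-- Reflections. -/
def rf (r s : ℕ) : ℕ := (([[11, 6, 8, 9, 4, 10, 1, 7, 2, 3, 5, 0], [5, 10, 7, 3, 9, 0, 11, 2, 8, 4, 1, 6],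
  [10, 11, 9, 7, 8, 5, 6, 3, 4, 2, 0, 1], [6, 1, 4, 8, 2, 11, 0, 9, 3, 7, 10, 5], [0, 5, 3, 2, 7, 1, 10, 4, 9, 8, 6, 11],
  [1, 0, 2, 4, 3, 6, 5, 8, 7, 9, 11, 10], [1, 0, 2, 4, 3, 6, 5, 8, 7, 9, 11, 10], [0, 5, 3, 2, 7, 1, 10, 4, 9, 8, 6, 11],
  [6, 1, 4, 8, 2, 11, 0, 9, 3, 7, 10, 5], [10, 11, 9, 7, 8, 5, 6, 3, 4, 2, 0, 1], [5, 10, 7, 3, 9, 0, 11, 2, 8, 4, 1, 6],
  [11, 6, 8, 9, 4, 10, 1, 7, 2, 3, 5, 0]] : List (List ℕ)).getD r []).getD s s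

/-- The terms of the commutator formula. -/
def ct : ℕ → ℕ → List (ℕ × ℤ × ℕ × ℕ)
  | 0, 6 => [(1, 1, 1, 1)]
  | 0, 8 => [(2, 1, 1, 1), (4, 1, 1, 2), (6, -1, 1, 3), (1, -2, 2, 3)]
  | 0, 9 => [(3, -1, 1, 1), (7, -1, 1, 2), (10, -1, 1, 3), (5, 2, 2, 3)]
  | 0, 10 => [(5, -1, 1, 1)]
  | 1, 5 => [(0, 1, 1, 1)]
  | 1, 7 => [(2, 1, 1, 1), (3, -1, 1, 2), (5, 1, 1, 3), (0, 2, 2, 3)]
  | 1, 9 => [(4, -1, 1, 1), (8, 1, 1, 2), (11, 1, 1, 3), (6, -2, 2, 3)]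
  | 1, 11 => [(6, -1, 1, 1)]
  | 2, 3 => [(0, 3, 1, 1)]
  | 2, 4 => [(1, 3, 1, 1)]
  | 2, 7 => [(3, -2, 1, 1), (0, -3, 2, 1), (5, 3, 1, 2)]
  | 2, 8 => [(4, 2, 1, 1), (1, 3, 2, 1), (6, -3, 1, 2)]
  | 2, 10 => [(7, -1, 1, 1), (3, 1, 2, 1), (0, 1, 3, 1), (5, 1, 3, 2)]
  | 2, 11 => [(8, -1, 1, 1), (4, -1, 2, 1), (1, -1, 3, 1), (6, -1, 3, 2)]
  | 3, 2 => [(0, -3, 1, 1)]
  | 3, 4 => [(2, -2, 1, 1), (0, 3, 2, 1), (1, -3, 1, 2)]
  | 3, 6 => [(4, 1, 1, 1), (2, -1, 2, 1), (0, 1, 3, 1), (1, -1, 3, 2)]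
  | 3, 7 => [(5, -3, 1, 1)]
  | 3, 9 => [(7, 2, 1, 1), (5, -3, 2, 1), (10, 3, 1, 2)]
  | 3, 11 => [(9, 1, 1, 1), (7, 1, 2, 1), (5, -1, 3, 1), (10, 1, 3, 2)]
  | 4, 2 => [(1, -3, 1, 1)]
  | 4, 3 => [(2, 2, 1, 1), (1, -3, 2, 1), (0, 3, 1, 2)]
  | 4, 5 => [(3, 1, 1, 1), (2, 1, 2, 1), (1, -1, 3, 1), (0, 1, 3, 2)]
  | 4, 8 => [(6, -3, 1, 1)]
  | 4, 9 => [(8, -2, 1, 1), (6, 3, 2, 1), (11, -3, 1, 2)]
  | 4, 10 => [(9, 1, 1, 1), (8, -1, 2, 1), (6, 1, 3, 1), (11, -1, 3, 2)]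
  | 5, 1 => [(0, -1, 1, 1)]
  | 5, 4 => [(3, -1, 1, 1), (2, 1, 1, 2), (1, 1, 1, 3), (0, -2, 2, 3)]
  | 5, 8 => [(7, 1, 1, 1), (9, -1, 1, 2), (11, 1, 1, 3), (10, 2, 2, 3)]
  | 5, 11 => [(10, 1, 1, 1)]
  | 6, 0 => [(1, -1, 1, 1)]
  | 6, 3 => [(4, -1, 1, 1), (2, -1, 1, 2), (0, -1, 1, 3), (1, 2, 2, 3)]
  | 6, 7 => [(8, 1, 1, 1), (9, 1, 1, 2), (10, -1, 1, 3), (11, -2, 2, 3)]
  | 6, 10 => [(11, 1, 1, 1)]
  | 7, 1 => [(2, -1, 1, 1), (3, -1, 2, 1), (5, -1, 3, 1), (0, -1, 3, 2)]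
  | 7, 2 => [(3, 2, 1, 1), (5, 3, 2, 1), (0, -3, 1, 2)]
  | 7, 3 => [(5, 3, 1, 1)]
  | 7, 6 => [(8, -1, 1, 1), (9, 1, 2, 1), (10, 1, 3, 1), (11, 1, 3, 2)]
  | 7, 8 => [(9, -2, 1, 1), (10, -3, 2, 1), (11, 3, 1, 2)]
  | 7, 9 => [(10, 3, 1, 1)]
  | 8, 0 => [(2, -1, 1, 1), (4, 1, 2, 1), (6, 1, 3, 1), (1, 1, 3, 2)]
  | 8, 2 => [(4, -2, 1, 1), (6, -3, 2, 1), (1, 3, 1, 2)]
  | 8, 4 => [(6, 3, 1, 1)]
  | 8, 5 => [(7, -1, 1, 1), (9, -1, 2, 1), (11, -1, 3, 1), (10, -1, 3, 2)]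
  | 8, 7 => [(9, 2, 1, 1), (11, 3, 2, 1), (10, -3, 1, 2)]
  | 8, 9 => [(11, 3, 1, 1)]
  | 9, 0 => [(3, 1, 1, 1), (7, -1, 2, 1), (10, 1, 3, 1), (5, -1, 3, 2)]
  | 9, 1 => [(4, 1, 1, 1), (8, 1, 2, 1), (11, -1, 3, 1), (6, 1, 3, 2)]
  | 9, 3 => [(7, -2, 1, 1), (10, 3, 2, 1), (5, -3, 1, 2)]
  | 9, 4 => [(8, 2, 1, 1), (11, -3, 2, 1), (6, 3, 1, 2)]
  | 9, 7 => [(10, -3, 1, 1)]
  | 9, 8 => [(11, -3, 1, 1)]
  | 10, 0 => [(5, 1, 1, 1)]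
  | 10, 2 => [(7, 1, 1, 1), (3, 1, 1, 2), (0, -1, 1, 3), (5, -2, 2, 3)]
  | 10, 4 => [(9, -1, 1, 1), (8, -1, 1, 2), (6, -1, 1, 3), (11, 2, 2, 3)]
  | 10, 6 => [(11, -1, 1, 1)]
  | 11, 1 => [(6, 1, 1, 1)]
  | 11, 2 => [(8, 1, 1, 1), (4, -1, 1, 2), (1, 1, 1, 3), (6, 2, 2, 3)]
  | 11, 3 => [(9, -1, 1, 1), (7, 1, 1, 2), (5, 1, 1, 3), (10, -2, 2, 3)]
  | 11, 5 => [(10, -1, 1, 1)]
  | _, _ => []

variable {F G : Type*} [Field F] [Group G]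

/-- Weyl elements. -/
def nn (x : ℕ → F → G) (r : ℕ) (t : F) : G := x r t * x (11 - r) (-t⁻¹) * x r t
/-- Torus elements. -/
def hh (x : ℕ → F → G) (r : ℕ) (t : F) : G := nn x r t * nn x r (-1)
/-- The right hand side of the commutator formula. -/
def kk (x : ℕ → F → G) (r s : ℕ) (t u : F) : G := ((ct r s).map fun c => x c.1 (c.2.1 * (-t) ^ c.2.2.1 * u ^ c.2.2.2)).prod
/-- Pairs of roots with a commutator formula. -/
def gd (r s : ℕ) : Bool := Nat.blt r 12 && Nat.blt s 12 && !Nat.beq (r + s) 11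

/-- Root elements of type G₂. -/
structure G2S (F G : Type*) [Field F] [Group G] where
  x : ℕ → F → G
  x_add : ∀ r s t, x r (s + t) = x r s * x r t
  x_inj : ∀ r < 12, ∀ t, x r t = 1 → t = 0
  rel : ∀ r s, gd r s = true → ∀ t u, x s u * x r t = x r t * x s u * kk x r s t u
  n_x : ∀ r < 12, ∀ s, ∀ t ≠ 0, ∃ a ≠ 0, ∀ u, nn x r t * x s u = x (rf r s) (a * u) * nn x r t
  h_x : ∀ r < 12, ∀ s, ∀ t ≠ 0, ∀ u, hh x r t * x s u = x s (t ^ pr r s * u) * hh x r t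

section av

variable {V : Type*} [AddCommGroup V] [Module ℂ V] (ρ : G →* End ℂ V)

theorem mul_ap (a b : G) (v : V) : ρ (a * b) v = ρ a (ρ b v) := by rw [map_mul, End.mul_apply]

theorem rho_inj (g : G) : Function.Injective (ρ g) := Function.LeftInverse.injective (g := ρ g⁻¹) fun v => by
  rw [← mul_ap]; simp

theorem le_of_map [FiniteDimensional ℂ V] {Y Y' : Submodule ℂ V} (g : G) (h : ∀ v ∈ Y, ρ g v ∈ Y') : finrank ℂ Y ≤ finrank ℂ Y' :=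
  finrank_le_finrank_of_injective (f := (ρ g).restrict h) fun _ _ e => Subtype.ext (rho_inj ρ g (congrArg Subtype.val e))

/-- Averages. -/
noncomputable def av {ι : Type*} [Fintype ι] (z : ι → G) : End ℂ V := (Fintype.card ι : ℂ)⁻¹ • ∑ i, ρ (z i)

theorem av_ap {ι : Type*} [Fintype ι] (z : ι → G) (v : V) : av ρ z v = (Fintype.card ι : ℂ)⁻¹ • ∑ i, ρ (z i) v := by
  simp [av, LinearMap.sum_apply]

theorem av_comm {ι : Type*} [Fintype ι] {z z' : ι → G} {g k : G} (σ : ι → ι) (hσ : Function.Injective σ)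
    (h : ∀ i, g * z i = z' (σ i) * k) (v : V) : ρ g (av ρ z v) = av ρ z' (ρ k v) := by
  simp only [av_ap, map_smul, map_sum, ← mul_ap, h]
  rw [← (Finite.injective_iff_bijective.1 hσ).sum_comp fun i => ρ (z' i * k) v]

theorem av_map {ι : Type*} [Fintype ι] [Nonempty ι] {z : ι → G} {v w : V} (f : End ℂ V) (h : ∀ i, f (ρ (z i) v) = w) :
    f (av ρ z v) = w := by simp [av_ap, h, ← Nat.cast_smul_eq_nsmul ℂ]

variable [Fintype F] {ψ : AddChar F ℂ} (hψ : ψ.IsPrimitive)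
include hψ

theorem psi_ne {c : F} (hc : c ≠ 0) : ∃ t, ψ (c * t) ≠ 1 := by
  by_contra! h
  exact hψ hc (AddChar.ext _ _ h)

theorem av_eg {z : F → G} {c : F} (hc : c ≠ 0) {v : V} (hv : ∀ t, ρ (z t) v = ψ (c * t) • v) : av ρ z v = 0 := by
  classical
  simp [av_ap, hv, ← Finset.sum_smul, sum_psi hψ, hc]

theorem sum_eg_eq [FiniteDimensional ℂ V] {z : F → G} (hz : ∀ s t, z (s + t) = z s * z t) {W : Submodule ℂ V}
    (hW : ∀ t, ∀ v ∈ W, ρ (z t) v ∈ W) : ∑ c, finrank ℂ (eg ρ ψ z c ⊓ W : Submodule ℂ V) = finrank ℂ W := by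
  classical
  refine le_antisymm (sum_eg ρ hψ z W) ?_
  have h0 : z 0 = 1 := by simpa using hz 0 0
  have h1 : ∀ c v, ∑ s, ψ (-s * c) • ρ (z s) v ∈ eg ρ ψ z c := fun c v t => by
    simp only [map_sum, map_smul, ← End.mul_apply, ← map_mul, ← hz, Finset.smul_sum, smul_smul, ← AddChar.map_add_eq_mul]
    exact Fintype.sum_equiv (Equiv.addLeft t) _ _ fun s => by simp only [Equiv.coe_addLeft]; congr 2; ring
  let f : (∀ c, (eg ρ ψ z c ⊓ W : Submodule ℂ V)) →ₗ[ℂ] W := ∑ c, Submodule.inclusion inf_le_right ∘ₗ proj c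
  rw [← finrank_pi_fintype]
  refine finrank_le_finrank_of_surjective (f := f) fun v => ⟨fun c => (Fintype.card F : ℂ)⁻¹ • ⟨_, h1 c v,
    Submodule.sum_mem _ fun s _ => Submodule.smul_mem _ _ (hW s _ v.2)⟩, Subtype.ext ?_⟩
  have h2 : ∑ c, ∑ s, ψ (-s * c) • ρ (z s) v.1 = (Fintype.card F : ℂ) • v.1 := by
    rw [Finset.sum_comm]
    simp [← Finset.sum_smul, -neg_mul, sum_psi hψ, h0]
  simp only [f, LinearMap.sum_apply, comp_apply, proj_apply, map_smul, AddSubmonoidClass.coe_finset_sum, SetLike.val_smul,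
    Submodule.coe_inclusion, ← Finset.smul_sum, h2, smul_smul]
  simp

end av

namespace G2S

variable (S : G2S F G)

theorem x_zero (r : ℕ) : S.x r 0 = 1 := by simpa using S.x_add r 0 0
theorem x_neg (r : ℕ) (t : F) : S.x r (-t) = (S.x r t)⁻¹ := eq_inv_of_mul_eq_one_left (by rw [← S.x_add, neg_add_cancel, x_zero])
theorem x_comm {r s : ℕ} (t u : F) (h : gd r s = true := by rfl) (e : ct r s = [] := by rfl) : Commute (S.x s u) (S.x r t) := by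
  simpa [kk, e, commute_iff_eq] using S.rel r s h t u
theorem rel1 (r s k : ℕ) (C : ℤ) (t u : F) (h : gd r s = true := by rfl) (e : ct r s = [(k, C, 1, 1)] := by rfl) :
    S.x s u * S.x r t = S.x r t * S.x s u * S.x k (-C * t * u) := by simpa [kk, e] using S.rel r s h t u

/-- Root subgroups. -/
def X (r : ℕ) : Subgroup G where
  carrier := Set.range (S.x r)
  one_mem' := ⟨0, S.x_zero r⟩
  mul_mem' := fun ⟨s, hs⟩ ⟨t, ht⟩ => ⟨s + t, by rw [S.x_add, hs, ht]⟩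
  inv_mem' := fun ⟨s, hs⟩ => ⟨-s, by rw [S.x_neg, hs]⟩

theorem card_X [Fintype F] {r : ℕ} (hr : r < 12) : Nat.card (S.X r) = Fintype.card F := by
  rw [← Nat.card_eq_fintype_card]
  exact Nat.card_range_of_injective fun s t e => sub_eq_zero.1 (S.x_inj r hr _ (by
    rw [sub_eq_add_neg, S.x_add, S.x_neg, e, mul_inv_cancel]))

variable {V : Type*} [AddCommGroup V] [Module ℂ V] (ρ : G →* End ℂ V) (ψ : AddChar F ℂ)

/-- Joint eigenspaces. -/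
def J (l : List (ℕ × F)) (Z : List ℕ) : Submodule ℂ V where
  carrier := {v | (∀ p ∈ l, ∀ t, ρ (S.x p.1 t) v = ψ (p.2 * t) • v) ∧ ∀ s ∈ Z, ∀ t, ρ (S.x s t) v = v}
  zero_mem' := ⟨fun _ _ _ => by simp, fun _ _ _ => by simp⟩
  add_mem' := fun ha hb => ⟨fun p hp t => by rw [map_add, ha.1 p hp, hb.1 p hp, smul_add],
    fun p hp t => by rw [map_add, ha.2 p hp, hb.2 p hp]⟩
  smul_mem' := fun a v hv => ⟨fun p hp t => by rw [map_smul, hv.1 p hp, smul_comm], fun p hp t => by rw [map_smul, hv.2 p hp]⟩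

/-- Dimensions of joint eigenspaces. -/
noncomputable def D (l : List (ℕ × F)) (Z : List ℕ) : ℕ := finrank ℂ (S.J ρ ψ l Z)

/-- All terms act by scalars. -/
def sc (ch r s : ℕ) (L Z : List ℕ) : Bool :=
  gd r s && (ct r s).all fun c => L.elem c.1 || Z.elem c.1 || decide (c.2.1 % (ch : ℤ) = 0)
/-- The root subgroup of `r` stabilizes the joint eigenspace. -/
def ok (ch r : ℕ) (L Z : List ℕ) : Bool := (L ++ Z).all fun s => sc ch r s [] Z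
/-- The scalar by which the commutator acts. -/
def val (l : List (ℕ × F)) (r s : ℕ) (t u : F) : F :=
  ((ct r s).map fun c => (l.lookup c.1).getD 0 * (c.2.1 * (-t) ^ c.2.2.1 * u ^ c.2.2.2)).sum

variable {S ρ ψ} {l l' : List (ℕ × F)} {Z Z' : List ℕ}

theorem J_mono (h : l' ⊆ l) (h' : Z' ⊆ Z) : S.J ρ ψ l Z ≤ S.J ρ ψ l' Z' :=
  fun _ hv => ⟨fun p hp => hv.1 p (h hp), fun p hp => hv.2 p (h' hp)⟩

theorem J_cons (r : ℕ) (c : F) : S.J ρ ψ ((r, c) :: l) Z = eg ρ ψ (S.x r) c ⊓ S.J ρ ψ l Z := by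
  ext v
  exact ⟨fun h => ⟨h.1 _ List.mem_cons_self, J_mono (List.subset_cons_self _ _) (List.Subset.refl _) h⟩,
    fun h => ⟨List.forall_mem_cons.2 ⟨h.1, h.2.1⟩, h.2.2⟩⟩

theorem J_zero (r : ℕ) : S.J ρ ψ ((r, 0) :: l) Z = S.J ρ ψ l (r :: Z) := by
  ext v
  exact ⟨fun h => ⟨fun p hp => h.1 p (List.mem_cons_of_mem _ hp), List.forall_mem_cons.2 ⟨fun t => by
    simpa using h.1 _ List.mem_cons_self t, h.2⟩⟩, fun h => ⟨List.forall_mem_cons.2 ⟨fun t => by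
    simpa using h.2 _ List.mem_cons_self t, h.1⟩, fun p hp => h.2 p (List.mem_cons_of_mem _ hp)⟩⟩

theorem n_mem {r : ℕ} (hr : r < 12) : ∃ a : ℕ → F, (∀ s, a s ≠ 0) ∧ ∀ (l : List (ℕ × F)) (Z : List ℕ), ∀ v ∈ S.J ρ ψ l Z,
    ρ (nn S.x r 1) v ∈ S.J ρ ψ (l.map fun p => (rf r p.1, p.2 * a p.1)) (Z.map (rf r)) := by
  choose a h1 h2 using fun s => S.n_x r hr s 1 one_ne_zero
  have h3 : ∀ s t, S.x (rf r s) t * nn S.x r 1 = nn S.x r 1 * S.x s ((a s)⁻¹ * t) := fun s t => by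
    rw [h2, mul_inv_cancel_left₀ (h1 s)]
  refine ⟨fun s => (a s)⁻¹, fun s => inv_ne_zero (h1 s), fun l Z v hv => ⟨List.forall_mem_map.2 fun p hp t => ?_,
    List.forall_mem_map.2 fun p hp t => ?_⟩⟩
  · rw [← mul_ap, h3, mul_ap, hv.1 p hp, map_smul, mul_assoc]
  · rw [← mul_ap, h3, mul_ap, hv.2 p hp]

theorem h_mem {r : ℕ} (hr : r < 12) {t : F} (ht : t ≠ 0) {v : V} (hv : v ∈ S.J ρ ψ l Z) :
    ρ (hh S.x r t) v ∈ S.J ρ ψ (l.map fun p => (p.1, p.2 * t ^ (-pr r p.1))) Z := by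
  have h3 : ∀ s u, S.x s u * hh S.x r t = hh S.x r t * S.x s (t ^ (-pr r s) * u) := fun s u => by
    rw [S.h_x r hr s t ht, zpow_neg, mul_inv_cancel_left₀ (zpow_ne_zero _ ht)]
  refine ⟨List.forall_mem_map.2 fun p hp t => ?_, fun p hp t => ?_⟩
  · rw [← mul_ap, h3, mul_ap, hv.1 p hp, map_smul, mul_assoc]
  · rw [← mul_ap, h3, mul_ap, hv.2 p hp]

variable {ch : ℕ} (hch : (ch : F) = 0)
include hch

theorem act {r s : ℕ} (h : sc ch r s (l.map Prod.fst) Z = true) (t u : F) {v : V} (hv : v ∈ S.J ρ ψ l Z) :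
    ρ (kk S.x r s t u) v = ψ (val l r s t u) • v := by
  simp only [sc, Bool.and_eq_true, List.all_eq_true] at h
  replace h := h.2
  unfold kk val
  generalize ct r s = w at h ⊢
  induction w with
  | nil => simp
  | cons c w ih =>
    rw [List.map_cons, List.map_cons, List.prod_cons, List.sum_cons, mul_ap, ih fun c hc => h c (List.mem_cons_of_mem _ hc), map_smul,
      add_comm, AddChar.map_add_eq_mul, mul_smul]
    congr 1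
    have h1 := h c List.mem_cons_self
    cases e : l.lookup c.1 with
    | some a => exact hv.1 (c.1, a) (by simpa using List.lookup_eq_some_iff.1 e |>.elim fun _ ⟨_, e, _⟩ => by simp [e]) _
    | none =>
      simp only [Bool.or_eq_true, List.elem_eq_mem, decide_eq_true_eq, List.mem_map] at h1
      rw [Option.getD_none, zero_mul, AddChar.map_zero_eq_one, one_smul]
      rcases h1 with (⟨p, hp, e'⟩ | h1) | h1
      · exact absurd (List.lookup_eq_none_iff.1 e p hp) (by simp [e'])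
      · exact hv.2 _ h1 _
      · obtain ⟨k, hk⟩ := Int.dvd_of_emod_eq_zero h1
        simp [hk, hch, x_zero]

variable [Finite G]

theorem stab (r : ℕ) (t : F) (h : ok ch r (l.map Prod.fst) Z = true := by rfl) : S.x r t ∈ St ρ (S.J ρ ψ l Z) := fun v hv => by
  simp only [ok, List.all_eq_true, List.mem_append] at h
  have h1 : ∀ s u, sc ch r s [] Z = true → ρ (S.x s u) (ρ (S.x r t) v) = ρ (S.x r t) (ρ (S.x s u) v) := fun s u h => by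
    rw [← mul_ap, S.rel r s (Bool.and_eq_true_iff.1 h).1, mul_ap, act hch (l := []) h t u (J_mono (List.nil_subset _) (List.Subset.refl _) hv)]
    simp [val]
  refine ⟨fun p hp u => ?_, fun s hs u => ?_⟩
  · rw [h1 _ _ (h _ (Or.inl (List.mem_map_of_mem hp))), hv.1 p hp, map_smul]
  · rw [h1 _ _ (h _ (Or.inr hs)), hv.2 s hs]

variable [FiniteDimensional ℂ V]

theorem heisA (r s : ℕ) {A : Subgroup G} (hA : A ≤ S.X r) (h : ∀ t ≠ 0, S.x r t ∈ A → ∃ u, ψ (val l r s t u) ≠ 1)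
    (h1 : ok ch r (l.map Prod.fst) Z = true := by rfl) (h2 : ok ch s (l.map Prod.fst) Z = true := by rfl)
    (h3 : sc ch r s (l.map Prod.fst) Z = true := by rfl) :
    S.D ρ ψ l Z = Nat.card A * finrank ℂ (S.J ρ ψ l Z ⊓ fx ρ A : Submodule ℂ V) := by
  refine heis ρ _ (fun g hg => (hA hg).elim fun t e => e ▸ stab hch r t h1) fun g hg h0 => ?_
  obtain ⟨t, rfl⟩ := hA hg
  obtain ⟨u, hu⟩ := h t (fun e => h0 (e ▸ S.x_zero r)) hg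
  refine ⟨_, stab hch s u h2, _, hu, fun v hv => ?_⟩
  rw [commutatorElement_def, S.rel r s (Bool.and_eq_true_iff.1 h3).1, mul_assoc, mul_assoc, mul_ap, mul_ap ρ (kk _ _ _ _ _),
    act hch h3 t u (mul_mem (inv_mem (stab hch s u h2)) (inv_mem (stab hch r t h1)) v hv), map_smul, ← mul_ap]
  simp

variable [Fintype F]

theorem heisJ (r s : ℕ) (h : ∀ t ≠ 0, ∃ u, ψ (val l r s t u) ≠ 1)
    (h1 : ok ch r (l.map Prod.fst) Z = true := by rfl) (h2 : ok ch s (l.map Prod.fst) Z = true := by rfl)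
    (h3 : sc ch r s (l.map Prod.fst) Z = true := by rfl) : S.D ρ ψ l Z = Fintype.card F * S.D ρ ψ l (r :: Z) := by
  rw [heisA hch r s le_rfl (fun t ht _ => h t ht) h1 h2 h3, S.card_X (by
    simp only [sc, gd, Bool.and_eq_true, Nat.blt_eq] at h3; exact h3.1.1.1)]
  refine congrArg (fun W : Submodule ℂ V => Fintype.card F * finrank ℂ W) (Submodule.ext fun v => ?_)
  exact ⟨fun h => ⟨h.1.1, List.forall_mem_cons.2 ⟨fun t => h.2 _ ⟨t, rfl⟩, h.1.2⟩⟩, fun h => ⟨J_mono (List.Subset.refl _)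
    (List.subset_cons_self _ _) h, fun _ ⟨t, e⟩ => e ▸ h.2 _ List.mem_cons_self t⟩⟩

theorem split [DecidableEq F] (hψ : ψ.IsPrimitive) (r : ℕ) (h : ok ch r (l.map Prod.fst) Z = true := by rfl) :
    S.D ρ ψ l Z = ∑ c ∈ Finset.univ.erase 0, S.D ρ ψ ((r, c) :: l) Z + S.D ρ ψ l (r :: Z) := by
  rw [D, ← sum_eg_eq ρ hψ (S.x_add r) fun t => stab hch r t h, D, ← J_zero, ← Finset.sum_erase_add _ _ (Finset.mem_univ 0), J_cons]
  exact congrArg (· + _) (Finset.sum_congr rfl fun c _ => by rw [D, J_cons])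

omit hch [Finite G] [Fintype F]

theorem D_mono (h : l' ⊆ l := by simp) (h' : Z' ⊆ Z := by decide) : S.D ρ ψ l Z ≤ S.D ρ ψ l' Z' := Submodule.finrank_mono (J_mono h h')

theorem D_perm (h : l' ⊆ l := by simp) (h' : Z' ⊆ Z := by decide) (k : l ⊆ l' := by simp) (k' : Z ⊆ Z' := by decide) :
    S.D ρ ψ l Z = S.D ρ ψ l' Z' := le_antisymm (D_mono h h') (D_mono k k')

theorem D_h (r : ℕ) {t : F} (ht : t ≠ 0) (e : (l.map fun p => (p.1, p.2 * t ^ (-pr r p.1))) = l') (hr : r < 12 := by decide) :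
    S.D ρ ψ l Z ≤ S.D ρ ψ l' Z := le_of_map ρ _ fun _ hv => e ▸ h_mem hr ht hv

theorem D_sc (r s : ℕ) {c c' : F} (hc : c ≠ 0) (hc' : c' ≠ 0) (e : pr r s = 1 := by rfl)
    (e' : (l.map Prod.fst).all (fun k => pr r k == 0) = true := by rfl) (hr : r < 12 := by decide) :
    S.D ρ ψ ((s, c) :: l) Z = S.D ρ ψ ((s, c') :: l) Z := by
  have : ∀ {c c' : F}, c ≠ 0 → c' ≠ 0 → S.D ρ ψ ((s, c) :: l) Z ≤ S.D ρ ψ ((s, c') :: l) Z := fun {c c'} hc hc' =>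
    D_h r (div_ne_zero hc hc') (by
      rw [List.map_cons, e, List.map_congr_left (g := id) fun p hp => by
        simp only [List.all_eq_true, beq_iff_eq] at e'; simp [e' _ (List.mem_map_of_mem hp)]]
      simp [mul_div_cancel₀ _ hc]) hr
  exact le_antisymm (this hc hc') (this hc' hc)

theorem D_n1 (r s : ℕ) (Z : List ℕ) {c : F} (hc : c ≠ 0) (hr : r < 12 := by decide) :
    ∃ c' ≠ 0, S.D ρ ψ [(s, c)] Z ≤ S.D ρ ψ [(rf r s, c')] (Z.map (rf r)) := by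
  obtain ⟨a, h1, h2⟩ := n_mem (S := S) (ρ := ρ) (ψ := ψ) hr
  exact ⟨_, mul_ne_zero hc (h1 s), le_of_map ρ _ (h2 _ _)⟩

theorem D_n2 (r s s' : ℕ) (Z : List ℕ) {c e : F} (hc : c ≠ 0) (he : e ≠ 0) (hr : r < 12 := by decide) :
    ∃ c' ≠ 0, ∃ e' ≠ 0, S.D ρ ψ [(s, c), (s', e)] Z ≤ S.D ρ ψ [(rf r s, c'), (rf r s', e')] (Z.map (rf r)) := by
  obtain ⟨a, h1, h2⟩ := n_mem (S := S) (ρ := ρ) (ψ := ψ) hr
  exact ⟨_, mul_ne_zero hc (h1 s), _, mul_ne_zero he (h1 s'), le_of_map ρ _ (h2 _ _)⟩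

/-- Conjugation invariance for one eigenvalue. -/
theorem D_w1 (r s s' k k' : ℕ) (Z Z' : List ℕ) {c c' : F} (hc : c ≠ 0) (hc' : c' ≠ 0) (e : pr k s = 1 := by rfl) (e' : pr k' s' = 1 := by rfl)
    (h : rf r s = s' ∧ rf r s' = s ∧ Z' ⊆ Z.map (rf r) ∧ Z ⊆ Z'.map (rf r) ∧ r < 12 ∧ k < 12 ∧ k' < 12 := by decide) :
    S.D ρ ψ [(s, c)] Z = S.D ρ ψ [(s', c')] Z' := by
  obtain ⟨h1, h2, h3, h4, h5, h6, h7⟩ := h
  obtain ⟨a, ha, b⟩ := D_n1 (S := S) (ρ := ρ) (ψ := ψ) r s Z hc h5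
  obtain ⟨a', ha', b'⟩ := D_n1 (S := S) (ρ := ρ) (ψ := ψ) r s' Z' hc' h5
  rw [h1] at b; rw [h2] at b'
  exact le_antisymm (b.trans ((D_mono (List.Subset.refl _) h3).trans (D_sc k' s' ha hc' e' rfl h7).le))
    (b'.trans ((D_mono (List.Subset.refl _) h4).trans (D_sc k s ha' hc e rfl h6).le))

theorem D_top : S.D ρ ψ [] [] = finrank ℂ V := by
  rw [D, show S.J ρ ψ [] [] = ⊤ from eq_top_iff.2 fun _ _ => ⟨by simp, by simp⟩, finrank_top]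

theorem sum_c [Fintype F] [DecidableEq F] {f : F → ℕ} {m : ℕ} (h : ∀ c ≠ 0, f c = m) :
    ∑ c ∈ Finset.univ.erase 0, f c = (Fintype.card F - 1) * m := by
  rw [Finset.sum_congr rfl fun c hc => h c (Finset.ne_of_mem_erase hc)]
  simp [Finset.card_erase_of_mem]

theorem sum_le [Fintype F] [DecidableEq F] {f : F → ℕ} {m : ℕ} (h : ∀ c ≠ 0, m ≤ f c) :
    (Fintype.card F - 1) * m ≤ ∑ c ∈ Finset.univ.erase 0, f c :=
  (sum_c (f := fun _ => m) fun _ _ => rfl).ge.trans (Finset.sum_le_sum fun c hc => h c (Finset.ne_of_mem_erase hc))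

end G2S

end Cfsg.Lib.G2Deg
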