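/-
Lower bounds for degrees of complex representations of G₂(q): characteristic three.
-/
import Cfsg.Agent.Lib.Exc.G2Deg

set_option autoImplicit false

namespace Cfsg.Lib.G2Deg.G2S

open Subgroup Module LinearMap Cfsg.Lib.MinDeg
open scoped commutatorElement

variable {F G : Type*} [Field F] [Group G] {S : G2S F G} {V : Type*} [AddCommGroup V] [Module ℂ V] {ρ : G →* End ℂ V} {ψ : AddChar F ℂ}
  [Finite G] [FiniteDimensional ℂ V] [Fintype F] (hψ : ψ.IsPrimitive) {l : List (ℕ × F)} {Z : List ℕ}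
include hψ

local notation "𝔮" => Fintype.card F
local notation "𝔇" => S.D ρ ψ

theorem heis1 {ch : ℕ} (hch : (ch : F) = 0) (r s : ℕ) {a : F} (ha : a ≠ 0)
    (e : ∀ t u, val l r s t u = a * t * u := by intros; simp [val, ct, List.lookup]; try ring)
    (h1 : ok ch r (l.map Prod.fst) Z = true := by rfl) (h2 : ok ch s (l.map Prod.fst) Z = true := by rfl)
    (h3 : sc ch r s (l.map Prod.fst) Z = true := by rfl) : 𝔇 l Z = 𝔮 * 𝔇 l (r :: Z) :=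
  heisJ hch r s (fun t ht => by simpa only [e] using psi_ne hψ (mul_ne_zero ha ht)) h1 h2 h3

theorem pos_of_ne {r : ℕ} (k : ℕ) (hne : ∃ t, ρ (S.x r t) ≠ 1) {c : F} (hc : c ≠ 0) (e : pr k r = 1 := by rfl) (hk : k < 12 := by decide) :
    1 ≤ 𝔇 [(r, c)] [] := by
  obtain ⟨t, ht⟩ := hne
  by_contra! h
  refine ht (exists_eg ρ hψ (S.x_add r) (fun c' hc' => ?_) t)
  have := D_sc (S := S) (ρ := ρ) (ψ := ψ) (l := []) (Z := []) k r hc hc' e rfl hk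
  refine eq_bot_iff.2 fun v hv => (Submodule.finrank_eq_zero.1 (show 𝔇 [(r, c')] [] = 0 by omega)).le ⟨List.forall_mem_singleton.2 hv, by simp⟩

omit hψ [Finite G] [Fintype F] in
theorem exists_ne (h : 1 ≤ 𝔇 l Z) : ∃ v ∈ S.J ρ ψ l Z, v ≠ 0 :=
  Submodule.exists_mem_ne_zero_of_ne_bot fun e => by simp [D, e] at h

omit hψ in
theorem cube_surj (h3 : ((3 : ℕ) : F) = 0) (c : F) : ∃ t : F, t ^ 3 = c :=
  Finite.surjective_of_injective (f := fun t : F => t ^ 3) (fun s t e => sub_eq_zero.1 (pow_eq_zero_iff (n := 3) (by simp) |>.1 (by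
    push_cast at h3; linear_combination e - s * t * (s - t) * h3))) c

omit hψ in
theorem exists_poly {n : ℕ} (hn : n + 1 < 𝔮) (h0 : 0 < n) (a : F) : ∃ t : F, t ≠ 0 ∧ t ^ n ≠ a := by
  classical
  by_contra! h
  have h1 : Finset.univ.erase (0 : F) ⊆ (Polynomial.nthRoots n a).toFinset := fun t ht => by
    rw [Multiset.mem_toFinset, Polynomial.mem_nthRoots h0]; exact h t (Finset.ne_of_mem_erase ht)
  have h2 := (Finset.card_le_card h1).trans ((Multiset.toFinset_card_le _).trans (Polynomial.card_nthRoots n a))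
  rw [Finset.card_erase_of_mem (Finset.mem_univ _), Finset.card_univ] at h2
  omega

omit hψ [Finite G] [Fintype F] in
theorem D_sc2 (k k' s s' : ℕ) (Z : List ℕ) {c e c' e' : F} (hc : c ≠ 0) (he : e ≠ 0) (hc' : c' ≠ 0) (he' : e' ≠ 0)
    (h : pr k s = 1 ∧ pr k s' = 0 ∧ pr k' s' = 1 ∧ pr k' s = 0 ∧ k < 12 ∧ k' < 12 := by decide) :
    𝔇 [(s, c), (s', e)] Z = 𝔇 [(s, c'), (s', e')] Z := by
  obtain ⟨h1, h2, h3, h4, h5, h6⟩ := h
  rw [D_sc k s hc hc' h1 (by simpa) h5, D_perm (l' := [(s', e), (s, c')]) (Z' := Z) (by simp) (by simp) (by simp) (by simp),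
    D_sc k' s' he he' h3 (by simpa) h6]
  exact D_perm (by simp) (by simp) (by simp) (by simp)

omit hψ [Finite G] [Fintype F] in
theorem D_w2 (r : ℕ) {s s' w w' m : ℕ} {Z Z' : List ℕ} (k k' : ℕ) (h0 : ∀ c ≠ 0, ∀ e ≠ 0, 𝔇 [(w, c), (w', e)] Z' = m) {c e : F}
    (hc : c ≠ 0) (he : e ≠ 0) (h : (rf r s = w ∧ rf r s' = w' ∧ rf r w = s ∧ rf r w' = s' ∧ Z' ⊆ Z.map (rf r) ∧ Z ⊆ Z'.map (rf r) ∧ r < 12) ∧
      pr k s = 1 ∧ pr k s' = 0 ∧ pr k' s' = 1 ∧ pr k' s = 0 ∧ k < 12 ∧ k' < 12 := by decide) : 𝔇 [(s, c), (s', e)] Z = m := by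
  obtain ⟨⟨h1, h2, h3, h4, h5, h6, h7⟩, h8⟩ := h
  obtain ⟨_, a1, _, a2, a⟩ := D_n2 (S := S) (ρ := ρ) (ψ := ψ) r s s' Z hc he h7
  obtain ⟨_, b1, _, b2, b⟩ := D_n2 (S := S) (ρ := ρ) (ψ := ψ) r w w' Z' one_ne_zero one_ne_zero h7
  rw [h1, h2] at a; rw [h3, h4, h0 1 one_ne_zero 1 one_ne_zero] at b
  exact le_antisymm (a.trans ((D_mono (List.Subset.refl _) h5).trans (h0 _ a1 _ a2).le))
    (b.trans ((D_mono (List.Subset.refl _) h6).trans (D_sc2 k k' s s' Z b1 b2 hc he h8).le))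

variable (h3 : ((3 : ℕ) : F) = 0) (hq : 9 ≤ Fintype.card F)
include h3 hq

theorem m_pos (hne : ∃ t, ρ (S.x 11 t) ≠ 1) : 1 ≤ 𝔇 [(9, 1), (11, 1)] [] := by
  classical
  by_contra! h
  have a1 : ∀ e ≠ 0, ∀ c ≠ 0, 𝔇 [(9, e), (11, c)] [] = 0 := fun e he c hc => by
    rw [D_sc 7 9 he one_ne_zero, D_perm (l' := [(11, c), (9, 1)]) (Z' := []), D_sc 6 11 hc one_ne_zero,
      D_perm (l' := [(9, 1), (11, 1)]) (Z' := [])]; omega
  have a2 : ∀ e ≠ 0, ∀ c ≠ 0, 𝔇 [(8, e), (11, c)] [] = 0 := fun e he c hc => by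
    obtain ⟨_, b1, _, b2, b⟩ := D_n2 (S := S) (ρ := ρ) (ψ := ψ) 7 8 11 [] he hc
    exact Nat.le_zero.1 (b.trans (a1 _ b1 _ b2).le)
  have a3 : ∀ e ≠ 0, ∀ c ≠ 0, 𝔇 [(7, e), (10, c)] [] = 0 := fun e he c hc => by
    obtain ⟨_, b1, _, b2, b⟩ := D_n2 (S := S) (ρ := ρ) (ψ := ψ) 6 7 10 [] he hc
    exact Nat.le_zero.1 (b.trans (a2 _ b1 _ b2).le)
  have a4 : ∀ c ≠ 0, S.J ρ ψ [(10, c)] [7] = S.J ρ ψ [(10, c)] [] := fun c hc =>
    Submodule.eq_of_le_of_finrank_eq (J_mono (by simp) (by simp)) (by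
      have := split (S := S) (ρ := ρ) (l := [(10, c)]) (Z := []) h3 hψ 7
      rw [sum_c fun e he => a3 e he c hc] at this
      exact (this.trans (by rw [mul_zero, zero_add]; rfl)).symm)
  have a5 := pos_of_ne hψ 6 hne one_ne_zero
  rw [split h3 hψ 9, sum_c fun e he => a1 e he 1 one_ne_zero, split h3 hψ 8, sum_c (m := 0) fun e he =>
    Nat.le_zero.1 (le_of_le_of_eq D_mono (a2 e he 1 one_ne_zero)), heis1 hψ h3 10 6 one_ne_zero] at a5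
  obtain ⟨v, hv, h0⟩ := exists_ne (S := S) (ρ := ρ) (ψ := ψ) (l := [(11, 1)]) (Z := [10, 8, 9]) (Nat.pos_of_mul_pos_left (a := 𝔮) (by omega))
  have a6 : ∀ u ≠ 0, ∀ t, ψ (u ^ 2 * t ^ 3) • ρ (S.x 7 t) v = v := fun u hu t => by
    have b1 : ρ (S.x 6 u) v ∈ S.J ρ ψ [(10, -u)] [7] := by
      rw [a4 _ (neg_ne_zero.2 hu)]
      refine ⟨List.forall_mem_singleton.2 fun t => ?_, by simp⟩
      rw [← mul_ap, S.rel 6 10 rfl, mul_ap, act h3 rfl _ _ hv, map_smul, mul_ap, hv.2 10 (by simp)]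
      simp [val, ct, List.lookup]
    have b2 := b1.2 7 (by simp) t
    rw [← mul_ap, S.rel 6 7 rfl, mul_ap, act h3 rfl _ _ hv, map_smul, mul_ap, ← map_smul] at b2
    rw [show u ^ 2 * t ^ 3 = val [(11, 1)] 6 7 u t by simp [val, ct, List.lookup]; push_cast at h3; linear_combination u ^ 2 * t ^ 3 * h3]
    exact rho_inj ρ _ b2
  obtain ⟨u, hu, hu'⟩ := exists_poly (F := F) (n := 2) (by omega) (by omega) 1
  obtain ⟨s, hs⟩ := psi_ne hψ (sub_ne_zero.2 hu')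
  obtain ⟨t, rfl⟩ := cube_surj h3 s
  have b1 := a6 u hu t
  rw [show u ^ 2 * t ^ 3 = (u ^ 2 - 1) * t ^ 3 + 1 ^ 2 * t ^ 3 by ring, AddChar.map_add_eq_mul, mul_smul, a6 1 one_ne_zero] at b1
  exact hs (smul_left_injective ℂ h0 (b1.trans (one_smul _ _).symm))

theorem three_le {μ ν : F} (hν : ν ≠ 0) (h : 𝔇 [(10, ν), (8, μ)] [9, 11] ≠ 0) : 3 ≤ 𝔇 [(10, ν), (8, μ)] [9, 11] := by
  classical
  obtain ⟨t, ht, ht'⟩ := exists_poly (F := F) (n := 2) (by omega) (by omega) (μ / ν)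
  have hi : ∀ s t, S.x 7 s = S.x 7 t → s = t := fun s t e => sub_eq_zero.1 (S.x_inj 7 (by omega) _ (by
    rw [sub_eq_add_neg, S.x_add, S.x_neg, e, mul_inv_cancel]))
  push_cast at h3
  have : Fact (Nat.Prime 3) := ⟨by norm_num⟩
  have h1 : orderOf (S.x 7 t) = 3 := orderOf_eq_prime (by
    rw [pow_three, ← S.x_add, ← S.x_add, show t + (t + t) = 0 by linear_combination t * h3, S.x_zero]) fun e => ht (S.x_inj 7 (by omega) _ e)
  have := heisA (S := S) (ρ := ρ) (ψ := ψ) (l := [(10, ν), (8, μ)]) (Z := [9, 11]) (ch := 3) (by exact_mod_cast h3) 7 6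
    (A := zpowers (S.x 7 t)) (zpowers_le.2 ⟨t, rfl⟩) fun s hs hA => ?_
  · rw [Nat.card_zpowers, h1] at this; omega
  · have h2 : s ^ 2 = t ^ 2 := by
      rw [mem_zpowers_iff_mem_range_orderOf, h1, Finset.mem_image] at hA
      obtain ⟨k, hk, e⟩ := hA
      rw [Finset.mem_range] at hk
      interval_cases k
      · exact absurd (hi _ _ (e.symm.trans (by simp [S.x_zero]))) hs
      · rw [hi _ _ ((pow_one _).symm.trans e)]
      · rw [← hi (t + t) s (by rw [S.x_add, ← e, sq])]; linear_combination t ^ 2 * h3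
    obtain ⟨u, hu⟩ := psi_ne hψ (mul_ne_zero hs (mul_ne_zero hν (sub_ne_zero.2 ht'.symm)))
    exact ⟨u, by rwa [show val [(10, ν), (8, μ)] 7 6 s u = s * (ν * (μ / ν - t ^ 2)) * u by
      simp [val, ct, List.lookup, ← h2]; field_simp; ring]⟩

theorem deg3 (hne : ∃ t, ρ (S.x 11 t) ≠ 1) : 𝔮 ^ 4 + 𝔮 ^ 2 ≤ finrank ℂ V + 2 := by
  classical
  have o : (1 : F) ≠ 0 := one_ne_zero
  have h3' : (3 : F) = 0 := by exact_mod_cast h3
  obtain ⟨m, hm⟩ : ∃ m, ∀ e ≠ 0, ∀ c ≠ 0, 𝔇 [(9, e), (11, c)] [8, 10] = m := ⟨_, fun e he c hc => D_sc2 7 6 9 11 _ he hc o o⟩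
  obtain ⟨n, hn⟩ : ∃ m, ∀ c ≠ 0, 𝔇 [(11, c)] [10, 8, 9] = m := ⟨_, fun c hc => D_sc 6 11 hc o⟩
  obtain ⟨n', hn'⟩ : ∃ m, ∀ c ≠ 0, 𝔇 [(9, c)] [8, 10, 11] = m := ⟨_, fun c hc => D_sc 7 9 hc o⟩
  have v1 : ∀ e t u : F, val [(9, e)] 8 7 t u = e * t * u := fun e t u => by
    simp [val, ct, List.lookup]; linear_combination -e * t * u * h3'
  have a1 : ∀ e ≠ 0, ∀ c ≠ 0, 𝔇 [(9, e), (11, c)] [10] = 𝔮 * m := fun e he c hc => by
    rw [heis1 hψ h3 8 7 he (fun t u => by simp [val, ct, List.lookup]; linear_combination (c * t ^ 2 * u - e * t * u) * h3'), hm e he c hc]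
  have a1' : ∀ e ≠ 0, ∀ c ≠ 0, 𝔇 [(9, e), (11, c)] [] = 𝔮 * (𝔮 * m) := fun e he c hc => by rw [heis1 hψ h3 10 6 hc, a1 e he c hc]
  have a2 : ∀ e ≠ 0, ∀ c ≠ 0, 𝔇 [(9, e), (11, c)] [8] = 𝔮 * m := fun e he c hc => by
    rw [heis1 hψ h3 10 6 hc, ← hm e he c hc]; exact congrArg _ D_perm
  have a3 : ∀ e ≠ 0, ∀ c ≠ 0, 𝔇 [(8, e), (11, c)] [9] = 𝔮 * m := fun e he c hc => D_w2 7 4 10 a2 he hc
  have a4 : ∀ c ≠ 0, ∀ e ≠ 0, 𝔇 [(10, c), (9, e)] [11] = 𝔮 * m := fun c hc e he =>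
    D_w2 (w := 11) (w' := 9) (Z' := [10]) 6 5 8 (fun c hc e he => by rw [← a1 e he c hc]; exact D_perm) hc he
  obtain ⟨p, hp⟩ : ∃ p, 𝔮 = p + 1 := ⟨𝔮 - 1, by omega⟩
  have hp' : 𝔮 - 1 = p := by omega
  have b1 : ∀ c ≠ 0, 𝔇 [(11, c)] [9] = 𝔮 * (p * m + n) := fun c hc => by
    rw [split h3 hψ 8, sum_c fun e he => a3 e he c hc, heis1 hψ h3 10 6 hc, hn c hc, hp']; ring
  have b2 : ∀ e ≠ 0, 𝔇 [(9, e)] [11] = 𝔮 * (p * m + n') := fun e he => by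
    rw [split h3 hψ 10, sum_c fun c hc => a4 c hc e he, heis1 hψ h3 8 7 he (v1 e), hn' e he, hp']; ring
  have b5 : ∀ e ≠ 0, 𝔇 [(8, e)] [9, 11] = p * m + n' := fun e he => by
    rw [D_w1 7 8 9 9 7 _ [8, 11] he o]
    exact Nat.eq_of_mul_eq_mul_left Fintype.card_pos ((heis1 hψ h3 8 7 o (v1 1)).symm.trans (b2 1 o))
  have b6 : ∀ e ≠ 0, 𝔇 [(10, e)] [9, 11] = p * m + n := fun e he => by
    rw [D_w1 6 10 11 11 6 _ [10, 9] he o]
    exact Nat.eq_of_mul_eq_mul_left Fintype.card_pos ((heis1 hψ h3 10 6 o).symm.trans (b1 1 o))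
  have hd : finrank ℂ V = p * (p * (𝔮 * (𝔮 * m)) + 𝔮 * (p * m + n)) + (p * (𝔮 * (p * m + n')) + (p * (p * m + n') +
      (∑ c ∈ Finset.univ.erase 0, 𝔇 [(10, c)] [8, 9, 11] + 𝔇 [] [10, 8, 9, 11]))) := by
    rw [← D_top (S := S) (ρ := ρ) (ψ := ψ), split h3 hψ 11, sum_c fun c hc => by
      rw [split h3 hψ 9, sum_c fun e he => a1' e he c hc, b1 c hc], split (Z := [11]) h3 hψ 9, sum_c b2, split (Z := [9, 11]) h3 hψ 8,
      sum_c b5, split (Z := [8, 9, 11]) h3 hψ 10, hp']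
  have hm1 := m_pos hψ h3 hq hne
  rw [a1' 1 o 1 o] at hm1
  obtain ⟨k, rfl⟩ : ∃ k, p = k + 8 := ⟨p - 8, by omega⟩
  rcases m with _ | _ | m
  · simp at hm1
  swap
  · rw [hd, hp]; ring_nf; omega
  by_cases hx : ∃ μ ≠ 0, ∃ ν ≠ 0, 𝔇 [(10, ν), (8, μ)] [9, 11] ≠ 0
  · obtain ⟨μ, hμ, ν, hν, hx⟩ := hx
    have c1 := b5 μ hμ
    rw [split h3 hψ 10] at c1
    have c2 := Finset.card_le_mul_card_image (f := fun s : F => ν * s ^ 2) (Finset.univ.erase 0) 2 fun a _ =>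
      (Finset.card_le_card (t := (Polynomial.nthRoots 2 (a / ν)).toFinset) fun s hs => by
        rw [Multiset.mem_toFinset, Polynomial.mem_nthRoots two_pos, ← (Finset.mem_filter.1 hs).2]; field_simp).trans
        ((Multiset.toFinset_card_le _).trans (Polynomial.card_nthRoots _ _))
    have c3 : ((Finset.univ.erase 0).image fun s : F => ν * s ^ 2).card • 3 ≤ ∑ c ∈ Finset.univ.erase 0, 𝔇 [(10, c), (8, μ)] [9, 11] :=
      (Finset.card_nsmul_le_sum _ (fun c => 𝔇 [(10, c), (8, μ)] [9, 11]) _ fun c hc => by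
        obtain ⟨s, hs, rfl⟩ := Finset.mem_image.1 hc
        exact (three_le hψ h3 hq hν hx).trans (D_h 10 (inv_ne_zero (Finset.ne_of_mem_erase hs)) (by simp [pr]))).trans
        (Finset.sum_le_sum_of_subset fun c hc => by
          obtain ⟨s, hs, rfl⟩ := Finset.mem_image.1 hc
          simpa [hν] using hs)
    rw [Finset.card_erase_of_mem (Finset.mem_univ _), Finset.card_univ, hp'] at c2
    obtain ⟨j, rfl⟩ : ∃ j, n' = j + 4 := ⟨n' - 4, by rw [smul_eq_mul] at c3; omega⟩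
    rw [hd, hp]; ring_nf; omega
  push Not at hx
  have c1 : ∀ e ≠ 0, 𝔮 * 𝔇 [(7, e)] [10, 8, 9, 11] = k + 8 + n' := fun e he => by
    rw [D_w1 6 7 8 9 9 _ [7, 10, 9, 11] he o, ← heis1 hψ h3 7 6 o]
    have := b5 1 o
    rw [split h3 hψ 10, sum_c (hx 1 o)] at this
    simpa using this
  have c2 : ∀ e ≠ 0, 𝔇 [(10, e)] [8, 9, 11] = k + 8 + n := fun e he => by
    have := b6 e he
    rw [split h3 hψ 8, sum_c (m := 0) fun μ hμ => by rw [← hx μ hμ e he]; exact D_perm] at this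
    simpa using this
  have c3 : ∀ e ≠ 0, 𝔮 * 𝔇 [(6, e)] [10, 8, 9, 11] = k + 8 + n := fun e he => by
    rw [D_w1 7 6 10 11 11 _ [6, 8, 9, 11] he o, ← c2 1 o, ← heisJ h3 6 7 fun t ht => ?_]
    obtain ⟨s, hs⟩ := psi_ne hψ ht
    obtain ⟨u, rfl⟩ := cube_surj h3 s
    exact ⟨u, by simpa [val, ct, List.lookup] using hs⟩
  have c4 : ∀ {a b : ℕ}, 𝔮 * a = k + 8 + b → 1 ≤ a ∧ 1 ≤ b := fun {a b} h => by
    rcases a with _ | a
    · omega
    · rw [hp, mul_add] at h; omega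
  have c5 : 2 * (k + 8) ≤ 𝔇 [] [10, 8, 9, 11] := by
    rw [split h3 hψ 6]
    by_cases h : ∀ e ≠ 0, 1 ≤ 𝔇 [(7, e)] [6, 10, 8, 9, 11]
    · have d1 := sum_le h
      have d2 := sum_le fun e he => (c4 (c3 e he)).1
      rw [split (Z := [6, 10, 8, 9, 11]) h3 hψ 7]
      omega
    · push Not at h
      obtain ⟨e, he, h⟩ := h
      have d1 := (c4 (c1 e he)).1
      rw [split h3 hψ 6] at d1
      obtain ⟨c, hc, d2⟩ := Finset.exists_ne_zero_of_sum_ne_zero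
        (show ∑ c ∈ Finset.univ.erase 0, 𝔇 [(6, c), (7, e)] [10, 8, 9, 11] ≠ 0 by omega)
      have d3 := sum_le (m := 2) (f := fun c => 𝔇 [(6, c)] [10, 8, 9, 11]) fun c' hc' => by
        have := sum_le (m := 1) (f := fun e => 𝔇 [(7, e), (6, c')] [10, 8, 9, 11]) fun e' he' => by
          rw [D_sc2 9 11 7 6 _ he' hc' he (Finset.ne_of_mem_erase hc), D_perm (l' := [(6, c), (7, e)]) (Z' := [10, 8, 9, 11])]; omega
        rw [split h3 hψ 7]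
        omega
      omega
  obtain ⟨n, rfl⟩ : ∃ j, n = j + 1 := ⟨n - 1, by have := c4 (c3 1 o); omega⟩
  obtain ⟨n', rfl⟩ : ∃ j, n' = j + 1 := ⟨n' - 1, by have := c4 (c1 1 o); omega⟩
  rw [hd, sum_c c2, hp', hp]; ring_nf; omega

end Cfsg.Lib.G2Deg.G2S
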