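/-
Lower bounds for degrees of complex representations of G₂(q): characteristic different from three.
-/
import Cfsg.Agent.Lib.Exc.G2DegB

set_option autoImplicit false

namespace Cfsg.Lib.G2Deg.G2S

open Subgroup Module LinearMap Cfsg.Lib.MinDeg
open scoped commutatorElement

variable {F G : Type*} [Field F] [Group G] {S : G2S F G} {V : Type*} [AddCommGroup V] [Module ℂ V] {ρ : G →* End ℂ V} {ψ : AddChar F ℂ}
  [Finite G] [Fintype F] {l : List (ℕ × F)} {Z : List ℕ}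

local notation "𝔮" => Fintype.card F
local notation "𝔇" => S.D ρ ψ
local notation "𝔢" r:max => av ρ (S.x r)

omit [Finite G] in
theorem av_x (r : ℕ) (t : F) (v : V) : (𝔢 r) (ρ (S.x r t) v) = (𝔢 r) v := by
  simpa using (av_comm ρ (g := 1) (fun s => s - t) sub_left_injective (fun s => by rw [← S.x_add, sub_add_cancel, one_mul]) v).symm

theorem av_mem (r : ℕ) {v : V} (hv : v ∈ S.J ρ ψ [] Z) (h : ok 0 r [] Z = true := by rfl) : (𝔢 r) v ∈ S.J ρ ψ [] (r :: Z) := by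
  refine ⟨by simp, List.forall_mem_cons.2 ⟨fun t => ?_, (?_ : _ ∈ S.J ρ ψ [] Z).2⟩⟩
  · simpa using av_comm ρ (k := 1) (fun s => t + s) (add_right_injective t) (fun s => by rw [S.x_add, mul_one]) v
  · rw [av_ap]; exact Submodule.smul_mem _ _ (Submodule.sum_mem _ fun s _ => stab (l := []) Nat.cast_zero r s h v hv)

omit [Finite G] in
theorem av_fix {r : ℕ} {v : V} (h : ∀ t, ρ (S.x r t) v = v) : (𝔢 r) v = v := av_map ρ 1 h

variable [FiniteDimensional ℂ V]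

theorem sl2 (r r' k : ℕ) (hD : 𝔇 [] (r :: Z) ≤ 1) (h : r < 12 ∧ k < 12 ∧ pr k r' = 1 ∧ rf r r = r' ∧ 11 - r = r' := by decide)
    (h1 : ok 0 r [] Z = true := by rfl) (h2 : ok 0 r' [] Z = true := by rfl) : ∃ φ : ℂ, (𝔮 * φ + 1 = 0 ∨ φ = 1) ∧
      ∀ w ∈ S.J ρ ψ [] (r :: Z), (∀ s ≠ 0, (𝔢 r) (ρ (S.x r' s) w) = φ • w) ∧ (𝔢 r) ((𝔢 r') w) = φ ^ 2 • w := by
  classical
  obtain ⟨a1, a2, a3, a4, a5⟩ := h
  by_cases h0 : 1 ≤ 𝔇 [] (r :: Z)
  swap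
  · refine ⟨1, Or.inr rfl, fun w hw => ?_⟩
    rw [(Submodule.finrank_eq_zero.1 (show 𝔇 [] (r :: Z) = 0 by omega)).le hw]
    simp
  have b1 : ∀ v ∈ S.J ρ ψ [] (r :: Z), v ≠ 0 → ∀ w ∈ S.J ρ ψ [] (r :: Z), ∃ a : ℂ, a • v = w := fun v hv h w hw =>
    ((finrank_eq_one_iff_of_nonzero' (⟨v, hv⟩ : S.J ρ ψ [] (r :: Z)) (by simpa)).1 (le_antisymm hD h0) ⟨w, hw⟩).imp
      fun _ e => congrArg Subtype.val e
  obtain ⟨v, hv, hv0⟩ := exists_ne h0
  obtain ⟨φ, hφ⟩ := b1 v hv hv0 _ (av_mem r (stab Nat.cast_zero (l := []) r' 1 h2 v (J_mono (by simp) (by simp) hv)) h1)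
  have b2 : ∀ w ∈ S.J ρ ψ [] (r :: Z), ∀ s ≠ 0, (𝔢 r) (ρ (S.x r' s) w) = φ • w := fun w hw s hs => by
    obtain ⟨a, rfl⟩ := b1 _ (h_mem a2 hs hv) (fun e => hv0 (rho_inj ρ _ (e.trans (map_zero _).symm))) w hw
    have := S.h_x k a2 r' s hs 1
    rw [a3, zpow_one, mul_one] at this
    rw [map_smul, map_smul, ← mul_ap, ← this, mul_ap, ← av_comm ρ _ (mul_right_injective₀ (zpow_ne_zero _ hs)) (S.h_x k a2 r s hs), ← hφ,
      map_smul, smul_comm]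
  have b3 : ∀ w ∈ S.J ρ ψ [] (r :: Z), (𝔢 r) ((𝔢 r') w) = φ ^ 2 • w := fun w hw => by
    obtain ⟨a, ha, e⟩ := S.n_x r a1 r 1 one_ne_zero
    have e' := av_comm ρ _ (mul_right_injective₀ ha) e (ρ (S.x r (-1)) (ρ (S.x r' 1) (ρ (S.x r (-1)) w)))
    rw [av_x, hw.2 r (by simp), b2 w hw 1 one_ne_zero, ← hw.2 r (by simp) (-1), ← mul_ap, ← mul_ap, ← mul_ap, a4, nn, a5,
      hw.2 r (by simp) (-1)] at e'
    simp only [inv_one, S.x_neg, mul_inv_cancel_right, inv_mul_cancel_right, mul_inv_cancel, map_one, End.one_apply] at e'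
    rw [← e', map_smul, map_smul, mul_ap, mul_ap, av_x, hw.2 r (by simp), ← S.x_neg, b2 w hw _ (by simp), smul_smul, sq]
  refine ⟨φ, ?_, fun w hw => ⟨b2 w hw, b3 w hw⟩⟩
  have b4 := b3 v hv
  rw [av_ap ρ (S.x r'), map_smul, map_sum, ← Finset.sum_erase_add _ _ (Finset.mem_univ 0), Finset.sum_congr rfl fun s hs =>
    b2 v hv s (Finset.ne_of_mem_erase hs), S.x_zero, map_one, End.one_apply, av_fix (hv.2 r (by simp)), Finset.sum_const,
    Finset.card_erase_of_mem (Finset.mem_univ _), ← Nat.cast_smul_eq_nsmul ℂ, smul_smul, ← one_smul ℂ v, smul_smul, ← add_smul, smul_smul,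
    smul_smul, Finset.card_univ, Nat.cast_sub Fintype.card_pos] at b4
  have b5 := smul_left_injective ℂ hv0 b4
  have : (𝔮 : ℂ) ≠ 0 := by simp
  field_simp at b5
  rw [← sub_eq_zero (a := φ), ← mul_eq_zero]
  push_cast at b5
  linear_combination -b5

variable (hψ : ψ.IsPrimitive)
include hψ

theorem whit (hD : 𝔇 [] [6, 10, 11] ≤ 1) {c : F} (hc : c ≠ 0) {y : V} (hy : y ∈ S.J ρ ψ [(6, c)] [10, 11])
    (h0 : ∑ t, ∑ w, ψ w • ρ (S.x 0 w) (ρ (S.x 1 t) y) = 0) : y = 0 := by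
  classical
  have o : ((0 : ℕ) : F) = 0 := Nat.cast_zero
  have hD' : 𝔇 [] [5, 10, 11] ≤ 1 := by
    obtain ⟨a, -, h⟩ := n_mem (S := S) (ρ := ρ) (ψ := ψ) (r := 6) (by omega)
    exact (le_of_map ρ _ (h [] [5, 10, 11])).trans ((D_mono (l' := []) (Z' := [6, 10, 11])).trans hD)
  obtain ⟨φ1, a1, b1⟩ := sl2 (S := S) (ρ := ρ) (ψ := ψ) (Z := [6, 11]) 10 1 6 (le_of_le_of_eq D_mono rfl |>.trans hD)
  obtain ⟨φ0, a0, b0⟩ := sl2 (S := S) (ρ := ρ) (ψ := ψ) (Z := [5, 10]) 11 0 5 (le_of_le_of_eq D_mono rfl |>.trans hD')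
  obtain ⟨φ5, a5, b5⟩ := sl2 5 6 11 hD'
  have hy' : y ∈ S.J ρ ψ [] [10, 11] := J_mono (by simp) (by simp) hy
  let P := av ρ fun p : F × F => S.x 10 p.1 * S.x 11 p.2
  have p10 : ∀ t v, P (ρ (S.x 10 t) v) = P v := fun t v => by
    simpa using (av_comm ρ (g := 1) (fun s : F × F => (s.1 - t, s.2)) (fun a b e => by simpa [Prod.ext_iff] using e) (fun s => by
      rw [one_mul, mul_assoc, (S.x_comm (r := 10) (s := 11) _ _).eq, ← mul_assoc, ← S.x_add, sub_add_cancel]) v).symm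
  have p11 : ∀ t v, P (ρ (S.x 11 t) v) = P v := fun t v => by
    simpa using (av_comm ρ (g := 1) (fun s : F × F => (s.1, s.2 - t)) (fun a b e => by simpa [Prod.ext_iff] using e) (fun s => by
      rw [mul_assoc, ← S.x_add, sub_add_cancel, one_mul]) v).symm
  have pf : ∀ v ∈ S.J ρ ψ [] [10, 11], P v = v := fun v hv => av_map ρ 1 fun p => by
    rw [mul_ap, hv.2 11 (by simp), hv.2 10 (by simp), End.one_apply]
  have p5 : ∀ u v, ρ (S.x 5 u) (P v) = P (ρ (S.x 5 u) v) := fun u v =>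
    av_comm ρ (fun s : F × F => (s.1 + s.2 * u, s.2)) (fun a b e => by
      simp only [Prod.mk.injEq] at e; exact Prod.ext (by simpa [e.2] using e.1) e.2) (fun s => by
      rw [← mul_assoc, (S.x_comm (r := 10) (s := 5) _ _).eq, mul_assoc, S.rel1 11 5 10 (-1), mul_assoc, (S.x_comm (r := 10) (s := 5) _ _).eq,
        ← mul_assoc (S.x 11 _), (S.x_comm (r := 10) (s := 11) _ _).eq, S.x_add]
      simp [mul_assoc]) v
  have key : ∀ {α β γ δ : ℕ} {φ : ℂ}, (∀ t u, S.x β u * S.x α t = S.x α t * S.x β u * S.x γ (t * u)) → (∀ t v, P (ρ (S.x β t) v) = P v) →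
      (∀ t v, P (ρ (S.x δ t) v) = P v) → [β, δ] ⊆ [10, 11] → [10, 11] ⊆ [δ, β] → ok 0 γ [] [10, 11] = true → ok 0 δ [] [β] = true →
      (∀ w ∈ S.J ρ ψ [] [γ, 10, 11], ∀ s ≠ 0, (𝔢 δ) (ρ (S.x α s) w) = φ • w) →
      ∀ v ∈ S.J ρ ψ [] [10, 11], ∀ t ≠ 0, P (ρ (S.x α t) v) = φ • (𝔢 γ) v := fun {α β γ δ φ} h1 h2 h3 h4 h5 h6 h7 h8 v hv t ht => by
    have c1 := av_mem γ hv h6
    have c2 : ρ (S.x α t) ((𝔢 γ) v) ∈ S.J ρ ψ [] [β] := ⟨by simp, List.forall_mem_singleton.2 fun u => by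
      rw [← mul_ap, h1, mul_ap, c1.2 γ (by simp), mul_ap, c1.2 β (List.mem_cons_of_mem _ (h4 (by simp)))]⟩
    rw [← h8 _ c1 t ht, ← pf _ (J_mono (by simp) h5 (av_mem δ c2 h7)), av_map ρ P fun s => h3 s _]
    refine (av_map ρ (P * ρ (S.x α t)) fun s => ?_).symm
    obtain ⟨s, rfl⟩ := mul_left_surjective₀ ht s
    rw [End.mul_apply, ← h2 s (ρ (S.x α t) v), ← mul_ap ρ (S.x β s), h1, mul_ap, mul_ap,
      (stab o (l := []) γ _ h6 v hv).2 β (h4 (by simp))]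
  have n1 := key (fun t u => by simpa using S.rel1 1 11 6 (-1) t u) p11 p10 (by decide) (by decide) rfl rfl
    fun w hw => (b1 w (J_mono (by simp) (by decide) hw)).1
  have n0 := key (fun t u => by simpa using S.rel1 0 10 5 (-1) t u) p10 p11 (by decide) (by decide) rfl rfl
    fun w hw => (b0 w (J_mono (by simp) (by decide) hw)).1
  let g : F → V := fun u => ρ (S.x 5 u) ((𝔢 6) (ρ (S.x 5 (-u)) y))
  have g0 : g 0 = 0 := by simp [g, S.x_zero, av_eg ρ hψ hc (hy.1 (6, c) (by simp))]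
  have d1 : ∀ t ≠ 0, ∑ w, ψ w • P (ρ (S.x 0 w) (ρ (S.x 1 t) y)) = ∑ u, ψ (-u * t) • φ1 • g u := fun t ht => by
    refine (Fintype.sum_equiv (Equiv.mulLeft₀ (-t) (neg_ne_zero.2 ht)) _ _ fun u => ?_).symm
    rw [← map_smul, ← n1 _ (stab o (l := []) 5 (-u) rfl y hy') t ht, p5, ← mul_ap, ← mul_ap, ← mul_ap, S.rel1 1 5 0 1, mul_assoc,
      mul_assoc, ← (S.x_comm (r := 0) (s := 5) _ _).eq, S.x_neg, mul_inv_cancel_left, (S.x_comm (r := 0) (s := 1) _ _).eq]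
    simp [mul_comm]
  have d2 : ∑ w, ψ w • P (ρ (S.x 0 w) y) = y - φ0 • (𝔢 5) y := by
    have := sum_psi hψ 1
    rw [← Finset.sum_erase_add _ _ (Finset.mem_univ 0)] at this ⊢
    rw [Finset.sum_congr rfl fun w hw => by rw [n0 y hy' w (Finset.ne_of_mem_erase hw)], ← Finset.sum_smul, S.x_zero, map_one,
      End.one_apply, pf y hy']
    simp only [one_mul, AddChar.map_zero_eq_one, one_ne_zero, if_false] at this
    rw [eq_neg_of_add_eq_zero_left this, AddChar.map_zero_eq_one]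
    module
  have d3 : y - φ0 • (𝔢 5) y - φ1 • ∑ u, g u = 0 := by
    have e1 := congrArg P h0
    have e2 : ∑ t, ∑ u, ψ (-u * t) • φ1 • g u = 0 := by
      rw [Finset.sum_comm]
      refine Finset.sum_eq_zero fun u _ => ?_
      rw [← Finset.sum_smul, sum_psi hψ]
      split_ifs with h
      · simp [neg_eq_zero.1 h, g0]
      · simp
    simp only [map_sum, map_smul, map_zero] at e1
    rw [← Finset.sum_erase_add _ _ (Finset.mem_univ 0)] at e1 e2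
    rw [Finset.sum_congr rfl fun t ht => d1 t (Finset.ne_of_mem_erase ht), eq_neg_of_add_eq_zero_left e2, S.x_zero, map_one] at e1
    simp only [End.one_apply, d2, mul_zero, AddChar.map_zero_eq_one, one_smul, ← Finset.smul_sum] at e1
    rw [← e1]; abel
  have hq : (𝔮 : ℂ) ≠ 0 := by simp
  have d4 : (𝔢 5) y = 0 := by
    have e1 := congrArg (𝔢 5) d3
    have e2 := av_mem (ψ := ψ) 5 hy'
    have e3 : ∑ u, ρ (S.x 5 (-u)) y = (𝔮 : ℂ) • (𝔢 5) y := by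
      rw [av_ap, smul_inv_smul₀ hq]; exact Equiv.sum_comp (Equiv.neg F) fun u => ρ (S.x 5 u) y
    simp only [map_sub, map_smul, map_sum, g, av_x, map_zero] at e1
    rw [← map_sum, ← map_sum, e3, map_smul, map_smul, (b5 _ e2).2, av_fix (e2.2 5 (by simp))] at e1
    refine (smul_eq_zero.1 (show (1 - φ0 - φ1 * 𝔮 * φ5 ^ 2) • (𝔢 5) y = 0 by rw [← e1]; module)).resolve_left fun e => ?_
    have h2 : (2 : ℝ) ≤ 𝔮 := by exact_mod_cast Fintype.one_lt_card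
    have k : ∀ φ : ℂ, (𝔮 * φ + 1 = 0 ∨ φ = 1) → ∃ r : ℝ, φ = r ∧ (r = -1 / 𝔮 ∨ r = 1) := fun φ h =>
      h.elim (fun h => ⟨_, by push_cast; field_simp; linear_combination h, Or.inl rfl⟩) fun h => ⟨_, by simpa, Or.inr rfl⟩
    obtain ⟨r1, rfl, k1⟩ := k _ a1
    obtain ⟨r0, rfl, k0⟩ := k _ a0
    obtain ⟨r5, rfl, k5⟩ := k _ a5
    have e' : 1 - r0 - r1 * (𝔮 : ℝ) * r5 ^ 2 = 0 := by exact_mod_cast e
    generalize (𝔮 : ℝ) = x at e' k1 k0 k5 h2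
    have : x ≠ 0 := by positivity
    rcases k1 with rfl | rfl <;> rcases k0 with rfl | rfl <;> rcases k5 with rfl | rfl <;> (field_simp at e'; nlinarith)
  have d5 : ∀ u, g u = 0 := fun u => by
    rcases eq_or_ne u 0 with rfl | hu
    · exact g0
    obtain ⟨a, ha, e⟩ := S.n_x 6 (by omega) 5 u⁻¹ (inv_ne_zero hu)
    have e' := av_comm ρ _ (mul_right_injective₀ ha) e y
    rw [d4, map_zero, nn, mul_ap, mul_ap, show rf 6 5 = 6 from rfl, av_x, hy.1 (6, c) (by simp), map_smul, map_smul, inv_inv] at e'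
    exact (congrArg (ρ (S.x 5 u)) ((smul_eq_zero.1 e'.symm).resolve_left (ψ.val_isUnit _).ne_zero)).trans (map_zero _)
  simpa [d4, d5] using d3

theorem deg1 (h3 : (3 : F) ≠ 0) (hq : 4 < 𝔮) (hne : ∃ t, ρ (S.x 6 t) ≠ 1) :
    𝔮 ^ 3 ≤ finrank ℂ V + 1 ∧ ((∃ ω : F, ω ≠ 1 ∧ ω ^ 3 = 1) → 𝔮 ^ 3 + 1 ≤ finrank ℂ V) := by
  classical
  have o : ((0 : ℕ) : F) = 0 := Nat.cast_zero
  have i : (1 : F) ≠ 0 := one_ne_zero
  obtain ⟨a, ha⟩ : ∃ a, ∀ c ≠ 0, 𝔇 [(6, c)] [8, 11] = a := ⟨_, fun c hc => D_sc 11 6 hc i⟩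
  have a1 : ∀ c ≠ 0, 𝔇 [(6, c)] [11] = 𝔮 * a := fun c hc => by
    rw [heis1 hψ o 8 4 (neg_ne_zero.2 (mul_ne_zero h3 hc)), ha c hc]
  have a2 : ∀ c ≠ 0, 𝔇 [(6, c)] [] = 𝔮 * (𝔮 * a) := fun c hc => by rw [heis1 hψ o 11 1 (neg_ne_zero.2 hc), a1 c hc]
  obtain ⟨p, hp⟩ : ∃ p, 𝔮 = p + 4 + 1 := ⟨𝔮 - 5, by omega⟩
  have hp' : 𝔮 - 1 = p + 4 := by omega
  have hd : finrank ℂ V = (p + 4) * (𝔮 * (𝔮 * a)) + ((p + 4) * (𝔮 * a) +
      (∑ c ∈ Finset.univ.erase 0, 𝔇 [(6, c)] [10, 11] + 𝔇 [] [6, 10, 11])) := by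
    rw [← D_top (S := S) (ρ := ρ) (ψ := ψ), split o hψ 11, sum_c fun c hc => (D_w1 10 11 6 6 11 [] [] hc i).trans (a2 1 i),
      split (Z := [11]) o hψ 10, sum_c fun c hc => (D_w1 7 10 6 11 11 [11] [11] hc i).trans (a1 1 i), split (Z := [10, 11]) o hψ 6, hp']
  have h1 := pos_of_ne hψ 11 hne i
  rw [a2 1 i] at h1
  rcases a with _ | _ | a
  · simp at h1
  swap
  · rw [hd, hp]; ring_nf; omega
  have h9 : ∀ c, ∀ s ≠ 0, hh S.x 9 s ∈ St ρ (S.J ρ ψ [(6, c)] [8, 11]) := fun c s hs v hv => by simpa [pr] using h_mem (r := 9) (by omega) hs hv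
  have b1 : ∀ c ≠ 0, S.J ρ ψ [(6, c)] [8, 11] ≤ S.J ρ ψ [(6, c)] [10, 11] := fun c hc v hv => by
    obtain ⟨s, hs, hs'⟩ := exists_poly (F := F) (n := 3) (by omega) (by omega) 1
    refine ⟨hv.1, List.forall_mem_cons.2 ⟨fun t => ?_, fun k hk => hv.2 k (List.mem_cons_of_mem _ hk)⟩⟩
    obtain ⟨t, rfl⟩ := mul_left_surjective₀ (sub_ne_zero.2 hs') t
    have := line ρ (ha c hc) (h9 c s hs) (stab o 10 t) v hv
    rwa [commutatorElement_def, S.h_x 9 (by omega) 10 s hs, mul_inv_cancel_right, ← S.x_neg, ← S.x_add,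
      show s ^ pr 9 10 * t + -t = (s ^ 3 - 1) * t by simp [pr]; ring] at this
  have b2 := sum_le (m := 1) (f := fun c => 𝔇 [(6, c)] [10, 11]) fun c hc => (ha c hc).ge.trans (Submodule.finrank_mono (b1 c hc))
  refine ⟨by rw [hd, hp]; ring_nf; rw [hp'] at b2; omega, fun ⟨ω, h1, h2⟩ => ?_⟩
  by_contra! hlt
  have hD : 𝔇 [] [6, 10, 11] ≤ 1 := by rw [hd, hp] at hlt; ring_nf at hlt; rw [hp'] at b2; omega
  have h0 : ω ≠ 0 := fun e => by simp [e] at h2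
  have zc : ∀ r, ω ^ pr 9 r = 1 → ∀ t, Commute (hh S.x 9 ω) (S.x r t) := fun r h t => by
    rw [commute_iff_eq, S.h_x 9 (by omega) r ω h0, h, one_mul]
  have z0 := zc 0 (by simp [pr, h2])
  have z1 := zc 1 (by simp [pr, h2])
  have z10 := zc 10 (by simp [pr, h2])
  obtain ⟨y, hy, hy0⟩ := exists_ne (ha 1 i).ge
  obtain ⟨θ, hθ⟩ := (finrank_eq_one_iff_of_nonzero' (⟨y, hy⟩ : S.J ρ ψ [(6, 1)] [8, 11]) (by simpa)).1 (ha 1 i) ⟨_, h9 1 ω h0 y hy⟩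
  replace hθ : ρ (hh S.x 9 ω) y = θ • y := (congrArg Subtype.val hθ).symm
  let H := S.J ρ ψ [(0, -1)] [1] ⊓ End.eigenspace (ρ (hh S.x 9 ω)) θ
  have c1 : ∀ c ≠ 0, 1 ≤ finrank ℂ (eg ρ ψ (S.x 6) c ⊓ H : Submodule ℂ V) := fun c hc => by
    have d1 : ρ (hh S.x 10 c) y ∈ S.J ρ ψ [(6, c)] [10, 11] := by simpa [pr] using h_mem (r := 10) (by omega) hc (b1 1 i hy)
    have d2 : ρ (hh S.x 9 ω) (ρ (hh S.x 10 c) y) = θ • ρ (hh S.x 10 c) y := by
      rw [← mul_ap, (show Commute (hh S.x 9 ω) (hh S.x 10 c) from (((z10 _).mul_right (z1 _)).mul_right (z10 _)).mul_right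
        (((z10 _).mul_right (z1 _)).mul_right (z10 _))).eq, mul_ap, hθ, map_smul]
    have d3 : ρ (hh S.x 10 c) y ≠ 0 := fun e => hy0 (rho_inj ρ _ (e.trans (map_zero _).symm))
    generalize ρ (hh S.x 10 c) y = y at d1 d2 d3
    have d4 : ∑ t, ρ (S.x 1 t) y ∈ S.J ρ ψ [(6, c)] [1] := ⟨List.forall_mem_singleton.2 fun s => by
      simp only [map_sum, ← mul_ap, (S.x_comm (r := 1) (s := 6) _ _).eq]
      simp only [mul_ap, d1.1 (6, c) (by simp), map_smul, Finset.smul_sum], List.forall_mem_singleton.2 fun s => by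
      simp only [map_sum, ← mul_ap, ← S.x_add]
      exact Equiv.sum_comp (Equiv.addLeft s) fun t => ρ (S.x 1 t) y⟩
    have d5 : ρ (hh S.x 9 ω) (∑ t, ρ (S.x 1 t) y) = θ • ∑ t, ρ (S.x 1 t) y := by
      simp only [map_sum, ← mul_ap, (z1 _).eq]
      simp only [mul_ap, d2, map_smul, Finset.smul_sum]
    have d6 : ∑ w, ψ w • ρ (S.x 0 w) (∑ t, ρ (S.x 1 t) y) ≠ 0 := fun e => d3 (whit hψ hD hc d1 (by
      rw [Finset.sum_comm]; simpa only [map_sum, Finset.smul_sum] using e))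
    generalize ∑ t, ρ (S.x 1 t) y = y at d4 d5 d6
    refine Submodule.one_le_finrank_iff.2 (Submodule.ne_bot_iff _ |>.2 ⟨_, ⟨fun s => ?_, ⟨List.forall_mem_singleton.2 fun s => ?_,
      List.forall_mem_singleton.2 fun s => ?_⟩, End.mem_eigenspace_iff.2 ?_⟩, d6⟩)
    · simp only [map_sum, map_smul, ← mul_ap, S.rel1 0 6 1 1]
      simp only [mul_ap, d4.2 1 (by simp), d4.1 (6, c) (by simp), map_smul, Finset.smul_sum, smul_comm (ψ (c * s))]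
    · simp only [map_sum, map_smul, ← mul_ap, ← S.x_add, Finset.smul_sum, smul_smul, ← AddChar.map_add_eq_mul]
      exact Fintype.sum_equiv (Equiv.addLeft s) _ _ fun w => by simp
    · simp only [map_sum, map_smul, ← mul_ap, (S.x_comm (r := 0) (s := 1) _ _).eq]
      simp only [mul_ap, d4.2 1 (by simp)]
    · simp only [map_sum, map_smul, ← mul_ap, (z0 _).eq]
      simp only [mul_ap, d5, map_smul, Finset.smul_sum, smul_comm θ]
  have c2 := ((sum_le c1).trans (Finset.sum_le_sum_of_subset (Finset.subset_univ _))).trans (sum_eg ρ hψ (S.x 6) H)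
  have c3 : 𝔇 [(0, -1)] [1] = 𝔮 * (0 + 1) :=
    (D_w1 9 0 10 1 11 [1] [11] (neg_ne_zero.2 i) i).trans ((D_w1 7 10 6 11 11 [11] [11] i i).trans (a1 1 i))
  have c4 : ∀ t, S.x 2 t ∈ St ρ (S.J ρ ψ [(0, -1)] [1]) := fun t => stab o 2 t
  let H' := S.J ρ ψ [(0, -1)] [1] ⊓ H.comap (ρ (S.x 2 1))
  have c5 : finrank ℂ H ≤ finrank ℂ H' := le_of_map ρ (S.x 2 (-1)) fun v hv => ⟨c4 _ v hv.1, by
    rwa [SetLike.mem_coe, Submodule.mem_comap, ← mul_ap, ← S.x_add, add_neg_cancel, S.x_zero, map_one]⟩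
  have c6 := Submodule.finrank_sup_add_finrank_inf_eq H H'
  have c7 : finrank ℂ (H ⊔ H' : Submodule ℂ V) ≤ 𝔇 [(0, -1)] [1] := Submodule.finrank_mono (sup_le inf_le_left inf_le_left)
  have c8 : ω - 1 ≠ 0 := sub_ne_zero.2 h1
  have c9 := heisA (S := S) (ρ := ρ) (ψ := ψ) (l := [(0, -1)]) (Z := [1]) o 2 3 (A := zpowers (S.x 2 (ω - 1))) (zpowers_le.2 ⟨_, rfl⟩)
    fun t ht _ => (psi_ne hψ (mul_ne_zero h3 ht)).imp fun u hu => by simpa [val, ct, List.lookup] using hu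
  have c10 : finrank ℂ (H ⊓ H' : Submodule ℂ V) ≤ finrank ℂ (S.J ρ ψ [(0, -1)] [1] ⊓ fx ρ (zpowers (S.x 2 (ω - 1))) : Submodule ℂ V) :=
    Submodule.finrank_mono fun v hv => ⟨hv.1.1, fun g hg => (zpowers_le (H := Tr ρ (ℂ ∙ v))).2 (fun w hw => by
      obtain ⟨a, rfl⟩ := Submodule.mem_span_singleton.1 hw
      have e1 := End.mem_eigenspace_iff.1 hv.2.2.2
      rw [← mul_ap, S.h_x 9 (by omega) 2 ω h0, mul_ap, End.mem_eigenspace_iff.1 hv.1.2, map_smul,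
        show ω ^ pr 9 2 * 1 = 1 + (ω - 1) by simp [pr]; field_simp; linear_combination -h2, S.x_add, mul_ap] at e1
      rw [map_smul, rho_inj ρ _ (smul_right_injective V (fun e => hy0 (rho_inj ρ _ (by rw [hθ, e, zero_smul, map_zero]))) e1)]) hg v
        (Submodule.mem_span_singleton_self v)⟩
  have c11 : 2 ≤ Nat.card (zpowers (S.x 2 (ω - 1))) := by
    rw [Nat.card_zpowers]
    exact (Nat.two_le_iff _).2 ⟨(orderOf_pos _).ne', fun e => c8 (S.x_inj 2 (by omega) _ (orderOf_eq_one_iff.1 e))⟩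
  have := Nat.mul_le_mul c11 c10
  omega

end Cfsg.Lib.G2Deg.G2S
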