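import Cfsg.Agent.Lib.Exc.BSW1
import Cfsg.Agent.Lib.PF.Lin
import Mathlib.NumberTheory.Zsqrtd.Basic

/-!
# A kernel-friendly model `M` of `GL₂(3)` and five virtual characters vanishing off the special classes
-/

set_option autoImplicit false
set_option maxRecDepth 100000

namespace Cfsg.Lib.Exc.G3

open Cfsg Cfsg.Lib.Clifford Cfsg.Lib.Char Cfsg.Lib.PF Subgroup
open scoped ComplexConjugate

/-- invertible `2 × 2` matrices over `𝔽₃` -/
@[ext] structure M where
  a : ZMod 3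
  b : ZMod 3
  c : ZMod 3
  d : ZMod 3
  h : a * d - b * c ≠ 0
deriving DecidableEq

theorem sq_det : ∀ x : ZMod 3, x ≠ 0 → x * x = 1 := by decide
theorem mul_ne : ∀ x y : ZMod 3, x ≠ 0 → y ≠ 0 → x * y ≠ 0 := by decide

/-- the determinant -/
def M.det (g : M) : ZMod 3 := g.a * g.d - g.b * g.c

instance : Mul M := ⟨fun g k => ⟨g.a * k.a + g.b * k.c, g.a * k.b + g.b * k.d, g.c * k.a + g.d * k.c,
  g.c * k.b + g.d * k.d, by convert mul_ne _ _ g.h k.h using 1; ring⟩⟩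
instance : One M := ⟨⟨1, 0, 0, 1, by decide⟩⟩
instance : Inv M := ⟨fun g => ⟨g.det * g.d, -(g.det * g.b), -(g.det * g.c), g.det * g.a, by
  convert mul_ne _ _ g.h (mul_ne _ _ g.h g.h) using 1; unfold M.det; ring⟩⟩

/-- all elements -/
def lst : List M := [
  ⟨0, 1, 1, 0, by decide⟩, ⟨0, 1, 1, 1, by decide⟩, ⟨0, 1, 1, 2, by decide⟩, ⟨0, 1, 2, 0, by decide⟩, ⟨0, 1, 2, 1, by decide⟩,
  ⟨0, 1, 2, 2, by decide⟩, ⟨0, 2, 1, 0, by decide⟩, ⟨0, 2, 1, 1, by decide⟩, ⟨0, 2, 1, 2, by decide⟩, ⟨0, 2, 2, 0, by decide⟩,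
  ⟨0, 2, 2, 1, by decide⟩, ⟨0, 2, 2, 2, by decide⟩, ⟨1, 0, 0, 1, by decide⟩, ⟨1, 0, 0, 2, by decide⟩, ⟨1, 0, 1, 1, by decide⟩,
  ⟨1, 0, 1, 2, by decide⟩, ⟨1, 0, 2, 1, by decide⟩, ⟨1, 0, 2, 2, by decide⟩, ⟨1, 1, 0, 1, by decide⟩, ⟨1, 1, 0, 2, by decide⟩,
  ⟨1, 1, 1, 0, by decide⟩, ⟨1, 1, 1, 2, by decide⟩, ⟨1, 1, 2, 0, by decide⟩, ⟨1, 1, 2, 1, by decide⟩, ⟨1, 2, 0, 1, by decide⟩,
  ⟨1, 2, 0, 2, by decide⟩, ⟨1, 2, 1, 0, by decide⟩, ⟨1, 2, 1, 1, by decide⟩, ⟨1, 2, 2, 0, by decide⟩, ⟨1, 2, 2, 2, by decide⟩,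
  ⟨2, 0, 0, 1, by decide⟩, ⟨2, 0, 0, 2, by decide⟩, ⟨2, 0, 1, 1, by decide⟩, ⟨2, 0, 1, 2, by decide⟩, ⟨2, 0, 2, 1, by decide⟩,
  ⟨2, 0, 2, 2, by decide⟩, ⟨2, 1, 0, 1, by decide⟩, ⟨2, 1, 0, 2, by decide⟩, ⟨2, 1, 1, 0, by decide⟩, ⟨2, 1, 1, 1, by decide⟩,
  ⟨2, 1, 2, 0, by decide⟩, ⟨2, 1, 2, 2, by decide⟩, ⟨2, 2, 0, 1, by decide⟩, ⟨2, 2, 0, 2, by decide⟩, ⟨2, 2, 1, 0, by decide⟩,
  ⟨2, 2, 1, 2, by decide⟩, ⟨2, 2, 2, 0, by decide⟩, ⟨2, 2, 2, 1, by decide⟩]

instance : Fintype M := ⟨⟨lst, by decide +kernel⟩, fun ⟨a, b, c, d, h⟩ => by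
  revert a b c d; decide +kernel⟩

theorem mul_a (g k : M) : (g * k).a = g.a * k.a + g.b * k.c := rfl
theorem mul_b (g k : M) : (g * k).b = g.a * k.b + g.b * k.d := rfl
theorem mul_c (g k : M) : (g * k).c = g.c * k.a + g.d * k.c := rfl
theorem mul_d (g k : M) : (g * k).d = g.c * k.b + g.d * k.d := rfl

instance : Group M := Group.ofLeftAxioms
  (fun g k l => by ext1 <;> simp only [mul_a, mul_b, mul_c, mul_d] <;> ring)
  (by decide +kernel) (by decide +kernel)

theorem card_M : Nat.card M = 48 := by rw [Nat.card_eq_fintype_card]; rfl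

/-- the model is `GL₂(3)` -/
noncomputable def toGL : M →* GL (Fin 2) (ZMod 3) :=
  MonoidHom.mk' (fun g => Matrix.GeneralLinearGroup.mk'' !![g.a, g.b; g.c, g.d]
    (by rw [Matrix.det_fin_two_of]; exact IsUnit.of_mul_eq_one _ (sq_det _ g.h))) fun g k =>
    Units.ext (Matrix.mul_fin_two _ _ _ _ _ _ _ _).symm

theorem toGL_bijective : Function.Bijective toGL := by
  refine ⟨fun g k e => ?_, fun A => ⟨⟨A 0 0, A 0 1, A 1 0, A 1 1, fun e => ?_⟩, Units.ext ?_⟩⟩
  · have h : (!![g.a, g.b; g.c, g.d] : Matrix (Fin 2) (Fin 2) (ZMod 3)) = !![k.a, k.b; k.c, k.d] :=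
      congrArg Units.val e
    exact M.ext (congrFun₂ h 0 0) (congrFun₂ h 0 1) (congrFun₂ h 1 0) (congrFun₂ h 1 1)
  · have h := (Matrix.isUnit_iff_isUnit_det _).1 A.isUnit
    rw [Matrix.det_fin_two, e] at h
    exact absurd (isUnit_zero_iff.1 h) (by decide)
  · exact (Matrix.eta_fin_two (A : Matrix (Fin 2) (Fin 2) (ZMod 3))).symm

/-- the isomorphism with `GL₂(3)` -/
noncomputable def eGL : M ≃* GL (Fin 2) (ZMod 3) := MulEquiv.ofBijective toGL toGL_bijective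

/-- the central involution -/
def z : M := ⟨2, 0, 0, 2, by decide⟩

/-- the special classes -/
def Dm (g : M) : Prop := g = z ∨ g * g = z ∨ g * g * g = z ∨ g * g * (g * g) = z
instance : DecidablePred Dm := fun g => by unfold Dm; infer_instance

theorem pow24 : ∀ g : M, g ^ 24 = 1 := by decide +kernel

theorem dm_iff {g : M} : Dm g ↔ z ∈ zpowers g := by
  refine ⟨?_, fun h => ?_⟩
  · have h := mem_zpowers g
    rintro (e | e | e | e) <;> rw [← e]
    exacts [h, mul_mem h h, mul_mem (mul_mem h h) h, mul_mem (mul_mem h h) (mul_mem h h)]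
  · obtain ⟨k, e⟩ := (mem_powers_iff_mem_zpowers.2 h : z ∈ Submonoid.powers g)
    have e' : g ^ (k % 24) = z := by rw [← pow_eq_pow_mod k (pow24 g)]; exact e
    exact (by decide +kernel : ∀ g : M, ∀ k < 24, g ^ k = z → Dm g) g _ (Nat.mod_lt _ (by norm_num)) e'

theorem center_M : ∀ g : M, (∀ k, k * g = g * k) → g = 1 ∨ g = z := by decide +kernel
theorem z_comm : ∀ g : M, g * z = z * g := by decide +kernel
theorem z_two : orderOf z = 2 := Invol.two_of_mul_self (by decide) (by decide)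

/-! ### characters with values in `ℤ[√-2]` -/

/-- the coefficient ring -/
abbrev R := ℤ√(-2)

/-- the embedding into `ℂ` -/
noncomputable def ι : R →+* ℂ := Zsqrtd.lift ⟨Complex.I * (Real.sqrt 2 : ℝ), by
  rw [mul_mul_mul_comm, Complex.I_mul_I, ← Complex.ofReal_mul, Real.mul_self_sqrt (by norm_num)]; norm_num⟩

theorem conj_ι (r : R) : conj (ι r) = ι (star r) := by
  simp [ι, Zsqrtd.lift_apply_apply]

/-- functions with values in `R` that are virtual characters -/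
def V (φ : M → R) : Prop := ι ∘ φ ∈ VC (⊤ : Subgroup M)

theorem V.add {φ ψ : M → R} (h : V φ) (h' : V ψ) : V (φ + ψ) := by
  have e : ι ∘ (φ + ψ) = ι ∘ φ + ι ∘ ψ := by ext; simp
  rw [V, e]; exact add_mem h h'
theorem V.sub {φ ψ : M → R} (h : V φ) (h' : V ψ) : V (φ - ψ) := by
  have e : ι ∘ (φ - ψ) = ι ∘ φ - ι ∘ ψ := by ext; simp
  rw [V, e]; exact sub_mem h h'
theorem V.mul {φ ψ : M → R} (h : V φ) (h' : V ψ) : V (φ * ψ) := by
  have e : ι ∘ (φ * ψ) = ι ∘ φ * ι ∘ ψ := by ext; simp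
  rw [V, e]; exact vc_mul h h'
theorem V.one : V 1 := by
  have e : ι ∘ (1 : M → R) = 1 := by ext; simp
  rw [V, e]; exact one_vc_top

theorem v_trace {n : ℕ} (ρ : M → Matrix (Fin n) (Fin n) R) (h1 : ρ 1 = 1) (hm : ∀ g k, ρ (g * k) = ρ g * ρ k) :
    V fun g => (ρ g).trace := by
  let σ : M →* Matrix (Fin n) (Fin n) ℂ := (ι.mapMatrix (m := Fin n)).toMonoidHom.comp ⟨⟨ρ, h1⟩, hm⟩
  have h := (isCharacter_character (V := Fin n → ℂ)
    ((Matrix.toLinAlgEquiv' (R := ℂ) (n := Fin n) : _ →* _).comp σ)).isGeneralizedCharacter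
  refine mem_VC_top.2 ?_
  convert h using 1
  ext g
  exact (AddMonoidHom.map_trace ι (ρ g)).trans (Matrix.trace_toLin'_eq _).symm

theorem dot_ι (φ ψ : M → R) {n : ℤ} (h : ∑ g, φ g * star (ψ g) = 48 * n) : dot ⊤ (ι ∘ φ) (ι ∘ ψ) = n := by
  rw [dot, elems_top, card_top, card_M]
  simp only [Function.comp_apply, conj_ι, ← map_mul, ← map_sum, h]
  rw [map_mul, map_ofNat, map_intCast]
  push_cast; ring

/-- packed table of a faithful representation of degree two -/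
def tab : ℕ := 0x4da6914da4494d36990000004092d34d34524092d400000065129300000065124a0000002d469949144a4914d32d46d900000028b4db28b6da0000006d944a4522d30000004524916d940900000065028b0000004934da0000002d36912d36da65024b49345100000000000045128b51b65144a29300000044a4db51b6504514d20000004d265124b4da00000069924a69944900000024b51b4d24930000002934d26da4514494932936d94492d46da4090000000000000000004db65069124b24a51b24a4d36914524db491000000000000000000000000000000000000000000000000000000000000000000000000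

/-- an entry of the table -/
def ent (g : M) (j : ℕ) : R :=
  let v := tab >>> (24 * (g.a.val + 3 * g.b.val + 9 * g.c.val + 27 * g.d.val) + 6 * j)
  ⟨(v % 8 : ℕ) - 2, (v / 8 % 8 : ℕ) - 2⟩

/-- the faithful character of degree two -/
def phi (g : M) : R := ent g 0 + ent g 3
/-- the sign character -/
def eps (g : M) : R := if g.det = 1 then 1 else -1

theorem v_phi : V phi := by
  convert v_trace (fun g => !![ent g 0, ent g 1; ent g 2, ent g 3]) (by decide +kernel) fun g k => ?_ using 2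
  · simp [phi]
  · obtain ⟨h0, h1, h2, h3⟩ := (by decide +kernel : ∀ g k : M, ent (g * k) 0 = ent g 0 * ent k 0 + ent g 1 * ent k 2 ∧
      ent (g * k) 1 = ent g 0 * ent k 1 + ent g 1 * ent k 3 ∧ ent (g * k) 2 = ent g 2 * ent k 0 + ent g 3 * ent k 2 ∧
      ent (g * k) 3 = ent g 2 * ent k 1 + ent g 3 * ent k 3) g k
    simp [h0, h1, h2, h3]

theorem v_eps : V eps := by
  convert v_trace (fun g => !![eps g]) (by decide +kernel) fun g k => ?_ using 2
  · simp
  · simp [(by decide +kernel : ∀ g k : M, eps (g * k) = eps g * eps k) g k]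

/-- a character of degree three -/
def p3 : M → R := phi * (eps * phi) - 1
/-- the character of degree four -/
def p4 : M → R := phi * p3 - phi
/-- the rational character of degree two -/
def p2 : M → R := phi * p4 - p3 - eps * p3

theorem v_p3 : V p3 := (v_phi.mul (v_eps.mul v_phi)).sub V.one
theorem v_p4 : V p4 := (v_phi.mul v_p3).sub v_phi
theorem v_p2 : V p2 := ((v_phi.mul v_p4).sub v_p3).sub (v_eps.mul v_p3)

/-- a basis of the virtual characters vanishing off the special classes -/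
def al : Fin 5 → M → R := ![phi - eps * phi, p2 - phi, 1 + p3 - p4, eps + eps * p3 - p4, 1 + eps + phi - p4]

theorem v_al (i : Fin 5) : V (al i) := by
  fin_cases i
  exacts [v_phi.sub (v_eps.mul v_phi), v_p2.sub v_phi, (V.one.add v_p3).sub v_p4,
    (v_eps.add (v_eps.mul v_p3)).sub v_p4, ((V.one.add v_eps).add v_phi).sub v_p4]

theorem al_zero : ∀ i g, ¬ Dm g → al i g = 0 := by decide +kernel

/-- the Gram matrix -/
def gram : Fin 5 → Fin 5 → ℤ :=
  ![![2, -1, 0, 0, 1], ![-1, 2, 0, 0, -1], ![0, 0, 3, 1, 2], ![0, 0, 1, 3, 2], ![1, -1, 2, 2, 4]]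

theorem al_gram : ∀ i j, ∑ g, al i g * star (al j g) = 48 * (gram i j : R) := by decide +kernel
theorem al_one : ∀ i, ∑ g, al i g * star ((1 : M → R) g) = 48 * ((![0, 0, 1, 0, 1] i : ℤ) : R) := by decide +kernel

/-- the number of factorisations into two involutions -/
def pc (g : M) : ℕ := (Finset.univ.filter fun u : M => (u * u = 1 ∧ u ≠ 1) ∧ (u⁻¹ * g) * (u⁻¹ * g) = 1 ∧ u⁻¹ * g ≠ 1).card

theorem al_pc : ∀ i, ∑ g, al i g * star (pc g : R) = 48 * ((![0, 0, 4, 4, 6] i : ℤ) : R) := by decide +kernel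

theorem al_delta : ∀ g, 2 * al 0 g + 2 * al 1 g + 3 * al 2 g + 3 * al 3 g - 2 * al 4 g = if g = z then 48 else 0 := by
  decide +kernel

end Cfsg.Lib.Exc.G3
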