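/-
Lower bounds for degrees of complex representations: root subgroups of simply laced groups and their twisted forms.
-/
import Cfsg.Agent.Lib.Exc.MinDeg
import Cfsg.Agent.Lib.Twist.MuE6
import Cfsg.Agent.Lib.Chev.Lift3

set_option autoImplicit false

namespace Cfsg.Lib.MinDeg

open Subgroup Cfsg.Lib.Chev Cfsg.Lib.Twist PreSys Cfsg.Lie
open scoped commutatorElement

section Orc

variable (n : ℕ) (t : RTab) (P : ℕ)

/-- Sum of codes. -/
def sm (a b : ℕ) : ℕ := Nat.add (cd t.C a) (cd t.C b)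
/-- `a + b = v`. -/
def isS (a b v : ℕ) : Bool := Nat.blt v n && Nat.beq (Nat.add (cd t.C v) t.off) (sm t a b)
/-- `a + b` is neither zero nor a root. -/
def nn (a b : ℕ) : Bool := notRoot t (Nat.add (sm t a b) (Nat.mul 3 t.off)) && !(Nat.beq (sm t a b) (Nat.mul 2 t.off))
/-- The candidate for `a + b`. -/
def ix (a b : ℕ) : ℕ := lk t.T (Nat.mod (Nat.add (sm t a b) (Nat.mul 3 t.off)) t.P)
/-- Fixed roots. -/
def lgb (a : ℕ) : Bool := Nat.beq (lk P a) a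
/-- Membership up to the symmetry. -/
def btr (T v : ℕ) : Bool := bt T v || bt T (lk P v)
/-- Long and short. -/
def cLS (a b T : ℕ) : Bool := (nn t a b && nn t a (lk P b)) ||
  (isS n t a b (ix t a b) && !lgb P (ix t a b) && isS n t a (lk P b) (lk P (ix t a b)) &&
    isS n t b (lk P (ix t a b)) (ix t b (lk P (ix t a b))) && lgb P (ix t b (lk P (ix t a b))) &&
    nn t (ix t b (lk P (ix t a b))) (lk P (ix t a b)) && btr P T (ix t a b) && bt T (ix t b (lk P (ix t a b))))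
/-- A pair with a simple commutator formula. -/
def pr (a b c : ℕ) : Bool := Nat.blt a n && Nat.blt b n && isS n t a b c &&
  Bool.rec (!lgb P b && nn t a (lk P b) && nn t (lk P a) b) (lgb P b && lgb P c) (lgb P a)
/-- Commutators. -/
def cmk (a b T : ℕ) : Bool := Nat.blt a n && Nat.blt b n &&
  Bool.rec (Bool.rec ((nn t a b && nn t a (lk P b) && nn t (lk P a) b && nn t (lk P a) (lk P b)) ||
      (pr n t P a b (ix t a b) && btr P T (ix t a b)) || (pr n t P a (lk P b) (ix t a (lk P b)) && btr P T (ix t a (lk P b))))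
      (cLS n t P b a T) (lgb P b))
    (Bool.rec (cLS n t P a b T) (nn t a b || (pr n t P a b (ix t a b) && bt T (ix t a b))) (lgb P b)) (lgb P a)
/-- The oracle. -/
def orc : Orc where
  cmk := cmk n t P
  sur a b c := pr n t P a b c || (Nat.blt b n && Nat.blt c n &&
    (pr n t P a b (lk P c) || pr n t P a (lk P b) c || pr n t P a (lk P b) (lk P c)))
  hei a b β := pr n t P b a β && lgb P β
  cj a b c := pr n t P a b c && lgb P a
  lg β := Nat.blt β n && lgb P β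
  w a := Bool.rec 2 1 (lgb P a)

end Orc

variable {D : ChevalleyDatum} {t : RTab} (h : RootOK D t) {K G : Type*} [Field K] [Group G]

theorem rr_coe (r : Fin D.nroots) : h.rr r = r := Fin.ext (Nat.mod_eq_of_lt r.2)

theorem isS_spec {a b : Fin D.nroots} {v : ℕ} (e : isS D.nroots t a b v = true) :
    ∃ c : Fin D.nroots, v = c ∧ h.R.rt c = h.R.rt a + h.R.rt b := by
  simp only [isS, Bool.and_eq_true, Nat.blt_eq, Nat.beq_eq] at e
  refine ⟨⟨v, e.1⟩, rfl, funext fun i => ?_⟩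
  have e2 : cd t.C v + t.off = cd t.C a + cd t.C b := e.2
  simpa [h.R_rt] using h.comb_of_cd a.2 b.2 e.1 1 (by omega) (by omega) (by omega) i i.2

theorem nn_spec (hR : h.R.SL) (S : PreSys h.R K G) {a b : Fin D.nroots} (e : nn t a b = true) (s u : K) :
    Commute (S.x a s) (S.x b u) := by
  simp only [nn, Bool.and_eq_true, Bool.not_eq_true'] at e
  have h1 : b ≠ h.R.neg a := fun e' => Nat.ne_of_beq_eq_false e.2 (by rw [e']; exact h.cd_neg a a.2)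
  refine commute_of_cone h1 (Set.eq_empty_of_forall_notMem fun k hk => h.not_root e.1 k.2 ?_) s u
  have := h.lam_of_comb a.2 b.2 k.2 1 fun i hi => by simpa [h.R_rt] using congrFun (hR.of_mem_cone h1 hk).2 ⟨i, hi⟩
  change _ = cd t.C a + cd t.C b + 3 * t.off
  omega

theorem comm_mul_mul {g g' k k' : G} (h1 : Commute g g') (h2 : Commute g k') (h3 : Commute k g') (h4 : Commute k k') :
    ⁅g * g', k * k'⁆ = ⁅g, k⁆ * ⁅g', k'⁆ := by
  have c : ∀ {a b : G}, Commute a b → ∀ x, b * (a * x) = a * (b * x) := fun h x => (h.left_comm x).symm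
  simp only [commutatorElement_def, mul_inv_rev, mul_assoc, c h3, c h1.inv_left, c h2.inv_left, ← h4.inv_inv.eq, c h3.inv_left,
    c h4.inv_left, c h1.inv_inv, c h3.inv_inv]

/-- An involutive twist of a simply laced system. -/
structure Tw2 (S : PreSys h.R K G) (P : ℕ) where
  st : S.St
  sep : S.Sep
  sl : h.R.SL
  σ : G →* G
  φ : K →+* K
  ρ : Fin D.nroots → Fin D.nroots
  ε : Fin D.nroots → K
  ρ_val : ∀ r, (ρ r : ℕ) = lk P r
  σ_x : ∀ r s, σ (S.x r s) = S.x (ρ r) (ε r * φ s)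
  σσ : ∀ r s, σ (σ (S.x r s)) = S.x r s
  ρρ : ∀ r, ρ (ρ r) = r
  ρ_neg : ∀ r, ρ (h.R.neg r) = h.R.neg (ρ r)
  ε_fix : ∀ r, ρ r = r → ε r = 1
  comm : ∀ r s u, Commute (S.x r s) (S.x (ρ r) u)
  short : ∀ r, ρ r ≠ r → Nat.card K = Nat.card (φ.eqLocusField (RingHom.id K)) ^ 2 ∧ ∀ s, φ s = s → ∃ p, p + φ p = s

namespace Tw2

variable {h} {S : PreSys h.R K G} {P : ℕ} (X : Tw2 h S P)

/-- The fixed field. -/
abbrev Fq : Subfield K := X.φ.eqLocusField (RingHom.id K)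
/-- The fixed group. -/
abbrev Fix : Subgroup G := X.σ.eqLocus (MonoidHom.id G)

theorem lgb_iff (r : Fin D.nroots) : lgb P r = true ↔ X.ρ r = r := by rw [lgb, Nat.beq_eq, ← X.ρ_val, Fin.val_inj]
theorem lgb_false (r : Fin D.nroots) : lgb P r = false ↔ X.ρ r ≠ r := by rw [Ne, ← X.lgb_iff]; simp

theorem σ_fix {r : Fin D.nroots} (e : X.ρ r = r) (s : K) : X.σ (S.x r s) = S.x r (X.φ s) := by rw [X.σ_x, e, X.ε_fix r e, one_mul]

theorem cσ (r : Fin D.nroots) (s u : K) : Commute (S.x r s) (X.σ (S.x r u)) := by rw [X.σ_x]; exact X.comm _ _ _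

/-- Relative root elements. -/
noncomputable def yy (r : Fin D.nroots) (s : K) : G := if X.ρ r = r then S.x r s else S.x r s * X.σ (S.x r s)

theorem yy_l {r : Fin D.nroots} (e : X.ρ r = r) (s : K) : X.yy r s = S.x r s := if_pos e
theorem yy_s {r : Fin D.nroots} (e : X.ρ r ≠ r) (s : K) : X.yy r s = S.x r s * X.σ (S.x r s) := if_neg e

theorem yy_add (r : Fin D.nroots) (s u : K) : X.yy r (s + u) = X.yy r s * X.yy r u := by
  by_cases e : X.ρ r = r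
  · simp only [X.yy_l e, S.x_add]
  · simp only [X.yy_s e, S.x_add, map_mul]; exact (X.cσ r u s).mul_mul_mul_comm _ _

theorem yy_zero (r : Fin D.nroots) : X.yy r 0 = 1 := by simpa using X.yy_add r 0 0

theorem yy_fix {r : Fin D.nroots} (e : X.ρ r ≠ r) (s : K) : X.yy r s ∈ X.Fix := by
  change X.σ _ = _
  rw [X.yy_s e, map_mul, X.σσ, ← (X.cσ r s s).eq]; rfl

/-- Relative root subgroups. -/
def R (r : Fin D.nroots) : Subgroup X.Fix where
  carrier := {g | ∃ s, X.yy r s = g}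
  one_mem' := ⟨0, X.yy_zero r⟩
  mul_mem' := fun ⟨s, hs⟩ ⟨u, hu⟩ => ⟨s + u, by rw [X.yy_add, hs, hu]; rfl⟩
  inv_mem' := fun ⟨s, hs⟩ => ⟨-s, eq_inv_of_mul_eq_one_left (by rw [← hs, ← X.yy_add, neg_add_cancel, X.yy_zero])⟩

theorem R_ρ (r : Fin D.nroots) : X.R r ≤ X.R (X.ρ r) := by
  by_cases e : X.ρ r = r
  · rw [e]
  exact fun g ⟨s, hs⟩ => ⟨X.ε r * X.φ s, by
    rw [X.yy_s (by rw [X.ρρ]; exact Ne.symm e), ← X.σ_x, X.σσ, ← hs, X.yy_s e, (X.cσ r s s).eq]⟩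

theorem R_ρ' (r : Fin D.nroots) : X.R (X.ρ r) = X.R r := le_antisymm (by simpa only [X.ρρ] using X.R_ρ (X.ρ r)) (X.R_ρ r)

theorem btr_spec {T : ℕ} {Y : Subgroup X.Fix} (hY : ∀ s, bt T s = true → X.R (h.rr s) ≤ Y) {v : ℕ} (hv : v < D.nroots)
    (e : btr P T v = true) : X.R (h.rr v) ≤ Y := by
  lift v to Fin D.nroots using hv
  rw [btr, Bool.or_eq_true, ← X.ρ_val] at e
  exact e.elim (hY _) fun e => by simpa only [rr_coe, X.R_ρ'] using hY _ e

theorem pr_lt {a b c : ℕ} (e : pr D.nroots t P a b c = true) : c < D.nroots := by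
  simp only [pr, isS, Bool.and_eq_true, Nat.blt_eq] at e; exact e.1.2.1

open Classical in
/-- Long root elements. -/
noncomputable def z (r : Fin D.nroots) (s : X.Fq) : X.Fix := if e : S.x r s ∈ X.Fix then ⟨_, e⟩ else 1

theorem z_val {r : Fin D.nroots} (e : X.ρ r = r) (s : X.Fq) : (X.z r s).1 = S.x r s := by
  rw [z, dif_pos (show S.x r s ∈ X.Fix from (X.σ_fix e s).trans (congrArg _ s.2))]

theorem mem_long {r : Fin D.nroots} (e : X.ρ r = r) {g : X.Fix} : g ∈ X.R r ↔ ∃ s, X.z r s = g :=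
  ⟨fun ⟨s, hs⟩ => by
    rw [X.yy_l e] at hs
    exact ⟨⟨s, X.sep.x_inj ((X.σ_fix e s).symm.trans (hs ▸ g.2))⟩, Subtype.ext ((X.z_val e _).trans hs)⟩,
  fun ⟨s, hs⟩ => ⟨s, by rw [X.yy_l e, ← hs, X.z_val e]⟩⟩

theorem mem_xσ (r : Fin D.nroots) (s : K) {g : X.Fix} (e : g.1 = S.x r s * X.σ (S.x r s)) : g ∈ X.R r := by
  by_cases c : X.ρ r = r
  · exact ⟨s + X.φ s, by rw [X.yy_l c, e, X.σ_fix c, S.x_add]⟩
  · exact ⟨s, by rw [X.yy_s c, e]⟩

theorem pr_spec {a b c : ℕ} (e : pr D.nroots t P a b c = true) : ∃ a' b' c' : Fin D.nroots, a = a' ∧ b = b' ∧ c = c' ∧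
    h.R.rt c' = h.R.rt a' + h.R.rt b' ∧ ∃ η : K, η * η = 1 ∧ (η = 1 ∨ η = -1) ∧
    ((X.ρ a' = a' ∧ X.ρ b' = b' ∧ X.ρ c' = c' ∧ ∀ s u, ⁅X.yy a' s, X.yy b' u⁆ = S.x c' (η * s * u)) ∨
     (X.ρ a' ≠ a' ∧ X.ρ b' ≠ b' ∧ ∀ s u, ⁅X.yy a' s, X.yy b' u⁆ = S.x c' (η * s * u) * X.σ (S.x c' (η * s * u)))) := by
  simp only [pr, Bool.and_eq_true, Nat.blt_eq] at e
  obtain ⟨⟨⟨ha, hb⟩, e1⟩, e2⟩ := e
  lift a to Fin D.nroots using ha
  lift b to Fin D.nroots using hb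
  obtain ⟨c, rfl, e3⟩ := isS_spec h e1
  obtain ⟨η, h1, h2⟩ := X.st.comm_A2 X.sep X.sl e3
  refine ⟨a, b, c, rfl, rfl, rfl, e3, η, h1, mul_self_eq_one_iff.1 h1, ?_⟩
  cases e4 : lgb P a <;> simp only [e4, Bool.and_eq_true, Bool.not_eq_true', X.lgb_iff, X.lgb_false, ← X.ρ_val] at e2
  · rw [X.lgb_false] at e4
    refine Or.inr ⟨e4, e2.1.1, fun s u => ?_⟩
    rw [X.yy_s e4, X.yy_s e2.1.1, comm_mul_mul (X.cσ _ _ _) (by rw [X.σ_x]; exact nn_spec h X.sl S e2.1.2 _ _)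
      (by rw [X.σ_x]; exact (nn_spec h X.sl S e2.2 _ _).symm) (X.cσ _ _ _), ← map_commutatorElement, h2]
  · rw [X.lgb_iff] at e4
    exact Or.inl ⟨e4, e2.1, e2.2, fun s u => by rw [X.yy_l e4, X.yy_l e2.1, h2]⟩

theorem pr_mem {a b : Fin D.nroots} {c : ℕ} (e : pr D.nroots t P a b c = true) {x y : X.Fix} (hx : x ∈ X.R a) (hy : y ∈ X.R b) :
    ⁅x, y⁆ ∈ X.R (h.rr c) := by
  obtain ⟨a', b', c, e1, e2, rfl, -, η, -, -, e3⟩ := X.pr_spec e
  obtain rfl := Fin.ext e1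
  obtain rfl := Fin.ext e2
  obtain ⟨s, hs⟩ := hx
  obtain ⟨u, hu⟩ := hy
  have e4 : (⁅x, y⁆ : X.Fix).1 = ⁅X.yy a s, X.yy b u⁆ := by rw [hs, hu]; rfl
  rw [rr_coe]
  rcases e3 with ⟨-, -, e3, e5⟩ | ⟨-, -, e5⟩
  · exact ⟨_, by rw [X.yy_l e3, e4, e5]⟩
  · exact X.mem_xσ _ _ (e4.trans (e5 _ _))

theorem cLS_spec {a b : Fin D.nroots} (ha : X.ρ a = a) (hb : X.ρ b ≠ b) {T : ℕ} (e : cLS D.nroots t P a b T = true)
    {Y : Subgroup X.Fix} (hY : ∀ s, bt T s = true → X.R (h.rr s) ≤ Y) {x y : X.Fix} (hx : x ∈ X.R a) (hy : y ∈ X.R b) :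
    ⁅x, y⁆ ∈ Y := by
  obtain ⟨s, hs⟩ := hx
  obtain ⟨u, hu⟩ := hy
  rw [X.yy_l ha] at hs
  rw [X.yy_s hb] at hu
  simp only [cLS, Bool.or_eq_true, Bool.and_eq_true, ← X.ρ_val b] at e
  rcases e with e | ⟨⟨⟨⟨⟨⟨⟨e1, e2⟩, e3⟩, e4⟩, e5⟩, e6⟩, e7⟩, e8⟩
  · have : Commute x y := Subtype.ext (by
      change x.1 * y.1 = y.1 * x.1
      rw [← hs, ← hu, X.σ_x]; exact (nn_spec h X.sl S e.1 _ _).mul_right (nn_spec h X.sl S e.2 _ _))
    rw [this.commutator_eq]; exact one_mem _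
  obtain ⟨v, ev, e1⟩ := isS_spec h e1
  rw [ev] at e2 e3 e4 e5 e6 e7 e8
  rw [← X.ρ_val] at e3 e4 e5 e6 e8
  obtain ⟨w, ew, e4⟩ := isS_spec h e4
  rw [ew, X.lgb_iff] at e5
  rw [ew] at e6 e8
  rw [Bool.not_eq_true', X.lgb_false] at e2
  obtain ⟨η, -, h1⟩ := X.st.comm_A2 X.sep X.sl e1
  obtain ⟨η', -, h2⟩ := X.st.comm_A2 X.sep X.sl e4
  have h3 : X.σ (S.x a s) = S.x a s := hs ▸ x.2
  have h4 : (⁅x, y⁆ : X.Fix).1 = X.yy v (η * s * u) * S.x w (η' * u * (X.ε v * X.φ (η * s * u))) := by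
    rw [X.yy_s e2, mul_assoc, X.σ_x v, ← (nn_spec h X.sl S e6 _ _).eq, ← h2, ← X.σ_x, ← h1, map_commutatorElement, h3]
    change ⁅x.1, y.1⁆ = _
    rw [← hs, ← hu]
    simp only [commutatorElement_def]; group
  have h5 : (⟨_, X.yy_fix e2 (η * s * u)⟩ : X.Fix) ∈ Y := X.btr_spec hY v.2 e7 (by rw [rr_coe]; exact ⟨_, rfl⟩)
  have h6 : (⟨_, X.yy_fix e2 (η * s * u)⟩ : X.Fix)⁻¹ * ⁅x, y⁆ ∈ Y := hY _ e8 (by
    rw [rr_coe]; exact ⟨_, by rw [X.yy_l e5, Subgroup.coe_mul, h4, Subgroup.coe_inv, inv_mul_cancel_left]⟩)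
  simpa using mul_mem h5 h6

theorem sur_spec {a b c : ℕ} (e : pr D.nroots t P a b c = true) {g : X.Fix} (hg : g ∈ X.R (h.rr c)) :
    ∃ x ∈ X.R (h.rr a), ∃ y ∈ X.R (h.rr b), ⁅x, y⁆ = g := by
  obtain ⟨a, b, c, rfl, rfl, rfl, -, η, h1, h2, e3⟩ := X.pr_spec e
  simp only [rr_coe] at hg ⊢
  rcases e3 with ⟨e1, e2, e3, e5⟩ | ⟨e1, e2, e5⟩
  · obtain ⟨s, rfl⟩ := (X.mem_long e3).1 hg
    have hη : η ∈ X.Fq := by rcases h2 with rfl | rfl <;> simp
    refine ⟨_, (X.mem_long e1).2 ⟨⟨η, hη⟩ * s, rfl⟩, _, (X.mem_long e2).2 ⟨1, rfl⟩, Subtype.ext ?_⟩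
    change ⁅(X.z a _).1, (X.z b _).1⁆ = _
    rw [X.z_val e1, X.z_val e2, X.z_val e3, ← X.yy_l e1, ← X.yy_l e2, e5]
    simp [← mul_assoc, h1]
  · obtain ⟨p, hp⟩ : ∃ p, S.x c p * X.σ (S.x c p) = g := by
      by_cases e3 : X.ρ c = c
      · obtain ⟨s, rfl⟩ := (X.mem_long e3).1 hg
        obtain ⟨p, hp⟩ := (X.short a e1).2 s s.2
        exact ⟨p, by rw [X.σ_fix e3, ← S.x_add, hp, X.z_val e3]⟩
      · obtain ⟨s, hs⟩ := hg
        exact ⟨s, by rw [← X.yy_s e3, hs]⟩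
    refine ⟨⟨_, X.yy_fix e1 (η * p)⟩, ⟨_, rfl⟩, ⟨_, X.yy_fix e2 1⟩, ⟨_, rfl⟩, Subtype.ext ?_⟩
    change ⁅X.yy a _, X.yy b _⁆ = _
    rw [e5, ← hp]
    simp [← mul_assoc, h1]

variable [Fintype K]

noncomputable instance : Fintype X.Fq := Fintype.ofFinite _

/-- The root subgroups. -/
noncomputable def rg : RG (orc D.nroots t P) D.nroots X.Fq X.Fix where
  R a := X.R (h.rr a)
  z a := X.z (h.rr a)
  lt β e := by simp only [orc, Bool.and_eq_true, Nat.blt_eq] at e; exact e.1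
  z_add β e s u := by
    simp only [orc, Bool.and_eq_true, Nat.blt_eq] at e
    obtain ⟨e1, e⟩ := e
    lift β to Fin D.nroots using e1
    rw [X.lgb_iff] at e
    exact Subtype.ext (by simp [rr_coe, X.z_val e, S.x_add])
  z_mem β e s := by
    simp only [orc, Bool.and_eq_true, Nat.blt_eq] at e
    obtain ⟨e1, e⟩ := e
    lift β to Fin D.nroots using e1
    rw [X.lgb_iff] at e
    rw [rr_coe]; exact (X.mem_long e).2 ⟨s, rfl⟩
  cmk a b T e Y hY x hx y hy := by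
    simp only [orc, cmk, Bool.and_eq_true, Nat.blt_eq] at e
    obtain ⟨⟨ha, hb⟩, e⟩ := e
    lift a to Fin D.nroots using ha
    lift b to Fin D.nroots using hb
    rw [rr_coe] at hx hy
    have c : Commute x.1 y.1 → ⁅x, y⁆ ∈ Y := fun c => by
      rw [(show Commute x y from Subtype.ext c).commutator_eq]; exact one_mem _
    cases e1 : lgb P a <;> cases e2 : lgb P b <;> simp only [e1, e2, Bool.or_eq_true, Bool.and_eq_true, ← X.ρ_val] at e <;>
      simp only [X.lgb_iff, X.lgb_false] at e1 e2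
    · rcases e with (e | e) | e
      · obtain ⟨s, hs⟩ := hx
        obtain ⟨u, hu⟩ := hy
        refine c ?_
        rw [← hs, ← hu, X.yy_s e1, X.yy_s e2, X.σ_x, X.σ_x]
        exact ((nn_spec h X.sl S e.1.1.1 _ _).mul_right (nn_spec h X.sl S e.1.1.2 _ _)).mul_left
          ((nn_spec h X.sl S e.1.2 _ _).mul_right (nn_spec h X.sl S e.2 _ _))
      · exact X.btr_spec hY (pr_lt e.1) e.2 (X.pr_mem e.1 hx hy)
      · exact X.btr_spec hY (pr_lt e.1) e.2 (X.pr_mem e.1 hx (X.R_ρ b hy))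
    · rw [← commutatorElement_inv]; exact inv_mem (X.cLS_spec e2 e1 e hY hy hx)
    · exact X.cLS_spec e1 e2 e hY hx hy
    · rcases e with e | e
      · obtain ⟨s, hs⟩ := hx
        obtain ⟨u, hu⟩ := hy
        refine c ?_
        rw [← hs, ← hu, X.yy_l e1, X.yy_l e2]
        exact nn_spec h X.sl S e _ _
      · exact hY _ e.2 (X.pr_mem e.1 hx hy)
  sur a b c e g hg := by
    simp only [orc, Bool.or_eq_true, Bool.and_eq_true, Nat.blt_eq] at e
    rcases e with e | ⟨⟨hb, hc⟩, e⟩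
    · exact X.sur_spec e hg
    lift b to Fin D.nroots using hb
    lift c to Fin D.nroots using hc
    simp only [← X.ρ_val] at e
    rw [rr_coe] at hg
    rcases e with (e | e) | e <;> simpa only [rr_coe, X.R_ρ'] using X.sur_spec e (by simpa only [rr_coe, X.R_ρ'] using hg)
  hei a b β e := by
    simp only [orc, Bool.and_eq_true] at e
    obtain ⟨b, a, c, rfl, rfl, rfl, -, η, h1, h2, e3⟩ := X.pr_spec e.1
    have e4 := (X.lgb_iff c).1 e.2
    simp only [rr_coe, orc]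
    rcases e3 with ⟨e1, e2, -, e5⟩ | ⟨e1, e2, e5⟩
    · have hη : η ∈ X.Fq := by rcases h2 with rfl | rfl <;> simp
      refine ⟨?_, fun x hx h0 w => ?_⟩
      · rw [(X.lgb_iff a).2 e2, card_of_param (X.z a) (fun s u e => Subtype.ext (X.sep.x_inj (by
          rw [← X.z_val e2, e, X.z_val e2]))) fun g => X.mem_long e2]
        exact Nat.card_eq_fintype_card.trans (pow_one _).symm
      obtain ⟨s, rfl⟩ := (X.mem_long e2).1 hx
      have hs : (s : K) ≠ 0 := fun e => h0 (Subtype.ext (by rw [X.z_val e2, e, S.x_zero]; rfl))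
      refine ⟨_, (X.mem_long e1).2 ⟨⟨η, hη⟩ * w / s, rfl⟩, Subtype.ext ?_⟩
      change ⁅(X.z b _).1, (X.z a _).1⁆ = _
      rw [X.z_val e1, X.z_val e2, X.z_val e4, ← X.yy_l e1, ← X.yy_l e2, e5]
      congr 1
      push_cast
      rw [mul_assoc, div_mul_cancel₀ _ hs, ← mul_assoc, h1, one_mul]
    · refine ⟨?_, fun x ⟨s, hx⟩ h0 w => ?_⟩
      · rw [(X.lgb_false a).2 e2, card_of_param (A := X.R a) (fun s => (⟨_, X.yy_fix e2 s⟩ : X.Fix)) (fun s u e => ?_)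
          fun g => ⟨fun ⟨s, hs⟩ => ⟨s, Subtype.ext hs⟩, fun ⟨s, hs⟩ => ⟨s, congrArg Subtype.val hs⟩⟩, (X.short a e2).1]
        · rw [Nat.card_eq_fintype_card]
        by_contra e6
        have e7 : X.yy a (s - u) = 1 := by
          rw [← mul_left_inj (X.yy a u), ← X.yy_add, sub_add_cancel, one_mul]; exact congrArg Subtype.val e
        rw [X.yy_s e2, mul_eq_one_iff_eq_inv, X.σ_x, ← S.x_neg] at e7
        exact e2 (X.sep.root_eq e7 (sub_ne_zero.2 e6)).symm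
      have hs : s ≠ 0 := fun e => h0 (Subtype.ext (by rw [← hx, e, X.yy_zero]; rfl))
      obtain ⟨p, hp⟩ := (X.short a e2).2 w w.2
      refine ⟨⟨_, X.yy_fix e1 (η * p / s)⟩, ⟨_, rfl⟩, Subtype.ext ?_⟩
      change ⁅X.yy b _, x.1⁆ = _
      rw [← hx, e5, X.σ_fix e4, ← S.x_add, X.z_val e4, ← hp, mul_assoc, div_mul_cancel₀ _ hs, ← mul_assoc, h1, one_mul]
  cj a b c e w hw := by
    simp only [orc, Bool.and_eq_true] at e
    obtain ⟨a, b, c, rfl, rfl, rfl, e0, η, h1, h2, e3⟩ := X.pr_spec e.1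
    obtain ⟨e1, e2, e3, -⟩ := e3.resolve_right fun e' => e'.1 ((X.lgb_iff a).1 e.2)
    simp only [rr_coe]
    obtain ⟨ε, a1, -, -, a2⟩ := X.st a
    have hne : b ≠ h.R.neg a := by rintro rfl; exact h.R.rt_ne_zero c (by rw [e0, h.R.rt_neg, add_neg_cancel])
    have p := (X.sl.of_mem_cone hne ⟨1, 1, le_rfl, le_rfl, by simpa using e0⟩).1
    have hε : X.φ (ε b) = ε b := by rcases mul_self_eq_one_iff.1 (a1 b) with e | e <;> simp [e]
    have hw' : X.φ w = w := w.2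
    have e5 : X.ρ (h.R.neg a) = h.R.neg a := by rw [X.ρ_neg, e1]
    refine ⟨⟨S.n a (ε b * w), ?_⟩, fun s => Subtype.ext ?_⟩
    · change X.σ _ = _
      simp [PreSys.n, X.σ_fix e1, X.σ_fix e5, hε, hw']
    · have := a2 b _ s (mul_ne_zero (left_ne_zero_of_mul_eq_one (a1 b)) (by simpa using hw : (w : K) ≠ 0))
      rw [RootSys.refl_eq_of p (s := c) (by rw [e0]; module), p, neg_neg, zpow_one, ← mul_assoc, a1, one_mul] at this
      simpa [X.z_val e2, X.z_val e3] using this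

end Tw2

end Cfsg.Lib.MinDeg
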