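/-
Lower bounds for degrees of complex representations: the final form and arithmetic.
-/
import Cfsg.Agent.Lib.Exc.MinDegB
import Cfsg.Agent.Lib.Twist.ReeDeg
import Cfsg.Agent.Lib.Char.Integral

set_option autoImplicit false

namespace Cfsg.Lib.MinDeg

open Subgroup Cfsg.Lib.Chev Cfsg.Lib.Twist PreSys Cfsg.Lie

/-- Decoding pairs. -/
noncomputable def d2 (n : ℕ) : ℕ → List (ℕ × ℕ) :=
  Nat.rec (fun _ => []) (fun _ ih x => (Nat.land x 255, lk x 1) :: ih (Nat.shiftRight x 16)) n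
/-- Decoding triples. -/
noncomputable def d3 (n : ℕ) : ℕ → List (ℕ × ℕ × ℕ) :=
  Nat.rec (fun _ => []) (fun _ ih x => (Nat.land x 255, lk x 1, lk x 2) :: ih (Nat.shiftRight x 24)) n
/-- The identity table. -/
def idT : ℕ := 0xefeeedecebeae9e8e7e6e5e4e3e2e1e0dfdedddcdbdad9d8d7d6d5d4d3d2d1d0cfcecdcccbcac9c8c7c6c5c4c3c2c1c0bfbebdbcbbbab9b8b7b6b5b4b3b2b1b0afaeadacabaaa9a8a7a6a5a4a3a2a1a09f9e9d9c9b9a999897969594939291908f8e8d8c8b8a898887868584838281807f7e7d7c7b7a797877767574737271706f6e6d6c6b6a696867666564636261605f5e5d5c5b5a595857565554535251504f4e4d4c4b4a494847464544434241403f3e3d3c3b3a393837363534333231302f2e2d2c2b2a292827262524232221201f1e1d1c1b1a191817161514131211100f0e0d0c0b0a09080706050403020100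

theorem idT_eq : ∀ r < 240, lk idT r = r := by decide +kernel

variable {D : ChevalleyDatum} {t : RTab} {h : RootOK D t} {K G : Type*} [Field K] [Fintype K] [Group G] {S : PreSys h.R K G}

theorem Tw2.deg [Finite G] {P : ℕ} (X : Tw2 h S P) {Γ : Type*} [Group Γ] [IsSimpleGroup Γ] (e : X.Fix ≃* Γ) {k : ℕ}
    {ρ : Representation ℂ Γ (Fin k → ℂ)} (hρ : ρ.IsIrreducible) (hk : 2 ≤ k) {β0 β1 a δ U U' N : ℕ} {B : List (ℕ × ℕ × Orc.Cert)}
    {L : List ℕ} (h1 : (orc D.nroots t P).all (N + 1) B [] = true) (h2 : (B.map fun p => p.2.1) = L)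
    (h3 : ∃ C B', B = (β0, N + 1, C) :: B') (h4 : (orc D.nroots t P).conn D.nroots β0 U U' = true ∧
      (orc D.nroots t P).cj a β1 β0 = true ∧ (orc D.nroots t P).lg β1 = true ∧ (orc D.nroots t P).chain β1 [(β0, δ)] [] 0 = true ∧
      (orc D.nroots t P).w β0 = 1) (h5 : X.ρ (h.rr β0) = h.rr β0) {q : ℕ} (hq : Fintype.card X.Fq = q + 1) :
    (q * (L.map fun e => (q + 1) ^ e).sum ≤ k ∧ (k : ℂ) - ρ.character (e (X.z (h.rr β0) 1)) = (q + 1 : ℕ) ^ (N + 2)) ∨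
      q * (2 * (q + 1) ^ (N + 1)) + q * (2 * (q + 1) ^ N) ≤ k := by
  obtain ⟨C, B, rfl⟩ := h3
  have := X.rg.main (MonoidHom.comp ρ e.toMonoidHom) h4.1 h4.2.1 h1 h4.2.2.1 h4.2.2.2.1 h4.2.2.2.2 fun h1 => (two_le_of_irr hρ fun g =>
    ((MonoidHom.normal_ker ρ).eq_bot_or_eq_top.resolve_left fun h2 => one_ne_zero (X.sep.x_eq_one ((X.z_val h5 1).symm.trans
      (congrArg Subtype.val (e.map_eq_one_iff.1 (Subgroup.mem_bot.1 (h2.le h1))))))).ge (Subgroup.mem_top g)).not_ge hk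
  rw [h2, hq, Module.finrank_fin_fun] at this
  exact this

/-- The trivial twist. -/
noncomputable def Tw2.triv (hS : S.St) (hF : S.Sep) (hR : h.R.SL) (hn : D.nroots ≤ 240) : Tw2 h S idT where
  st := hS
  sep := hF
  sl := hR
  σ := MonoidHom.id G
  φ := RingHom.id K
  ρ := id
  ε _ := 1
  ρ_val r := (idT_eq r (r.2.trans_le hn)).symm
  σ_x r s := by simp
  σσ _ _ := rfl
  ρρ _ := rfl
  ρ_neg _ := rfl
  ε_fix _ _ := rfl
  comm := S.x_comm
  short _ e := absurd rfl e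

theorem deg_triv [Finite G] [IsSimpleGroup G] (hS : S.St) (hF : S.Sep) (hR : h.R.SL) (hn : D.nroots ≤ 240) {k : ℕ}
    {ρ : Representation ℂ G (Fin k → ℂ)} (hρ : ρ.IsIrreducible) (hk : 2 ≤ k) {β0 β1 a δ U U' N : ℕ} {B : List (ℕ × ℕ × Orc.Cert)}
    {L : List ℕ} (h1 : (orc D.nroots t idT).all (N + 1) B [] = true) (h2 : (B.map fun p => p.2.1) = L)
    (h3 : ∃ C B', B = (β0, N + 1, C) :: B') (h4 : (orc D.nroots t idT).conn D.nroots β0 U U' = true ∧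
      (orc D.nroots t idT).cj a β1 β0 = true ∧ (orc D.nroots t idT).lg β1 = true ∧
      (orc D.nroots t idT).chain β1 [(β0, δ)] [] 0 = true ∧ (orc D.nroots t idT).w β0 = 1) {q : ℕ} (hq : Fintype.card K = q + 1) :
    (q * (L.map fun e => (q + 1) ^ e).sum ≤ k ∧ (k : ℂ) - ρ.character (S.x (h.rr β0) 1) = (q + 1 : ℕ) ^ (N + 2)) ∨
      q * (2 * (q + 1) ^ (N + 1)) + q * (2 * (q + 1) ^ N) ≤ k := by
  have := (Tw2.triv hS hF hR hn).deg (MulEquiv.ofBijective (Subgroup.subtype _) ⟨Subtype.val_injective, fun g => ⟨⟨g, rfl⟩, rfl⟩⟩)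
    hρ hk h1 h2 h3 h4 rfl ((Fintype.card_congr (Equiv.ofBijective (Subfield.subtype _) ⟨Subtype.val_injective, fun g => ⟨⟨g, rfl⟩, rfl⟩⟩)).trans hq)
  exact (show _ = S.x (h.rr β0) 1 from (Tw2.triv hS hF hR hn).z_val (r := h.rr β0) rfl 1) ▸ this

theorem not_dvd_deg {Γ : Type*} [Group Γ] [Finite Γ] {k : ℕ} {ρ : Representation ℂ Γ (Fin k → ℂ)} (hρ : ρ.IsIrreducible) (hk : 2 ≤ k)
    {z : Γ} {m p : ℕ} (hp : p.Prime) (h1 : (k : ℂ) - ρ.character z = m) (h2 : p ∣ Nat.card (centralizer {z}))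
    (h3 : ¬ p ^ 2 ∣ Nat.card Γ) (h4 : ¬ p ∣ m) : ¬ p ∣ k := fun h5 => by
  have h6 := Cfsg.Lib.Char.Cfsg.IsIrrCharacter.isIntegral_centralChar ⟨k, ρ, hρ, rfl⟩ z
  have h0 : (k : ℂ) ≠ 0 := by norm_cast; omega
  rw [centralChar, ρ.char_one, Module.finrank_fin_fun, show ρ.character z = k - m by rw [← h1]; ring] at h6
  have h7 : IsIntegral ℤ (algebraMap ℚ ℂ (((centralizer {z}).index * ((k : ℤ) - m) : ℤ) / (k : ℤ))) := by simpa using h6
  obtain ⟨c, hc⟩ := IsIntegrallyClosed.isIntegral_iff.1 ((isIntegral_algebraMap_iff (algebraMap ℚ ℂ).injective).1 h7)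
  have h8 : (k : ℤ) ∣ (centralizer {z}).index * ((k : ℤ) - m) := ⟨c, by
    rw [eq_div_iff (by norm_cast; omega)] at hc
    exact Int.cast_injective (α := ℚ) (by simpa [mul_comm] using hc.symm)⟩
  rcases Int.Prime.dvd_mul' hp ((Int.natCast_dvd_natCast.2 h5).trans h8) with h9 | h9
  · exact h3 (by rw [sq, ← card_mul_index (centralizer {z})]; exact mul_dvd_mul h2 (by exact_mod_cast h9))
  · exact h4 (Int.natCast_dvd_natCast.1 (by simpa using dvd_sub (Int.natCast_dvd_natCast.2 h5) h9))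

end Cfsg.Lib.MinDeg
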