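/-
Arithmetic for the lower bounds of degrees.
-/
import Mathlib.Tactic

set_option autoImplicit false

namespace Cfsg.Lib.MinDeg

theorem dvd_list {h X : ℤ} (l : List (ℤ × ℤ)) (hl : ∀ p ∈ l, ∃ A B, A * h + B * p.1 = p.2) (H : h ∣ X * (l.map Prod.fst).prod) :
    h ∣ X * (l.map Prod.snd).prod := by
  induction l generalizing X with
  | nil => exact H
  | cons p l ih =>
    obtain ⟨A, B, e⟩ := hl p List.mem_cons_self
    rw [List.map_cons, List.prod_cons, ← mul_assoc] at H ⊢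
    have := ih (fun p hp => hl p (List.mem_cons_of_mem _ hp)) H
    rw [← e, show X * (A * h + B * p.1) * (l.map Prod.snd).prod = h * (X * A * (l.map Prod.snd).prod) +
      B * (X * p.1 * (l.map Prod.snd).prod) by ring]
    exact dvd_add (Dvd.intro _ rfl) (this.mul_left _)

theorem dvd_ppart {q j N : ℕ} (hq : IsPrimePow q) (h0 : 0 < j) (hj : j < q) {f X u : ℤ} (hf : f = q * u - j) (H : f ∣ q ^ N * X) :
    f ∣ j * X := by
  obtain ⟨p, e, hp, -, rfl⟩ := (isPrimePow_nat_iff q).1 hq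
  obtain ⟨k, -, hk⟩ := (Nat.dvd_prime_pow hp).1 (show Int.gcd f ((p ^ e : ℕ) ^ N) ∣ p ^ (e * N) from by
    simpa [← pow_mul] using Int.natCast_dvd_natCast.1 (show (Int.gcd f ((p ^ e : ℕ) ^ N) : ℤ) ∣ (p ^ (e * N) : ℕ) from by
      simpa [pow_mul] using Int.gcd_dvd_right _ _))
  have h1 : ((p ^ k : ℕ) : ℤ) ∣ f := hk ▸ Int.gcd_dvd_left _ _
  have h2 : ∀ m : ℕ, m ∣ p ^ e → (m : ℤ) ∣ f → m ∣ j := fun m a b => Int.natCast_dvd_natCast.1 (by
    have := dvd_sub ((Int.natCast_dvd_natCast.2 a).mul_right u) b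
    rwa [hf, sub_sub_cancel] at this)
  have h3 : p ^ k ∣ j := by
    rcases le_total k e with c | c
    · exact h2 _ (pow_dvd_pow p c) h1
    · exact absurd (Nat.le_of_dvd h0 (h2 _ dvd_rfl ((Int.natCast_dvd_natCast.2 (pow_dvd_pow p c)).trans h1))) hj.not_ge
  refine Dvd.dvd.trans ?_ (mul_dvd_mul_right (Int.natCast_dvd_natCast.2 h3) X)
  rw [← hk, Int.gcd_eq_gcd_ab, add_mul, mul_assoc, mul_right_comm]
  exact dvd_add (Dvd.intro _ rfl) (H.mul_right _)

/-- Evaluation of a polynomial. -/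
def ev (x : ℤ) : List ℤ → ℤ
  | [] => 0
  | a :: l => a + x * ev x l

/-- Sum. -/
def padd : List ℤ → List ℤ → List ℤ
  | [], m => m
  | l, [] => l
  | a :: l, b :: m => (a + b) :: padd l m

/-- Product. -/
def pmul : List ℤ → List ℤ → List ℤ
  | [], _ => []
  | a :: l, m => padd (m.map (a * ·)) (0 :: pmul l m)

/-- Shift of the variable. -/
def psh (b : ℤ) : List ℤ → List ℤ
  | [] => []
  | a :: l => padd [a] (pmul [b, 1] (psh b l))

theorem ev_padd (x : ℤ) (l m : List ℤ) : ev x (padd l m) = ev x l + ev x m := by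
  fun_induction padd l m <;> simp_all [ev]; ring

theorem ev_pmul (x : ℤ) (l m : List ℤ) : ev x (pmul l m) = ev x l * ev x m := by
  have h : ∀ a, ev x (m.map (a * ·)) = a * ev x m := fun a => by induction m <;> simp_all [ev]; ring
  induction l <;> simp_all [pmul, ev, ev_padd]; ring

theorem ev_psh (x b : ℤ) (l : List ℤ) : ev x (psh b l) = ev (b + x) l := by
  induction l <;> simp_all [psh, ev, ev_padd, ev_pmul]

theorem ev_zero (x : ℤ) {l : List ℤ} (h : l.all (· == 0) = true) : ev x l = 0 := by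
  induction l <;> simp_all [ev]

theorem ev_nonneg {x : ℤ} (hx : 0 ≤ x) {l : List ℤ} (h : l.all (0 ≤ ·) = true) : 0 ≤ ev x l := by
  induction l with
  | nil => exact le_rfl
  | cons a l ih =>
    simp only [List.all_cons, Bool.and_eq_true, decide_eq_true_eq] at h
    exact add_nonneg h.1 (mul_nonneg hx (ih h.2))

/-- Certificates for non-divisibility. -/
abbrev NC := List ℤ × List ℤ × List (List ℤ × List ℤ × ℤ)

/-- The check of a certificate. -/
def chkN (f : List ℤ) (F : List (List ℤ)) (j : ℤ) (C : NC) : Bool :=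
  (padd (pmul C.1 C.2.1) (padd [j] (pmul [-1] f))).all (· == 0) && F.length == C.2.2.length &&
    (F.zip C.2.2).all (fun p => (padd (pmul p.2.1 C.1) (padd (pmul p.2.2.1 p.1) [-p.2.2.2])).all (· == 0)) &&
    0 < j * (C.2.2.map fun p => p.2.2).prod && (psh 60 (padd C.1 [-(j * (C.2.2.map fun p => p.2.2).prod) - 1])).all (0 ≤ ·)

theorem nd_of {f : List ℤ} {F : List (List ℤ)} {j : ℤ} {C : NC} (h : chkN f F j C = true) {x : ℤ} (hx : 60 ≤ x) :
    ¬ ev x f - j ∣ j * (F.map (ev x)).prod := fun H => by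
  simp only [chkN, Bool.and_eq_true, beq_iff_eq, decide_eq_true_eq] at h
  obtain ⟨⟨⟨⟨h1, h2⟩, h3⟩, h4⟩, h5⟩ := h
  have a1 := ev_zero x h1
  have a5 := ev_nonneg (sub_nonneg.2 hx) h5
  simp only [ev_padd, ev_pmul, ev_psh, ev, add_sub_cancel] at a1 a5
  have := dvd_list (h := ev x C.1) (X := j) ((F.zip C.2.2).map fun p => (ev x p.1, p.2.2.2)) (fun p hp => by
    obtain ⟨p, hp', rfl⟩ := List.mem_map.1 hp
    have := ev_zero x (List.all_eq_true.1 h3 p hp')
    simp only [ev_padd, ev_pmul, ev] at this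
    exact ⟨ev x p.2.1, ev x p.2.2.1, by linear_combination this⟩) ((Dvd.intro (ev x C.2.1) (show _ = ev x f - j by linear_combination a1)).trans (by
      rwa [List.map_map, show Prod.fst ∘ (fun p : List ℤ × List ℤ × List ℤ × ℤ => (ev x p.1, p.2.2.2)) = ev x ∘ Prod.fst from rfl,
        ← List.map_map, List.map_fst_zip h2.le]))
  rw [List.map_map, show Prod.snd ∘ (fun p : List ℤ × List ℤ × List ℤ × ℤ => (ev x p.1, p.2.2.2)) =
    (fun p : List ℤ × List ℤ × ℤ => p.2.2) ∘ Prod.snd from rfl, ← List.map_map,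
    List.map_snd_zip h2.ge] at this
  have := Int.le_of_dvd h4 this
  omega

/-- Certificates. -/
noncomputable def nT : List NC := [
  ([-1,1,-1,1,-1,1,0,1], [1,0,-1,0,1], [
    ([3,4],
     [-10,-1,-9,-2,-8,-3,-4], 7),
    ([-3,-4,4,3,-3],
     [4,-1,5,-2,-1,-3,3], 7),
    ([1,-1,1,-1,1,6],
     [-8,2,-3,4,-5,-1,-6], 7),
    ([-1,1,6,1,-1,1,-1,1],
     [-6,-2,-4,3,-2,1,-1], 7),
    ([-4,-3,3,-3,-4,4,3,-3,-4],
     [3,1,2,-5,1,3,4], 7),
    ([-48,-43,64,-29,1,125,85,6,-27,-8,36,97],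
     [-211,-5,-59,88,-89,-36,-97], 259)]),
  ([2,1,1,1,2,1,1,0,1,1,1], [-1,1], [
    ([2,-1],
     [-8,0,-7,1,-4,1,-3,0,-1,1], 12),
    ([19,-7,-9,1,-5],
     [6,-5,6,-5,-13,2,15,13,4,5], 44),
    ([2,-1,14,11,-10,-13],
     [-32,0,29,37,8,-11,-15,12,23,13], 36),
    ([17,-16,-1,2,-7,8,-1,2],
     [-14,-15,-1,4,5,-5,0,-9,-1,-2], 48),
    ([1,-1,1,1,-1,-1,-1,1,1],
     [2,1,-2,-3,-1,2,1,-1,-2,-1], 4),
    ([29,-28,23,2,-19,-4,-25,26,5,20,-1,-22],
     [-14,-27,47,28,17,-29,-24,3,23,22], 72)])]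

theorem ndT (x : ℤ) (hx : 60 ≤ x) {j : ℕ} (h0 : 0 < j) (hj : j ≤ 2) : ¬ x * (x ^ 6 - x ^ 3 + 1) * (x ^ 4 + 1) - j ∣
    j * ((x ^ 2 - 1) * (x ^ 5 + 1) * (x ^ 6 - 1) * (x ^ 8 - 1) * (x ^ 9 + 1) * (x ^ 12 - 1)) := fun H =>
  nd_of (f := [0,1,0,0,-1,1,0,1,-1,0,0,1])
    (F := [[-1,0,1], [1,0,0,0,0,1], [-1,0,0,0,0,0,1], [-1,0,0,0,0,0,0,0,1], [1,0,0,0,0,0,0,0,0,1], [-1,0,0,0,0,0,0,0,0,0,0,0,1]])
    (C := nT.getD (j - 1) default) (j := j) (by clear H; interval_cases j <;> decide +kernel) hx (by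
      convert H using 1 <;> simp only [ev, List.map, List.prod_cons, List.prod_nil] <;> ring)

/-- Certificates. -/
noncomputable def nE6 : List NC := [
  ([-1,0,1,1,1,1,0,0,1,1], [1,-1,1], [
    ([-2,3],
     [-3,-3,-5,-2,-4,-1,-1,-1,-3], 5),
    ([-14,16,-4,1,6],
     [-11,-16,-10,1,-8,-12,3,-7,-6], 25),
    ([-12,13,-7,8,3,3],
     [-28,-13,-5,-7,-9,-1,-11,-6,-3], 40),
    ([-3,2,-3,2,2,-3,2,2],
     [-2,-2,0,-3,-6,1,1,-4,-2], 5),
    ([-7,8,-7,3,-2,3,3,-2,3],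
     [-3,-8,0,-2,-4,-6,-1,-1,-3], 10),
    ([-32,13,-27,28,3,-17,8,13,13,-12,3,23],
     [-48,-13,-5,-47,-49,-1,9,-26,-23], 80)]),
  ([-2,1,2,-1,-1,2,1,-1,0,1], [1,0,1], [
    ([0,1],
     [-2,-2,-1,0,-2,-1,0,0,-1], 2),
    ([-5,13,-9,11,21],
     [-52,-31,21,0,-57,-23,30,-11,-21], 62),
    ([-2,-1,-2,3,4,3],
     [-6,0,-1,-8,-6,3,0,-4,-3], 10),
    ([-13,5,-11,7,11,5,13,7],
     [-22,-23,1,-2,-29,-5,2,-13,-7], 48),
    ([-3,1,-3,2,1,2,2,1,2],
     [-4,-5,1,-2,-4,-3,0,-1,-2], 10),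
    ([-101,-23,-91,59,67,49,29,-13,19,49,77,59],
     [-158,-55,-43,-154,-133,-1,10,-77,-59], 360)]),
  ([-3,1,0,0,1,1,0,1,1,0,0,1], [1], [
    ([1,4],
     [-18,-11,-14,-11,-13,-6,-9,-5,-4,-1,-4], 15),
    ([-61,20,47,56,59],
     [-180,-121,-121,-121,-182,-162,-54,-79,-47,-56,-59], 363),
    ([-6,1,4,6,4,1],
     [-12,-9,-11,-14,-12,-4,-6,-5,-6,-4,-1], 30),
    ([-6,1,4,1,-1,1,4,1],
     [3,-9,-11,1,-2,-9,-6,0,-1,-4,-1], 15),
    ([-4,1,1,2,1,1,2,1,1],
     [-6,-7,-2,-5,-5,-5,-3,-2,-2,-1,-1], 18),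
    ([-42,2,23,12,-7,2,18,2,-7,12,23,2],
     [6,-48,-67,-13,-9,-53,-27,5,-12,-23,-2], 120)]),
  ([-4,1,0,0,1,1,0,1,1,0,0,1], [1], [
    ([1,2],
     [-10,-7,-8,-7,-7,-4,-5,-3,-2,-1,-2], 6),
    ([-57,71,103,111,113],
     [-454,-341,-341,-341,-398,-327,-167,-184,-103,-111,-113], 682),
    ([-13,10,17,22,17,10],
     [-74,-53,-58,-71,-59,-26,-37,-27,-22,-17,-10], 126),
    ([-5,2,4,2,1,2,4,2],
     [-4,-13,-14,-4,-7,-10,-8,-3,-2,-4,-2], 24),
    ([-4,2,2,3,2,2,3,2,2],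
     [-12,-12,-6,-10,-9,-8,-6,-4,-3,-2,-2], 28),
    ([-127,25,74,55,11,25,62,25,11,55,74,25],
     [-122,-227,-271,-146,-116,-191,-124,-36,-55,-74,-25], 630)]),
  ([-5,1,0,0,1,1,0,1,1,0,0,1], [1], [
    ([3,4],
     [-22,-17,-18,-17,-15,-10,-11,-7,-4,-3,-4], 7),
    ([39,164,189,194,195],
     [-976,-781,-781,-781,-742,-578,-428,-359,-189,-194,-195], 781),
    ([2,19,23,26,23,19],
     [-122,-93,-96,-107,-87,-51,-61,-42,-26,-23,-19], 112),
    ([-8,15,20,15,13,15,20,15],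
     [-65,-83,-85,-55,-58,-55,-50,-28,-15,-20,-15], 105),
    ([-2,5,5,6,5,5,6,5,5],
     [-30,-27,-20,-25,-21,-17,-15,-10,-6,-5,-5], 40),
    ([-206,171,263,234,151,171,242,171,151,234,263,171],
     [-986,-1061,-1144,-907,-727,-739,-605,-322,-234,-263,-171], 2016)]),
  ([6,5,5,5,4,3,3,2,1,1,1], [-1,1], [
    ([5,-4],
     [-6,1,-1,6,-1,5,2,3,-1,4], 36),
    ([1927,-1493,-197,19,55],
     [366,677,988,1299,-317,-440,1561,123,-74,-55], 11196),
    ([73,-68,-11,-8,13,16],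
     [-102,-43,-41,-78,-65,13,-26,-21,-29,-16], 540),
    ([26,-25,-4,5,2,-1,-4,5],
     [12,-20,-19,15,-4,-13,-7,0,-1,-5], 144),
    ([49,-47,1,-5,7,1,-5,7,1],
     [-30,-37,16,-15,-17,-20,-5,-3,-8,-1], 324),
    ([1186,-1151,-212,79,226,-23,-164,199,58,-191,-44,247],
     [-444,-976,-1097,-411,-320,-719,-317,-12,-203,-247], 7560)])]

theorem ndE6 (x : ℤ) (hx : 60 ≤ x) {j : ℕ} (h0 : 0 < j) (hj : j ≤ 6) : ¬ x * (x ^ 6 + x ^ 3 + 1) * (x ^ 4 + 1) - j ∣
    j * ((x ^ 2 - 1) * (x ^ 5 - 1) * (x ^ 6 - 1) * (x ^ 8 - 1) * (x ^ 9 - 1) * (x ^ 12 - 1)) := fun H =>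
  nd_of (f := [0,1,0,0,1,1,0,1,1,0,0,1])
    (F := [[-1,0,1], [-1,0,0,0,0,1], [-1,0,0,0,0,0,1], [-1,0,0,0,0,0,0,0,1], [-1,0,0,0,0,0,0,0,0,1], [-1,0,0,0,0,0,0,0,0,0,0,0,1]])
    (C := nE6.getD (j - 1) default) (j := j) (by clear H; interval_cases j <;> decide +kernel) hx (by
      convert H using 1 <;> simp only [ev, List.map, List.prod_cons, List.prod_nil] <;> ring)

/-- Certificates. -/
noncomputable def nE8 : List NC := [
  ([-1,0,0,1,0,1,0,1,0,1,0,1,0,1,0,0,-1,0,0,1,1,1], [1,-1,0,1,-1,1,0,-1,1], [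
    ([1,8],
     [-64,-8,-64,-7,-56,-6,-48,-5,-40,-4,-32,-3,-24,-2,-16,-2,-17,-10,-17,-9,-8], 63),
    ([-110,65,16,-61,79,-61,16,65],
     [47,-65,-16,-49,-14,-33,-12,-80,-10,-64,-8,-48,-6,-32,-4,31,43,-34,-20,-81,-65], 63),
    ([-115,25,74,-101,137,-101,74,25,-115,88,-52,88],
     [-74,-25,-74,-14,-112,60,-150,71,-62,82,-100,-33,-138,-22,-50,104,2,79,-124,-36,-88], 189),
    ([-314,134,190,-244,253,-181,-125,323,-62,-55,1,8,64,71],
     [-127,-134,-190,-70,-119,57,15,-194,-229,59,31,-66,-87,-128,-142,187,46,-73,-143,-135,-71], 441),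
    ([-3803,194,2623,-4783,4072,-2326,-401,2840,-2102,320,859,-436,1867,-184,-2858,3722,-86,2021],
     [-6970,-194,-2623,980,-3878,1146,-4188,52,-4813,2171,-4934,825,-5622,1432,-1333,3196,-680,-778,-5657,-1935,-2021], 10773),
    ([-44,26,19,-37,19,-37,19,26,-44,26,19,-37,19,26,-44,26,19,-37,19,26],
     [-19,-26,-19,-7,7,12,-30,-32,-4,-13,-41,6,-15,-38,11,25,-8,-1,-8,-45,-26], 63),
    ([-152,107,37,-145,163,-145,37,107,-152,44,-26,44,37,-82,37,44,-26,44,37,-82,37,44,-26,44],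
     [-37,-107,-37,-7,-56,30,-75,-59,-31,41,-50,-111,-69,-11,-25,52,1,-55,-62,-18,-44], 189),
    ([-2879656,673558,1524422,-2025299,894926,-1760888,1493426,391948,-2507326,2274640,168599,-1025867,1383617,-155207,-1812562,790423,889445,-634448,133571,679039,397982,-665444,607835,1162753,-1395439,-47288,1133003,-775253,60680,1857517],
     [-2949293,-673558,-1524422,-854357,-221368,405654,-2845167,-852256,-605303,-1241522,-2889280,-448341,-1829658,-1150402,340654,2167241,-310462,-418430,-1142944,-1918197,-1857517], 5828949)]),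
  ([-2,-1,1,0,0,2,1,0,1,0,-2,0,1,0,1,2,0,0,1,0,-1,0,0,0,1,1], [1,-1,1,-1,1], [
    ([-1,2],
     [-4,-3,-7,-1,-7,-3,-4,-1,-5,1,-3,-3,-4,-1,-5,-1,-1,-1,-2,1,-1,-1,-1,-1,-2], 6),
    ([-1,2,-1,2,-1,-1,2,-1],
     [-4,-3,-1,-1,-1,3,-1,-1,1,-2,-3,0,-1,-1,1,2,-1,-1,1,-2,-1,2,-1,-1,1], 6),
    ([-4,5,-7,5,-4,2,5,-4,2,-4,5,2],
     [-10,-6,5,2,-4,-3,-10,-4,4,4,-3,-6,-4,-7,1,2,-4,-4,-2,1,2,2,-1,-7,-2], 18),
    ([-10933,8186,-6829,10238,-5803,-5632,2645,-1408,4757,-352,5285,-88,5417,-22],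
     [-10900,-5439,-5461,-5461,-5461,5439,-22,-10933,-2747,1357,-7491,-11937,-8710,-15277,-4919,11171,2855,-1303,2068,-4427,-4933,-5197,-5329,-5395,22], 32766),
    ([-37727,30007,-47921,38125,-28097,9688,11971,-827,-3605,-10025,22825,-212,32995,-21941,15331,-20861,12511,19480],
     [-54848,-22287,28108,1678,-29852,-28608,-39440,-66464,10610,34766,-20418,-20685,-2618,-33917,-16864,12550,-9980,-62954,-20272,8426,6610,5530,8350,-31991,-19480], 130302),
    ([-16,17,-15,17,-15,0,3,-1,3,-1,8,-7,9,-7,9,0,3,-1,3,-1],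
     [-16,-18,-3,-2,-2,0,-3,-14,1,2,-10,-6,-3,-14,1,0,-2,-2,1,-10,-3,-2,-2,-2,1], 48),
    ([-13,14,-16,14,-13,2,5,-4,2,-4,5,2,5,-4,2,-4,5,2,5,-4,2,-4,5,2],
     [-10,-15,5,2,-4,-3,-10,-13,4,4,-3,-15,-4,-7,1,2,-4,-13,-2,1,2,2,-1,-7,-2], 36),
    ([-36,33,-35,33,-35,16,-5,3,-5,3,12,-3,13,-15,13,-20,19,-9,19,-21,12,-15,13,-3,13,4,-5,3,-5,15],
     [0,-30,1,2,2,-36,-11,-22,-3,-2,2,-30,-11,-10,-3,4,2,-22,-15,-2,1,2,2,-10,-15], 72)]),
  ([-3,1,0,0,0,0,0,1,0,0,0,1,0,1,0,0,0,1,0,1,0,0,0,1,0,0,0,0,0,1], [1], [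
    ([3,8],
     [-64,-21,-56,-21,-56,-21,-56,-18,-48,-18,-48,-15,-40,-12,-32,-12,-32,-9,-24,-6,-16,-6,-16,-3,-8,-3,-8,-3,-8], 55),
    ([-39,6,16,6,16,6,16,6],
     [-48,-57,-42,-2,-42,-2,-42,-41,-36,-41,-36,-25,-30,-9,-24,-9,-24,-48,-18,-32,-12,23,-12,-16,-6,-16,-6,-16,-6], 165),
    ([-17,138,-72,-192,-72,138,368,138,-72,-192,-72,138],
     [-1104,-431,354,504,24,-486,-966,-63,492,432,-168,-575,-690,-152,438,288,-222,-279,-414,144,384,144,-276,-368,-138,72,192,72,-138], 1155),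
    ([-8943156,-2383181,799929,864514,1882494,1225369,2002779,1265464,2016144,1269919,2017629,1270414,2017794,1270469],
     [-6053437,-1793613,-4782968,-1793613,-4782968,-1793613,-4782968,-10736769,-7166149,-993684,-3918454,-8854275,-5940780,-7934061,-5036171,2904954,-1423166,-4833867,-3404902,-3900123,-2495783,-4020573,-2535933,-2016144,-1269919,-2017629,-1270414,-2017794,-1270469], 32882905),
    ([-39456612,8201553,-25500087,-47560967,-26247372,41216073,95453163,52172403,-12318072,-44851722,-10915902,8668943,73516248,41465168,-15315297,-49276527,-15970182,51954108],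
     [-307804759,-64061271,84701814,117182814,31181149,-149895591,-245143416,-100520658,97328172,96737007,-59664983,-102626715,-162462175,-20382792,100224048,68448753,-52562597,-152999229,-145591679,27633369,94128249,26886084,-60623051,-73516248,-41465168,15315297,49276527,15970182,-51954108], 426174595),
    ([-331,-21,54,-21,54,144,54,-21,54,-21,-56,-21,54,-21,54,144,54,-21,54,-21],
     [168,-268,-183,117,-183,-378,-18,-214,-204,171,126,-270,-60,-106,-246,-216,84,-162,-102,2,42,-108,42,-54,-144,-54,21,-54,21], 825),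
    ([-201,69,-36,-96,-36,69,184,69,-36,-96,-36,69,184,69,-36,-96,-36,69,184,69,-36,-96,-36,69],
     [-552,-408,177,252,12,-243,-483,-224,246,216,-84,-480,-345,-76,219,144,-111,-332,-207,72,192,72,-138,-184,-69,36,96,36,-69], 1155),
    ([-4608,197,-153,-1178,-153,2892,2322,197,-153,-1178,-1308,197,2322,197,-153,-408,-153,197,2322,197,-1308,-1178,-153,197,2322,2892,-153,-1178,-153,197],
     [-1576,-5199,656,3381,-719,-8829,-4074,-2877,853,3228,1568,-6660,-3680,-708,-128,612,587,-4491,-3286,1461,2356,306,-394,-2322,-2892,153,1178,153,-197], 15400)]),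
  ([-4,-3,1,4,3,-1,-4,-2,2,4,2,-1,-3,-1,2,3,1,-1,-2,0,2,2,0,-1,-1,0,1,1], [1,-1,1], [
    ([0,1],
     [-4,-4,-7,-3,-3,0,-4,-4,-6,-2,-2,0,-3,-3,-4,-1,-1,0,-2,-2,-2,0,0,0,-1,-1,-1], 4),
    ([-1,2,-1,0,1,0,1],
     [-4,-5,-3,1,0,0,-4,-4,-2,0,0,-1,-3,-2,-1,1,0,-2,-2,-2,0,2,0,-1,-1,-1], 8),
    ([-24,33,-23,4,7,3,16,-7,17,4,7,3],
     [-64,-60,-31,-10,-3,2,-56,-38,-24,-8,-4,-18,-39,-48,-14,-4,-3,2,-24,-20,-4,2,0,-18,-11,-10,-3], 160),
    ([-13123512,14614819,-9768068,-2442017,3863420,965855,4715388,1178847,4768636,1192159,4771964,1192991,4772172,1193043],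
     [-19088740,-19088740,-17895697,1193043,1193043,0,-19088740,-32212252,-16404390,6039794,2106470,-13193416,-17614909,-22597685,-9526824,11934849,3281973,-8425616,-11650774,-11860542,-2368614,4368,1092,-4771912,-5965163,-5965215,-1193043], 71582788),
    ([-42767612,43479559,-30956729,-2788068,2568501,7832089,11222148,246599,13336391,8186892,8662021,-6437191,20403028,-7513241,9263511,5743612,8268741,6961929],
     [-51778272,-45615400,-49379373,-23568430,12748871,7557446,-42247928,-82337234,-49708712,-17739384,2720068,14671126,-24786597,-51503924,-30346522,-7605372,8640711,-23647834,-31983832,-30935900,-12882572,1122566,13480400,-8045194,-14012353,-15230670,-6961929], 222848720),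
    ([-5,6,-5,-1,2,1,0,1,2,-1,1,0,1,-1,2,1,0,1,2,-1],
     [-4,-9,-3,5,-1,-8,-6,-7,-2,6,2,-6,-5,-4,-2,-1,1,-4,-4,-1,2,0,0,-2,-3,-1,1], 24),
    ([-64,73,-63,4,7,3,16,-7,17,4,7,3,16,-7,17,4,7,3,16,-7,17,4,7,3],
     [-64,-100,-31,-10,-3,2,-56,-78,-24,-8,-4,-58,-39,-48,-14,-4,-3,-38,-24,-20,-4,2,0,-18,-11,-10,-3], 320),
    ([-796,837,-787,-44,103,227,-36,77,253,-44,23,27,164,-203,253,-4,63,-13,244,-203,173,36,23,-53,244,77,-27,236,103,-53],
     [-416,-960,-159,190,-107,-1102,-624,-662,-136,168,124,-822,-511,-332,-166,4,53,-542,-416,-20,124,18,0,-262,-339,-50,53], 3600)]),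
  ([-5,1,0,0,0,0,0,1,0,0,0,1,0,1,0,0,0,1,0,1,0,0,0,1,0,0,0,0,0,1], [1], [
    ([5,8],
     [-64,-35,-56,-35,-56,-35,-56,-30,-48,-30,-48,-25,-40,-20,-32,-20,-32,-15,-24,-10,-16,-10,-16,-5,-8,-5,-8,-5,-8], 39),
    ([-23,10,16,10,16,10,16,10],
     [-80,-73,-70,-34,-70,-34,-70,-57,-60,-57,-60,-41,-50,-25,-40,-25,-40,-48,-30,-32,-20,7,-20,-16,-10,-16,-10,-16,-10], 195),
    ([-463,-70,200,320,200,-70,-112,-70,200,320,200,-70],
     [560,-113,-1070,-1400,-680,550,490,-225,-1140,-1200,-360,287,350,-488,-890,-800,-110,375,210,-400,-640,-400,140,112,70,-200,-320,-200,70], 1755),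
    ([-1506805420,-47047933,397491455,333811442,473663330,349045817,476710205,349655192,476832080,349679567,476836955,349680542,476837150,349680581],
     [-2384185789,-1271565755,-2034505208,-1271565755,-2034505208,-1271565755,-2034505208,-2778371175,-2081553141,-874074300,-1700693766,-2304707845,-1732507324,-1904169515,-1398086507,76421110,-1001968382,-1351160685,-1033171590,-950500285,-698726359,-953547355,-699335773,-476832080,-349679567,-476836955,-349680542,-476837150,-349680581], 9918212889),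
    ([-8700603820,-1894125403,2615966315,4455286445,2606957900,-597601603,-1411472815,-442055953,2894953400,4502595278,2906287190,-1891858645,-1929989320,-595799920,2866169645,4445461253,2863844270,-442521028],
     [6748539533,770023195,-14973956978,-19660465910,-8579503055,5594965915,6459762472,-7901796870,-16810948356,-17002056675,-5573554227,6271934495,5266360949,-6447100040,-12807543056,-11243259005,-1513479977,477617865,1480376901,-5761123045,-8948056531,-5770131460,2334379673,1929989320,595799920,-2866169645,-4445461253,-2863844270,442521028], 36754479567),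
    ([-249,15,50,15,50,80,50,15,50,15,24,15,50,15,50,80,50,15,50,15],
     [-120,-324,-235,-25,-235,-350,-170,-274,-220,25,-90,-250,-140,-174,-190,-200,-60,-150,-110,-74,-30,-100,-30,-50,-80,-50,-15,-50,-15], 1365),
    ([-407,-35,100,160,100,-35,-56,-35,100,160,100,-35,-56,-35,100,160,100,-35,-56,-35,100,160,100,-35],
     [280,-232,-535,-700,-340,275,245,-288,-570,-600,-180,-32,175,-244,-445,-400,-55,12,105,-200,-320,-200,70,56,35,-100,-160,-100,35], 1755),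
    ([-4720,-493,935,1418,935,404,-430,-493,935,1418,740,-493,-430,-493,935,1496,935,-493,-430,-493,740,1418,935,-493,-430,404,935,1418,935,-493],
     [3944,-2255,-5168,-6155,-3257,-1085,2554,-2685,-5661,-5220,-864,-580,1568,-2180,-4736,-3740,61,-75,582,-1675,-2836,-1870,986,430,-404,-935,-1418,-935,493], 19656)]),
  ([-6,1,0,0,0,0,0,1,0,0,0,1,0,1,0,0,0,1,0,1,0,0,0,1,0,0,0,0,0,1], [1], [
    ([3,4],
     [-32,-21,-28,-21,-28,-21,-28,-18,-24,-18,-24,-15,-20,-12,-16,-12,-16,-9,-12,-6,-8,-6,-8,-3,-4,-3,-4,-3,-4], 14),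
    ([-3,3,4,3,4,3,4,3],
     [-24,-21,-21,-14,-21,-14,-21,-17,-18,-17,-18,-13,-15,-9,-12,-9,-12,-12,-9,-8,-6,-1,-6,-4,-3,-4,-3,-4,-3], 42),
    ([-31,3,18,24,18,3,4,3,18,24,18,3],
     [-24,-49,-105,-126,-84,0,-21,-45,-102,-108,-60,-13,-15,-58,-75,-72,-33,9,-9,-36,-48,-36,-6,-4,-3,-18,-24,-18,-3], 210),
    ([-3497067459,536643482,1582091325,1383169946,1723179069,1406684570,1727098173,1407337754,1727207037,1407355898,1727210061,1407356402,1727210145,1407356416],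
     [-10363260884,-6716928351,-8955904468,-6716928351,-8955904468,-6716928351,-8955904468,-10213995810,-8419260986,-5134837026,-7572734522,-8490816741,-7012576416,-6904806312,-5628753286,-1684450920,-4758694054,-5036508507,-4197882260,-3450389130,-2814040972,-3454308318,-2814694170,-1727207037,-1407355898,-1727210061,-1407356402,-1727210145,-1407356416], 31345665638),
    ([-27289183203,-1481111616,9829813824,13765282372,9810354804,3134102064,2770209657,3518671704,10640155524,13885846662,10663016544,-1477301446,1231899597,3137345234,10579462584,13748113542,10576060584,3518104704],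
     [-17386587052,-18402513507,-60459994560,-72761880408,-45096846452,-8994257580,-13487155878,-45631003770,-61803373056,-62845110624,-36326970230,2047996821,-7215708580,-32281331529,-44536587810,-41628894516,-18923018864,-14578169838,-10174121642,-21219618108,-27633960204,-21239077128,-2040803258,-1231899597,-3137345234,-10579462584,-13748113542,-10576060584,-3518104704], 181121686270),
    ([-92,15,27,15,27,36,27,15,27,15,20,15,27,15,27,36,27,15,27,15],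
     [-120,-182,-147,-63,-147,-189,-126,-155,-132,-36,-90,-135,-96,-101,-102,-108,-60,-81,-66,-47,-30,-54,-30,-27,-36,-27,-15,-27,-15], 672),
    ([-66,3,18,24,18,3,4,3,18,24,18,3,4,3,18,24,18,3,4,3,18,24,18,3],
     [-24,-84,-105,-126,-84,0,-21,-80,-102,-108,-60,-48,-15,-58,-75,-72,-33,-26,-9,-36,-48,-36,-6,-4,-3,-18,-24,-18,-3], 420),
    ([-468,-1,99,127,99,84,27,-1,99,127,84,-1,27,-1,99,132,99,-1,27,-1,84,127,99,-1,27,84,99,127,99,-1],
     [8,-462,-595,-663,-467,-405,-78,-435,-596,-564,-250,-279,-80,-309,-470,-396,-124,-153,-82,-183,-254,-198,2,-27,-84,-99,-127,-99,1], 2800)]),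
  ([-7,1,0,0,0,0,0,1,0,0,0,1,0,1,0,0,0,1,0,1,0,0,0,1,0,0,0,0,0,1], [1], [
    ([7,8],
     [-64,-49,-56,-49,-56,-49,-56,-42,-48,-42,-48,-35,-40,-28,-32,-28,-32,-21,-24,-14,-16,-14,-16,-7,-8,-7,-8,-7,-8], 15),
    ([1,14,16,14,16,14,16,14],
     [-112,-97,-98,-82,-98,-82,-98,-81,-84,-81,-84,-65,-70,-49,-56,-49,-56,-48,-42,-32,-28,-17,-28,-16,-14,-16,-14,-16,-14], 105),
    ([-223,238,392,448,392,238,272,238,392,448,392,238],
     [-1904,-1889,-2506,-2744,-2296,-1274,-1666,-1617,-2268,-2352,-1848,-1105,-1190,-1448,-1582,-1568,-1162,-441,-714,-784,-896,-784,-476,-272,-238,-392,-448,-392,-238], 3465),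
    ([-11732653604,12453553979,17927247541,16690682714,18532551646,16777154729,18544904791,16778919464,18545156896,16778955479,18545162041,16778956214,18545162146,16778956229],
     [-129816135037,-98907531457,-113037178808,-98907531457,-113037178808,-98907531457,-113037178808,-110640185061,-100583624829,-80980283916,-96346496094,-92107633415,-83806470100,-74168032729,-67114022651,-43902575374,-62790385886,-55017566583,-50248594422,-37077713687,-33556110943,-37090066937,-33557875693,-18545156896,-16778955479,-18545162041,-16778956214,-18545162146,-16778956229], 211944710265),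
    ([-229170430244,84495829829,190577952481,222972106349,190442578396,134134560509,139990721731,137173566479,197950471096,223941513854,198102993466,84517618739,125808577216,134153899664,197533475671,222871407509,197516327386,137171116724],
     [-985991275147,-820641239047,-1249549837538,-1370226791962,-1110125942423,-748499345167,-845800491608,-1049394673866,-1163983901364,-1179062173401,-939807334059,-432248189555,-577512031435,-711870476464,-803938927376,-783595374919,-578694703481,-463315626333,-408498582867,-395483946767,-446812921363,-395619320852,-221688735463,-125808577216,-134153899664,-197533475671,-222871407509,-197516327386,-137171116724], 2590184286855),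
    ([-137,77,98,77,98,112,98,77,98,77,88,77,98,77,98,112,98,77,98,77],
     [-616,-676,-609,-441,-609,-686,-574,-578,-532,-343,-462,-490,-420,-382,-378,-392,-308,-294,-266,-186,-154,-196,-154,-98,-112,-98,-77,-98,-77], 1575),
    ([-359,119,196,224,196,119,136,119,196,224,196,119,136,119,196,224,196,119,136,119,196,224,196,119],
     [-952,-1192,-1253,-1372,-1148,-637,-833,-1056,-1134,-1176,-924,-800,-595,-724,-791,-784,-581,-468,-357,-392,-448,-392,-238,-136,-119,-196,-224,-196,-119], 3465),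
    ([-13832,2747,5453,6122,5453,5332,3878,2747,5453,6122,5068,2747,3878,2747,5453,6232,5453,2747,3878,2747,5068,6122,5453,2747,3878,5332,5453,6122,5453,2747],
     [-21976,-33061,-35424,-37401,-32049,-31871,-21814,-29183,-32677,-31948,-23232,-22540,-16320,-19852,-23808,-21812,-14363,-13209,-10826,-10521,-12244,-10906,-5494,-3878,-5332,-5453,-6122,-5453,-2747], 118800)]),
  ([8,7,7,7,7,7,7,6,6,6,6,5,5,4,4,4,4,3,3,2,2,2,2,1,1,1,1,1,1], [-1,1], [
    ([8,-7],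
     [-56,0,-49,7,-42,14,-35,13,-29,19,-23,17,-18,14,-14,18,-10,14,-7,9,-5,11,-3,5,-2,6,-1,7], 120),
    ([53,-52,-7,8,-7,8,-7,8],
     [-56,-45,-49,22,-42,29,-35,-17,-29,-11,-23,2,-18,14,-14,18,-10,-31,-7,-21,-5,41,-3,-10,-2,-9,-1,-8], 480),
    ([83,-82,-22,-7,8,23,-7,8,-22,-7,8,23],
     [-56,-75,-169,-203,-132,44,-35,-47,-149,-161,-83,2,-18,-91,-104,-102,-40,44,-7,-51,-65,-49,-3,-10,-2,-24,-31,-23], 720),
    ([141995022872,-121871146303,-23960176048,6977872577,-7854048688,8991138497,-7602390448,9022595777,-7598458288,9023087297,-7598396848,9023094977,-7598395888,9023095097],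
     [-60787166984,18995989680,-50814272401,28968884263,-40841377818,38941778846,-30868483235,-93080349443,-41019465221,62723867491,-14064267167,-68422084687,-25352338962,-56001638674,-19941222806,99254616882,4452256430,-34704773794,-9680718823,-25133164359,-7118930885,-22319717221,-4274026347,-11872484635,-2849397338,-10447794186,-1424699209,-9023095097], 1196747349960),
    ([1112561561054,-962650730341,-265756507006,-69548128351,78202438424,138734172599,-26624653666,28691652059,-141659066686,-54178166311,62306121824,291813759599,-127971451546,1203239699,-147196006006,-52741026151,61168377824,149273264759],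
     [-174969724808,86725084650,-1076676241057,-1367304760859,-672137125116,359533817252,7802415325,-848601275591,-1047914730797,-1073924487593,-451749218339,629690737151,138021922926,-544561108318,-719825189432,-665344257366,-138264086560,-231691813948,-52523657431,-341378730123,-448297922585,-324823422937,116263601421,-11707850125,-10504610426,-157700616432,-210441642583,-149273264759], 9075462213240),
    ([143,-142,-12,13,-12,-7,8,13,-12,13,-7,8,-12,13,-12,-7,8,13,-12,13],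
     [-56,-135,-89,27,-82,-126,-55,-102,-69,59,-23,-83,-38,-61,-54,-62,-10,-46,-27,-26,-5,-29,-3,-15,-22,-14,-1,-13], 1200),
    ([173,-172,-22,-7,8,23,-7,8,-22,-7,8,23,-7,8,-22,-7,8,23,-7,8,-22,-7,8,23],
     [-56,-165,-169,-203,-132,44,-35,-137,-149,-161,-83,-88,-18,-91,-104,-102,-40,-46,-7,-51,-65,-49,-3,-10,-2,-24,-31,-23], 1440),
    ([4578,-4557,-602,-127,148,3,318,323,-602,-127,228,543,-302,323,-602,-147,168,623,-302,323,-522,-207,148,623,-302,-297,18,-127,148,623],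
     [-1176,-4410,-4669,-5083,-3772,-3896,-1355,-3667,-4249,-4061,-1983,-2593,-998,-2406,-3184,-2702,-960,-1416,-767,-1271,-1605,-1309,-63,-365,-662,-644,-771,-623], 37800)])]

theorem ndE8 (x : ℤ) (hx : 60 ≤ x) {j : ℕ} (h0 : 0 < j) (hj : j ≤ 8) : ¬ x * (x ^ 12 + 1) * (x ^ 10 + 1) * (x ^ 6 + 1) - j ∣
    j * ((x ^ 2 - 1) * (x ^ 8 - 1) * (x ^ 12 - 1) * (x ^ 14 - 1) * (x ^ 18 - 1) * (x ^ 20 - 1) * (x ^ 24 - 1) * (x ^ 30 - 1)) := fun H =>
  nd_of (f := [0,1,0,0,0,0,0,1,0,0,0,1,0,1,0,0,0,1,0,1,0,0,0,1,0,0,0,0,0,1])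
    (F := [[-1,0,1], [-1,0,0,0,0,0,0,0,1], [-1,0,0,0,0,0,0,0,0,0,0,0,1], [-1,0,0,0,0,0,0,0,0,0,0,0,0,0,1], [-1,0,0,0,0,0,0,0,0,0,0,0,0,0,0,0,0,0,1], [-1,0,0,0,0,0,0,0,0,0,0,0,0,0,0,0,0,0,0,0,1], [-1,0,0,0,0,0,0,0,0,0,0,0,0,0,0,0,0,0,0,0,0,0,0,0,1], [-1,0,0,0,0,0,0,0,0,0,0,0,0,0,0,0,0,0,0,0,0,0,0,0,0,0,0,0,0,0,1]])
    (C := nE8.getD (j - 1) default) (j := j) (by clear H; interval_cases j <;> decide +kernel) hx (by
      convert H using 1 <;> simp only [ev, List.map, List.prod_cons, List.prod_nil] <;> ring)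

set_option synthInstance.maxSize 1000 in
theorem finT {q k : ℕ} (hq : IsPrimePow q) (h1 : q * (q ^ 6 - q ^ 3 + 1) * (q ^ 4 + 1) ≤ k + 2)
    (h2 : k ∣ q ^ 36 * (q ^ 2 - 1) * (q ^ 5 + 1) * (q ^ 6 - 1) * (q ^ 8 - 1) * (q ^ 9 + 1) * (q ^ 12 - 1)) :
    q * (q ^ 6 - q ^ 3 + 1) * (q ^ 4 + 1) ≤ k := by
  by_contra! h3
  obtain ⟨j, h5, rfl, h0, hj⟩ : ∃ j ≤ q * (q ^ 6 - q ^ 3 + 1) * (q ^ 4 + 1), k = q * (q ^ 6 - q ^ 3 + 1) * (q ^ 4 + 1) - j ∧ 0 < j ∧ j ≤ 2 :=
    ⟨q * (q ^ 6 - q ^ 3 + 1) * (q ^ 4 + 1) - k, by omega, by omega, by omega, by omega⟩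
  rcases lt_or_ge q 60 with h | h
  · exact absurd h2 ((by decide +kernel : ∀ q < 60, ∀ j ≤ 2, 2 ≤ q → 0 < j → ¬ q * (q ^ 6 - q ^ 3 + 1) * (q ^ 4 + 1) - j ∣
      q ^ 36 * (q ^ 2 - 1) * (q ^ 5 + 1) * (q ^ 6 - 1) * (q ^ 8 - 1) * (q ^ 9 + 1) * (q ^ 12 - 1)) q h j hj hq.two_le h0)
  have p : ∀ n, 1 ≤ q ^ n := fun n => Nat.one_le_pow _ _ (by omega)
  have h6 := Int.natCast_dvd_natCast.2 h2
  push_cast [Nat.cast_sub h5, Nat.cast_sub (p _), Nat.cast_sub (Nat.pow_le_pow_right hq.pos (by norm_num : 3 ≤ 6))] at h6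
  refine ndT q (by omega) h0 hj (dvd_ppart (N := 36) (u := (q ^ 6 - q ^ 3 + 1) * (q ^ 4 + 1)) hq h0 (by omega) (by ring) ?_)
  simpa only [mul_assoc] using h6

set_option synthInstance.maxSize 1000 in
theorem finE6 {q k : ℕ} (hq : IsPrimePow q) (h1 : q * (q ^ 6 + q ^ 3 + 1) * (q ^ 4 + 1) ≤ k + 6)
    (h2 : k ∣ q ^ 36 * (q ^ 2 - 1) * (q ^ 5 - 1) * (q ^ 6 - 1) * (q ^ 8 - 1) * (q ^ 9 - 1) * (q ^ 12 - 1)) (h4 : q = 2 ∨ q = 4 → ¬ 31 ∣ k) :
    q * (q ^ 6 + q ^ 3 + 1) * (q ^ 4 + 1) ≤ k := by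
  by_contra! h3
  obtain ⟨j, h5, rfl, h0, hj⟩ : ∃ j ≤ q * (q ^ 6 + q ^ 3 + 1) * (q ^ 4 + 1), k = q * (q ^ 6 + q ^ 3 + 1) * (q ^ 4 + 1) - j ∧ 0 < j ∧ j ≤ 6 :=
    ⟨q * (q ^ 6 + q ^ 3 + 1) * (q ^ 4 + 1) - k, by omega, by omega, by omega, by omega⟩
  rcases lt_or_ge q 60 with h | h
  · exact absurd h2 ((by decide +kernel : ∀ q < 60, ∀ j ≤ 6, 2 ≤ q → 0 < j → (q = 2 ∨ q = 4 → ¬ 31 ∣ q * (q ^ 6 + q ^ 3 + 1) * (q ^ 4 + 1) - j) → ¬ q * (q ^ 6 + q ^ 3 + 1) * (q ^ 4 + 1) - j ∣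
      q ^ 36 * (q ^ 2 - 1) * (q ^ 5 - 1) * (q ^ 6 - 1) * (q ^ 8 - 1) * (q ^ 9 - 1) * (q ^ 12 - 1)) q h j hj hq.two_le h0 h4)
  have p : ∀ n, 1 ≤ q ^ n := fun n => Nat.one_le_pow _ _ (by omega)
  have h6 := Int.natCast_dvd_natCast.2 h2
  push_cast [Nat.cast_sub h5, Nat.cast_sub (p _)] at h6
  refine ndE6 q (by omega) h0 hj (dvd_ppart (N := 36) (u := (q ^ 6 + q ^ 3 + 1) * (q ^ 4 + 1)) hq h0 (by omega) (by ring) ?_)
  simpa only [mul_assoc] using h6

set_option synthInstance.maxSize 1000 in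
theorem finE8 {q k : ℕ} (hq : IsPrimePow q) (h1 : q * (q ^ 12 + 1) * (q ^ 10 + 1) * (q ^ 6 + 1) ≤ k + 8)
    (h2 : k ∣ q ^ 120 * (q ^ 2 - 1) * (q ^ 8 - 1) * (q ^ 12 - 1) * (q ^ 14 - 1) * (q ^ 18 - 1) * (q ^ 20 - 1) * (q ^ 24 - 1) * (q ^ 30 - 1)) :
    q * (q ^ 12 + 1) * (q ^ 10 + 1) * (q ^ 6 + 1) ≤ k := by
  by_contra! h3
  obtain ⟨j, h5, rfl, h0, hj⟩ : ∃ j ≤ q * (q ^ 12 + 1) * (q ^ 10 + 1) * (q ^ 6 + 1), k = q * (q ^ 12 + 1) * (q ^ 10 + 1) * (q ^ 6 + 1) - j ∧ 0 < j ∧ j ≤ 8 :=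
    ⟨q * (q ^ 12 + 1) * (q ^ 10 + 1) * (q ^ 6 + 1) - k, by omega, by omega, by omega, by omega⟩
  rcases lt_or_ge q 60 with h | h
  · exact absurd h2 ((by decide +kernel : ∀ q < 60, ∀ j ≤ 8, 2 ≤ q → 0 < j → ¬ q * (q ^ 12 + 1) * (q ^ 10 + 1) * (q ^ 6 + 1) - j ∣
      q ^ 120 * (q ^ 2 - 1) * (q ^ 8 - 1) * (q ^ 12 - 1) * (q ^ 14 - 1) * (q ^ 18 - 1) * (q ^ 20 - 1) * (q ^ 24 - 1) * (q ^ 30 - 1)) q h j hj hq.two_le h0)
  have p : ∀ n, 1 ≤ q ^ n := fun n => Nat.one_le_pow _ _ (by omega)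
  have h6 := Int.natCast_dvd_natCast.2 h2
  push_cast [Nat.cast_sub h5, Nat.cast_sub (p _)] at h6
  refine ndE8 q (by omega) h0 hj (dvd_ppart (N := 120) (u := (q ^ 12 + 1) * (q ^ 10 + 1) * (q ^ 6 + 1)) hq h0 (by omega) (by ring) ?_)
  simpa only [mul_assoc] using h6

end Cfsg.Lib.MinDeg
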