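/-
Certificates for the lower bound of the degrees of complex representations.
-/
import Cfsg.Agent.Lib.Exc.MinDegC

set_option autoImplicit false
set_option maxRecDepth 100000

namespace Cfsg.Lib.MinDeg

open Cfsg.Lib.Chev Cfsg.Lib.Twist

/-- Certificates. -/
noncomputable def cT0 : List (ℕ × ℕ × Orc.Cert) := [
  (71, 10, d2 0 0x0, d2 7 0x353f3e3633413d3732422f452e46,
    d3 0 0x0, []),
  (70, 9, d2 1 0x1947, d2 6 0x353c3b362c413a372b422745,
    d3 0 0x0, []),
  (69, 8, d2 2 0x18472046, d2 5 0x333c3b342c3f39372a42,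
    d3 0 0x0, []),
  (65, 6, d2 3 0x14471b462242, d2 4 0x2f3c3a31273f3836,
    d3 3 0x372645000037000026, []),
  (63, 5, d2 4 0x12471b451f422041, d2 3 0x2e3c39313834,
    d3 3 0x372946000037000029, []),
  (60, 4, d2 5 0x1246144517421841193f, d2 2 0x3929382d,
    d3 3 0x373147000037000031, []),
  (53, 4, d2 4 0x8470b4621372336, d2 3 0x2f2c2b302733,
    d3 16 0x18413c3c2e3f00003c0000182d0d2534294231294129252d25424500004200003400003100002e00002900002500000d, [66]),
  (51, 3, d2 5 0x6470b451e3720352334, d2 2 0x2e2c2a30,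
    d3 16 0x193f3c3c2f4100003c0000190e2d2836264231263f28262d28424600004200003600003100002f00002800002600000e, [66]),
  (44, 2, d2 6 0x6460845163718351933232d, d2 1 0x2a28,
    d3 16 0x2e3c3f3f274100003f00002e340e3036264230263429263c30424700004200003600003000002900002700002600000e, [66]),
  (47, 1, d2 6 0x2470b411a361b3521312230, d2 1 0x272e,
    d3 18 0x2d243c2d0f2c00002d3c334500003c422846372442421c3f420f37420d34370d3300004200003700002800002400001c00000f00000d, []),
  (39, 0, d2 7 0x246084113361435192f21292228, d2 0 0x0,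
    d3 17 0x2e3c3f3f2c452e2c3300003f00002e310f300f2d2c3724423024312d243c30424700004200003700003000002d00002400000f, []),
  (46, 0, d2 7 0x1470b3f1a341b331e311f30202f, d2 0 0x0,
    d3 20 0x2d243c2d0f2c290e2700002d0000293c354600003c422545372442421d41420f37420e36370e3500004200003700002500002400001d00000f00000e, [])]

theorem aT0 : (orc 72 tabE6 rhoE6).all 10 cT0 [] = true := by decide +kernel

/-- Certificates. -/
noncomputable def cT : List (ℕ × ℕ × Orc.Cert) := cT0

theorem aT : (orc 72 tabE6 rhoE6).all 10 cT [] = true :=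
  aT0

theorem eT : (cT.map fun p => p.2.1) = [10,9,8,6,5,4,4,3,2,1,0,0] := by decide +kernel

theorem hT : ∃ C B, cT = (71, 10, C) :: B := ⟨_, _, rfl⟩

theorem bT : (orc 72 tabE6 rhoE6).conn 72 71 0x2e270000002c002700002e0000000000003c00270000002c27002e000000002e0000000000002f0000000033002f270000002c00270000000000003f00002e00270000002c272e
    0x474600000046004100003f000000000000460035000000352f0033000000002f0000000000002e000000002e0027190000001900140000000000002e00000b0008000000080201 = true ∧
    (orc 72 tabE6 rhoE6).cj 46 70 71 = true ∧ (orc 72 tabE6 rhoE6).lg 70 = true ∧ (orc 72 tabE6 rhoE6).chain 70 [(71, 25)] [] 0 = true ∧ (orc 72 tabE6 rhoE6).w 71 = 1 := by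
  decide +kernel

end Cfsg.Lib.MinDeg
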