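import Cfsg.Agent.Lib.BN.ZassAff
import Cfsg.Agent.Lib.Hall.SylNum
import Cfsg.Agent.Lib.Small.Sylow
import Cfsg.Agent.Lib.Linear.SL2Sub

/-! Groups with `p + 1` Sylow `p`-subgroups; the Sylow numbers `{18, 136, 153}`. -/

set_option autoImplicit false
set_option linter.unusedSectionVars false

namespace Cfsg.Lib.Exc

open Subgroup MulAction Cfsg.Lib.BN Cfsg.Lib.Amalg Cfsg.Lib.Linear

variable {G : Type*} [Group G] [Finite G]

theorem card_sylow_of_surj {H : Type*} [Group H] {p : ℕ} [Fact p.Prime] {f : G →* H} (hf : Function.Surjective f)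
    (P : Sylow p G) : Nat.card (Sylow p G) = Nat.card (Sylow p H) * (𝐍 (P : Subgroup G)).relIndex f.ker := by
  have := Finite.of_surjective f hf
  rw [Hall.card_sylow_eq_index P, Hall.index_eq_mul_relIndex _ f.ker, ← Hall.normalizer_sylow_sup,
    Hall.card_sylow_eq_index (P.mapSurjective hf), Sylow.coe_mapSurjective, ← index_comap_of_surjective _ hf,
    comap_normalizer_eq_of_surjective _ hf, comap_map_eq]

/-- A normal subgroup normalising all Sylow subgroups meets the centre. -/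
theorem eq_bot_of_le_normalizer_sylow (hZ : center G = ⊥) {K : Subgroup G} [hK : K.Normal]
    (h : ∀ p : ℕ, p.Prime → p ∣ Nat.card G → ∀ P : Sylow p G, K ≤ 𝐍 (P : Subgroup G)) : K = ⊥ := by
  by_contra hne
  obtain ⟨q, hq, h1⟩ := Nat.exists_prime_and_dvd ((one_lt_card_iff_ne_bot K).2 hne).ne'
  have := Fact.mk hq
  obtain ⟨Q⟩ : Nonempty (Sylow q G) := inferInstance
  have h2 := ((syl_top Q).inf_normal_top K).ne_bot h1
  obtain ⟨z, h3, h4, h5⟩ : ∃ z ∈ (Q : Subgroup G) ⊓ K, z ≠ 1 ∧ ∀ y ∈ (Q : Subgroup G), y * z = z * y := by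
    obtain ⟨⟨z, h3⟩, h4⟩ := ne_bot_iff_exists_ne_one.1 (Amalg.inf_center_ne_bot Q.2 inf_le_left
      (Core.le_normalizer_inf le_normalizer le_normalizer_of_normal) h2)
    exact ⟨z, h3.1, fun e => h4 (Subtype.ext e), mem_centralizer_iff.1 h3.2⟩
  have h6 : centralizer ({z} : Set G) = ⊤ := by
    rw [← index_eq_one]
    by_contra h7
    obtain ⟨p, hp, h8⟩ := Nat.exists_prime_and_dvd h7
    have := Fact.mk hp
    by_cases e : p = q
    · subst e
      exact Q.not_dvd_index (h8.trans (index_dvd_of_le fun y hy => mem_centralizer_singleton_iff.2 (h5 y hy)))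
    obtain ⟨P⟩ : Nonempty (Sylow p G) := inferInstance
    refine P.not_dvd_index (h8.trans (index_dvd_of_le fun x hx => mem_centralizer_singleton_iff.2 ?_))
    obtain ⟨k, hk⟩ := isPGroup_iff_mem.1 Q.2 z h3.1
    have h9 : x * z * x⁻¹ ∈ (Q : Subgroup G) := (syl_top Q).mem_of_mem_normalizer (k := k)
      (by rw [conj_pow, hk]; group) trivial (h q hq (h1.trans (card_subgroup_dvd_card K)) Q (hK.conj_mem z h3.2 x))
    have h10 : x * z * x⁻¹ * z⁻¹ ∈ (P : Subgroup G) ⊓ Q := ⟨by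
      rw [show x * z * x⁻¹ * z⁻¹ = x * (z * x⁻¹ * z⁻¹) by group]
      exact mul_mem hx ((mem_normalizer_iff.1 (h p hp (h8.trans (index_dvd_card _)) P h3.2) _).1 (inv_mem hx)),
      mul_mem h9 ((Q : Subgroup G).inv_mem h3.1)⟩
    rw [disjoint_iff.1 (IsPGroup.disjoint_of_ne p q e _ _ P.2 Q.2), mem_bot, mul_inv_eq_one,
      mul_inv_eq_iff_eq_mul] at h10
    exact h10
  exact h4 (mem_bot.1 (hZ ▸ mem_center_iff.2 fun g => mem_centralizer_singleton_iff.1 (h6 ▸ mem_top g)))

/-- The action on `p + 1` Sylow `p`-subgroups. -/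
theorem card_range_sylow {p : ℕ} [hp : Fact p.Prime] (h : Nat.card (Sylow p G) = p + 1) :
    ∃ d < p, Nat.card (toPermHom G (Sylow p G)).range = (p + 1) * p * d := by
  classical
  have := Fintype.ofFinite (Sylow p G)
  obtain ⟨P⟩ : Nonempty (Sylow p G) := inferInstance
  let f := toPermHom G (Sylow p G)
  have hpp := hp.out
  have h1 : Nat.card (Equiv.Perm (Sylow p G)) = p ^ 1 * ((p + 1) * (p - 1).factorial) := by
    rw [Nat.card_perm, h, Nat.factorial_succ, ← Nat.mul_factorial_pred hpp.ne_zero]; ring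
  have h2 : ¬ p ∣ (p + 1) * (p - 1).factorial := by
    rw [hpp.dvd_mul, hpp.dvd_factorial]
    rintro (h | h)
    · exact hpp.one_lt.ne' (Nat.dvd_one.1 ((Nat.dvd_add_right dvd_rfl).1 h))
    · have := hpp.pos; omega
  have h3 : f.ker ≤ 𝐍 (P : Subgroup G) := fun g hg =>
    Sylow.smul_eq_iff_mem_normalizer.1 (congrArg (· P) (MonoidHom.mem_ker.1 hg))
  have h4 : Nat.card ((P : Subgroup G).map f) = p ^ 1 := by
    obtain ⟨k, hk⟩ := (P.2.map f).exists_card_eq
    have h5 := card_subgroup_dvd_card ((P : Subgroup G).map f)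
    rw [hk, h1] at h5
    have h6 := (Nat.pow_dvd_pow_iff_le_right hpp.one_lt).1
      ((Nat.Coprime.pow_left k ((Nat.Prime.coprime_iff_not_dvd hpp).2 h2)).dvd_of_dvd_mul_right h5)
    rcases k with _ | k
    · have h7 := (Subgroup.map_eq_bot_iff _).1 (card_eq_one.1 hk)
      have : Subsingleton (Sylow p G) := ⟨fun A B => by
        have key : ∀ A : Sylow p G, (A : Subgroup G) = P := fun A => (P.3 A.2 ((syl_top A).le_of_le_normalizer' P.2
          le_top fun g hg => Sylow.smul_eq_iff_mem_normalizer.1 (congrArg (· A) (MonoidHom.mem_ker.1 (h7 hg)))))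
        exact Sylow.ext ((key A).trans (key B).symm)⟩
      rw [Nat.card_unique] at h
      have := hpp.pos; omega
    · rw [hk, show k = 0 by omega]
  obtain ⟨S, hS⟩ := Small.exists_sylow_of_card h1 h2 h4
  have h5 := Cfsg.Agent.S0989.result p (Or.inr (by rw [← h, Nat.card_eq_fintype_card])) S
  have h6 := card_dvd_of_le (le_normalizer_map (H := (P : Subgroup G)) f)
  rw [← hS, h5] at h6
  obtain ⟨d, hd⟩ := card_dvd_of_le (map_mono (f := f) (le_normalizer (H := (P : Subgroup G))))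
  rw [h4, pow_one] at hd
  rw [hd] at h6
  refine ⟨d, ?_, ?_⟩
  · have := Nat.le_of_dvd (by have := hpp.two_le; omega) (Nat.dvd_of_mul_dvd_mul_left hpp.pos h6)
    have := hpp.pos; omega
  · rw [← index_ker, ← relIndex_mul_index h3, relIndex_ker, hd, ← Hall.card_sylow_eq_index, h]; ring

section Z

variable {Ω : Type*} [MulAction G Ω] [Finite Ω] (h : Z3 G Ω) (hΩ : Nat.card Ω = 18) {d : ℕ}
  (hG : Nat.card G = 18 * 17 * d) (hd : d = 8 ∨ d = 16)
include h hΩ hG hd

theorem z17_card {a b : Ω} (hab : a ≠ b) : Nat.card (E2 G a b) = d ∧ Nat.card (stabilizer G a) = 17 * d := by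
  have h1 : Nat.card (h.K a) = 17 := by have := h.card_K a; omega
  have h2 := h.card_G hab
  have h3 := h.card_stab hab
  rw [h1] at h2 h3
  omega

theorem z17_two : Nat.card (Sylow 2 G) = 153 := by
  obtain ⟨a, b, hab⟩ := h.nontriv
  have h1 := (z17_card h hΩ hG hd hab).1
  have hE : E2 G a b ≠ ⊥ := fun e => by rw [e, card_bot] at h1; omega
  have h2 : Nat.card (𝐍 (E2 G a b)) = 2 * d := by
    rw [← Core.card_mul_relIndex (le_normalizer (H := E2 G a b)), h.relIndex_normalizer hab hE, h1, mul_comm]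
  obtain ⟨S, hS⟩ : ∃ S : Sylow 2 G, (S : Subgroup G) = 𝐍 (E2 G a b) := by
    rcases hd with rfl | rfl
    · exact Small.exists_sylow_of_card (a := 4) (m := 153) hG (by norm_num) h2
    · exact Small.exists_sylow_of_card (a := 5) (m := 153) hG (by norm_num) h2
  obtain ⟨s, hs, s1⟩ : ∃ s ∈ E2 G a b, s * s ≠ 1 := by
    by_contra hn
    push Not at hn
    have : IsMulCommutative (E2 G a b) := ⟨⟨fun x y => Subtype.ext (by
      have := inv_eq_of_mul_eq_one_right (hn _ (mul_mem x.2 y.2))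
      rw [mul_inv_rev, inv_eq_of_mul_eq_one_right (hn _ x.2), inv_eq_of_mul_eq_one_right (hn _ y.2)] at this
      exact this.symm)⟩⟩
    obtain ⟨g, hg⟩ := (Subgroup.isCyclic_iff_exists_zpowers_eq_top _).1 (h.isCyclic_of_comm hab)
    have h3 := Nat.le_of_dvd two_pos (orderOf_dvd_of_pow_eq_one ((sq g).trans (hn g (hg ▸ mem_zpowers g))))
    rw [← hg, Nat.card_zpowers] at h1
    omega
  have h3 : 𝐍 (S : Subgroup G) = S := le_antisymm (fun x hx => by
    rw [hS] at hx ⊢
    refine (h.mem_normalizer_E2 hab hE).2 (h.mem_or_sw hab (mul_mem hs hs) s1 ?_)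
    rw [← conj_mul]
    rcases (h.mem_normalizer_E2 hab hE).1 ((mem_normalizer_iff.1 hx s).1 (le_normalizer hs)) with e | e
    · exact mul_mem e e
    · exact e.mul_mem e) le_normalizer
  have h4 := (S : Subgroup G).card_mul_index
  rw [Hall.card_sylow_eq_index S, h3]
  rw [hS, h2, hG] at h4
  rw [hS]
  rcases hd with rfl | rfl <;> omega

theorem z17_three {g : G} (hg : orderOf g = 9) : 68 ≤ Nat.card (Sylow 3 G) := by
  obtain ⟨a, b, hab⟩ := h.nontriv
  have h1 := (z17_card h hΩ hG hd hab).2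
  obtain ⟨S, hS⟩ : ∃ S : Sylow 3 G, (S : Subgroup G) = zpowers g := by
    rcases hd with rfl | rfl
    · exact Small.exists_sylow_of_card (a := 2) (m := 272) hG (by norm_num) (by rw [Nat.card_zpowers, hg]; rfl)
    · exact Small.exists_sylow_of_card (a := 2) (m := 544) hG (by norm_num) (by rw [Nat.card_zpowers, hg]; rfl)
  have h2 : ∀ i : ℕ, g ^ i • a = a → 9 ∣ i := fun i e => by
    have h3 := orderOf_dvd_natCard _ (mem_stabilizer_iff.2 e)
    have h4 := orderOf_pow_dvd (x := g) i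
    rw [h1] at h3
    rw [hg] at h4
    rw [← hg, orderOf_dvd_iff_pow_eq_one, ← orderOf_eq_one_iff]
    exact Nat.eq_one_of_dvd_coprimes (by rcases hd with rfl | rfl <;> norm_num) h3 h4
  let N := 𝐍 (zpowers g) ⊓ stabilizer G a
  let φ : N →* MulAut (zpowers g) := (zpowers g).normalizerMonoidHom.comp (inclusion inf_le_left)
  have h3 : Function.Injective φ := (injective_iff_map_eq_one _).2 fun c hc => Subtype.ext (by
    have e : (c : G) * g * (c : G)⁻¹ = g := congrArg (fun ψ : MulAut (zpowers g) => (ψ ⟨g, mem_zpowers g⟩ : G)) hc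
    have e' : Commute (c : G) g := mul_inv_eq_iff_eq_mul.1 e
    have h4 : ∀ i : ℕ, (c : G) • g ^ i • a = g ^ i • a := fun i => by
      rw [← mul_smul, (e'.pow_right i).eq, mul_smul, mem_stabilizer_iff.1 c.2.2]
    refine h.three (a := a) (b := g ^ 1 • a) (c := g ^ 2 • a) (fun e => absurd (h2 _ e.symm) (by norm_num))
      (fun e => ?_) (fun e => absurd (h2 _ e.symm) (by norm_num)) c.2.2 (h4 1) (h4 2)
    rw [show 2 = 1 + 1 from rfl, pow_add, mul_smul, smul_left_cancel_iff] at e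
    exact absurd (h2 _ e.symm) (by norm_num))
  have h4 := card_dvd_of_injective φ h3
  rw [IsCyclic.card_mulAut, Nat.card_zpowers, hg] at h4
  have h5 := card_dvd_of_le (inf_le_right : N ≤ _)
  rw [h1] at h5
  have h6 : Nat.card N ≤ 2 := Nat.le_of_dvd two_pos (by
    have := Nat.dvd_gcd h4 h5
    rcases hd with rfl | rfl <;> exact this)
  have h7 := Core.card_mul_relIndex (show N ≤ _ from inf_le_left)
  have h8 : N.relIndex (𝐍 (zpowers g)) ≤ 18 := by
    unfold N
    rw [inf_relIndex_left]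
    have := h.pretrans
    rw [← hΩ, ← index_stabilizer_of_transitive G a, ← relIndex_top_right]
    exact relIndex_le_of_le_right le_top (by rw [relIndex_top_right]; exact index_ne_zero_of_finite)
  have h9 := (𝐍 (zpowers g)).card_mul_index
  rw [Hall.card_sylow_eq_index S, hS]
  rw [hG, ← h7] at h9
  by_contra hn
  have := Nat.mul_le_mul (Nat.mul_le_mul h6 h8) (Nat.le_of_lt_succ (not_le.1 hn))
  omega

end Z

instance : Fact (Nat.Prime 17) := ⟨by norm_num⟩

theorem exists_nine : ∃ g : Matrix.SpecialLinearGroup (Fin 2) (ZMod 17), orderOf (slToPGL (RingHom.id _) g) = 9 := by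
  refine ⟨slMat 0 (-1) 1 7 (by decide), orderOf_eq_prime_pow (p := 3) (n := 1) ?_ ?_⟩
  · rw [← map_pow, slToPGL_eq_one_iff]; decide +kernel
  · rw [← map_pow, slToPGL_eq_one_iff]; decide +kernel

theorem ns17 (hZ : center G = ⊥)
    (hNS : {c : ℕ | ∃ r : ℕ, r.Prime ∧ r ∣ Nat.card G ∧ c = Nat.card (Sylow r G)} = ({18, 136, 153} : Set ℕ)) :
    Nonempty (G ≃* PSL2 (ZMod 17)) ∨ Nonempty (G ≃* PGL2 (ZMod 17)) := by
  have h1 : ∀ r : ℕ, r.Prime → r ∣ Nat.card G → r = 17 ∧ Nat.card (Sylow r G) = 18 ∨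
      (r = 3 ∨ r = 5) ∧ Nat.card (Sylow r G) = 136 ∨ (r = 2 ∨ r = 19) ∧ Nat.card (Sylow r G) = 153 := by
    intro r hr h
    have := Fact.mk hr
    have h2 := (Nat.modEq_iff_dvd' Nat.card_pos).1 (card_sylow_modEq_one r G).symm
    rcases (hNS.le ⟨r, hr, h, rfl⟩ : Nat.card (Sylow r G) ∈ _) with e | e | e <;> rw [e] at h2
    · exact Or.inl ⟨(Nat.prime_dvd_prime_iff_eq hr (by norm_num)).1 h2, e⟩
    · refine Or.inr (Or.inl ⟨?_, e⟩)
      exact (hr.dvd_mul.1 (show r ∣ 3 ^ 3 * 5 from h2)).imp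
        (fun h => (Nat.prime_dvd_prime_iff_eq hr (by norm_num)).1 (hr.dvd_of_dvd_pow h))
        fun h => (Nat.prime_dvd_prime_iff_eq hr (by norm_num)).1 h
    · refine Or.inr (Or.inr ⟨?_, e⟩)
      exact (hr.dvd_mul.1 (show r ∣ 2 ^ 3 * 19 from h2)).imp
        (fun h => (Nat.prime_dvd_prime_iff_eq hr (by norm_num)).1 (hr.dvd_of_dvd_pow h))
        fun h => (Nat.prime_dvd_prime_iff_eq hr (by norm_num)).1 h
  have h17 : Nat.card (Sylow 17 G) = 17 + 1 := by
    obtain ⟨r, hr, h2, h3⟩ := hNS.ge (show 18 ∈ _ by simp)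
    rcases h1 r hr h2 with ⟨rfl, h⟩ | h | h <;> omega
  obtain ⟨d, hd, h2⟩ := card_range_sylow h17
  let f := toPermHom G (Sylow 17 G)
  have : IsPretransitive f.range (Sylow 17 G) := ⟨fun A B => by
    obtain ⟨g, e⟩ := exists_smul_eq G A B
    exact ⟨⟨_, g, rfl⟩, e⟩⟩
  have Z := z3_of_prime_add_one (G := f.range) (by norm_num) h17 h2 hd
  obtain ⟨g, hg⟩ := exists_nine
  obtain ⟨h3, ⟨x, hx⟩, h4⟩ : (d = 8 ∨ d = 16) ∧ (∃ x : f.range, orderOf x = 9) ∧
      (Nonempty (f.range ≃* PSL2 (ZMod 17)) ∨ Nonempty (f.range ≃* PGL2 (ZMod 17))) := by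
    rcases classify_prime_add_one (G := f.range) h17 h2 hd with ⟨h3, ⟨e⟩⟩ | ⟨h3, ⟨e⟩⟩ | ⟨q, -, h3, -⟩
    · exact ⟨by omega, ⟨e.symm _, by rw [MulEquiv.orderOf_eq, hg]⟩, Or.inr ⟨e⟩⟩
    · exact ⟨by omega, ⟨e.symm g, by
        rw [MulEquiv.orderOf_eq, ← orderOf_injective _ (pslToPGL_injective (RingHom.id _)), pslToPGL_mk, hg]⟩,
        Or.inl ⟨e⟩⟩
    · have : 3 ∣ 2 ^ q := h3 ▸ by norm_num
      exact absurd (Nat.prime_three.dvd_of_dvd_pow this) (by norm_num)
  have h5 := fun (p : ℕ) [Fact p.Prime] (P : Sylow p G) => card_sylow_of_surj f.rangeRestrict_surjective P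
  simp only [MonoidHom.ker_rangeRestrict] at h5
  have h6 : ∀ P : Sylow 17 G, f.ker ≤ 𝐍 (P : Subgroup G) := fun P g hg =>
    Sylow.smul_eq_iff_mem_normalizer.1 (congrArg (· P) (MonoidHom.mem_ker.1 hg))
  have h7 : ∀ p : ℕ, p.Prime → p ∣ Nat.card G → p ≠ 5 ∧ p ≠ 19 := fun p hp h => by
    by_contra hn
    have h8 : p = 5 ∨ p = 19 := by omega
    have := Fact.mk hp
    obtain ⟨T⟩ : Nonempty (Sylow p G) := inferInstance
    obtain ⟨P⟩ : Nonempty (Sylow 17 G) := inferInstance
    have h9 : (T : Subgroup G) ≤ f.ker := (Subgroup.map_eq_bot_iff _).1 (isPGroup_eq_bot_of_not_dvd (T.2.map f)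
      (map_le_range _ _) (by rw [h2]; rcases h8 with rfl | rfl <;> rcases h3 with rfl | rfl <;> norm_num))
    have h10 := (syl_top P).inf_normal_top f.ker
    have : ((P : Subgroup G) ⊓ f.ker).Normal := ⟨fun y hy g => by
      obtain ⟨k, hk⟩ := isPGroup_iff_mem.1 P.2 y hy.1
      have := f.normal_ker.conj_mem y hy.2 g
      exact ⟨(syl_top P).mem_of_mem_normalizer (k := k) (by rw [conj_pow, hk]; group) trivial (h6 P this), this⟩⟩
    have h11 := Hall.card_sylow_eq_mul T ((P : Subgroup G) ⊓ f.ker)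
    have h12 := card_sylow_modEq_one p (G ⧸ ((P : Subgroup G) ⊓ f.ker))
    have h13 : ¬ 17 ∣ Nat.card (Sylow p (G ⧸ ((P : Subgroup G) ⊓ f.ker))) := fun e => by
      rw [Hall.card_sylow_quotient T, ← Hall.normalizer_sylow_sup] at e
      refine P.not_dvd_index (e.trans (index_dvd_of_le (Clifford.Nrm.le_normalizer fun y hy t ht => ?_)))
      have h14 : t ∈ f.ker := sup_le h9 inf_le_right ht
      rw [show y * t * y⁻¹ = y * t * y⁻¹ * t⁻¹ * t by group]
      refine mul_mem (mem_sup_right ⟨?_, mul_mem (f.normal_ker.conj_mem t h14 y) (f.ker.inv_mem h14)⟩) ht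
      rw [show y * t * y⁻¹ * t⁻¹ = y * (t * y⁻¹ * t⁻¹) by group]
      exact mul_mem hy ((mem_normalizer_iff.1 (h6 P h14) _).1 (inv_mem hy))
    obtain ⟨k, hk⟩ := h10.isPGroup.index ((𝐍 (T : Subgroup G)).subgroupOf _)
    rw [relIndex, hk] at h11
    generalize Nat.card (Sylow p (G ⧸ ((P : Subgroup G) ⊓ f.ker))) = n at *
    have h14 : ∀ m, Nat.card (Sylow p G) = m * 17 → ¬ 17 ∣ m → n = m := fun m e hm => by
      rw [e] at h11
      rcases k with _ | _ | k
      · exact absurd ⟨m, by omega⟩ h13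
      · omega
      · exact absurd ⟨n * 17 ^ k, Nat.eq_of_mul_eq_mul_right (show 0 < 17 by norm_num) (by rw [h11]; ring)⟩ hm
    rcases h1 p hp h with h | h | h
    · omega
    · rw [h14 8 h.2 (by norm_num), show p = 5 by omega] at h12
      exact absurd h12 (by decide)
    · rw [h14 9 h.2 (by norm_num), show p = 19 by omega] at h12
      exact absurd h12 (by decide)
  have h8 : f.ker = ⊥ := eq_bot_of_le_normalizer_sylow hZ fun p hp h P => by
    have := h7 p hp h
    rcases h1 p hp h with ⟨rfl, -⟩ | ⟨h9, h10⟩ | ⟨h9, h10⟩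
    · exact h6 P
    · obtain rfl : p = 3 := by omega
      have h11 := h5 3 P
      have h12 := z17_three Z h17 h2 h3 hx
      have h13 := card_sylow_modEq_one 3 f.range
      rw [h10] at h11
      refine relIndex_eq_one.1 ?_
      generalize Nat.card (Sylow 3 f.range) = n at *
      generalize (𝐍 (P : Subgroup G)).relIndex f.ker = r at *
      have : r ≤ 2 := by nlinarith
      unfold Nat.ModEq at h13
      interval_cases r <;> omega
    · obtain rfl : p = 2 := by omega
      have h11 := h5 2 P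
      rw [h10, z17_two Z h17 h2 h3] at h11
      exact relIndex_eq_one.1 (by omega)
  let e := MonoidHom.ofInjective ((MonoidHom.ker_eq_bot_iff f).1 h8)
  exact h4.imp (·.map e.trans) (·.map e.trans)

end Cfsg.Lib.Exc
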