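import Cfsg.Agent.Lib.Char.Integral
import Cfsg.Agent.Lib.Char.Induce

/-!
# A factorisation `G = H K` with `K` an abelian subgroup containing the centralizer of each of its
nonidentity elements: the non-principal constituents of `1_H^G` all have the same degree.
-/

set_option autoImplicit false
set_option linter.unusedSectionVars false

namespace Cfsg.Lib.Exc.Rank

open Cfsg Cfsg.Lib.Char Subgroup
open scoped ComplexConjugate

variable {G : Type*} [Group G] [Fintype G]

/-- `K` is the centralizer of each of its nonidentity elements -/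
def ACC (K : Subgroup G) : Prop := ∀ k ∈ K, k ≠ 1 → centralizer ({k} : Set G) = K

namespace ACC
variable {K : Subgroup G} (hK : ACC K)
include hK

theorem comm {a b : G} (ha : a ∈ K) (hb : b ∈ K) : a * b = b * a := by
  by_cases e : a = 1
  · simp [e]
  · exact (mem_centralizer_singleton_iff.1 ((hK a ha e).symm ▸ hb)).symm

theorem comm' (a b : K) : a * b = b * a := Subtype.ext (hK.comm a.2 b.2)

theorem mem_of_comm {a b : G} (ha : a ∈ K) (h1 : a ≠ 1) (e : b * a = a * b) : b ∈ K :=
  hK a ha h1 ▸ mem_centralizer_singleton_iff.2 e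

theorem conj_mem {k g x : G} (hk : k ∈ K) (h1 : k ≠ 1) (hg : g * k * g⁻¹ ∈ K) (hx : x ∈ K) :
    g * x * g⁻¹ ∈ K := by
  refine hK.mem_of_comm hg (fun e => h1 (by simpa using conj_eq_one_iff.1 e)) ?_
  calc g * x * g⁻¹ * (g * k * g⁻¹) = g * (x * k) * g⁻¹ := by group
    _ = g * (k * x) * g⁻¹ := by rw [hK.comm hx hk]
    _ = _ := by group

/-- a linear character fixed by an element of `N(K) \ K` is trivial -/
theorem triv_of_fix (lam : K →* ℂˣ) {g : G} (hg : ∀ x ∈ K, g * x * g⁻¹ ∈ K) (hgK : g ∉ K)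
    (h : ∀ x : K, lam ⟨g * x * g⁻¹, hg x x.2⟩ = lam x) (x : K) : lam x = 1 := by
  let f : K → K := fun y => y⁻¹ * ⟨g * y * g⁻¹, hg y y.2⟩
  have hf : Function.Injective f := by
    intro a b e
    have e1 : (a : G)⁻¹ * (g * a * g⁻¹) = (b : G)⁻¹ * (g * b * g⁻¹) := congrArg Subtype.val e
    by_contra hne
    apply hgK
    have hab : (b : G) * (a : G)⁻¹ ≠ 1 := fun e' => hne (Subtype.ext (mul_inv_eq_one.1 e').symm)
    refine hK.mem_of_comm (K.mul_mem b.2 (K.inv_mem a.2)) hab ?_
    have : (b : G) * (a : G)⁻¹ * (g * a * g⁻¹) = g * b * g⁻¹ := by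
      rw [mul_assoc, e1]; group
    calc g * (b * (a : G)⁻¹) = (g * b * g⁻¹) * g * (a : G)⁻¹ := by group
      _ = (b : G) * (a : G)⁻¹ * (g * a * g⁻¹) * g * (a : G)⁻¹ := by rw [this]
      _ = _ := by group
  obtain ⟨y, rfl⟩ := (Finite.surjective_of_injective hf) x
  simp only [f, map_mul, map_inv, h, inv_mul_cancel]

/-- the norm of `(λ - μ)^G` is at most two -/
theorem norm_le [Fintype K] (lam mu : K →* ℂˣ) (hl : ∃ x, lam x ≠ 1) (hm : ∃ x, mu x ≠ 1) :
    (classInner (indFun K ((fun x => (lam x : ℂ)) - fun x => (mu x : ℂ)))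
      (indFun K ((fun x => (lam x : ℂ)) - fun x => (mu x : ℂ)))).re ≤ 2 := by
  classical
  set θ : K → ℂ := (fun x => (lam x : ℂ)) - fun x => (mu x : ℂ) with hθ
  have h1 : θ 1 = 0 := by simp [hθ]
  rw [classInner_indFun_left _ (isClassFunction_indFun θ)]
  have e1 : (fun h : K => indFun K θ h) =
      (Nat.card K : ℂ)⁻¹ • ∑ g : G, fun h : K => extendByZero K θ (g * h * g⁻¹) := by
    funext h
    simp [indFun_apply', Finset.sum_apply]
  rw [e1, classInner_smul_right, classInner_sum_right]
  have e2 : ∀ g : G, (classInner θ fun h : K => extendByZero K θ (g * h * g⁻¹)).re ≤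
      if g ∈ K then 2 else 0 := by
    intro g
    by_cases hg : ∀ x ∈ K, g * x * g⁻¹ ∈ K
    · let c : K →* K := ((MulAut.conj g).toMonoidHom.comp K.subtype).codRestrict K (fun x => hg x x.2)
      have e3 : (fun h : K => extendByZero K θ (g * h * g⁻¹)) =
          (fun x => ((lam.comp c) x : ℂ)) - fun x => ((mu.comp c) x : ℂ) := by
        funext h
        rw [extendByZero_of_mem θ (hg h h.2)]
        rfl
      rw [e3, hθ, classInner_sub_left, classInner_sub_right, classInner_sub_right]
      simp only [(isIrrCharacter_linear _).classInner_eq_ite (isIrrCharacter_linear _)]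
      have key : ∀ nu : K →* ℂˣ, (∃ x, nu x ≠ 1) → g ∉ K →
          (fun x => (nu x : ℂ)) ≠ fun x => ((nu.comp c) x : ℂ) := by
        rintro nu ⟨x, hx⟩ hgK e
        exact hx (hK.triv_of_fix nu hg hgK (fun y => Units.ext (congrFun e y).symm) x)
      by_cases hgK : g ∈ K
      · rw [if_pos hgK]
        split_ifs <;> norm_num
      · rw [if_neg hgK, if_neg (key lam hl hgK), if_neg (key mu hm hgK)]
        split_ifs <;> norm_num
    · have e3 : (fun h : K => extendByZero K θ (g * h * g⁻¹)) = 0 := by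
        funext h
        by_cases hh : (h : G) = 1
        · rw [hh, mul_one, mul_inv_cancel, extendByZero_of_mem θ K.one_mem]
          exact h1
        · exact extendByZero_of_notMem θ fun e => hg fun x hx => hK.conj_mem h.2 hh e hx
      rw [e3, classInner_zero_right]
      split_ifs <;> norm_num
  have e4 : (∑ g : G, classInner θ fun h : K => extendByZero K θ (g * h * g⁻¹)).re ≤
      2 * Nat.card K := by
    rw [Complex.re_sum]
    refine (Finset.sum_le_sum fun g _ => e2 g).trans (le_of_eq ?_)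
    rw [← Finset.sum_filter, Finset.sum_const, nsmul_eq_mul, mul_comm, Nat.card_eq_fintype_card,
      Fintype.card_subtype]
  have hp : (0 : ℝ) < Nat.card K := by exact_mod_cast (Nat.card_pos (α := K))
  rw [map_inv₀, map_natCast, show ((Nat.card K : ℂ))⁻¹ = (((Nat.card K : ℝ)⁻¹ : ℝ) : ℂ) by simp,
    Complex.re_ofReal_mul, inv_mul_le_iff₀ hp]
  linarith

/-- the non-principal constituents of `1_H^G` have a common degree prime to `|K|` -/
theorem const_deg {H : Subgroup G} (hH : ∀ k ∈ K, k ≠ 1 → ∀ g, g⁻¹ * k * g ∉ H)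
    (hi : H.index = Nat.card K) (χ : IrrCharacter G) (h0 : χ ≠ principalIrr G)
    (h1 : classInner (indFun H fun _ => 1) χ ≠ 0) {d : ℕ} (hd : χ.1 1 = d) :
    d.Coprime (Nat.card K) := by
  classical
  have := Fintype.ofFinite K
  have := Fintype.ofFinite H
  obtain ⟨a, ha, hπ⟩ := (isCharacter_one (G := H)).indFun.exists_nat_coeffs
  choose b hb using fun (ψ : IrrCharacter G) (lam : K →* ℂˣ) =>
    (ψ.2.isCharacter.restrict K).classInner_nat (isCharacter_linear lam)
  choose n hn0 hn using fun ψ : IrrCharacter G => ψ.2.exists_pos_degree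
  have hreg : (fun k : K => indFun H (fun _ => (1 : ℂ)) k) = regChar K := by
    funext k
    by_cases e : k = 1
    · rw [e, regChar_one, OneMemClass.coe_one, indFun_one, hi, mul_one]
    · rw [regChar_of_ne e]
      exact indFun_eq_zero_of_forall_notMem _ (hH k k.2 fun e' => e (Subtype.ext e'))
  have hsum : ∀ lam : K →* ℂˣ, ∑ ψ, a ψ * b ψ lam = 1 := by
    intro lam
    have e1 := classInner_regChar_left (fun x : K => (lam x : ℂ))
    rw [← hreg, hπ] at e1
    have e2 : (fun k : K => (∑ ψ : IrrCharacter G, (a ψ : ℂ) • (ψ : G → ℂ)) k) =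
        ∑ ψ : IrrCharacter G, (a ψ : ℂ) • fun k : K => (ψ : G → ℂ) k := by
      funext k; simp [Finset.sum_apply]
    rw [e2, classInner_sum_left] at e1
    simp only [classInner_smul_left, hb, map_one, Units.val_one] at e1
    exact_mod_cast e1
  have ha0 : a (principalIrr G) = 1 := by
    have e1 := ha (principalIrr G)
    rw [classInner_indFun_left _ (principalIrr G).2.isClassFunction] at e1
    have e2 := (isIrrCharacter_one (G := H)).classInner_self
    have : (a (principalIrr G) : ℂ) = 1 := e1.symm.trans e2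
    exact_mod_cast this
  have hb0 : b (principalIrr G) 1 = 1 := by
    have e1 := hb (principalIrr G) 1
    have e2 := (isIrrCharacter_one (G := K)).classInner_self
    have : (b (principalIrr G) 1 : ℂ) = 1 := e1.symm.trans e2
    exact_mod_cast this
  -- a summand equal to one kills all the others
  have uniq : ∀ lam ψ ψ', a ψ * b ψ lam ≠ 0 → ψ' ≠ ψ → a ψ * b ψ lam = 1 ∧ a ψ' * b ψ' lam = 0 := by
    intro lam ψ ψ' e1 e2
    have := Finset.add_le_sum (f := fun ψ => a ψ * b ψ lam) (s := Finset.univ)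
      (fun _ _ => Nat.zero_le _) (Finset.mem_univ ψ') (Finset.mem_univ ψ) e2
    rw [hsum] at this
    omega
  have hex : ∀ ψ : IrrCharacter G, ψ ≠ principalIrr G → a ψ ≠ 0 →
      ∃ lam : K →* ℂˣ, (∃ x, lam x ≠ 1) ∧ b ψ lam ≠ 0 := by
    intro ψ e1 e2
    obtain ⟨φ, hφ, e3⟩ := (ψ.2.isClassFunction.restrict K).exists_classInner_ne_zero (fun e => by
      exact ψ.2.apply_one_ne_zero (congrFun e 1))
    obtain ⟨lam, rfl⟩ := hφ.exists_linear_of_comm hK.comm'
    have e4 : b ψ lam ≠ 0 := fun e => e3 (by rw [hb, e, Nat.cast_zero])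
    refine ⟨lam, ?_, e4⟩
    by_contra hne
    push Not at hne
    obtain rfl : lam = 1 := MonoidHom.ext hne
    have := (uniq 1 (principalIrr G) ψ (by rw [ha0, hb0]; simp) e1).2
    exact mul_ne_zero e2 e4 this
  have hχ : a χ ≠ 0 := fun e => h1 (by rw [ha, e, Nat.cast_zero])
  have hdeg : ∀ ψ : IrrCharacter G, ψ ≠ principalIrr G → a ψ ≠ 0 → n ψ = n χ := by
    intro ψ e1 e2
    by_cases e : ψ = χ
    · rw [e]
    obtain ⟨lam, hl, l1⟩ := hex χ h0 hχ
    obtain ⟨mu, hm, m1⟩ := hex ψ e1 e2
    obtain ⟨l2, l3⟩ := uniq lam χ ψ (mul_ne_zero hχ l1) e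
    obtain ⟨m2, m3⟩ := uniq mu ψ χ (mul_ne_zero e2 m1) (Ne.symm e)
    have l4 : b χ lam = 1 := (Nat.eq_one_of_mul_eq_one_left l2)
    have m4 : b ψ mu = 1 := (Nat.eq_one_of_mul_eq_one_left m2)
    have l5 : b ψ lam = 0 := (mul_eq_zero.1 l3).resolve_left e2
    have m5 : b χ mu = 0 := (mul_eq_zero.1 m3).resolve_left hχ
    have hN := hK.norm_le lam mu hl hm
    set θ : K → ℂ := (fun x => (lam x : ℂ)) - fun x => (mu x : ℂ) with hθ
    have hg : IsGeneralizedCharacter K θ :=
      (isCharacter_linear lam).isGeneralizedCharacter.sub (isCharacter_linear mu).isGeneralizedCharacter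
    obtain ⟨c, hc, c1, c2⟩ := hg.indFun.exists_int_coeffs_norm
    have hcb : ∀ φ : IrrCharacter G, c φ = (b φ lam : ℤ) - b φ mu := by
      intro φ
      have e1 := hc φ
      rw [classInner_indFun_left _ φ.2.isClassFunction, hθ, classInner_sub_left,
        (isCharacter_linear lam).classInner_comm (φ.2.isCharacter.restrict K),
        (isCharacter_linear mu).classInner_comm (φ.2.isCharacter.restrict K), hb, hb] at e1
      exact_mod_cast e1.symm
    rw [c2, Complex.intCast_re] at hN
    have hN' : ∑ φ, c φ ^ 2 ≤ 2 := by exact_mod_cast hN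
    have cχ : c χ = 1 := by rw [hcb, l4, m5]; rfl
    have cψ : c ψ = -1 := by rw [hcb, l5, m4]; rfl
    have hz : ∀ φ, φ ≠ χ → φ ≠ ψ → c φ = 0 := by
      intro φ f1 f2
      have := Finset.sum_le_sum_of_subset_of_nonneg (f := fun φ => c φ ^ 2)
        (Finset.subset_univ {φ, χ, ψ}) (fun _ _ _ => sq_nonneg _)
      rw [Finset.sum_insert (by simp [f1, f2]), Finset.sum_pair (Ne.symm e), cχ, cψ] at this
      have : c φ ^ 2 ≤ 0 := by linarith
      exact pow_eq_zero_iff (two_ne_zero) |>.1 (le_antisymm this (sq_nonneg _))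
    have t1 : indFun K θ 1 = 0 := by rw [indFun_one]; simp [hθ]
    rw [c1, Finset.sum_apply, Finset.sum_eq_add_of_mem χ ψ (Finset.mem_univ _) (Finset.mem_univ _)
      (Ne.symm e) (fun φ _ h => by simp [hz φ h.1 h.2])] at t1
    simp only [cχ, cψ, Pi.smul_apply, smul_eq_mul, hn] at t1
    have : (n ψ : ℂ) = n χ := by push_cast at t1; linear_combination -t1
    exact_mod_cast this
  have hdn : d = n χ := by
    have := hd.symm.trans (hn χ)
    exact_mod_cast this
  have t2 : (Nat.card K : ℂ) = ∑ ψ, (a ψ : ℂ) * n ψ := by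
    have := congrFun hπ 1
    rw [indFun_one, hi, mul_one, Finset.sum_apply] at this
    simpa [hn] using this
  have t3 : Nat.card K = ∑ ψ, a ψ * n ψ := by exact_mod_cast t2
  have n0 : n (principalIrr G) = 1 := by
    have : (n (principalIrr G) : ℂ) = 1 := (hn (principalIrr G)).symm
    exact_mod_cast this
  rw [← Finset.add_sum_erase _ _ (Finset.mem_univ (principalIrr G)), ha0, n0] at t3
  have t4 : d ∣ ∑ ψ ∈ Finset.univ.erase (principalIrr G), a ψ * n ψ := by
    refine Finset.dvd_sum fun ψ hψ => ?_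
    by_cases e : a ψ = 0
    · simp [e]
    · rw [hdeg ψ (Finset.mem_erase.1 hψ).1 e, hdn]; exact dvd_mul_left _ _
  obtain ⟨s, hs⟩ := t4
  rw [t3, hs, mul_one, Nat.coprime_add_mul_left_right]
  exact Nat.coprime_one_right d

/-- an element whose class size is `|K|` fixes exactly one coset of `H` -/
theorem fix_one [IsSimpleGroup G] (hG : ¬ ∀ a b : G, a * b = b * a) {H : Subgroup G}
    (hH : ∀ k ∈ K, k ≠ 1 → ∀ g, g⁻¹ * k * g ∉ H) (hi : H.index = Nat.card K) {x : G} (hx : x ≠ 1)
    (hc : ∀ d : ℕ, d.Coprime (Nat.card K) → d ∣ Nat.card G →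
      d.Coprime (centralizer ({x} : Set G)).index) :
    Nat.card (MulAction.fixedBy (G ⧸ H) x) = 1 := by
  classical
  have := Fintype.ofFinite H
  have e1 := (isClassFunction_indFun (H := H) fun _ => (1 : ℂ)).apply_eq_sum x
  rw [indFun_one_eq_card_fixedBy, Finset.sum_eq_single (principalIrr G)] at e1
  · rw [classInner_indFun_left _ (principalIrr G).2.isClassFunction] at e1
    have e2 := (isIrrCharacter_one (G := H)).classInner_self
    have : (Nat.card (MulAction.fixedBy (G ⧸ H) x) : ℂ) = 1 := by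
      rw [e1]; exact (mul_one _).trans e2
    exact_mod_cast this
  · intro χ _ h0
    by_cases h1 : classInner (indFun H fun _ => 1) χ.1 = 0
    · rw [h1, zero_mul]
    obtain ⟨d, -, hd⟩ := χ.2.exists_pos_degree
    rcases χ.2.eq_zero_or_norm_eq_of_coprime hd
      (hc d (hK.const_deg hH hi χ h0 h1 hd) (χ.2.degree_dvd_card hd)) with h | h
    · rw [h, mul_zero]
    · exfalso
      have h2 := χ.2.mem_charCenter.2 h
      have hk : charKer χ.1 = ⊥ := χ.2.charKer_normal.eq_bot_or_eq_top.resolve_right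
        fun h => h0 (Subtype.ext (χ.2.charKer_eq_top_iff.1 h))
      rw [χ.2.charCenter_eq_center hk] at h2
      have h3 : center G = ⊤ := (Normal.eq_bot_or_eq_top inferInstance).resolve_left
        fun h => hx (by rwa [h, mem_bot] at h2)
      exact hG fun a b => mem_center_iff.1 (h3 ▸ mem_top b) a
  · simp

end ACC

end Cfsg.Lib.Exc.Rank
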