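import Cfsg.Agent.Lib.Exc.Rank1
import Cfsg.Agent.Lib.Exc.AC2
import Cfsg.Agent.Lib.Hall.ClassSize
import Cfsg.Agent.Lib.Coprime.FrobKernel
import Cfsg.Agent.Lib.Small.Order
import Cfsg.Agent.Lib.Known.PSL2
import Cfsg.Agent.S4355

/-!
# Groups with three non-trivial class sizes (Itô)
-/

set_option autoImplicit false
set_option linter.unusedSectionVars false

namespace Cfsg.Lib.Exc.Rank

open Cfsg Cfsg.Lib.Hall Subgroup
open scoped Pointwise

variable {G : Type*} [Group G] [Finite G]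

scoped notation "𝐂[" x "]" => Subgroup.centralizer ({x} : Set _)

theorem exists_ord {p : ℕ} (hp : p.Prime) {H : Subgroup G} (h : p ∣ Nat.card H) :
    ∃ x ∈ H, orderOf x = p := by
  have := Fact.mk hp
  obtain ⟨x, hx⟩ := exists_prime_orderOf_dvd_card' p h
  exact ⟨x, x.2, by rw [← hx, orderOf_coe]⟩

theorem ne_one_of_ord {p : ℕ} (hp : p.Prime) {x : G} (h : orderOf x = p) : x ≠ 1 := by
  rintro rfl
  exact hp.one_lt.ne (by simpa using h)

theorem exists_pow_ord {p : ℕ} (hp : p.Prime) {x : G} (h : p ∣ orderOf x) :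
    ∃ y ∈ zpowers x, orderOf y = p := exists_ord hp (by rwa [Nat.card_zpowers])

theorem exists_prime_pow {x : G} (h : x ≠ 1) : ∃ p, p.Prime ∧ ∃ y ∈ zpowers x, orderOf y = p := by
  obtain ⟨p, hp, hd⟩ := Nat.exists_prime_and_dvd (n := orderOf x) (by simpa using h)
  exact ⟨p, hp, exists_pow_ord hp hd⟩

theorem ord_dvd_cc (x : G) : orderOf x ∣ Nat.card 𝐂[x] := orderOf_dvd_natCard _ (self_mem_cent x)

theorem ord_dvd_cc' {x y : G} (h : y ∈ 𝐂[x]) : orderOf y ∣ Nat.card 𝐂[x] := orderOf_dvd_natCard _ h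

theorem exists_central_sylow {p : ℕ} [hp : Fact p.Prime] (P : Sylow p G) (h : p ∣ Nat.card G) :
    ∃ z ∈ (P : Subgroup G), orderOf z = p ∧ (P : Subgroup G) ≤ 𝐂[z] := by
  have : Nontrivial P := (nontrivial_iff_ne_bot _).2 (P.ne_bot_of_dvd_card h)
  have h1 := IsPGroup.center_nontrivial P.2
  obtain ⟨k, hk, h2⟩ := (IsPGroup.nontrivial_iff_card (P.2.to_subgroup (center P))).1 h1
  obtain ⟨z, hz, ho⟩ := exists_ord hp.out (H := center P) (h2 ▸ dvd_pow_self p hk.ne')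
  refine ⟨z, z.2, by rw [orderOf_coe, ho], fun g hg => mem_cent_iff.2 ?_⟩
  exact congrArg Subtype.val (mem_center_iff.1 hz ⟨g, hg⟩)

/-- a `p`-central element of order `p` commuting with a given `p`-element -/
theorem exists_pc {p : ℕ} (hp : p.Prime) (h : p ∣ Nat.card G) {u : G} (hu : IsPGroup p (zpowers u)) :
    ∃ z, orderOf z = p ∧ u ∈ 𝐂[z] ∧ ¬ p ∣ cs z := by
  have := Fact.mk hp
  obtain ⟨P, hP⟩ := hu.exists_le_sylow
  obtain ⟨z, -, h1, h2⟩ := exists_central_sylow P h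
  exact ⟨z, h1, h2 (hP (mem_zpowers u)), not_dvd_index_of_sylow_le P h2⟩

theorem pe_of_ord {p : ℕ} (hp : p.Prime) {u : G} (h : orderOf u = p) : IsPGroup p (zpowers u) :=
  (isPGroup_zpowers_iff hp).2 ⟨1, by simpa using h⟩

theorem exists_pc' {p : ℕ} (hp : p.Prime) (h : p ∣ Nat.card G) : ∃ z : G, orderOf z = p ∧ ¬ p ∣ cs z := by
  obtain ⟨z, h1, -, h2⟩ := exists_pc hp h (u := 1) (by rw [zpowers_one_eq_bot]; exact IsPGroup.of_bot)
  exact ⟨z, h1, h2⟩

theorem cop_ord {p q : ℕ} (hp : p.Prime) (hq : q.Prime) (h : p ≠ q) {x y : G} (hx : orderOf x = p)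
    (hy : orderOf y = q) : (orderOf x).Coprime (orderOf y) := by
  rw [hx, hy]; exact (Nat.coprime_primes hp hq).2 h

theorem mul_ne_one_of_cop {x y : G} (hx : x ≠ 1) (hc : Commute x y) (h : (orderOf x).Coprime (orderOf y)) :
    x * y ≠ 1 := fun e => hx (by simpa [e] using left_mem_zpowers_mul hc h)

theorem comm_of_mem {x y : G} (h : y ∈ 𝐂[x]) : Commute x y := (mem_cent_iff.1 h).symm

theorem eq_of_le_of_cs {x y : G} (h : 𝐂[x] ≤ 𝐂[y]) (e : cs x = cs y) : 𝐂[x] = 𝐂[y] :=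
  cent_eq_of_le_of_cs_le h e.le

theorem dvd_cc_iff {p : ℕ} (hp : p.Prime) (h : p ∣ Nat.card G) {x : G} (hx : ¬ p ∣ cs x) : p ∣ Nat.card 𝐂[x] :=
  ((Nat.Prime.dvd_mul hp).1 ((card_mul_index 𝐂[x]).symm ▸ h)).resolve_right hx

theorem cc_eq_of_cs {x y : G} (e : cs x = cs y) : Nat.card 𝐂[x] = Nat.card 𝐂[y] :=
  Nat.eq_of_mul_eq_mul_right (cs_pos y) (by rw [card_mul_index, ← e, card_mul_index])

theorem cc_dvd_of_cs {x y : G} (e : cs x ∣ cs y) : Nat.card 𝐂[y] ∣ Nat.card 𝐂[x] := by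
  obtain ⟨k, hk⟩ := e
  refine ⟨k, Nat.eq_of_mul_eq_mul_right (cs_pos x) ?_⟩
  rw [card_mul_index, mul_assoc, mul_comm k, ← hk, card_mul_index]

theorem cs_dvd_of_cc {x y : G} (e : Nat.card 𝐂[y] ∣ Nat.card 𝐂[x]) : cs x ∣ cs y := by
  obtain ⟨k, hk⟩ := e
  refine ⟨k, Nat.eq_of_mul_eq_mul_left (Nat.card_pos (α := 𝐂[y])) ?_⟩
  rw [card_mul_index, mul_left_comm, ← hk, mul_comm, card_mul_index]

/-- a subgroup is abelian if its `p'`-elements and its `q'`-elements are central -/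
theorem comm_of_two {K : Subgroup G} {p q : ℕ} (hp : p.Prime) (hq : q.Prime) (hpq : p ≠ q)
    (h1 : ∀ k ∈ K, (orderOf k).Coprime p → K ≤ 𝐂[k]) (h2 : ∀ k ∈ K, (orderOf k).Coprime q → K ≤ 𝐂[k]) :
    ∀ k ∈ K, K ≤ 𝐂[k] := by
  have : K ≤ centralizer (K : Set G) := le_of_forall_isPGroup fun r hr x hx px => by
    rw [← le_cent_iff]
    by_cases e : r = p
    · exact h2 x hx (coprime_orderOf_of_isPGroup hr px ((Nat.coprime_primes hq hr).2 (e ▸ hpq.symm)))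
    · exact h1 x hx (coprime_orderOf_of_isPGroup hr px ((Nat.coprime_primes hp hr).2 (Ne.symm e)))
  exact fun k hk => le_cent_iff.2 (this hk)

/-! ### the antichain case -/

theorem ac_of_anti (h : ∀ x y : G, x ≠ 1 → y ≠ 1 → cs x ∣ cs y → cs x = cs y) : AC G := by
  have key : ∀ x y : G, x ≠ 1 → y ≠ 1 → 𝐂[x] ≤ 𝐂[y] → 𝐂[x] = 𝐂[y] := fun x y hx hy e =>
    eq_of_le_of_cs e (h y x hy hx (index_dvd_of_le e)).symm
  have cop : ∀ x y : G, x ≠ 1 → y ∈ 𝐂[x] → (orderOf x).Coprime (orderOf y) → 𝐂[x] ≤ 𝐂[y] := by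
    intro x y hx hy hc
    have e := cent_mul_of_coprime (comm_of_mem hy) hc
    rw [← key _ _ (mul_ne_one_of_cop hx (comm_of_mem hy) hc) hx (e ▸ inf_le_left), e]
    exact inf_le_right
  -- involution centralizers are abelian or `2`-groups
  have alt : ∀ t : G, orderOf t = 2 → (∀ k ∈ 𝐂[t], 𝐂[t] ≤ 𝐂[k]) ∨ IsPGroup 2 𝐂[t] := by
    intro t ht
    have t1 := ne_one_of_ord Nat.prime_two ht
    by_cases e : ∃ q, q.Prime ∧ q ≠ 2 ∧ q ∣ Nat.card 𝐂[t]
    · obtain ⟨q, hq, q2, hd⟩ := e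
      obtain ⟨v, hv, ho⟩ := exists_ord hq hd
      have v1 := ne_one_of_ord hq ho
      have e1 := key _ _ t1 v1 (cop t v t1 hv (cop_ord Nat.prime_two hq q2.symm ht ho))
      refine Or.inl (comm_of_two Nat.prime_two hq q2.symm (fun k hk hc => cop t k t1 hk (ht ▸ hc.symm))
        fun k hk hc => ?_)
      rw [e1] at hk ⊢
      exact cop v k v1 hk (ho ▸ hc.symm)
    · push Not at e
      right
      rw [IsPGroup.iff_card]
      exact ⟨_, Nat.eq_prime_pow_of_unique_prime_dvd Nat.card_pos.ne' fun {q} hq hd => by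
        by_contra e'; exact e q hq e' hd⟩
  have odd : ∀ t : G, orderOf t = 2 → ¬ 2 ∣ cs t := by
    intro t ht
    have t1 := ne_one_of_ord Nat.prime_two ht
    obtain ⟨z, z2, hz, zc⟩ := exists_pc Nat.prime_two (ht ▸ _root_.orderOf_dvd_natCard t) (pe_of_ord Nat.prime_two ht)
    have z1 := ne_one_of_ord Nat.prime_two z2
    rcases alt t ht with e | e
    · rwa [key _ _ t1 z1 (e z (mem_cent_comm.1 hz))]
    · obtain ⟨P, hP⟩ := exists_sylow_le_of_not_dvd_index zc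
      obtain ⟨Q, hQ⟩ := e.exists_le_sylow
      have : Nat.card 𝐂[t] ∣ Nat.card 𝐂[z] :=
        (card_dvd_of_le hQ).trans ((Nat.card_congr (Sylow.equiv Q P).toEquiv).dvd.trans (card_dvd_of_le hP))
      rwa [← h z t z1 t1 (cs_dvd_of_cc this)]
  have ab : ∀ P : Sylow 2 G, IsMulCommutative P := Cfsg.Agent.S4355.result fun x ⟨k, hk⟩ => by
    by_cases e : x = 1
    · rw [e, cs_one]; norm_num
    · obtain ⟨t, ht, ho⟩ := exists_pow_ord Nat.prime_two (x := x) (by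
        rw [hk]; exact dvd_pow_self 2 (by rintro rfl; exact e (by simpa using hk)))
      rw [key _ _ e (ne_one_of_ord Nat.prime_two ho) (cent_le_of_mem_zpowers ht)]
      exact odd t ho
  intro t ht x y hx hy
  have hx' : x ∈ 𝐂[t] := mem_cent_iff.2 hx.eq
  have hy' : y ∈ 𝐂[t] := mem_cent_iff.2 hy.eq
  rcases alt t ht with e | e
  · exact comm_of_mem (e x hx' hy')
  · obtain ⟨Q, hQ⟩ := e.exists_le_sylow
    exact congrArg Subtype.val ((ab Q).is_comm.comm (⟨x, hQ hx'⟩ : Q) ⟨y, hQ hy'⟩)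

/-! ### two maximal centralizer orders -/

/-- three class sizes `a ∣ c`, `b` -/
structure Two (G : Type*) [Group G] (a b c : ℕ) : Prop where
  all : ∀ x : G, x ≠ 1 → cs x = a ∨ cs x = b ∨ cs x = c
  ac : a ∣ c
  ac' : a ≠ c
  ab : ¬ a ∣ b
  ba : ¬ b ∣ a
  exa : ∃ x : G, x ≠ 1 ∧ cs x = a
  exb : ∃ x : G, x ≠ 1 ∧ cs x = b

namespace Two
variable {a b c : ℕ} (h : Two G a b c)
include h

theorem a_ne_b : a ≠ b := fun e => h.ab e.dvd
theorem b_ne_c : b ≠ c := fun e => h.ab (e ▸ h.ac)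
theorem a_dvd : a ∣ Nat.card G := by obtain ⟨x, -, e⟩ := h.exa; exact e ▸ cs_dvd_card x
theorem b_dvd : b ∣ Nat.card G := by obtain ⟨x, -, e⟩ := h.exb; exact e ▸ cs_dvd_card x
theorem a_ne_one : a ≠ 1 := fun e => h.ab (e ▸ one_dvd _)
theorem b_ne_one : b ≠ 1 := fun e => h.ba (e ▸ one_dvd _)
theorem a_pos : 0 < a := by obtain ⟨x, -, e⟩ := h.exa; exact e ▸ cs_pos x

theorem ne_a {x : G} (e : cs x = a) : x ≠ 1 := by rintro rfl; exact h.a_ne_one (e.symm.trans cs_one)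
theorem ne_b {x : G} (e : cs x = b) : x ≠ 1 := by rintro rfl; exact h.b_ne_one (e.symm.trans cs_one)
theorem ne_c {x : G} (e : cs x = c) : x ≠ 1 := by
  rintro rfl; exact h.a_ne_one (Nat.dvd_one.1 ((e.symm.trans cs_one) ▸ h.ac))

theorem cop : a.Coprime b := Nat.coprime_of_dvd fun p hp h1 h2 => by
  obtain ⟨z, h3, h4⟩ := exists_pc' hp (h1.trans h.a_dvd)
  rcases h.all z (ne_one_of_ord hp h3) with e | e | e <;> rw [e] at h4
  exacts [h4 h1, h4 h2, h4 (h1.trans h.ac)]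

theorem up_a {x y : G} (hx : cs x = a) (hy : y ≠ 1) (e : 𝐂[x] ≤ 𝐂[y]) : 𝐂[x] = 𝐂[y] := by
  have hd : cs y ∣ a := hx ▸ index_dvd_of_le e
  refine eq_of_le_of_cs e ?_
  rcases h.all y hy with e | e | e <;> rw [e] at hd
  · rw [hx, e]
  · exact absurd hd h.ba
  · exact absurd (Nat.dvd_antisymm h.ac hd) h.ac'

theorem up_b {x y : G} (hx : cs x = b) (hy : y ≠ 1) (e : 𝐂[x] ≤ 𝐂[y]) : 𝐂[x] = 𝐂[y] := by
  have hd : cs y ∣ b := hx ▸ index_dvd_of_le e
  refine eq_of_le_of_cs e ?_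
  rcases h.all y hy with e | e | e <;> rw [e] at hd
  · exact absurd hd h.ab
  · rw [hx, e]
  · exact absurd (h.ac.trans hd) h.ab

theorem down_c {x y : G} (hx : cs x = c) (hy : y ≠ 1) (e : 𝐂[y] ≤ 𝐂[x]) : 𝐂[y] = 𝐂[x] := by
  have hd : c ∣ cs y := hx ▸ index_dvd_of_le e
  refine eq_of_le_of_cs e ?_
  rcases h.all y hy with e | e | e <;> rw [e] at hd
  · exact absurd (Nat.dvd_antisymm h.ac hd) h.ac'
  · exact absurd (h.ac.trans hd) h.ab
  · rw [hx, e]

theorem cen_c {u v : G} (hu : cs u = c) (hv : v ∈ 𝐂[u]) (hc : (orderOf u).Coprime (orderOf v)) :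
    𝐂[u] ≤ 𝐂[v] := by
  have e := cent_mul_of_coprime (comm_of_mem hv) hc
  rw [← h.down_c hu (mul_ne_one_of_cop (h.ne_c hu) (comm_of_mem hv) hc) (e ▸ inf_le_left), e]
  exact inf_le_right

theorem pow_a {x y : G} (hx : cs x = a) (hy : y ∈ zpowers x) (y1 : y ≠ 1) : 𝐂[x] = 𝐂[y] :=
  h.up_a hx y1 (cent_le_of_mem_zpowers hy)

theorem exa' : ∃ q, q.Prime ∧ ∃ x : G, orderOf x = q ∧ cs x = a := by
  obtain ⟨x, x1, hx⟩ := h.exa
  obtain ⟨q, hq, y, hy, ho⟩ := exists_prime_pow x1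
  exact ⟨q, hq, y, ho, by rw [← h.pow_a hx hy (ne_one_of_ord hq ho), hx]⟩

/-- in a simple group elements of the two maximal types do not commute -/
theorem nc [IsSimpleGroup G] {x y : G} (hx : cs x = a) (hy : cs y = b) : y ∉ 𝐂[x] := by
  intro hc
  have h1 : normalClosure ({y} : Set G) ≤ 𝐂[x] := by
    refine (closure_le _).2 fun z hz => ?_
    obtain ⟨w, hw, e⟩ := Group.mem_conjugatesOfSet_iff.1 hz
    obtain rfl := Set.mem_singleton_iff.1 hw
    obtain ⟨g, rfl⟩ := isConj_iff.1 e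
    obtain ⟨u, hu, v, hv, rfl⟩ := factor_of_coprime_index (H := 𝐂[x]) (K := 𝐂[w]) (hx ▸ hy ▸ h.cop) g
    have : u * v * w * (u * v)⁻¹ = u * w * u⁻¹ := by
      rw [mul_assoc u v, mem_cent_iff.1 hv]; group
    rw [SetLike.mem_coe, this]
    exact mul_mem (mul_mem hu hc) (inv_mem hu)
  rcases (normalClosure_normal (s := ({y} : Set G))).eq_bot_or_eq_top with e | e
  · exact h.ne_b hy (mem_bot.1 (e ▸ subset_normalClosure rfl))
  · rw [e, top_le_iff] at h1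
    exact h.a_ne_one (by rw [← hx, h1, index_top])

section NC
variable (nc : ∀ {x y : G}, cs x = a → cs y = b → y ∉ 𝐂[x])
include nc

theorem is_c {x y u : G} (hx : cs x = a) (hy : cs y = b) (u1 : u ≠ 1) (h1 : u ∈ 𝐂[x]) (h2 : u ∈ 𝐂[y]) :
    cs u = c := by
  rcases h.all u u1 with e | e | e
  · exact absurd (mem_cent_comm.1 h2) (nc e hy)
  · exact absurd h1 (nc hx e)
  · exact e

theorem dvd_or {p : ℕ} (hp : p.Prime) (hd : p ∣ Nat.card G) : p ∣ a ∨ p ∣ b := by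
  by_contra e
  push Not at e
  have := Fact.mk hp
  obtain ⟨x, -, hx⟩ := h.exa
  obtain ⟨y, -, hy⟩ := h.exb
  obtain ⟨P, hP⟩ := exists_sylow_le_of_not_dvd_index (H := 𝐂[y]) (hy ▸ e.2)
  obtain ⟨g, hg⟩ := exists_conj_mem_centralizer_sylow P (x := x) (hx ▸ e.1)
  obtain ⟨z, hz, ho, zc⟩ := exists_central_sylow P hd
  have h1 := h.is_c nc ((cs_conj g x).trans hx) hy (ne_one_of_ord hp ho) (le_cent_iff.2 hg hz) (hP hz)
  have h2 : ¬ p ∣ c := h1 ▸ not_dvd_index_of_sylow_le P zc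
  have h3 := sylow_le_center_of_forall_not_dvd P fun w => by
    by_cases w1 : w = 1
    · rw [w1, cs_one]; exact hp.not_dvd_one
    · rcases h.all w w1 with e' | e' | e' <;> rw [e']
      exacts [e.1, e.2, h2]
  exact h.a_ne_one (Nat.dvd_one.1 ((cs_eq_one_iff.2 (h3 hz)).symm.trans h1 ▸ h.ac))

/-- the centralizer of an element of the first type is a Hall subgroup -/
theorem not_dvd_a {p : ℕ} (hp : p.Prime) (hpa : p ∣ a) {x : G} (hx : cs x = a) : ¬ p ∣ Nat.card 𝐂[x] := by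
  intro hd
  have step : ∀ {x : G}, cs x = a → ∃ u z, orderOf u = p ∧ u ∈ 𝐂[x] ∧ cs u = c ∧ cs z = b ∧ z ∈ 𝐂[u] := by
    intro x' hx'
    obtain ⟨u, hu, ho⟩ := exists_ord hp (cc_eq_of_cs (hx.trans hx'.symm) ▸ hd)
    obtain ⟨z, zo, hz, zc⟩ := exists_pc hp (hpa.trans h.a_dvd) (pe_of_ord hp ho)
    have zb : cs z = b := by
      rcases h.all z (ne_one_of_ord hp zo) with e | e | e
      · exact absurd (e ▸ hpa) zc
      · exact e
      · exact absurd (e ▸ hpa.trans h.ac) zc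
    exact ⟨u, z, ho, hu, h.is_c nc hx' zb (ne_one_of_ord hp ho) hu hz, zb, mem_cent_comm.1 hz⟩
  have star : ∀ {x : G}, cs x = a → ∀ r, r.Prime → r ≠ p → ¬ r ∣ orderOf x := by
    intro x' hx' r hr hrp hd
    obtain ⟨y, hy, ho⟩ := exists_pow_ord hr hd
    have hy' : cs y = a := by rw [← h.pow_a hx' hy (ne_one_of_ord hr ho), hx']
    obtain ⟨u, z, uo, hu, uc, zb, hz⟩ := step hy'
    exact nc hy' zb (h.cen_c uc (mem_cent_comm.1 hu) (cop_ord hp hr hrp.symm uo ho) hz)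
  obtain ⟨u, z, uo, hu, uc, zb, hz⟩ := step hx
  obtain ⟨q, hq, hqb⟩ := Nat.exists_prime_and_dvd h.b_ne_one
  have hqp : q ≠ p := fun e => hp.one_lt.ne' (Nat.eq_one_of_dvd_coprimes h.cop hpa (e ▸ hqb))
  obtain ⟨w, wo, wc⟩ := exists_pc' hq (hqb.trans h.b_dvd)
  have qc : ¬ q ∣ c := by
    rcases h.all w (ne_one_of_ord hq wo) with e | e | e
    · exact absurd wo.symm.dvd (star e q hq hqp)
    · exact absurd (e ▸ hqb) wc
    · exact e ▸ wc
  obtain ⟨v, hv, vo⟩ := exists_ord hq (dvd_cc_iff hq (hqb.trans h.b_dvd) (x := u) (uc ▸ qc))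
  have h1 := h.cen_c uc hv (cop_ord hp hq hqp.symm uo vo)
  have xv : x ∈ 𝐂[v] := h1 (mem_cent_comm.1 hu)
  have vc : cs v = c := by
    rcases h.all v (ne_one_of_ord hq vo) with e | e | e
    · exact absurd vo.symm.dvd (star e q hq hqp)
    · exact absurd (mem_cent_comm.1 xv) (nc hx e)
    · exact e
  exact nc hx zb (h.cen_c vc xv (vo ▸ (hq.coprime_iff_not_dvd.2 (star hx q hq hqp))) (h1 hz))

theorem is_b {p : ℕ} (hp : p.Prime) (hpa : p ∣ a) {y : G} (y1 : y ≠ 1) (hy : p ∣ Nat.card 𝐂[y]) : cs y = b := by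
  obtain ⟨x, -, hx⟩ := h.exa
  rcases h.all y y1 with e | e | e
  · exact absurd hy (h.not_dvd_a nc hp hpa e)
  · exact e
  · exact absurd (hy.trans (cc_dvd_of_cs (by rw [hx, e]; exact h.ac))) (h.not_dvd_a nc hp hpa hx)

theorem is_b' {p : ℕ} (hp : p.Prime) (hpa : p ∣ a) {y : G} (hy : p ∣ orderOf y) : cs y = b :=
  h.is_b nc hp hpa (by rintro rfl; exact hp.not_dvd_one (by simpa using hy)) (hy.trans (ord_dvd_cc y))

theorem cen_b {p : ℕ} (hp : p.Prime) (hpa : p ∣ a) {y v : G} (yo : orderOf y = p) (hv : v ∈ 𝐂[y])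
    (hc : (orderOf v).Coprime p) : 𝐂[y] ≤ 𝐂[v] := by
  have hc' : (orderOf y).Coprime (orderOf v) := yo ▸ hc.symm
  have e := cent_mul_of_coprime (comm_of_mem hv) hc'
  have h1 : cs (y * v) = b := h.is_b' nc hp hpa
    (yo ▸ orderOf_dvd_of_mem_zpowers (left_mem_zpowers_mul (comm_of_mem hv) hc'))
  rw [← h.up_b h1 (ne_one_of_ord hp yo) (e ▸ inf_le_left), e]
  exact inf_le_right

theorem not_dvd_b {q : ℕ} (hq : q.Prime) (hqb : q ∣ b) {y : G} (hy : cs y = b) : ¬ q ∣ Nat.card 𝐂[y] := by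
  intro hd
  obtain ⟨p, hp, hpa⟩ := Nat.exists_prime_and_dvd h.a_ne_one
  have hqp : q ≠ p := fun e => hp.one_lt.ne' (Nat.eq_one_of_dvd_coprimes h.cop hpa (e ▸ hqb))
  obtain ⟨y', -, yo⟩ := exists_ord hp (H := (⊤ : Subgroup G)) (card_top (G := G) ▸ hpa.trans h.a_dvd)
  have yb := h.is_b' nc hp hpa yo.symm.dvd
  obtain ⟨v, hv, vo⟩ := exists_ord hq (cc_eq_of_cs (hy.trans yb.symm) ▸ hd)
  have h1 := h.up_b yb (ne_one_of_ord hq vo) (h.cen_b nc hp hpa yo hv (vo ▸ (Nat.coprime_primes hq hp).2 hqp))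
  obtain ⟨z, zo, hz, zc⟩ := exists_pc hq (hqb.trans h.b_dvd) (pe_of_ord hq vo)
  have h2 : y' ∈ 𝐂[z] := mem_cent_comm.1 (h1 ▸ mem_cent_comm.1 hz)
  exact zc (h.is_b nc hp hpa (ne_one_of_ord hq zo) (yo ▸ ord_dvd_cc' h2) ▸ hqb)

theorem cc_b {y : G} (hy : cs y = b) : Nat.card 𝐂[y] = a := by
  obtain ⟨x, -, hx⟩ := h.exa
  have e1 := card_mul_index 𝐂[x]
  have e2 := card_mul_index 𝐂[y]
  rw [hx] at e1
  rw [hy] at e2
  refine Nat.dvd_antisymm ?_ (h.cop.dvd_of_dvd_mul_right (e2 ▸ h.a_dvd))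
  refine Nat.Coprime.dvd_of_dvd_mul_left (Nat.coprime_of_dvd fun p hp h1 h2 => ?_)
    (e1 ▸ card_subgroup_dvd_card 𝐂[y])
  rcases h.dvd_or nc hp (h1.trans (card_subgroup_dvd_card _)) with e | e
  · exact h.not_dvd_a nc hp e hx h2
  · exact h.not_dvd_b nc hp e hy h1

theorem acc (ha : ∀ p, p.Prime → ∃ q, q.Prime ∧ q ≠ p ∧ q ∣ a) {y : G} (hy : cs y = b) :
    ∀ k ∈ 𝐂[y], k ≠ 1 → 𝐂[k] = 𝐂[y] := by
  have hb : ∀ {y : G}, cs y = b → ∀ k ∈ 𝐂[y], k ≠ 1 → cs k = b := by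
    intro y hy k hk k1
    obtain ⟨r, hr, hd⟩ := Nat.exists_prime_and_dvd (n := orderOf k) (by simpa using k1)
    exact h.is_b' nc hr (h.cc_b nc hy ▸ hd.trans (ord_dvd_cc' hk)) hd
  have key : ∀ p, p.Prime → p ∣ a → ∀ y : G, orderOf y = p → ∀ k ∈ 𝐂[y], 𝐂[y] ≤ 𝐂[k] := by
    intro p hp hpa y yo
    have yb := h.is_b' nc hp hpa yo.symm.dvd
    obtain ⟨q, hq, hqp, hqa⟩ := ha p hp
    obtain ⟨v, hv, vo⟩ := exists_ord hq (h.cc_b nc yb ▸ hqa : q ∣ Nat.card 𝐂[y])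
    have e := h.up_b yb (ne_one_of_ord hq vo) (h.cen_b nc hp hpa yo hv (vo ▸ (Nat.coprime_primes hq hp).2 hqp))
    refine comm_of_two hp hq hqp.symm (fun k hk hc => h.cen_b nc hp hpa yo hk hc) fun k hk hc => ?_
    rw [e] at hk ⊢
    exact h.cen_b nc hq hqa vo hk hc
  obtain ⟨p, hp, y', hy', yo⟩ := exists_prime_pow (h.ne_b hy)
  have e := h.up_b hy (ne_one_of_ord hp yo) (cent_le_of_mem_zpowers hy')
  have hpa : p ∣ a := h.cc_b nc hy ▸ yo ▸ ord_dvd_cc' (e ▸ self_mem_cent y')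
  intro k hk k1
  exact (h.up_b hy k1 (e ▸ key p hp hpa y' yo k (e ▸ hk))).symm

theorem frob (hb : ∀ p, p.Prime → ∃ q, q.Prime ∧ q ≠ p ∧ q ∣ b)
    (hf : ∀ {x w : G}, cs x = a → cs w = a → Nat.card (MulAction.fixedBy (G ⧸ 𝐂[x]) w) = 1)
    {x : G} (hx : cs x = a) : IsFrobeniusComplement 𝐂[x] := by
  obtain ⟨q, hq, x', hx', xo⟩ := exists_prime_pow (h.ne_a hx)
  have ex := h.pow_a hx hx' (ne_one_of_ord hq xo)
  rw [ex] at hx ⊢
  clear ex hx'
  clear x
  rename' x' => x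
  have fx : ∀ w g : G, (g : G ⧸ 𝐂[x]) ∈ MulAction.fixedBy (G ⧸ 𝐂[x]) w ↔ g⁻¹ * w * g ∈ 𝐂[x] := by
    intro w g
    rw [MulAction.mem_fixedBy, MulAction.Quotient.smul_coe, eq_comm, QuotientGroup.eq, smul_eq_mul, mul_assoc]
  have U : ∀ w g : G, cs w = a → w ∈ 𝐂[x] → g⁻¹ * w * g ∈ 𝐂[x] → g ∈ 𝐂[x] := by
    intro w g hw h1 h2
    have := (Nat.card_eq_one_iff_unique.1 (hf hx hw)).1
    have e := Subsingleton.elim (⟨_, (fx w 1).2 (by simpa using h1)⟩ : MulAction.fixedBy (G ⧸ 𝐂[x]) w)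
      ⟨_, (fx w g).2 h2⟩
    simpa using QuotientGroup.eq.1 (congrArg Subtype.val e)
  have E : ∀ w : G, cs w = a → ∃ g, g⁻¹ * w * g ∈ 𝐂[x] := by
    intro w hw
    obtain ⟨⟨g, hg⟩⟩ := (Nat.card_eq_one_iff_unique.1 (hf hx hw)).2
    obtain ⟨g, rfl⟩ := QuotientGroup.mk_surjective g
    exact ⟨g, (fx w g).1 hg⟩
  have main : ∀ r, r.Prime → ∀ u g : G, orderOf u = r → u ∈ 𝐂[x] → g⁻¹ * u * g ∈ 𝐂[x] → g ∈ 𝐂[x] := by
    intro r hr u g uo h1 h2
    have cj : ∀ v : G, g⁻¹ * v * g ∈ 𝐂[x] ↔ g * x * g⁻¹ ∈ 𝐂[v] := by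
      intro v
      rw [mem_cent_iff, mem_cent_iff]
      constructor <;> intro e
      · calc g * x * g⁻¹ * v = g * (x * (g⁻¹ * v * g)) * g⁻¹ := by group
          _ = _ := by rw [← e]; group
      · calc g⁻¹ * v * g * x = g⁻¹ * (v * (g * x * g⁻¹)) * g := by group
          _ = _ := by rw [← e]; group
    have fin : g * x * g⁻¹ ∈ 𝐂[x] → g ∈ 𝐂[x] := fun e =>
      U _ g ((cs_conj g x).trans hx) e (by simpa [mul_assoc] using self_mem_cent x)
    have xu : x ∈ 𝐂[u] := mem_cent_comm.1 h1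
    have xu' := (cj u).1 h2
    rcases h.all u (ne_one_of_ord hr uo) with uc | uc | uc
    · exact U u g uc h1 h2
    · exact absurd h1 (nc hx uc)
    by_cases e : r = q
    swap
    · exact fin (h.cen_c uc xu (cop_ord hr hq e uo xo) xu')
    subst e
    by_cases e : ∃ s, s.Prime ∧ s ≠ r ∧ s ∣ Nat.card 𝐂[u]
    · obtain ⟨s, hs, sr, hd⟩ := e
      obtain ⟨v, hv, vo⟩ := exists_ord hs hd
      have h3 := h.cen_c uc hv (cop_ord hr hs sr.symm uo vo)
      rcases h.all v (ne_one_of_ord hs vo) with vc | vc | vc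
      · exact U v g vc (mem_cent_comm.1 (h3 xu)) ((cj v).2 (h3 xu'))
      · exact absurd (mem_cent_comm.1 (h3 xu)) (nc hx vc)
      · exact fin (h.cen_c vc (h3 xu) (cop_ord hs hr sr vo xo) (h3 xu'))
    · exfalso
      push Not at e
      obtain ⟨s, hs, sr, hsb⟩ := hb r hr
      obtain ⟨w, wo, wc⟩ := exists_pc' hs (hsb.trans h.b_dvd)
      rcases h.all w (ne_one_of_ord hs wo) with wa | wa | wa
      · obtain ⟨k, hk⟩ := E w wa
        have e1 : cs (k⁻¹ * w * k) = a := by simpa using (cs_conj k⁻¹ w).trans wa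
        have e2 : 𝐂[k⁻¹ * w * k] ≤ 𝐂[x] := fun d hd => U _ d e1 hk (by
          rw [mul_assoc, ← mem_cent_iff.1 hd]; simpa using hk)
        have e3 : k⁻¹ * w * k ∈ 𝐂[u] := mem_cent_comm.1 (h.up_a e1 (h.ne_a hx) e2 ▸ h1)
        refine e s hs sr (Dvd.dvd.trans ?_ (ord_dvd_cc' e3))
        have := MulEquiv.orderOf_eq (MulAut.conj k⁻¹) w
        rw [MulAut.conj_apply, inv_inv] at this
        rw [this, wo]
      · exact wc (wa ▸ hsb)
      · exact e s hs sr (cc_eq_of_cs (wa.trans uc.symm) ▸ wo ▸ ord_dvd_cc w)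
  refine ⟨fun e => h.ne_a hx (mem_bot.1 (e ▸ self_mem_cent x)),
    fun e => h.a_ne_one (by rw [← hx, e, index_top]), fun g hg => ?_⟩
  rw [eq_bot_iff]
  intro u hu
  by_contra u1
  obtain ⟨r, hr, v, hv, vo⟩ := exists_prime_pow (show u ≠ 1 from u1)
  have hv' := zpowers_le.2 hu hv
  exact hg (main r hr v g vo hv'.1 (Hall.mem_conj_smul.1 hv'.2))

end NC

theorem not_simple [IsSimpleGroup G] : False := by
  classical
  have := Fintype.ofFinite G
  have hG : ¬ ∀ u v : G, u * v = v * u := fun e => by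
    obtain ⟨x, -, hx⟩ := h.exa
    exact h.a_ne_one (hx ▸ cs_eq_one_iff.2 (mem_center_iff.2 fun g => e g x))
  have np : ∀ {x : G}, x ≠ 1 → ∀ p, p.Prime → ∃ q, q.Prime ∧ q ≠ p ∧ q ∣ cs x := by
    intro x x1 p hp
    by_contra e
    push Not at e
    exact hG (Char.comm_of_isSimpleGroup_of_prime_pow_class hp x1
      (Nat.eq_prime_pow_of_unique_prime_dvd (cs_ne_zero x) fun {q} hq hd => by
        by_contra e'; exact e q hq e' hd))
  obtain ⟨x, x1, hx⟩ := h.exa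
  obtain ⟨y, y1, hy⟩ := h.exb
  have hK : ACC 𝐂[y] := h.acc h.nc (hx ▸ np x1) hy
  have := h.frob h.nc (hy ▸ np y1) (fun {x w} hx hw => hK.fix_one hG
    (fun k hk k1 g => h.nc hx (by
      have := cs_conj g⁻¹ k
      rw [inv_inv] at this
      rw [this, hK k hk k1, hy])) (hx.trans (h.cc_b h.nc hy).symm) (h.ne_a hw)
    fun d hd _ => by rwa [hw, ← h.cc_b h.nc hy]) hx
  obtain ⟨N, -, hN, h1, h2, -⟩ := Coprime.exists_frobKernel this
  have h3 := hN.eq_bot_or_eq_top.resolve_left h2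
  subst h3
  exact this.1 (by simpa using h1.disjoint.eq_bot)

end Two

/-- Itô: a simple group with at most three non-trivial class sizes has abelian involution centralizers -/
theorem ac_of_three [IsSimpleGroup G] (hG : ¬ IsMulCommutative G) {a b c : ℕ}
    (h : ∀ x : G, x ≠ 1 → cs x = a ∨ cs x = b ∨ cs x = c) : AC G := by
  refine ac_of_anti fun x y hx hy hd => ?_
  by_contra hne
  have top : ∀ w : G, w ≠ 1 → ¬ ∀ z : G, z ≠ 1 → cs w ∣ cs z := by
    intro w w1 e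
    have : cs w = 1 := Nat.eq_one_iff_not_exists_prime_dvd.2 fun p hp hd => by
      obtain ⟨z, zo, zc⟩ := exists_pc' hp (hd.trans (cs_dvd_card w))
      exact zc (hd.trans (e z (ne_one_of_ord hp zo)))
    have h3 : center G = ⊤ := (Normal.eq_bot_or_eq_top inferInstance).resolve_left
      fun h => w1 (mem_bot.1 (h ▸ cs_eq_one_iff.1 this))
    exact hG ⟨⟨fun a b => mem_center_iff.1 (h3 ▸ mem_top b) a⟩⟩
  have h1 := top x hx
  push Not at h1
  obtain ⟨z, z1, hz⟩ := h1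
  have all : ∀ w : G, w ≠ 1 → cs w = cs x ∨ cs w = cs z ∨ cs w = cs y := by
    intro w w1
    have e1 : cs z ≠ cs x := fun e => hz e.symm.dvd
    have e2 : cs z ≠ cs y := fun e => hz (e ▸ hd)
    have := h w w1
    have := h x hx
    have := h y hy
    have := h z z1
    omega
  refine Two.not_simple (G := G) ⟨all, hd, hne, hz, fun e => top z z1 fun w w1 => ?_, ⟨x, hx, rfl⟩, ⟨z, z1, rfl⟩⟩
  rcases all w w1 with e' | e' | e' <;> rw [e']
  exacts [e, e.trans hd]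

theorem mem_center_iff_of_simple [IsSimpleGroup G] (hG : ¬ IsMulCommutative G) {x : G} :
    x ∉ center G ↔ x ≠ 1 := by
  have h3 : center G = ⊥ := (Normal.eq_bot_or_eq_top inferInstance).resolve_right
    fun h => hG ⟨⟨fun a b => mem_center_iff.1 (h ▸ mem_top b) a⟩⟩
  rw [h3, mem_bot]

/-- the set of non-trivial class sizes -/
def CS (G : Type*) [Group G] : Set ℕ := {m : ℕ | ∃ x : G, x ∉ center G ∧ m = cs x}

omit [Finite G] in
theorem CS_equiv {H : Type*} [Group H] (e : G ≃* H) : CS G = CS H := by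
  ext m
  constructor
  · rintro ⟨x, hx, rfl⟩
    exact ⟨e x, fun h => hx (cs_eq_one_iff.1 ((cs_equiv e x).symm.trans (cs_eq_one_iff.2 h))), (cs_equiv e x).symm⟩
  · rintro ⟨x, hx, rfl⟩
    exact ⟨e.symm x, fun h => hx (cs_eq_one_iff.1 ((cs_equiv e.symm x).symm.trans (cs_eq_one_iff.2 h))),
      (cs_equiv e.symm x).symm⟩

theorem tor_mem {F : Type*} [Field F] [Finite F] (h2 : (2 : F) = 0) {A : Type*} [CommGroup A] [Finite A]
    {τ : A →* Known.SL2 F} (h : Known.IsTorus τ) (hA : 2 < Nat.card A) (h1 : τ.range.index ≠ 1) :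
    τ.range.index ∈ CS (Linear.PSL2 F) := by
  have : ∃ a : A, a ^ 2 ≠ 1 := by
    by_contra e
    push Not at e
    have := h.cyc
    have := Nat.le_of_dvd two_pos (IsCyclic.exponent_eq_card (α := A) ▸ Monoid.exponent_dvd_of_forall_pow_eq_one e)
    omega
  obtain ⟨a, ha⟩ := this
  have e := h.index_pmk ha (Or.inl h2)
  exact ⟨_, fun hc => h1 (e ▸ cs_eq_one_iff.2 hc), e.symm⟩

theorem CS_psl_even {F : Type*} [Field F] [Finite F] (h2 : (2 : F) = 0) (h4 : 4 ≤ Nat.card F) :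
    CS (Linear.PSL2 F) = {Nat.card F ^ 2 - 1, Nat.card F * (Nat.card F + 1), Nat.card F * (Nat.card F - 1)} := by
  have := Linear.isSimpleGroup_PSL2 h4
  have hG : ¬ IsMulCommutative (Linear.PSL2 F) := fun h =>
    Linear.not_isSolvable_PSL2 h4 (Group.isSolvable_of_comm h.is_comm.comm)
  have he := Known.even_card_of_two_eq_zero h2
  have hg : Nat.gcd 2 (Nat.card F - 1) = 1 := by
    obtain ⟨k, hk⟩ := he
    rw [show Nat.card F - 1 = 1 + (k - 1) * 2 by omega, Nat.gcd_add_mul_right_right]; rfl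
  have par : ∀ b : F, b ≠ 0 → cs (Known.pmk F (Known.triS 1 b)) = Nat.card F ^ 2 - 1 := fun b hb => by
    have := Known.index_centralizer_pmk_par hb
    rwa [hg, one_mul] at this
  have cj : ∀ {x y : Linear.PSL2 F}, IsConj x y → cs x = cs y := fun h => by
    obtain ⟨g, rfl⟩ := isConj_iff.1 h; exact (cs_conj _ _).symm
  ext m
  constructor
  · rintro ⟨x, hx, rfl⟩
    rcases Known.PSL2_types x with rfl | ⟨b, hb, h⟩ | ⟨a, ha, h⟩ | ⟨a, ha, h⟩
    · exact absurd (one_mem _) hx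
    · exact Or.inl ((cj h).trans (par b hb))
    · exact Or.inr (Or.inl ((cj h).trans ((Known.isTorus_torusS.index_pmk ha (Or.inl h2)).trans
        Known.index_range_torusS)))
    · exact Or.inr (Or.inr ((cj h).trans ((Known.isTorus_singerS.index_pmk ha (Or.inl h2)).trans
        Known.index_range_singerS)))
  · rintro (rfl | rfl | rfl)
    · refine ⟨_, fun hc => ?_, (par 1 one_ne_zero).symm⟩
      have := (par 1 one_ne_zero).symm.trans (cs_eq_one_iff.2 hc)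
      have : 4 * 4 ≤ Nat.card F ^ 2 := by rw [sq]; exact Nat.mul_le_mul h4 h4
      omega
    · rw [← Known.index_range_torusS]
      refine tor_mem h2 Known.isTorus_torusS (by rw [Nat.card_units]; omega) ?_
      rw [Known.index_range_torusS]
      nlinarith
    · rw [← Known.index_range_singerS]
      refine tor_mem h2 (Known.isTorus_singerS (F := F)) (by rw [Known.card_U1]; omega) ?_
      rw [Known.index_range_singerS]
      obtain ⟨k, hk⟩ := Nat.exists_eq_add_of_le h4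
      rw [hk, show 4 + k - 1 = 3 + k by omega]
      nlinarith

theorem ncard_CS_psl_even {F : Type*} [Field F] [Finite F] (h2 : (2 : F) = 0) (h4 : 4 ≤ Nat.card F) :
    (CS (Linear.PSL2 F)).ncard = 3 := by
  rw [CS_psl_even h2 h4]
  obtain ⟨k, hk⟩ := Nat.exists_eq_add_of_le h4
  rw [hk, show 4 + k - 1 = 3 + k by omega, show (4 + k) ^ 2 - 1 = k * k + 8 * k + 15 by
    rw [Nat.sub_eq_iff_eq_add (Nat.one_le_pow _ _ (by omega))]; ring]
  exact Set.ncard_eq_three.2 ⟨_, _, _, by nlinarith, by nlinarith, by nlinarith, rfl⟩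

end Cfsg.Lib.Exc.Rank
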