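import Cfsg.Agent.Lib.Exc.Rank2
import Cfsg.Agent.Lib.Hall.CsF
import Cfsg.Agent.Lib.Hall.KW
import Cfsg.Agent.Lib.Hall.Kazarin
import Cfsg.Agent.Lib.Hall.FC6
import Cfsg.Agent.Lib.Exc.EC
import Cfsg.Agent.S4034

/-!
# Centreless groups with three non-trivial class sizes (Camina, Camina)
-/

set_option autoImplicit false
set_option linter.unusedSectionVars false

namespace Cfsg.Lib.Exc.Rank

open Cfsg Cfsg.Lib.Hall Cfsg.Lib.Core Cfsg.Lib.Transfer Subgroup
open scoped Pointwise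

universe u
variable {G : Type u} [Group G] [Finite G]

theorem cop_of_pow {p k n : ℕ} (hp : p.Prime) (h : ¬ p ∣ n) : (p ^ k).Coprime n :=
  (hp.coprime_iff_not_dvd.2 h).pow_left k

/-- a nilpotent subgroup of prime power index -/
theorem solv_of_nil_index {A : Subgroup G} (hA : Group.IsNilpotent A) {p k : ℕ} (hp : p.Prime)
    (h : A.index = p ^ k) : Group.IsSolvable G := by
  have := Fact.mk hp
  obtain ⟨P⟩ : Nonempty (Sylow p G) := inferInstance
  exact kegel_wielandt hA P.2.isNilpotent (factor_of_coprime_index (h ▸ cop_of_pow hp P.not_dvd_index))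

theorem isPGroup_of_unique {H : Subgroup G} {p : ℕ} (hp : p.Prime)
    (h : ∀ q, q.Prime → q ≠ p → ¬ q ∣ Nat.card H) : IsPGroup p H := by
  have := Fact.mk hp
  rw [IsPGroup.iff_card]
  exact ⟨_, Nat.eq_prime_pow_of_unique_prime_dvd Nat.card_pos.ne' fun {q} hq hd => by
    by_contra e'; exact h q hq e' hd⟩

theorem solv_two_reg {p m : ℕ} (hp : p.Prime)
    (hm : ∀ x : G, (orderOf x).Coprime p → x ∉ center G → cs x = m) : Group.IsSolvable G := by
  by_cases hc : ∃ q t, PR G p m q t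
  · obtain ⟨q, t, h⟩ := hc
    obtain ⟨A, h1, -, k, h2⟩ := h.abelian
    exact solv_of_nil_index (isNilpotent_of_isMulCommutative A) hp h2
  have pe : ∀ s, s.Prime → s ∣ Nat.card (G ⧸ center G) → ∃ x : G, CS3.PE s x ∧ x ∉ center G := fun s hs hd => by
    obtain ⟨v, -, h1, h2⟩ := CS3.exists_pe_of_dvd hs (H := ⊤) (X := center G) (by rwa [relIndex_top_right])
    exact ⟨v, h2, h1⟩
  have : Group.IsSolvable (G ⧸ center G) := by
    by_cases h1 : ∃ q : ℕ, q.Prime ∧ q ≠ p ∧ ∃ x : G, CS3.PE q x ∧ x ∉ center G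
    · obtain ⟨q, hq, hqp, hx⟩ := h1
      refine isSolvable_of_two_primes hp hq fun r hr hd => ?_
      by_contra e
      push Not at e
      exact hc ⟨q, r, hp, hq, hr, hqp, e.1, Ne.symm e.2, hm, hx, pe r hr hd⟩
    · refine isSolvable_of_two_primes hp hp fun r hr hd => ?_
      by_contra e
      push Not at e
      exact h1 ⟨r, hr, e.1, pe r hr hd⟩
  have : Group.IsSolvable (center G) := Group.isSolvable_of_comm fun a b => mul_comm' a b
  exact isSolvable_of_normal_of_quotient (center G)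

theorem dvd_two {p q r m : ℕ} (hp : p.Prime) (hq : q.Prime) (hr : r.Prime) (hqp : q ≠ p)
    (hm : ∀ x : G, (orderOf x).Coprime p → x ∉ center G → cs x = m) {y : G} (hy : orderOf y = q)
    (zy : y ∉ center G) (hd : r ∣ m) : r = p ∨ r = q := by
  by_contra e
  push Not at e
  have := Fact.mk hr
  obtain ⟨R⟩ : Nonempty (Sylow r G) := inferInstance
  by_cases hR : (R : Subgroup G) ≤ center G
  · exact not_dvd_cs_of_sylow_le_center R hR y (hm y (hy ▸ (Nat.coprime_primes hq hp).2 hqp) zy ▸ hd)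
  · obtain ⟨v, hv, zv⟩ := SetLike.not_le_iff_exists.1 hR
    exact pr_not_dvd _ G m rfl ⟨hp, hr, hq, e.1, hqp, e.2, hm, ⟨v, isPGroup_zpowers_of_mem R.2 hv, zv⟩,
      ⟨y, pe_of_ord hq hy, zy⟩⟩ hd

theorem ppow_of_all {p d : ℕ} (hp : p.Prime) (h : ∀ v : G, v ≠ 1 → (orderOf v).Coprime p → cs v = d) :
    (∃ A : Subgroup G, Group.IsNilpotent A ∧ ∃ k, A.index = p ^ k) ∧ (IsPGroup p G ∨ ∃ i, d = p ^ i) := by
  by_cases hG : IsPGroup p G
  · have := Fact.mk hp
    obtain ⟨k, hk⟩ := hG.exists_card_eq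
    exact ⟨⟨⊥, inferInstance, k, by rw [index_bot, hk]⟩, Or.inl hG⟩
  have hd : ∃ i, d = p ^ i := by
    have : ∃ q, q.Prime ∧ q ≠ p ∧ q ∣ Nat.card (⊤ : Subgroup G) := by
      by_contra e
      push Not at e
      exact hG (isPGroup_top_iff.1 (isPGroup_of_unique hp e))
    obtain ⟨q, hq, hqp, hd⟩ := this
    obtain ⟨v, -, vo⟩ := exists_ord hq hd
    have e := h v (ne_one_of_ord hq vo) (vo ▸ (Nat.coprime_primes hq hp).2 hqp)
    refine ⟨_, Nat.eq_prime_pow_of_unique_prime_dvd (e ▸ cs_ne_zero v) fun {r} hr hd => ?_⟩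
    by_contra hrp
    obtain ⟨z, zo, zc⟩ := exists_pc' (G := G) hr (hd.trans (e ▸ cs_dvd_card v))
    exact zc (h z (ne_one_of_ord hr zo) (zo ▸ (Nat.coprime_primes hr hp).2 hrp) ▸ hd)
  obtain ⟨A, h1, -, h2⟩ := (Cfsg.Agent.S4034.result (G := G) hp).1 fun x hx => by
    rw [ncard_carrier_mk]
    by_cases e : x = 1
    · exact ⟨0, by rw [e, cs_one, pow_zero]⟩
    · rw [h x e hx]; exact hd
  exact ⟨⟨A, isNilpotent_of_isMulCommutative A, h2⟩, Or.inr hd⟩

theorem nil_of_cen {D : Subgroup G} {p : ℕ} (hp : p.Prime) (h : ∀ v ∈ D, (orderOf v).Coprime p → D ≤ 𝐂[v]) :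
    Group.IsNilpotent D := by
  have := Fact.mk hp
  obtain ⟨P⟩ : Nonempty (Sylow p D) := inferInstance
  have := P.2.isNilpotent
  refine ce_nil_of_sup (H := (P : Subgroup D)) (eq_top_of_forall_sylow_le fun q hq _ => ?_)
  by_cases e : q = p
  · subst e; exact ⟨P, le_sup_right⟩
  · obtain ⟨Q⟩ : Nonempty (Sylow q D) := inferInstance
    refine ⟨Q, le_sup_of_le_left fun v hv => mem_center_iff.2 fun g => Subtype.ext ?_⟩
    refine mem_cent_iff.1 (h v v.2 ?_ g.2)
    rw [orderOf_coe]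
    exact coprime_orderOf_of_isPGroup hq.out (isPGroup_zpowers_of_mem Q.2 hv)
      ((Nat.coprime_primes hp hq.out).2 (Ne.symm e))

theorem cs_mul_sub {x : G} (v : 𝐂[x]) (hc : (orderOf x).Coprime (orderOf v)) :
    cs (x * v) = cs v * cs x := by
  rw [cs_mul_of_coprime (comm_of_mem v.2) (by rwa [orderOf_coe]), cs_coe_eq_relIndex]

namespace ACC
variable {K : Subgroup G} (hK : ∀ k ∈ K, k ≠ 1 → 𝐂[k] = K)
include hK

theorem le_of_normal (hc : (Nat.card K).Coprime K.index) (hF : fittingSubgroup G = ⊥) (K1 : K ≠ ⊥)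
    (N : Subgroup G) : N.Normal → ¬ K ≤ N → N = ⊥ := by
  have := Fintype.ofFinite G
  have hK' : ACC K := hK
  induction N using WellFoundedLT.induction with
  | _ N ih =>
  intro hN h
  by_cases e : K ⊓ N = ⊥
  · obtain ⟨y, hy, y1⟩ := (bot_or_exists_ne_one K).resolve_left K1
    obtain ⟨p, hp, r, hr, ro⟩ := exists_prime_pow y1
    have := BS.thompson_fpf (K := N) (r := r) (le_normalizer_of_normal (mem_top r)) (ro ▸ hp)
      (by rw [hK r (zpowers_le.2 hy hr) (ne_one_of_ord hp ro), inf_comm, e])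
    exact fitting_eq_bot_iff.1 hF N hN this
  obtain ⟨p, hp, hd⟩ := Nat.exists_prime_and_dvd (mt card_eq_one.1 e)
  have := Fact.mk hp
  obtain ⟨T, hT⟩ := exists_sylowIn (p := p) (K ⊓ N)
  have hT' : SylowIn p T N := ⟨hT.1.trans inf_le_right, hT.2, by
    rw [← relIndex_mul_relIndex T (K ⊓ N) N hT.1 inf_le_right, hp.dvd_mul, inf_relIndex_right]
    rintro (h1 | h1)
    · exact hT.3 h1
    · exact hp.one_lt.ne' (Nat.eq_one_of_dvd_coprimes hc (hd.trans (card_dvd_of_le inf_le_left))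
        (h1.trans (relIndex_dvd_index_of_normal_right K N)))⟩
  have TK : T ≤ K := hT.1.trans inf_le_left
  obtain ⟨t, ht, t1⟩ := (bot_or_exists_ne_one T).resolve_left fun e' => hT.3 (by rwa [e', relIndex_bot_left])
  have h1 : N ⊓ normalizer (T : Set G) ≤ K := by
    intro g hg
    by_contra gK
    have hn : ∀ x ∈ K, g * x * g⁻¹ ∈ K := fun x hx =>
      hK'.conj_mem (TK ht) t1 (TK (Core.conj_mem_of_mem_normalizer hg.2 ht)) hx
    let f : K → K := fun y => y⁻¹ * ⟨g * y * g⁻¹, hn y y.2⟩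
    have hf : Function.Injective f := by
      intro a b e
      have e1 : (a : G)⁻¹ * (g * a * g⁻¹) = (b : G)⁻¹ * (g * b * g⁻¹) := congrArg Subtype.val e
      by_contra hne
      apply gK
      have hab : (b : G) * (a : G)⁻¹ ≠ 1 := fun e' => hne (Subtype.ext (mul_inv_eq_one.1 e').symm)
      refine hK'.mem_of_comm (K.mul_mem b.2 (K.inv_mem a.2)) hab ?_
      have : (b : G) * (a : G)⁻¹ * (g * a * g⁻¹) = g * b * g⁻¹ := by
        rw [mul_assoc, e1]; group
      calc g * (b * (a : G)⁻¹) = (g * b * g⁻¹) * g * (a : G)⁻¹ := by group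
        _ = (b : G) * (a : G)⁻¹ * (g * a * g⁻¹) * g * (a : G)⁻¹ := by rw [this]
        _ = _ := by group
    refine h fun k hk => ?_
    obtain ⟨y, e⟩ := (Finite.surjective_of_injective hf) ⟨k, hk⟩
    have e1 : (y : G)⁻¹ * (g * y * g⁻¹) = k := congrArg Subtype.val e
    rw [← e1, show (y : G)⁻¹ * (g * y * g⁻¹) = (y : G)⁻¹ * g * (y : G)⁻¹⁻¹ * g⁻¹ by group]
    exact N.mul_mem (hN.conj_mem g hg.1 _) (N.inv_mem hg.1)
  have h2 : PNil p N := by
    rw [hT'.pnil_iff, hT'.inf_resOf_of_comm ⟨⟨fun a b => Subtype.ext (hK'.comm (TK a.2) (TK b.2))⟩⟩,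
      commutator_eq_bot_iff_le_centralizer]
    exact fun a ha g hg => hK'.comm (h1 hg) (TK ha)
  have := resOf_normal (p := p) N
  have h3 := ih (resOf p N) (lt_of_le_of_ne (resOf_le N) fun e' =>
    h2 (e'.symm ▸ hd.trans (card_dvd_of_le inf_le_right))) this fun e' => h (e'.trans (resOf_le N))
  obtain ⟨n, hn⟩ := relIndex_resOf (p := p) N
  rw [h3, relIndex_bot_left] at hn
  exact fitting_eq_bot_iff.1 hF N hN (IsPGroup.of_card hn).isNilpotent

open Cfsg.Lib.Char in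
theorem fix_one' (hZ : center G = ⊥) (hN : ∀ N : Subgroup G, N.Normal → K ≤ N ∨ N = ⊥) {H : Subgroup G}
    (hH : ∀ k ∈ K, k ≠ 1 → ∀ g, g⁻¹ * k * g ∉ H) (hi : H.index = Nat.card K) {x : G} (hx : x ≠ 1)
    (hc : cs x = Nat.card K) : Nat.card (MulAction.fixedBy (G ⧸ H) x) = 1 := by
  classical
  have := Fintype.ofFinite G
  have hK' : ACC K := hK
  have := Fintype.ofFinite H
  have := Fintype.ofFinite K
  have hcm : IsComplement' H K := isComplement'_of_card_mul_and_disjoint (by rw [← hi, card_mul_index])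
    (disjoint_iff_inf_le.2 fun k hk => by
      by_contra e
      exact hH k hk.2 e 1 (by simpa using hk.1))
  have e1 := (isClassFunction_indFun (H := H) fun _ => (1 : ℂ)).apply_eq_sum x
  rw [indFun_one_eq_card_fixedBy, Finset.sum_eq_single (principalIrr G)] at e1
  · rw [classInner_indFun_left _ (principalIrr G).2.isClassFunction] at e1
    have e2 := (isIrrCharacter_one (G := H)).classInner_self
    have : (Nat.card (MulAction.fixedBy (G ⧸ H) x) : ℂ) = 1 := by
      rw [e1]; exact (mul_one _).trans e2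
    exact_mod_cast this
  · intro χ _ h0
    by_cases h1 : classInner (indFun H fun _ => 1) χ.1 = 0
    · rw [h1, zero_mul]
    obtain ⟨d, -, hd⟩ := χ.2.exists_pos_degree
    rcases χ.2.eq_zero_or_norm_eq_of_coprime hd (hc ▸ hK'.const_deg hH hi χ h0 h1 hd) with h | h
    · rw [h, mul_zero]
    · exfalso
      have h2 := χ.2.mem_charCenter.2 h
      have hk : charKer χ.1 = ⊥ := (hN _ χ.2.charKer_normal).resolve_left fun hle => h1 (by
        have e3 := χ.2.sum_eq_zero fun e => h0 (Subtype.ext e)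
        rw [← Function.Bijective.sum_comp (e := fun z : H × K => (z.1 : G) * z.2) hcm, Fintype.sum_prod_type] at e3
        have e4 : ∀ (a : H) (k : K), χ.1 ((a : G) * k) = χ.1 a := fun a k => by
          rw [χ.2.isClassFunction.mul_comm]; exact hle k.2 a
        simp only [e4, Finset.sum_const, nsmul_eq_mul, ← Finset.mul_sum,
          mul_eq_zero, Nat.cast_eq_zero, Finset.card_univ, Fintype.card_ne_zero, false_or] at e3
        rw [classInner_indFun_left _ χ.2.isClassFunction, classInner_eq_zero_comm, classInner_one_right, e3,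
          mul_zero])
      rw [χ.2.charCenter_eq_center hk, hZ] at h2
      exact hx h2
  · simp

end ACC

theorem solv_of_sub {L : Subgroup G} {A : Subgroup L} (hA : Group.IsNilpotent A) {p k j : ℕ} (hp : p.Prime)
    (h1 : A.index = p ^ k) (h2 : L.index = p ^ j) : Group.IsSolvable G :=
  solv_of_nil_index (A := A.map L.subtype) (kw_nil_map hA _) hp (k := k + j)
    (by rw [index_map_subtype, h1, h2, pow_add])

theorem mem_of_pe {N : Subgroup G} [N.Normal] {t : ℕ} (ht : t.Prime) {u : G} (hu : IsPGroup t (zpowers u))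
    (h : ¬ t ∣ N.index) : u ∈ N := by
  by_contra e
  exact h (relIndex_top_right N ▸ CS3.dvd_relIndex_of_pe ht (H := ⊤) le_normalizer_of_normal (mem_top u) e hu)

theorem exists_pCore_cen {p : ℕ} (hp : p.Prime) (h : pCore p G ≠ ⊥) :
    ∃ z ∈ pCore p G, orderOf z = p ∧ pCore p G ≤ 𝐂[z] := by
  have := Fact.mk hp
  have : Nontrivial (pCore p G) := (nontrivial_iff_ne_bot _).2 h
  have hP := isPGroup_pCore p G
  have h1 := IsPGroup.center_nontrivial hP
  obtain ⟨k, hk, h2⟩ := (IsPGroup.nontrivial_iff_card (hP.to_subgroup (center _))).1 h1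
  obtain ⟨z, hz, ho⟩ := exists_ord hp (H := center (pCore p G)) (h2 ▸ dvd_pow_self p hk.ne')
  refine ⟨z, z.2, by rw [orderOf_coe, ho], fun g hg => mem_cent_iff.2 ?_⟩
  exact congrArg Subtype.val (mem_center_iff.1 hz ⟨g, hg⟩)

theorem ord_conj (g x : G) : orderOf (g * x * g⁻¹) = orderOf x := MulEquiv.orderOf_eq (MulAut.conj g) x

namespace Two
variable {a b c : ℕ} (h : Two G a b c)
include h

theorem center_eq : center G = ⊥ := eq_bot_iff.2 fun z hz => by
  by_contra z1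
  have := cs_eq_one_iff.2 hz
  rcases h.all z z1 with e | e | e
  exacts [h.a_ne_one (e ▸ this), h.b_ne_one (e ▸ this), h.a_ne_one (Nat.dvd_one.1 (this ▸ e ▸ h.ac))]

theorem mul_a {x v : G} (hx : cs x = a) (hv : v ∈ 𝐂[x]) (hc : (orderOf x).Coprime (orderOf v)) :
    𝐂[x] ≤ 𝐂[v] ∨ cs (x * v) = c := by
  have e := cent_mul_of_coprime (comm_of_mem hv) hc
  rcases h.all _ (mul_ne_one_of_cop (h.ne_a hx) (comm_of_mem hv) hc) with e' | e' | e'
  · exact Or.inl (by rw [← h.up_a e' (h.ne_a hx) (e ▸ inf_le_left), e]; exact inf_le_right)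
  · exact absurd (hx ▸ e' ▸ cs_dvd_mul_left (comm_of_mem hv) hc) h.ab
  · exact Or.inr e'

theorem mul_b {x v : G} (hx : cs x = b) (hv : v ∈ 𝐂[x]) (hc : (orderOf x).Coprime (orderOf v)) :
    𝐂[x] ≤ 𝐂[v] ∨ cs (x * v) = c := by
  have e := cent_mul_of_coprime (comm_of_mem hv) hc
  rcases h.all _ (mul_ne_one_of_cop (h.ne_b hx) (comm_of_mem hv) hc) with e' | e' | e'
  · exact absurd (hx ▸ e' ▸ cs_dvd_mul_left (comm_of_mem hv) hc) h.ba
  · exact Or.inl (by rw [← h.up_b e' (h.ne_b hx) (e ▸ inf_le_left), e]; exact inf_le_right)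
  · exact Or.inr e'

omit h in
theorem reg {x : G} {p : ℕ} (xo : orderOf x = p)
    (H : ∀ v ∈ 𝐂[x], (orderOf x).Coprime (orderOf v) → 𝐂[x] ≤ 𝐂[v] ∨ cs (x * v) = c) (v : 𝐂[x])
    (hv : (orderOf v).Coprime p) (zv : v ∉ center 𝐂[x]) : cs v = c / cs x := by
  have hc : (orderOf x).Coprime (orderOf v) := xo ▸ hv.symm
  rcases H v v.2 (by rwa [orderOf_coe]) with e | e
  · exact absurd (mem_center_iff.2 fun g => Subtype.ext (mem_cent_iff.1 (e g.2))) zv
  · rw [← e, cs_mul_sub v hc, Nat.mul_div_cancel _ (cs_pos x)]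

theorem solv_a {x : G} (hx : cs x = a) : Group.IsSolvable 𝐂[x] := by
  obtain ⟨q, hq, y, hy, yo⟩ := exists_prime_pow (h.ne_a hx)
  have e := h.pow_a hx hy (ne_one_of_ord hq yo)
  rw [e] at hx ⊢
  exact solv_two_reg hq (reg yo fun v hv hc => h.mul_a hx hv hc)

theorem solv_ne {p q : ℕ} (hp : p.Prime) (hq : q.Prime) (hpq : p ≠ q) {x y : G} (xo : orderOf x = p)
    (yo : orderOf y = q) (hx : cs x = a) (hy : cs y = b) (hc : y ∈ 𝐂[x]) : Group.IsSolvable G := by
  have co := cop_ord hp hq hpq xo yo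
  have n1 : ¬ 𝐂[x] ≤ 𝐂[y] := fun e => h.a_ne_b (by rw [← hx, h.up_a hx (h.ne_b hy) e, hy])
  have n2 : ¬ 𝐂[y] ≤ 𝐂[x] := fun e => h.a_ne_b (by rw [← hy, h.up_b hy (h.ne_a hx) e, hx])
  have e1 : c = a * b := by
    rw [← (h.mul_a hx hc co).resolve_left n1, cent_mul_of_coprime (comm_of_mem hc) co,
      index_inf_of_coprime (hx ▸ hy ▸ h.cop), hx, hy]
  refine isSolvable_of_two_primes hp hq fun r hr hd => ?_
  by_cases ra : r ∣ a
  · refine (dvd_two (G := 𝐂[y]) hq hp hr hpq (reg yo fun v hv hc => h.mul_b hy hv hc)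
      (y := ⟨x, mem_cent_comm.1 hc⟩) (by rwa [orderOf_mk]) (fun e => n2 fun g hg => ?_) ?_).symm
    · exact mem_cent_iff.2 (congrArg Subtype.val (mem_center_iff.1 e ⟨g, hg⟩))
    · rwa [hy, e1, Nat.mul_div_cancel _ (hy ▸ cs_pos y)]
  by_cases rb : r ∣ b
  · refine dvd_two (G := 𝐂[x]) hp hq hr hpq.symm (reg xo fun v hv hc => h.mul_a hx hv hc)
      (y := ⟨y, hc⟩) (by rwa [orderOf_mk]) (fun e => n1 fun g hg => ?_) ?_
    · exact mem_cent_iff.2 (congrArg Subtype.val (mem_center_iff.1 e ⟨g, hg⟩))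
    · rwa [hx, e1, Nat.mul_div_cancel_left _ h.a_pos]
  exfalso
  have := Fact.mk hr
  obtain ⟨R⟩ : Nonempty (Sylow r G) := inferInstance
  refine R.ne_bot_of_dvd_card hd (eq_bot_iff.2 (h.center_eq ▸ sylow_le_center_of_forall_not_dvd R fun w => ?_))
  by_cases w1 : w = 1
  · rw [w1, cs_one]; exact hr.not_dvd_one
  · rcases h.all w w1 with e' | e' | e' <;> rw [e']
    exacts [ra, rb, e1 ▸ fun e => (hr.dvd_mul.1 e).elim ra rb]

theorem solv_eq (hP : ∀ (p q : ℕ) (x y : G), p.Prime → q.Prime → orderOf x = p → orderOf y = q → cs x = a →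
      cs y = b → y ∈ 𝐂[x] → p = q) {p : ℕ} (hp : p.Prime) {x y : G} (xo : orderOf x = p)
    (yo : orderOf y = p) (hx : cs x = a) (hy : cs y = b) (hc : y ∈ 𝐂[x]) : Group.IsSolvable G := by
  have key : ∀ z : G, orderOf z = p → (∀ v ∈ 𝐂[z], v ≠ 1 → (orderOf v).Coprime p → cs (z * v) = c) →
      (∃ A : Subgroup 𝐂[z], Group.IsNilpotent A ∧ ∃ k, A.index = p ^ k) ∧
        (IsPGroup p 𝐂[z] ∨ ∃ i, c = p ^ i * cs z) := by
    intro z zo H
    by_cases hz : IsPGroup p 𝐂[z]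
    · exact ⟨(ppow_of_all (d := 1) hp fun v v1 hv => absurd (by
        have := Fact.mk hp
        obtain ⟨k, hk⟩ := (IsPGroup.iff_orderOf.1 hz) v
        exact orderOf_eq_one_iff.1 (Nat.eq_one_of_dvd_coprimes (hv.pow_right k) dvd_rfl hk.dvd)) v1).1, Or.inl hz⟩
    have H' : ∀ v : 𝐂[z], v ≠ 1 → (orderOf v).Coprime p → cs v * cs z = c := fun v v1 hv => by
      rw [← cs_mul_sub v (zo ▸ hv.symm), H v v.2 (by simpa using v1) (by rwa [orderOf_coe])]
    obtain ⟨h1, h2⟩ := ppow_of_all (G := 𝐂[z]) (d := c / cs z) hp fun v v1 hv => by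
      rw [← H' v v1 hv, Nat.mul_div_cancel _ (cs_pos z)]
    obtain ⟨i, hi⟩ := h2.resolve_left hz
    refine ⟨h1, Or.inr ⟨i, ?_⟩⟩
    obtain ⟨q, hq, hqp, hd⟩ : ∃ q, q.Prime ∧ q ≠ p ∧ q ∣ Nat.card 𝐂[z] := by
      by_contra e
      push Not at e
      exact hz (isPGroup_of_unique hp e)
    obtain ⟨v, hv, vo⟩ := exists_ord hq hd
    have := H' ⟨v, hv⟩ (by simpa using ne_one_of_ord hq vo) (by rw [orderOf_mk, vo]; exact (Nat.coprime_primes hq hp).2 hqp)
    rw [← hi, Nat.div_mul_cancel (this ▸ dvd_mul_left _ _)]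
  obtain ⟨⟨A, A1, k, A2⟩, h1⟩ := key x xo fun v hv v1 hv' => (h.mul_a hx hv (xo ▸ hv'.symm)).resolve_left fun e => by
    obtain ⟨r, hr, w, hw, wo⟩ := exists_prime_pow v1
    have e' := h.up_a hx (ne_one_of_ord hr wo) (e.trans (cent_le_of_mem_zpowers hw))
    obtain rfl := hP r p w y hr hp wo yo (e' ▸ hx) hy (e' ▸ hc)
    exact hr.one_lt.ne' (Nat.eq_one_of_dvd_coprimes hv' (wo ▸ orderOf_dvd_of_mem_zpowers hw) dvd_rfl)
  obtain ⟨⟨B, B1, l, B2⟩, h2⟩ := key y yo fun v hv v1 hv' => (h.mul_b hy hv (yo ▸ hv'.symm)).resolve_left fun e => by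
    obtain ⟨r, hr, w, hw, wo⟩ := exists_prime_pow v1
    have e' := h.up_b hy (ne_one_of_ord hr wo) (e.trans (cent_le_of_mem_zpowers hw))
    obtain rfl := hP p r x w hp hr xo wo hx (e' ▸ hy) (mem_cent_comm.1 (e' ▸ mem_cent_comm.1 hc))
    exact hr.one_lt.ne' (Nat.eq_one_of_dvd_coprimes hv' (wo ▸ orderOf_dvd_of_mem_zpowers hw) dvd_rfl)
  have := Fact.mk hp
  have fac := factor_of_coprime_index (H := 𝐂[x]) (K := 𝐂[y]) (hx ▸ hy ▸ h.cop)
  rcases h1 with h1 | ⟨i, hi⟩
  · obtain ⟨n, hn⟩ := h1.exists_card_eq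
    obtain ⟨j, hj⟩ := exists_eq_pow_of_dvd hp (hn ▸ index_dvd_card_of_factor fac)
    exact solv_of_sub B1 hp B2 hj
  rcases h2 with h2 | ⟨j, hj⟩
  · obtain ⟨n, hn⟩ := h2.exists_card_eq
    obtain ⟨j, hj⟩ := exists_eq_pow_of_dvd hp (hn ▸ index_dvd_card_of_factor (factor_symm fac))
    exact solv_of_sub A1 hp A2 hj
  exfalso
  rw [hi, hx, hy] at hj
  rcases le_total i j with e | e <;> obtain ⟨d, rfl⟩ := Nat.exists_eq_add_of_le e <;>
    rw [pow_add, mul_assoc] at hj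
  · exact h.ba (Dvd.intro_left _ (Nat.eq_of_mul_eq_mul_left (pow_pos hp.pos _) hj).symm)
  · exact h.ab (Dvd.intro_left _ (Nat.eq_of_mul_eq_mul_left (pow_pos hp.pos _) hj))

section NC
variable (nc : ∀ {x y : G}, cs x = a → cs y = b → y ∉ 𝐂[x])
include nc

theorem mem_b {y k : G} (hy : cs y = b) (hk : k ∈ 𝐂[y]) (k1 : k ≠ 1) : cs k = b := by
  obtain ⟨r, hr, hd⟩ := Nat.exists_prime_and_dvd (n := orderOf k) (by simpa using k1)
  exact h.is_b' nc hr (h.cc_b nc hy ▸ hd.trans (ord_dvd_cc' hk)) hd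

theorem nil_b {y : G} (hy : cs y = b) : Group.IsNilpotent 𝐂[y] := by
  by_cases ha : ∀ p, p.Prime → ∃ q, q.Prime ∧ q ≠ p ∧ q ∣ a
  · have := Fintype.ofFinite G
    have : IsMulCommutative 𝐂[y] := ⟨⟨ACC.comm' (h.acc nc ha hy)⟩⟩
    exact isNilpotent_of_isMulCommutative _
  · push Not at ha
    obtain ⟨p, hp, ha⟩ := ha
    have := Fact.mk hp
    exact (isPGroup_of_unique hp (h.cc_b nc hy ▸ ha)).isNilpotent

theorem not_F (hF : fittingSubgroup G = ⊥) : False := by
  have np : ∀ {x : G}, x ≠ 1 → ∀ p, p.Prime → ∃ q, q.Prime ∧ q ≠ p ∧ q ∣ cs x := by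
    intro x x1 p hp
    by_contra e
    push Not at e
    have := kazarin hp (Nat.eq_prime_pow_of_unique_prime_dvd (cs_ne_zero x) fun {q} hq hd => by
      by_contra e'; exact e q hq e' hd)
    rw [solvableRadical_eq_bot_iff_fitting_eq_bot.2 hF] at this
    exact x1 this
  obtain ⟨x, x1, hx⟩ := h.exa
  obtain ⟨y, y1, hy⟩ := h.exb
  have hK := h.acc nc (hx ▸ np x1) hy
  have K1 : 𝐂[y] ≠ ⊥ := fun e => y1 (mem_bot.1 (e ▸ self_mem_cent y))
  have := h.frob nc (hy ▸ np y1) (fun {x w} hx hw => ACC.fix_one' hK h.center_eq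
    (fun N hN => or_iff_not_imp_left.2 (ACC.le_of_normal hK (by rw [h.cc_b nc hy, hy]; exact h.cop) hF K1 N hN))
    (fun k hk k1 g => nc hx (by
      have := cs_conj g⁻¹ k
      rw [inv_inv] at this
      rw [this, hK k hk k1, hy])) (hx.trans (h.cc_b nc hy).symm) (h.ne_a hw) (hw.trans (h.cc_b nc hy).symm)) hx
  obtain ⟨N, -, hN, -, h2, h3, -⟩ := Coprime.exists_frobKernel this
  obtain ⟨p, hp, r, hr, ro⟩ := exists_prime_pow x1
  exact h2 (fitting_eq_bot_iff.1 hF N hN (BS.thompson_fpf (le_normalizer_of_normal (mem_top r)) (ro ▸ hp)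
    (h3 r (zpowers_le.2 (self_mem_cent x) hr) (ne_one_of_ord hp ro))))

theorem solv_i {r : ℕ} (hr : r.Prime) (ra : r ∣ a) (hO : pCore r G ≠ ⊥) : Group.IsSolvable G := by
  have := Fact.mk hr
  obtain ⟨x, -, hx⟩ := h.exa
  obtain ⟨y, -, hy⟩ := h.exb
  have rb : ¬ r ∣ b := fun e => hr.one_lt.ne' (Nat.eq_one_of_dvd_coprimes h.cop ra e)
  obtain ⟨v, hv, vo, -⟩ := exists_pCore_cen hr hO
  have vb := h.is_b' nc hr ra vo.symm.dvd
  have e : 𝐂[y] = centralizer (pCore r G : Set G) := by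
    have h1 : 𝐂[y] ≤ centralizer (pCore r G : Set G) := fun k hk => by
      by_cases k1 : k = 1
      · exact k1 ▸ one_mem _
      obtain ⟨P, hP⟩ := exists_sylow_le_of_not_dvd_index (H := 𝐂[k]) (h.mem_b nc hy hk k1 ▸ rb)
      exact le_cent_iff.1 ((pCore_le_sylow P).trans hP)
    refine eq_of_le_of_card_ge h1 ?_
    rw [h.cc_b nc hy, ← h.cc_b nc vb]
    exact card_le_of_le (centralizer_le (Set.singleton_subset_iff.2 hv))
  have hN : 𝐂[y].Normal := e ▸ inferInstance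
  have := h.nil_b nc hy
  have := h.solv_a hx
  have : Group.IsSolvable (G ⧸ 𝐂[y]) :=
    Group.isSolvable_of_surjective (f := (QuotientGroup.mk' 𝐂[y]).comp 𝐂[x].subtype) fun g => by
      obtain ⟨g, rfl⟩ := QuotientGroup.mk_surjective g
      obtain ⟨u, hu, w, hw, rfl⟩ := factor_of_coprime_index (H := 𝐂[x]) (K := 𝐂[y]) (hx ▸ hy ▸ h.cop) g
      exact ⟨⟨u, hu⟩, QuotientGroup.eq.2 (by simpa using hw)⟩
  exact isSolvable_of_normal_of_quotient 𝐂[y]

theorem le_F (N : Subgroup G) [N.Normal] (hN : ∀ w ∈ N, cs w ≠ b) : N ≤ fittingSubgroup G := by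
  obtain ⟨y, y1, hy⟩ := h.exb
  obtain ⟨p, hp, r, hr, ro⟩ := exists_prime_pow y1
  have e := h.up_b hy (ne_one_of_ord hp ro) (cent_le_of_mem_zpowers hr)
  refine le_fitting (BS.thompson_fpf (le_normalizer_of_normal (mem_top r)) (ro ▸ hp) (eq_bot_iff.2 fun w hw => ?_))
  by_contra w1
  exact hN w hw.1 (h.mem_b nc hy (e ▸ hw.2) w1)

theorem cent_le_F {t : ℕ} (ht : t.Prime) (tb : t ∣ b) (hO : pCore t G ≠ ⊥) :
    centralizer (pCore t G : Set G) ≤ fittingSubgroup G := by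
  obtain ⟨v, hv, vo, -⟩ := exists_pCore_cen ht hO
  refine h.le_F nc _ fun w hw e => h.not_dvd_b nc ht tb e (vo ▸ ord_dvd_cc' (le_cent_iff.2 hw hv))

theorem solv_ii (h1 : ∀ r, r.Prime → r ∣ a → pCore r G = ⊥) {r : ℕ} (hr : r.Prime) (hO : pCore r G ≠ ⊥) :
    Group.IsSolvable G := by
  have := fitting_normal G
  have ob : ∀ s, s.Prime → pCore s G ≠ ⊥ → s ∣ b := fun s hs hO => by
    obtain ⟨v, -, vo, -⟩ := exists_pCore_cen hs hO
    exact (h.dvd_or nc hs (vo ▸ _root_.orderOf_dvd_natCard v)).resolve_left fun e => hO (h1 s hs e)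
  have nab : ∀ s, s.Prime → s ∣ b → ¬ s ∣ a := fun s hs e e' =>
    hs.one_lt.ne' (Nat.eq_one_of_dvd_coprimes h.cop e' e)
  have aF : ∀ x : G, cs x = a → x ∈ fittingSubgroup G := fun x hx => by
    have := Fact.mk hr
    obtain ⟨P, hP⟩ := exists_sylow_le_of_not_dvd_index (H := 𝐂[x]) (hx ▸ nab r hr (ob r hr hO))
    exact h.cent_le_F nc hr (ob r hr hO) hO (le_cent_iff.1 ((pCore_le_sylow P).trans hP))
  have inO : ∀ s, s.Prime → ∀ v ∈ fittingSubgroup G, IsPGroup s (zpowers v) → v ∈ pCore s G :=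
    fun s hs v hv pv => le_pCore_of_le_fitting hs pv (zpowers_le.2 hv) (mem_zpowers v)
  have neO : ∀ s, s.Prime → ∀ v ∈ fittingSubgroup G, orderOf v = s → pCore s G ≠ ⊥ := fun s hs v hv vo e =>
    ne_one_of_ord hs vo (mem_bot.1 (e ▸ inO s hs v hv (pe_of_ord hs vo)))
  have isc : ∀ t, t.Prime → t ∣ b → ∀ u, u ∉ fittingSubgroup G → IsPGroup t (zpowers u) → cs u = c := by
    intro t ht tb u hu pu
    have u1 : u ≠ 1 := fun e => hu (e ▸ one_mem _)
    rcases h.all u u1 with e | e | e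
    · exact absurd (aF u e) hu
    · obtain ⟨k, hk⟩ := (isPGroup_zpowers_iff ht).1 pu
      exact absurd ((hk ▸ dvd_pow_self t (by rintro rfl; exact u1 (by simpa using hk))).trans (ord_dvd_cc u))
        (h.not_dvd_b nc ht tb e)
    · exact e
  obtain ⟨x, -, hx⟩ := h.exa
  obtain ⟨y, -, hy⟩ := h.exb
  by_cases hA : ∃ t, t.Prime ∧ t ∣ b ∧ t ∣ (fittingSubgroup G).index ∧ t ∣ c
  · obtain ⟨t, ht, tb, tF, tc⟩ := hA
    have := Fact.mk ht
    obtain ⟨z, zo, zc⟩ := exists_pc' (G := G) ht (tb.trans h.b_dvd)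
    have tO : pCore t G ≠ ⊥ := neO t ht z (aF z (by
      rcases h.all z (ne_one_of_ord ht zo) with e | e | e
      exacts [e, absurd (e ▸ tb) zc, absurd (e ▸ tc) zc])) zo
    obtain ⟨u, -, uF, pu⟩ := CS3.exists_pe_of_dvd ht (H := ⊤) (relIndex_top_right (fittingSubgroup G) ▸ tF)
    have uc := isc t ht tb u uF pu
    have claim : ∀ s, s.Prime → s ≠ t → ∀ v ∈ 𝐂[u], IsPGroup s (zpowers v) → v ∈ fittingSubgroup G := by
      intro s hs st v hv pv
      by_contra vF
      have v1 : v ≠ 1 := fun e => vF (e ▸ one_mem _)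
      have vt := coprime_orderOf_of_isPGroup hs pv ((Nat.coprime_primes ht hs).2 st.symm)
      have co := coprime_orderOf_of_isPGroup ht pu vt
      have e1 := h.cen_c uc hv co
      have vc : cs v = c := by
        rcases h.all v v1 with e | e | e
        · exact absurd (aF v e) vF
        · exact absurd (uc.symm.trans (h.mem_b nc e (mem_cent_comm.1 hv) (h.ne_c uc))) h.b_ne_c.symm
        · exact e
      have e2 := h.down_c vc (h.ne_c uc) e1
      have := Coprime.thompson_PxQ (P := zpowers u) (Q := zpowers v) (U := pCore t G) pu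
        (by rwa [Nat.card_zpowers]) (isPGroup_pCore t G)
        (by rw [centralizer_zpowers, zpowers_le]; exact mem_cent_comm.1 hv) le_normalizer_of_normal
        le_normalizer_of_normal (by rw [centralizer_zpowers, centralizer_zpowers, e2]; exact inf_le_right)
      exact vF (h.cent_le_F nc ht tb tO (this (mem_zpowers v)))
    by_cases hB : ∃ s, s.Prime ∧ s ≠ t ∧ pCore s G ≠ ⊥
    · exfalso
      obtain ⟨s, hs, st, sO⟩ := hB
      have := Fact.mk hs
      obtain ⟨z1, hz1, o1, -⟩ := exists_pCore_cen ht tO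
      obtain ⟨z2, hz2, o2, c2⟩ := exists_pCore_cen hs sO
      have hw : ∃ w, cs w = c ∧ pCore s G ≤ 𝐂[w] := by
        by_contra e
        push Not at e
        have key : ∀ g : G, 𝐂[z1] = 𝐂[g * z2 * g⁻¹] ∧ cs z1 = a := fun g => by
          have m2 : g * z2 * g⁻¹ ∈ pCore s G := Normal.conj_mem inferInstance _ hz2 g
          have l1 : pCore s G ≤ 𝐂[z1] := (pCore_le_centralizer_pCore_of_ne ht hs st).trans
            (centralizer_le (Set.singleton_subset_iff.2 hz1))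
          have l2 : pCore s G ≤ 𝐂[g * z2 * g⁻¹] := by
            rw [cent_conj, ← cj_eq_smul, ← cj_eq_of_normal g (pCore s G)]
            exact cj_mono g c2
          have o2' := (ord_conj g z2).trans o2
          have co := cop_ord ht hs st.symm o1 o2'
          have e1 := cent_mul_of_coprime (comm_of_mem (l1 m2)) co
          have l3 : pCore s G ≤ 𝐂[z1 * (g * z2 * g⁻¹)] := e1 ▸ le_inf l1 l2
          rcases h.all _ (mul_ne_one_of_cop (ne_one_of_ord ht o1) (comm_of_mem (l1 m2)) co) with e' | e' | e'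
          · have f1 := h.up_a e' (ne_one_of_ord ht o1) (e1 ▸ inf_le_left)
            have f2 := h.up_a e' (ne_one_of_ord hs o2') (e1 ▸ inf_le_right)
            exact ⟨f1.symm.trans f2, f1 ▸ e'⟩
          · exact absurd (o2 ▸ ord_dvd_cc' (l3 hz2)) (h.not_dvd_b nc hs (ob s hs sO) e')
          · exact absurd l3 (e _ e')
        have hn : 𝐂[z1].Normal := ⟨fun n hn g => by
          have e1 := (key 1).1
          rw [one_mul, inv_one, mul_one] at e1
          rw [(key g).1, cent_conj, ← cj_eq_smul, conj_mem_cj, ← e1]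
          exact hn⟩
        exact uF (h.le_F nc 𝐂[z1] (fun w hw e => nc (key 1).2 e hw)
          (mem_of_pe ht pu ((key 1).2 ▸ nab t ht tb)))
      obtain ⟨w, wc, hw⟩ := hw
      obtain ⟨S, hS⟩ := exists_sylowIn (p := s) 𝐂[u]
      obtain ⟨S', hS'⟩ := exists_sylowIn (p := s) 𝐂[w]
      have l1 : S ≤ pCore s G := fun v hv => inO s hs v (claim s hs st v (hS.1 hv)
        (isPGroup_zpowers_of_mem hS.2 hv)) (isPGroup_zpowers_of_mem hS.2 hv)
      have l2 : S = pCore s G := eq_of_le_of_card_ge l1 (by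
        rw [hS.card_eq_pow, cc_eq_of_cs (uc.trans wc.symm), ← hS'.card_eq_pow]
        exact hS'.card_le (isPGroup_pCore s G) hw)
      exact uF (h.cent_le_F nc hs (ob s hs sO) sO (le_cent_iff.1 (l2 ▸ hS.1)))
    · push Not at hB
      refine kegel_wielandt (isPGroup_of_unique ht fun q hq qt hd => ?_).isNilpotent (h.nil_b nc hy)
        (factor_of_coprime_index (H := 𝐂[x]) (K := 𝐂[y]) (hx ▸ hy ▸ h.cop))
      have qb : q ∣ b := (h.dvd_or nc hq (hd.trans (card_subgroup_dvd_card _))).resolve_left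
        fun e => h.not_dvd_a nc hq e hx hd
      obtain ⟨w, -, wo⟩ := exists_ord hq hd
      by_cases wF : w ∈ fittingSubgroup G
      · exact neO q hq w wF wo (hB q hq qt)
      obtain ⟨v, hv, vo⟩ := exists_ord hq (cc_eq_of_cs ((isc q hq qb w wF (pe_of_ord hq wo)).trans uc.symm) ▸
        wo ▸ ord_dvd_cc w : q ∣ Nat.card 𝐂[u])
      exact neO q hq v (claim q hq qt v hv (pe_of_ord hq vo)) vo (hB q hq qt)
  push Not at hA
  obtain ⟨D, D1, D2⟩ : ∃ D : Subgroup G, Group.IsNilpotent D ∧ (fittingSubgroup G ⊔ D).index.Coprime b := by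
    by_cases hB : ∃ t, t.Prime ∧ t ∣ b ∧ t ∣ (fittingSubgroup G).index
    · obtain ⟨t, ht, tb, tF⟩ := hB
      obtain ⟨u, -, uF, pu⟩ := CS3.exists_pe_of_dvd ht (H := ⊤) (relIndex_top_right (fittingSubgroup G) ▸ tF)
      have uc := isc t ht tb u uF pu
      exact ⟨𝐂[u], nil_of_cen ht fun v hv hc => h.cen_c uc hv (coprime_orderOf_of_isPGroup ht pu hc),
        Nat.coprime_of_dvd fun q hq e1 e2 => hA q hq e2 (e1.trans (index_dvd_of_le le_sup_left))
          (uc ▸ e1.trans (index_dvd_of_le le_sup_right))⟩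
    · push Not at hB
      exact ⟨⊥, inferInstance, Nat.coprime_of_dvd fun q hq e1 e2 => hB q hq e2 (by rwa [sup_bot_eq] at e1)⟩
  have := isNilpotent_fitting G
  have : Group.IsSolvable (G ⧸ fittingSubgroup G) := by
    refine kegel_wielandt (kw_nil_map D1 (QuotientGroup.mk' _)) (kw_nil_map (h.nil_b nc hy) (QuotientGroup.mk' _))
      fun g => ?_
    obtain ⟨g, rfl⟩ := QuotientGroup.mk_surjective g
    obtain ⟨u, hu, w, hw, rfl⟩ := factor_of_coprime_index (H := fittingSubgroup G ⊔ D) (K := 𝐂[y]) (hy ▸ D2) g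
    obtain ⟨f, hf, d, hd, rfl⟩ := (mem_sup_of_le_normalizer_left le_normalizer_of_normal).1 hu
    refine ⟨_, mem_map_of_mem _ hd, _, mem_map_of_mem _ hw, ?_⟩
    simp [(QuotientGroup.eq_one_iff f).2 hf]
  exact isSolvable_of_normal_of_quotient (fittingSubgroup G)

end NC

theorem solvable : Group.IsSolvable G := by
  by_cases nc : ∀ {x y : G}, cs x = a → cs y = b → y ∉ 𝐂[x]
  · by_cases hF : fittingSubgroup G = ⊥
    · exact (h.not_F nc hF).elim
    obtain ⟨r, hr, hO⟩ := exists_pCore_ne_bot_of_fitting_ne_bot hF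
    by_cases h1 : ∀ r, r.Prime → r ∣ a → pCore r G = ⊥
    · exact h.solv_ii nc h1 hr hO
    · push Not at h1
      obtain ⟨r, hr, ra, hO⟩ := h1
      exact h.solv_i nc hr ra hO
  by_cases hP : ∀ (p q : ℕ) (x y : G), p.Prime → q.Prime → orderOf x = p → orderOf y = q → cs x = a →
      cs y = b → y ∈ 𝐂[x] → p = q
  · push Not at nc
    obtain ⟨x, y, hx, hy, hc⟩ := nc
    obtain ⟨p, hp, x', hx', xo⟩ := exists_prime_pow (h.ne_a hx)
    obtain ⟨q, hq, y', hy', yo⟩ := exists_prime_pow (h.ne_b hy)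
    have e1 := h.pow_a hx hx' (ne_one_of_ord hp xo)
    have e2 := h.up_b hy (ne_one_of_ord hq yo) (cent_le_of_mem_zpowers hy')
    have hc' : y' ∈ 𝐂[x'] := e1 ▸ zpowers_le.2 hc hy'
    obtain rfl := hP p q x' y' hp hq xo yo (e1 ▸ hx) (e2 ▸ hy) hc'
    exact h.solv_eq hP hp xo yo (e1 ▸ hx) (e2 ▸ hy) hc'
  · push Not at hP
    obtain ⟨p, q, x, y, hp, hq, xo, yo, hx, hy, hc, hpq⟩ := hP
    exact h.solv_ne hp hq hpq xo yo hx hy hc

end Two

theorem ac_or_solvable (hZ : center G = ⊥) {a b c : ℕ}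
    (h : ∀ x : G, x ≠ 1 → cs x = a ∨ cs x = b ∨ cs x = c) : AC G ∨ Group.IsSolvable G := by
  refine or_iff_not_imp_right.2 fun hG => ac_of_anti fun x y hx hy hd => ?_
  by_contra hne
  have top : ∀ w : G, w ≠ 1 → ¬ ∀ z : G, z ≠ 1 → cs w ∣ cs z := by
    intro w w1 e
    have : cs w = 1 := Nat.eq_one_iff_not_exists_prime_dvd.2 fun p hp hd => by
      obtain ⟨z, zo, zc⟩ := exists_pc' hp (hd.trans (cs_dvd_card w))
      exact zc (hd.trans (e z (ne_one_of_ord hp zo)))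
    exact w1 (mem_bot.1 (hZ ▸ cs_eq_one_iff.1 this))
  have h1 := top x hx
  push Not at h1
  obtain ⟨z, z1, hz⟩ := h1
  have all : ∀ w : G, w ≠ 1 → cs w = cs x ∨ cs w = cs z ∨ cs w = cs y := by
    intro w w1
    have e1 : cs z ≠ cs x := fun e => hz e.symm.dvd
    have e2 : cs z ≠ cs y := fun e => hz (e ▸ hd)
    have := h w w1
    have := h x hx
    have := h y hy
    have := h z z1
    omega
  refine hG (Two.solvable (G := G)
    ⟨all, hd, hne, hz, fun e => top z z1 fun w w1 => ?_, ⟨x, hx, rfl⟩, ⟨z, z1, rfl⟩⟩)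
  rcases all w w1 with e' | e' | e' <;> rw [e']
  exacts [e, e.trans hd]

end Cfsg.Lib.Exc.Rank
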