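import Cfsg.Agent.Lib.Exc.Rank2
import Cfsg.Agent.Lib.Hall.RealElt
import Cfsg.Agent.Lib.Amalg.Sidki
import Cfsg.Agent.Lib.Coprime.Action
import Cfsg.Agent.Lib.Coprime.Frobenius
import Mathlib.RingTheory.LittleWedderburn

/-!
# Groups acting on an elementary abelian `2`-group with odd orbits, real elements of odd order acting freely
-/

set_option autoImplicit false
set_option linter.unusedSectionVars false

namespace Cfsg.Lib.Exc.RealCs

open Cfsg Cfsg.Lib.Hall Cfsg.Lib.Core Subgroup MulAction Finset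
open scoped Pointwise

local notation "𝐂[" x "]" => centralizer ({x} : Set _)

universe u v
variable {G : Type u} {V : Type v} [Group G] [Finite G] [CommGroup V] [Finite V] [MulDistribMulAction G V]

/-- fixed points of an element -/
def fx (V : Type v) [CommGroup V] [MulDistribMulAction G V] (g : G) : Subgroup V :=
  (MulDistribMulAction.toMonoidHom V g).eqLocus (MonoidHom.id V)

theorem mem_fx {g : G} {v : V} : v ∈ fx V g ↔ g • v = v := Iff.rfl

theorem cyc_cent {A B : Subgroup G} (hf : ∀ g : G, (∀ v : V, g • v = v) → g = 1)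
    (hirr : ∀ W : Subgroup V, (∀ a ∈ A, ∀ w ∈ W, a • w ∈ W) → W = ⊥ ∨ W = ⊤)
    (hB : ∀ b ∈ B, ∀ a ∈ A, a * b = b * a) : IsCyclic B := by
  rcases subsingleton_or_nontrivial V with hV | hV
  · have : Subsingleton G := ⟨fun a b => (hf a fun _ => Subsingleton.elim _ _).trans
      (hf b fun _ => Subsingleton.elim _ _).symm⟩
    exact isCyclic_of_subsingleton
  let R := AddMonoid.End (Additive V)
  let ρ : G →* R :=
    { toFun := fun g => MonoidHom.toAdditive (MulDistribMulAction.toMonoidHom V g)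
      map_one' := AddMonoidHom.ext fun x => one_smul G (Additive.toMul x)
      map_mul' := fun a b => AddMonoidHom.ext fun x => mul_smul a b (Additive.toMul x) }
  have hρ : Function.Injective ρ := (injective_iff_map_eq_one ρ).2 fun g e => hf g fun x =>
    congrArg (fun r : R => Additive.toMul (r (Additive.ofMul x))) e
  let C : Subring R := Subring.centralizer (ρ '' A)
  have hC : ∀ r ∈ C, r ≠ 0 → Function.Injective r := by
    intro r hr h0
    rcases hirr (AddSubgroup.toSubgroup' (AddMonoidHom.ker r)) (fun a ha w hw => by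
      have h1 := congrArg (fun s : R => s (Additive.ofMul w)) (hr _ ⟨a, ha, rfl⟩)
      have h2 : r (Additive.ofMul w) = 0 := hw
      change ρ a (r (Additive.ofMul w)) = r (Additive.ofMul (a • w)) at h1
      rw [h2, map_zero] at h1
      exact h1.symm) with h | h
    · rw [injective_iff_map_eq_zero]
      intro x hx
      have h1 : Additive.toMul x ∈ AddSubgroup.toSubgroup' (AddMonoidHom.ker r) := hx
      rw [h] at h1
      exact h1
    · refine absurd (AddMonoidHom.ext fun x => ?_) h0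
      have h1 : Additive.toMul x ∈ AddSubgroup.toSubgroup' (AddMonoidHom.ker r) := h ▸ mem_top _
      exact h1
  have : Nontrivial R := ⟨⟨0, 1, fun e => by
    obtain ⟨x, hx⟩ := exists_ne (1 : V)
    exact hx (congrArg (fun r : R => Additive.toMul (r (Additive.ofMul x))) e).symm⟩⟩
  have : NoZeroDivisors C := ⟨fun {r s} e => by
    by_cases h0 : (r : R) = 0
    · exact Or.inl (Subtype.ext h0)
    · refine Or.inr (Subtype.ext (AddMonoidHom.ext fun x => hC r r.2 h0 ?_))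
      exact (congrArg (fun t : C => (t : R) x) e).trans (map_zero (r : R)).symm⟩
  have : IsDomain C := NoZeroDivisors.to_isDomain _
  have : Finite R := Finite.of_injective (fun r : R => (r : Additive V → Additive V)) DFunLike.coe_injective
  let _ : Field C := (Finite.isDomain_to_isField C).toField
  let f : B →* C :=
    { toFun := fun x => ⟨ρ x, by
          rintro _ ⟨a, ha, rfl⟩
          rw [← map_mul, ← map_mul, hB x x.2 a ha]⟩
      map_one' := Subtype.ext (map_one ρ)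
      map_mul' := fun a b => Subtype.ext (map_mul ρ (a : G) b) }
  exact isCyclic_of_injective_ringHom f fun x y e => Subtype.ext (hρ (congrArg Subtype.val e))

theorem cyc_fpf [Nontrivial V] {B : Subgroup G} [IsMulCommutative B]
    (h : ∀ b ∈ B, b ≠ 1 → ∀ v : V, b • v = v → v = 1) : IsCyclic B := by
  obtain ⟨Γ, _, _, i, j, hi, -, hN⟩ := Coprime.exists_ambient ((MulDistribMulAction.toMulAut G V).comp B.subtype)
  have : IsMulCommutative j.range := ⟨⟨fun ⟨_, a, ea⟩ ⟨_, b, eb⟩ => Subtype.ext (by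
    subst ea eb
    change j a * j b = j b * j a
    rw [← map_mul, ← map_mul, mul_comm' a b])⟩⟩
  have hc := Coprime.Fpf.isCyclic_of_comm (K := i.range) (R := j.range) (by
    rintro _ ⟨b, rfl⟩ hb
    refine eq_bot_iff.2 ?_
    rintro _ ⟨⟨x, rfl⟩, hx⟩
    rw [h b b.2 (fun e => hb (by rw [show b = 1 from Subtype.ext e, map_one])) x
      (hi.mem_centralizer_singleton_iff.1 hx), map_one]
    exact one_mem _) le_normalizer_of_normal (by
    obtain ⟨x, hx⟩ := exists_ne (1 : V)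
    exact fun e => hx (hi.inj_i (by rw [map_one]; exact mem_bot.1 (e ▸ ⟨x, rfl⟩))))
  exact isCyclic_of_surjective (MonoidHom.ofInjective hi.inj_j).symm (MulEquiv.surjective _)

theorem card_dvd_of_fpf {A : Subgroup G} (h : ∀ b ∈ A, b ≠ 1 → ∀ v : V, b • v = v → v = 1) {W : Subgroup V}
    (hW : ∀ a ∈ A, ∀ w ∈ W, a • w ∈ W) : Nat.card A ∣ Nat.card W - 1 := by
  let X : SubMulAction A V := ⟨{w | w ∈ W ∧ w ≠ 1}, fun a w hw => ⟨hW a a.2 w hw.1, fun e => hw.2 (by
    rw [← inv_smul_smul a w, e, smul_one])⟩⟩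
  have e := Nat.card_congr (MulAction.selfEquivOrbitsQuotientProd (G := A) (X := X) fun b => eq_bot_iff.2 fun a ha => by
    by_contra e
    exact b.2.2 (h a a.2 (fun e' => e (Subtype.ext e')) b (congrArg Subtype.val ha)))
  have e' : Nat.card X = Nat.card W - 1 := by
    exact (Nat.card_coe_set_eq ((W : Set V) \ {1})).trans (Set.ncard_sdiff_singleton_of_mem (one_mem W))
  rw [← e', e, Nat.card_prod]
  exact dvd_mul_left _ _

theorem num_irr {b d : ℕ} (h : 2 ^ b + 1 ∣ 2 ^ d - 1) (h0 : d ≠ 0) : 2 * b ≤ d := by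
  by_contra! e
  have p1 : 1 < 2 ^ d := Nat.one_lt_two_pow h0
  rcases le_or_gt d b with h1 | h1
  · have := Nat.le_of_dvd (by omega) h
    have := Nat.pow_le_pow_right two_pos h1
    omega
  · obtain ⟨k, rfl⟩ := Nat.exists_eq_add_of_le h1.le
    have h2 : 2 ^ b + 1 ∣ 2 ^ k + 1 := by
      refine (Nat.dvd_add_right h).1 ⟨2 ^ k, ?_⟩
      rw [pow_add] at p1 ⊢
      rw [add_mul]; omega
    have := Nat.le_of_dvd (by positivity) h2
    have := Nat.pow_lt_pow_right one_lt_two (show k < b by omega)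
    omega

/-- the map `v ↦ v * i • v` -/
def tr (V : Type v) [CommGroup V] [MulDistribMulAction G V] (i : G) : V →* V :=
  MonoidHom.id V * MulDistribMulAction.toMonoidHom V i

theorem card_tr (h : ∀ v : V, v * v = 1) (i : G) : Nat.card (fx V i) * Nat.card (tr V i).range = Nat.card V := by
  have : (tr V i).ker = fx V i := by
    ext v
    change v * i • v = 1 ↔ i • v = v
    rw [mul_eq_one_iff_inv_eq, inv_eq_of_mul_eq_one_left (h v), eq_comm]
  rw [← this, ← index_ker, card_mul_index]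

theorem le_sq_fx (h : ∀ v : V, v * v = 1) {i : G} (hi : i * i = 1) : Nat.card V ≤ Nat.card (fx V i) ^ 2 := by
  rw [← card_tr h i, sq]
  refine Nat.mul_le_mul_left _ (card_le_of_le ?_)
  rintro _ ⟨v, rfl⟩
  change i • (v * i • v) = v * i • v
  rw [smul_mul', ← mul_smul, hi, one_smul, mul_comm]

theorem two_or {j k : G} (hj : j * j = 1) (hk : k * k = 1) : IsPGroup 2 ↥(zpowers j ⊔ zpowers (j * k)) ∨
    ∃ n, (j * k) ^ (2 * n) ≠ 1 ∧ Odd (orderOf ((j * k) ^ (2 * n))) := by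
  obtain ⟨n, hn⟩ := Amalg.exists_odd_two_pow (j * k)
  by_cases e : (j * k) ^ (2 * 2 ^ n) = 1
  · exact Or.inl (IsPGroup.to_sup_of_normal_right' (isPGroup_zpowers_of_pow_eq_one (k := 1) (by rw [pow_one, sq, hj]))
      (isPGroup_zpowers_of_pow_eq_one (k := n + 1) (by rwa [pow_succ']))
      (zpowers_le.2 (mem_normalizer_zpowers_of_inverts (Invol.left_inverts hj hk))))
  · exact Or.inr ⟨_, e, hn.of_dvd_nat (by rw [mul_comm 2, pow_mul]; exact orderOf_pow_dvd _)⟩

/-- the elements of odd order of `C(L)` inverted by `i` -/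
def inv (L : Subgroup G) (hL : centralizer (L : Set G) ≤ L) (i : G) : Subgroup G where
  carrier := {b | b ∈ centralizer (L : Set G) ∧ i * b * i⁻¹ = b⁻¹ ∧ Odd (orderOf b)}
  one_mem' := ⟨one_mem _, by simp, by simp⟩
  inv_mem' {b} h := ⟨inv_mem h.1, by rw [← conj_inv, h.2.1], by rw [orderOf_inv]; exact h.2.2⟩
  mul_mem' {a b} ha hb := ⟨mul_mem ha.1 hb.1, by
    rw [← conj_mul, ha.2.1, hb.2.1, ← mul_inv_rev, hb.1 a (hL ha.1)],
    Amalg.odd_mul_of_commute ha.2.2 hb.2.2 (hb.1 a (hL ha.1))⟩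

structure Hyp (G : Type u) (V : Type v) [Group G] [CommGroup V] [MulDistribMulAction G V] : Prop where
  two : ∀ v : V, v * v = 1
  faith : ∀ g : G, (∀ v : V, g • v = v) → g = 1
  odd : ∀ v : V, ¬ 2 ∣ (stabilizer G v).index
  fpf : ∀ x : G, IsConj x x⁻¹ → Odd (orderOf x) → x ≠ 1 → ∀ v : V, x • v = v → v = 1
  cop : ∀ x : G, IsConj x x⁻¹ → Odd (orderOf x) → ∀ v : V, (cs x).Coprime (stabilizer G v).index

namespace Hyp
variable (h : Hyp G V)
include h

theorem sub (N : Subgroup G) [N.Normal] : Hyp N V := by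
  have e : ∀ v : V, (stabilizer N v).index ∣ (stabilizer G v).index := fun v =>
    relIndex_dvd_index_of_normal_right (stabilizer G v) N
  refine ⟨h.two, fun g hg => Subtype.ext (h.faith g hg), fun v hv => h.odd v (hv.trans (e v)),
    fun x hx ho h1 => h.fpf x (IsConj.map_inv N.subtype hx) (by rwa [orderOf_coe]) fun e => h1 (Subtype.ext e),
    fun x hx ho v => ((h.cop x (IsConj.map_inv N.subtype hx) (by rwa [orderOf_coe]) v).coprime_dvd_left
      (cs_subgroup_dvd x)).coprime_dvd_right (e v)⟩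

theorem pV : IsPGroup 2 V := fun v => ⟨1, by rw [pow_one, sq, h.two]⟩

theorem two_fix {Q : Subgroup G} (hQ : IsPGroup 2 Q) (w : V) : ∃ g : G, Q ≤ stabilizer G (g • w) := by
  obtain ⟨P, hP⟩ := exists_sylow_le_of_not_dvd_index (h.odd w)
  obtain ⟨R, hR⟩ := hQ.exists_le_sylow
  obtain ⟨g, rfl⟩ := MulAction.exists_smul_eq G P R
  refine ⟨g, fun x hx => ?_⟩
  have := hP (Hall.mem_conj_smul.1 (hR hx))
  rw [mem_stabilizer_iff, mul_smul, mul_smul, inv_smul_eq_iff] at this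
  exact this

theorem core : pCore 2 G = ⊥ := eq_bot_iff.2 fun x hx => h.faith x fun v => by
  obtain ⟨P, hP⟩ := exists_sylow_le_of_not_dvd_index (h.odd v)
  exact hP (pCore_le_sylow P hx)

theorem closed {v : V} (hv : v ≠ 1) : ∃ S : Subgroup G, IsPGroup 2 S ∧ S ≤ stabilizer G v ∧
    (∀ g ∈ stabilizer G v, ∀ s ∈ S, g * s * g⁻¹ ∈ S) ∧ ∀ g ∈ stabilizer G v, g * g = 1 → g ∈ S := by
  obtain ⟨P⟩ : Nonempty (Sylow 2 (stabilizer G v)) := inferInstance
  have hP := sylow_two_normal_of_no_real (G := stabilizer G v) (fun x h1 ho hx => hv (h.fpf x (IsConj.map_inv (Subgroup.subtype _) hx)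
    (by rwa [orderOf_coe]) (fun e => h1 (Subtype.ext e)) v x.2)) P
  refine ⟨(P : Subgroup _).map (Subgroup.subtype _), P.2.map _, map_subtype_le _, ?_, fun g hg e => ⟨⟨g, hg⟩, ?_, rfl⟩⟩
  · rintro g hg _ ⟨s, hs, rfl⟩
    exact ⟨_, hP.conj_mem s hs ⟨g, hg⟩, rfl⟩
  · exact mem_of_isPGroup_of_not_dvd_index Nat.prime_two (isPGroup_zpowers_of_pow_eq_one (k := 1)
      (Subtype.ext (by simpa [sq] using e))) (le_normalizer_of_normal (mem_top _)) P.not_dvd_index

theorem inverts {i : G} (hi : i * i = 1) (h1 : i ≠ 1) : ∃ x, x ≠ 1 ∧ Odd (orderOf x) ∧ i * x * i⁻¹ = x⁻¹ := by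
  obtain ⟨x, -, hx⟩ := Amalg.exists_inverted_of_not_mem_op hi (mem_top i) (by
    rw [show pCoreOf 2 (⊤ : Subgroup G) = ⊥ from Core.pCoreOf_top.trans h.core]; exact h1)
  exact ⟨x, hx⟩

theorem sq_fx {i : G} (hi : i * i = 1) (h1 : i ≠ 1) : Nat.card (fx V i) ^ 2 = Nat.card V := by
  obtain ⟨x, x1, xo, e⟩ := h.inverts hi h1
  have a1 := le_sq_fx h.two hi
  have a2 := le_sq_fx h.two (i := i * x) (by
    rw [show i * x * (i * x) = i * x * i⁻¹ * (i * i) * x by group, e, hi]; group)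
  have a3 := card_sup_mul_card_inf (H := fx V i) (K := fx V (i * x)) le_normalizer_of_normal
  rw [show fx V i ⊓ fx V (i * x) = ⊥ from eq_bot_iff.2 fun v hv => h.fpf x (isConj_iff.2 ⟨i, e⟩) xo x1 v (by
    have : (i * x) • v = v := hv.2
    rw [mul_smul] at this
    exact smul_left_cancel i (this.trans hv.1.symm)), card_bot, mul_one] at a3
  have a4 := (card_le_card_group (fx V i ⊔ fx V (i * x)))
  rw [a3] at a4
  refine le_antisymm (Nat.le_of_mul_le_mul_right ?_ (pow_pos (Nat.card_pos (α := fx V (i * x))) 2)) a1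
  rw [← mul_pow, sq]
  exact Nat.mul_le_mul a4 (a4.trans a2)

theorem cyc [Nontrivial V] {L : Subgroup G} (hL : centralizer (L : Set G) ≤ L) (i : G) : IsCyclic (inv L hL i) := by
  have : IsMulCommutative (inv L hL i) := ⟨⟨fun a b => Subtype.ext (b.2.1 a (hL a.2.1))⟩⟩
  exact cyc_fpf (V := V) fun b hb => h.fpf b (isConj_iff.2 ⟨i, hb.2.1⟩) hb.2.2

end Hyp

/-- a strongly real element of odd order with minimal centraliser -/
structure Min (x : G) : Prop where
  ne : x ≠ 1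
  odd : Odd (orderOf x)
  min : ∀ z j : G, z ≠ 1 → Odd (orderOf z) → j * j = 1 → j * z * j⁻¹ = z⁻¹ → Nat.card 𝐂[x] ≤ Nat.card 𝐂[z]

theorem exists_min {y k : G} (h1 : y ≠ 1) (h2 : Odd (orderOf y)) (h3 : k * k = 1) (h4 : k * y * k⁻¹ = y⁻¹) :
    ∃ x i : G, Min x ∧ i * i = 1 ∧ i * x * i⁻¹ = x⁻¹ := by
  obtain ⟨x, ⟨a, b, i, c, d⟩, hx⟩ := Set.exists_min_image
    {z : G | z ≠ 1 ∧ Odd (orderOf z) ∧ ∃ j, j * j = 1 ∧ j * z * j⁻¹ = z⁻¹} (fun z => Nat.card 𝐂[z]) (Set.toFinite _)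
    ⟨y, h1, h2, k, h3, h4⟩
  exact ⟨x, i, ⟨a, b, fun z j e1 e2 e3 e4 => hx z ⟨e1, e2, j, e3, e4⟩⟩, c, d⟩

open Classical in
/-- the involutions inverting `x` and fixing `v` -/
noncomputable def Jv (x : G) (v : V) : Finset G :=
  have := Fintype.ofFinite G
  {j | (j * j = 1 ∧ j * x * j⁻¹ = x⁻¹) ∧ j • v = v}

theorem mem_Jv {x j : G} {v : V} : j ∈ Jv x v ↔ (j * j = 1 ∧ j * x * j⁻¹ = x⁻¹) ∧ j • v = v := by simp [Jv]

theorem card_erase [Fintype V] [DecidableEq V] (g : G) :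
    #{v ∈ univ.erase (1 : V) | g • v = v} = Nat.card (fx V g) - 1 := by
  classical
  rw [filter_erase, card_erase_of_mem (by simp), Nat.card_eq_fintype_card, Fintype.card_subtype]
  exact congrArg (· - 1) (congrArg _ (Finset.ext fun v => by simp [mem_fx]))

namespace Hyp
variable (h : Hyp G V) [Nontrivial V] {x i : G} (hx : Min x) (hi : i * i = 1) (e : i * x * i⁻¹ = x⁻¹)
include h hx

theorem cen {y j : G} (hj : j * j = 1) (e : j * x * j⁻¹ = x⁻¹) (e' : j * y * j⁻¹ = y⁻¹) (ho : Odd (orderOf y))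
    (hy : y ∈ 𝐂[x]) : 𝐂[x] ≤ 𝐂[y] := by
  have hL : centralizer ((𝐂[x] ⊓ 𝐂[y] : Subgroup G) : Set G) ≤ 𝐂[x] ⊓ 𝐂[y] := fun c hc =>
    ⟨mem_cent_iff.2 (hc x ⟨self_mem_cent x, mem_cent_comm.1 hy⟩).symm, mem_cent_iff.2 (hc y ⟨hy, self_mem_cent y⟩).symm⟩
  obtain ⟨z, hz⟩ := (Subgroup.isCyclic_iff_exists_zpowers_eq_top _).1 (h.cyc hL j)
  have z1 : x ∈ zpowers z := hz ▸ ⟨fun c hc => mem_cent_iff.1 hc.1, e, hx.odd⟩
  have z2 : y ∈ zpowers z := hz ▸ ⟨fun c hc => mem_cent_iff.1 hc.2, e', ho⟩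
  have z3 : z ∈ inv _ hL j := hz ▸ mem_zpowers z
  rw [← eq_of_le_of_card_ge (cent_le_of_mem_zpowers z1) (hx.min z j (by
    rintro rfl; exact hx.ne (by simpa using z1)) z3.2.2 hj z3.2.1)]
  exact cent_le_of_mem_zpowers z2

omit h in
theorem ne_one {j : G} (e : j * x * j⁻¹ = x⁻¹) : j ≠ 1 := by
  rintro rfl
  exact hx.ne (eq_one_of_odd_of_sq_eq_one hx.odd (sq_eq_one_of_inverts_of_mem_cent e (one_mem _)))

include e in
theorem trans (g : G) (w : V) : ∃ l ∈ 𝐂[x], l • w = g • w := by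
  obtain ⟨l, hl, s, hs, rfl⟩ := factor_of_coprime_index (h.cop x (isConj_iff.2 ⟨i, e⟩) hx.odd w) g
  exact ⟨l, hl, by rw [mul_smul, mem_stabilizer_iff.1 hs]⟩

include e in
theorem const {v : V} (hv : v ≠ 1) (w : V) : #(Jv x v) ≤ #(Jv x w) := by
  obtain ⟨S, hS, -, -, h2⟩ := h.closed hv
  obtain ⟨g, hg⟩ := h.two_fix hS w
  obtain ⟨l, hl, el⟩ := h.trans hx e g w
  have c := mem_cent_iff.1 hl
  refine card_le_card_of_injOn (fun j => l⁻¹ * j * l) (fun j hj => ?_) fun a _ b _ e => by simpa using e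
  obtain ⟨⟨j1, j2⟩, j3⟩ := mem_Jv.1 (mem_coe.1 hj)
  refine mem_coe.2 (mem_Jv.2 ⟨⟨?_, ?_⟩, ?_⟩)
  · rw [show l⁻¹ * j * l * (l⁻¹ * j * l) = l⁻¹ * (j * j) * l by group, j1]; group
  · rw [show l⁻¹ * j * l * x * (l⁻¹ * j * l)⁻¹ = l⁻¹ * (j * (l * x * l⁻¹) * j⁻¹) * l by group, c, mul_inv_cancel_right, j2,
      mul_assoc, inv_mul_eq_iff_eq_mul, eq_comm, ← (show Commute l x from c).inv_right.eq]
  · rw [mul_smul, mul_smul, el, mem_stabilizer_iff.1 (hg (h2 j j3 j1)), ← el, inv_smul_smul]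

include hi e

theorem two_le : 2 ≤ Nat.card (fx V i) := by
  have := h.sq_fx hi (ne_one hx e)
  have h1 := Finite.one_lt_card (α := V)
  by_contra! h2
  have := Nat.pow_le_pow_left (Nat.lt_succ_iff.1 h2) 2
  omega

theorem count {v : V} (hv : v ≠ 1) : #(Jv x (1 : V)) = (Nat.card (fx V i) + 1) * #(Jv x v) := by
  classical
  have := Fintype.ofFinite V
  have a := card_mul_eq_card_mul (s := Jv x (1 : V)) (t := univ.erase (1 : V)) (fun j w => j • w = w)
    (m := Nat.card (fx V i) - 1) (n := #(Jv x v)) (fun j hj => by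
      obtain ⟨⟨j1, j2⟩, -⟩ := mem_Jv.1 hj
      rw [bipartiteAbove, card_erase, pow_left_injective two_ne_zero
        ((h.sq_fx j1 (ne_one hx j2)).trans (h.sq_fx hi (ne_one hx e)).symm)])
    fun w hw => by
      rw [le_antisymm (h.const hx e hv w) (h.const hx e (ne_of_mem_erase hw) v)]
      exact congrArg _ (Finset.ext fun j => by simp [mem_Jv])
  rw [card_erase_of_mem (mem_univ _), card_univ, ← Nat.card_eq_fintype_card, ← h.sq_fx hi (ne_one hx e)] at a
  obtain ⟨q, hq⟩ := Nat.exists_eq_add_of_le' (h.two_le hx hi e)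
  rw [hq] at a ⊢
  rw [show (q + 2) ^ 2 - 1 = (q + 2 + 1) * (q + 1) by rw [Nat.sub_eq_iff_eq_add (Nat.one_le_pow _ _ (by omega))]; ring] at a
  exact Nat.eq_of_mul_eq_mul_right (show 0 < q + 1 by omega) (a.trans (by ring))

theorem odd_cent : Odd (Nat.card 𝐂[x]) := by
  classical
  have := Fintype.ofFinite V
  by_contra h2
  obtain ⟨k, hk, ko⟩ := Rank.exists_ord Nat.prime_two (even_iff_two_dvd.1 (Nat.not_odd_iff_even.1 h2))
  have k1 := Rank.ne_one_of_ord Nat.prime_two ko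
  have k2 : k * k = 1 := by rw [← sq, ← ko, pow_orderOf_eq_one]
  obtain ⟨v, hv⟩ := exists_ne (1 : V)
  have a := card_le_card (show Jv x (1 : V) ⊆ ({w ∈ univ.erase (1 : V) | k • w = w} : Finset V).biUnion (Jv x) from
    fun j hj => by
      obtain ⟨⟨j1, j2⟩, -⟩ := mem_Jv.1 hj
      rcases two_or j1 k2 with h3 | ⟨n, n1, n2⟩
      · obtain ⟨w, w1, w2⟩ := h3.exists_fixed_point_of_prime_dvd_card_of_fixed_point V
          ((h.pV.card_eq_or_dvd).resolve_left Finite.one_lt_card.ne') (a := 1) fun g => smul_one g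
        have f1 : j • w = w := w1 ⟨j, mem_sup_left (mem_zpowers j)⟩
        have f2 : (j * k) • w = w := w1 ⟨_, mem_sup_right (mem_zpowers _)⟩
        rw [mul_smul] at f2
        exact mem_biUnion.2 ⟨w, by simpa using ⟨w2.symm, smul_left_cancel j (f2.trans f1.symm)⟩, mem_Jv.2 ⟨⟨j1, j2⟩, f1⟩⟩
      · have c : j * k * x * (j * k)⁻¹ = x⁻¹ := by
          rw [← j2, mul_assoc j k, mem_cent_iff.1 hk]; group
        have c2 : (j * k) ^ 2 ∈ 𝐂[x] := mem_cent_iff.2 (by
          rw [← mul_inv_eq_iff_eq_mul, show (j * k) ^ 2 * x * ((j * k) ^ 2)⁻¹ = j * k * (j * k * x * (j * k)⁻¹) * (j * k)⁻¹ by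
            rw [sq]; group, c, ← conj_inv, c, inv_inv])
        exact absurd (eq_one_of_odd_of_sq_eq_one n2 (sq_eq_one_of_inverts_of_mem_cent
          (Amalg.inverts_pow (Invol.right_inverts j1 k2) _) (h.cen hx j1 j2 (Amalg.inverts_pow (Invol.left_inverts j1 k2) _) n2
            (pow_mul (j * k) 2 n ▸ pow_mem c2 n) hk))) n1)
  have b := a.trans (card_biUnion_le_card_mul _ _ _ fun w hw => h.const hx e (ne_of_mem_erase (mem_filter.1 hw).1) v)
  rw [card_erase, pow_left_injective two_ne_zero ((h.sq_fx k2 k1).trans (h.sq_fx hi (ne_one hx e)).symm)] at b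
  have c : 0 < #(Jv x (1 : V)) := card_pos.2 ⟨i, mem_Jv.2 ⟨⟨hi, e⟩, smul_one i⟩⟩
  rw [h.count hx hi e hv] at b c
  have := Nat.le_of_mul_le_mul_right b (Nat.pos_of_mul_pos_left c)
  omega

theorem card_J : #(Jv x (1 : V)) = Nat.card (fx V i) + 1 := by
  obtain ⟨v, hv⟩ := exists_ne (1 : V)
  have c : 0 < #(Jv x (1 : V)) := card_pos.2 ⟨i, mem_Jv.2 ⟨⟨hi, e⟩, smul_one i⟩⟩
  rw [h.count hx hi e hv] at c ⊢
  obtain ⟨S, hS, -, -, h2⟩ := h.closed hv
  rw [le_antisymm (card_le_one.2 fun a ha b hb => ?_) (Nat.pos_of_mul_pos_left c), mul_one]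
  obtain ⟨⟨a1, a2⟩, a3⟩ := mem_Jv.1 ha
  obtain ⟨⟨b1, b2⟩, b3⟩ := mem_Jv.1 hb
  have m : b⁻¹ * a ∈ 𝐂[x] := mem_cent_iff.2 (by
    rw [show b⁻¹ * a * x = b⁻¹ * (a * x * a⁻¹) * a by group, a2, ← b2]; group)
  exact (inv_mul_eq_one.1 (orderOf_eq_one_iff.1 (Nat.eq_one_of_dvd_coprimes (coprime_orderOf_of_isPGroup Nat.prime_two
    (isPGroup_zpowers_of_mem hS (mul_mem (inv_mem (h2 b b3 b1)) (h2 a a3 a1))) (Nat.coprime_two_right.2 (h.odd_cent hx hi e)))
    dvd_rfl (orderOf_dvd_natCard _ m)))).symm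

theorem irr {W : Subgroup V} (hL : centralizer (𝐂[x] : Set G) ≤ 𝐂[x]) (hW : ∀ a ∈ inv _ hL i, ∀ w ∈ W, a • w ∈ W) :
    W = ⊥ ∨ W = ⊤ := by
  have c : Nat.card (inv _ hL i) = Nat.card (fx V i) + 1 := by
    rw [← h.card_J hx hi e, ← Nat.card_eq_finsetCard]
    refine Nat.card_congr ⟨fun a => ⟨i * a, mem_Jv.2 ⟨⟨?_, ?_⟩, smul_one _⟩⟩, fun j => ⟨i⁻¹ * j, ?_⟩,
      fun a => by simp, fun a => by simp⟩
    · rw [show i * a * (i * a) = i * a * i⁻¹ * (i * i) * a by group, a.2.2.1, hi]; group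
    · rw [← e, mul_assoc i, ← a.2.1 x (self_mem_cent x)]; group
    · obtain ⟨⟨j1, j2⟩, -⟩ := mem_Jv.1 j.2
      have m : i⁻¹ * j ∈ 𝐂[x] := mem_cent_iff.2 (by
        rw [show i⁻¹ * j * x = i⁻¹ * (j * x * (j : G)⁻¹) * j by group, j2, ← e]; group)
      have o := (h.odd_cent hx hi e).of_dvd_nat (orderOf_dvd_natCard _ m)
      have n : i * (i⁻¹ * j) * i⁻¹ = (i⁻¹ * j)⁻¹ := by
        have := Invol.left_inverts hi j1
        rw [inv_eq_of_mul_eq_one_left hi] at this ⊢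
        exact this
      exact ⟨le_cent_iff.1 (h.cen hx hi e n o m), n, o⟩
  have d := card_dvd_of_fpf (V := V) (A := inv _ hL i) (fun b hb => h.fpf b (isConj_iff.2 ⟨i, hb.2.1⟩) hb.2.2) hW
  obtain ⟨b, hb⟩ := (h.pV.to_subgroup (fx V i)).exists_card_eq
  obtain ⟨k, hk⟩ := (h.pV.to_subgroup W).exists_card_eq
  rw [c, hb, hk] at d
  refine or_iff_not_imp_left.2 fun h0 => eq_top_of_le_card _ ?_
  rw [← h.sq_fx hi (ne_one hx e), hb, hk, ← pow_mul, mul_comm]
  exact Nat.pow_le_pow_right two_pos (num_irr d fun e => h0 (by rwa [e, pow_zero, Subgroup.card_eq_one] at hk))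

end Hyp

theorem Hyp.torus (h : Hyp G V) [Nontrivial V] {k : G} (k2 : k * k = 1) (k1 : k ≠ 1) : ∃ T : Subgroup G, IsCyclic T ∧ T ≠ ⊥ ∧
    (Nat.card T).Coprime T.index ∧ (∀ v : V, v ≠ 1 → IsComplement' T (stabilizer G v)) ∧
    ∀ W : Subgroup V, (∀ a, ∀ w ∈ W, (a : G) • w ∈ W) → W = ⊥ ∨ W = ⊤ := by
  obtain ⟨y, y1, y2, y3⟩ := h.inverts k2 k1
  obtain ⟨x, i, hx, hi, e⟩ := exists_min y1 y2 k2 y3
  have hL : centralizer (𝐂[x] : Set G) ≤ 𝐂[x] := fun c hc => mem_cent_iff.2 (hc x (self_mem_cent x)).symm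
  have c : ∀ v : V, v ≠ 1 → IsComplement' 𝐂[x] (stabilizer G v) := fun v hv => isComplement'_stabilizer v
    (fun l hl => Subtype.ext (h.faith l fun w => ((h.irr hx hi e (W := fx V (l : G)) hL fun a ha u hu => by
      rw [mem_fx, ← mul_smul, ha.1 l l.2, mul_smul, mem_fx.1 hu]).resolve_left fun e => hv (mem_bot.1 (e ▸ hl))).ge (mem_top w)))
    fun g => by
      obtain ⟨l, hl, el⟩ := h.trans hx e g v
      exact ⟨⟨l, hl⟩⁻¹, by rw [← el]; exact inv_smul_smul l v⟩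
  obtain ⟨v, hv⟩ := exists_ne (1 : V)
  exact ⟨𝐂[x], cyc_cent h.faith (fun W => h.irr hx hi e hL) fun b hb a ha => (ha.1 b hb).symm,
    fun e => hx.ne (mem_bot.1 (e ▸ self_mem_cent x)),
    (c v hv).index_eq_card ▸ (h.cop x (isConj_iff.2 ⟨i, e⟩) hx.odd v).symm, c,
    fun W hW => h.irr hx hi e hL fun a _ => hW a⟩

end Cfsg.Lib.Exc.RealCs
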