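import Cfsg.Agent.Lib.Exc.Real1
import Cfsg.Agent.Lib.BS.BGroup
import Cfsg.Agent.Lib.PGrp.Cyclic
import Cfsg.Agent.Lib.Hall.FC5
import Cfsg.Agent.Lib.Hall.Supersolvable
import Cfsg.Agent.Lib.Invol.Classes
import Cfsg.Agent.Lib.FT.Sec14d
import Cfsg.Agent.S0675

/-!
# Solvability of groups acting on an elementary abelian `2`-group with odd orbits (continued)
-/

set_option autoImplicit false
set_option linter.unusedSectionVars false

namespace Cfsg.Lib.Exc.RealCs

open Cfsg Cfsg.Lib.Hall Cfsg.Lib.Core Subgroup MulAction Finset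
open scoped Pointwise

universe u v
variable {G : Type u} {V : Type v} [Group G] [Finite G] [CommGroup V] [Finite V] [MulDistribMulAction G V]

/-- a simple group factorised by a cyclic group and a complement is doubly transitive -/
theorem two_trans [IsSimpleGroup G] (hs : ¬ Group.IsSolvable G) {T H : Subgroup G} (hT : IsCyclic T) (hc : IsComplement' T H)
    {g g' : G} (hg : g ∉ H) (hg' : g' ∉ H) : ∃ c ∈ H, g'⁻¹ * (c * g) ∈ H := by
  classical
  have H1 : H ≠ ⊤ := fun e => hg (e ▸ mem_top g)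
  by_cases hp : (Nat.card T).Prime
  · have := Fintype.ofFinite (G ⧸ H)
    have : IsPretransitive (toPermHom G (G ⧸ H)).range (G ⧸ H) := ⟨fun a b => by
      obtain ⟨g, rfl⟩ := exists_smul_eq G a b
      exact ⟨⟨_, g, rfl⟩, rfl⟩⟩
    rcases Cfsg.Agent.S0675.result (by rwa [← Nat.card_eq_fintype_card, ← index_eq_card, hc.index_eq_card])
      (toPermHom G (G ⧸ H)).range with h | h
    · refine absurd (Group.isSolvable_of_isSolvable_injective (f := (toPermHom G (G ⧸ H)).rangeRestrict) ?_) hs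
      rw [← MonoidHom.ker_eq_bot_iff, MonoidHom.ker_rangeRestrict, ← normalCore_eq_ker]
      exact (H.normalCore_normal.eq_bot_or_eq_top).resolve_right fun h => H1 (top_le_iff.1 (h ▸ H.normalCore_le))
    · obtain ⟨⟨_, c, rfl⟩, c1, c2⟩ := @is_two_pretransitive_iff.1 h ((1 : G) : G ⧸ H) (g : G ⧸ H)
        ((1 : G) : G ⧸ H) (g' : G ⧸ H) (fun e => hg (by simpa using QuotientGroup.eq.1 e))
        (fun e => hg' (by simpa using QuotientGroup.eq.1 e))
      exact ⟨c, by simpa using QuotientGroup.eq.1 c1.symm, QuotientGroup.eq.1 c2.symm⟩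
  · have := PGrp.isMulCommutative_of_isCyclic hT
    obtain ⟨s, hs, hs'⟩ := Nat.exists_prime_and_dvd (n := Nat.card T) (hc.index_eq_card ▸ mt index_eq_one.1 H1)
    obtain ⟨e, he, eo⟩ := Rank.exists_ord hs hs'
    exact BS.bgroup hc (fun N hN h => (hN.eq_bot_or_eq_top.resolve_left fun e => h (by rw [e, bot_inf_eq])).ge.trans' le_top)
      hs he eo (fun k hk e' => PGrp.mem_zpowers_of_pow_eq_one hT hk he (by rwa [eo])) (fun e => hp (e ▸ hs)) hg hg'

theorem prod_orbit [Fintype V] [DecidableEq V] (t : G) (w : V) [DecidablePred (· ∈ orbit G w)] :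
    t • ∏ u with u ∈ orbit G w, u = ∏ u with u ∈ orbit G w, u := by
  rw [smul_prod']
  exact prod_equiv (toPerm t) (fun u => by
    simpa using ⟨mem_orbit_of_mem_orbit t, fun e => inv_smul_smul t u ▸ mem_orbit_of_mem_orbit t⁻¹ e⟩) fun _ _ => rfl

theorem Hyp.simple (h : Hyp G V) [IsSimpleGroup G] : Group.IsSolvable G := by
  classical
  by_contra hs
  have := Fintype.ofFinite V
  rcases subsingleton_or_nontrivial V with hV | hV
  · obtain ⟨g, hg⟩ := exists_ne (1 : G)
    exact hg (h.faith g fun _ => Subsingleton.elim _ _)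
  obtain ⟨k, -, ko⟩ := Rank.exists_ord Nat.prime_two (H := (⊤ : Subgroup G)) (by
    rw [card_top, ← even_iff_two_dvd, ← Nat.not_odd_iff_even]; exact fun e => hs (FT.odd_order_solvable G e))
  have k1 := Rank.ne_one_of_ord Nat.prime_two ko
  have k2 : k * k = 1 := by rw [← sq, ← ko, pow_orderOf_eq_one]
  obtain ⟨T, hT, T1, -, hc, hirr⟩ := h.torus k2 k1
  have q := h.sq_fx k2 k1
  obtain ⟨⟨v, hv⟩, v1⟩ := ne_bot_iff_exists_ne_one.1 (show fx V k ≠ ⊥ from fun e => by
    rw [e, card_bot, one_pow] at q; exact Finite.one_lt_card.ne q)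
  replace v1 : v ≠ 1 := fun e => v1 (Subtype.ext e)
  have h2 : ∀ u ∈ orbit G v, ∀ u' ∈ orbit G v, u ≠ v → u' ≠ v → ∃ c ∈ stabilizer G v, c • u = u' := by
    rintro _ ⟨g, rfl⟩ _ ⟨g', rfl⟩ e e'
    obtain ⟨c, c1, c2⟩ := two_trans hs hT (hc v v1) e e'
    exact ⟨c, c1, by rwa [mem_stabilizer_iff, mul_smul, mul_smul, inv_smul_eq_iff] at c2⟩
  obtain ⟨⟨t, ht⟩, t1⟩ := ne_bot_iff_exists_ne_one.1 T1
  have tf : ∀ w : V, t • w = w → w = 1 := fun w e => by
    by_contra w1
    exact t1 (Subtype.ext (disjoint_def.1 (hc w w1).disjoint ht e))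
  have cO : ∀ w : V, w ≠ 1 → #{u | u ∈ orbit G w} = Nat.card T := fun w w1 => by
    rw [← (hc w w1).index_eq_card, index_stabilizer, Set.ncard_eq_toFinset_card', Set.filter_mem_univ_eq_toFinset]
  have u1 : t • v ≠ v := fun e => v1 (tf v e)
  have w1 : t • v * v ≠ 1 := fun e => u1 (by rw [eq_inv_of_mul_eq_one_left e, inv_eq_of_mul_eq_one_left (h.two v)])
  have m : ∀ u ∈ orbit G v, u ≠ v → u * v ∈ orbit G (t • v * v) := fun u hu e => by
    obtain ⟨c, c1, rfl⟩ := h2 _ (mem_orbit v t) u hu u1 e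
    exact ⟨c, by simp only [smul_mul', mem_stabilizer_iff.1 c1]⟩
  have hv' : v ∈ ({u | u ∈ orbit G v} : Finset V) := by simp
  have key : v ∈ orbit G (t • v * v) := by
    obtain ⟨z, z1, z2⟩ := exists_eq_insert_iff.2 (show (({u | u ∈ orbit G v} : Finset V).erase v).image (· * v) ⊆
        ({u | u ∈ orbit G (t • v * v)} : Finset V) ∧ _ from ⟨fun u hu => by
      obtain ⟨w, hw, rfl⟩ := mem_image.1 hu
      simpa using m w (by simpa using mem_of_mem_erase hw) (ne_of_mem_erase hw), by
      rw [card_image_of_injective _ (mul_left_injective v), card_erase_add_one hv', cO _ v1, cO _ w1]⟩)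
    have p1 := tf _ (prod_orbit t (t • v * v))
    have p2 := tf _ (prod_orbit t v)
    rw [← mul_prod_erase _ _ hv'] at p2
    obtain ⟨n, hn⟩ : Even #(({u | u ∈ orbit G v} : Finset V).erase v) := by
      rw [← Nat.not_odd_iff_even, ← Nat.odd_add_one, card_erase_add_one hv', cO _ v1, ← (hc v v1).index_eq_card,
        ← Nat.not_even_iff_odd, even_iff_two_dvd]
      exact h.odd v
    rw [← z2, prod_insert z1, prod_image (mul_left_injective v).injOn, prod_mul_distrib, prod_const, hn, pow_add, ← mul_pow,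
      h.two, one_pow, mul_one, eq_inv_of_mul_eq_one_right p2, mul_inv_eq_one] at p1
    simpa [p1] using z2.le (mem_insert_self z _)
  have o1 : ∀ u ∈ orbit G v, u ≠ v → u * v ∈ orbit G v := fun u hu e => orbit_eq_iff.2 key ▸ m u hu e
  let W : Subgroup V :=
    { carrier := {u | u = 1 ∨ u ∈ orbit G v}
      one_mem' := Or.inl rfl
      inv_mem' := fun {u} hu => (inv_eq_of_mul_eq_one_left (h.two u)).symm ▸ hu
      mul_mem' := by
        rintro a b (rfl | ha) (rfl | ⟨g, rfl⟩)
        · simp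
        · exact Or.inr (by simp)
        · exact Or.inr (by simpa)
        · by_cases e : g⁻¹ • a = v
          · exact Or.inl (by simp only [← e, smul_inv_smul, h.two])
          · simpa [smul_mul'] using Or.inr (mem_orbit_of_mem_orbit g (o1 _ (mem_orbit_of_mem_orbit g⁻¹ ha) e)) }
  have hW : ∀ u, u ≠ 1 → u ∈ orbit G v := fun u e => (((hirr W (by
      rintro a u (rfl | hu)
      exacts [Or.inl (smul_one a), Or.inr (mem_orbit_of_mem_orbit a hu)])).resolve_left
    fun e => v1 (mem_bot.1 (e ▸ Or.inr (mem_orbit_self v)))).ge (mem_top u)).resolve_left e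
  obtain ⟨S, hS, S1, S2, S3⟩ := h.closed v1
  have : QuotientAction S (zpowers v) := ⟨fun s a b e => by
    rw [← smul_inv', ← smul_mul']
    obtain ⟨n, hn⟩ := e
    exact ⟨n, by simp only [← hn, smul_zpow', Subgroup.smul_def, mem_stabilizer_iff.1 (S1 s.2)]⟩⟩
  have vo : orderOf v = 2 := orderOf_eq_prime (by rw [sq, h.two]) v1
  have z : ∀ u ∈ zpowers v, u = 1 ∨ u = v := fun u hu => by
    simpa [mem_zpowers_iff_mem_range_orderOf, vo, Nat.lt_succ_iff, Nat.le_one_iff_eq_zero_or_eq_one, eq_comm] using hu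
  obtain ⟨u, f1, f2⟩ := hS.exists_fixed_point_of_prime_dvd_card_of_fixed_point (V ⧸ zpowers v)
    ((h.pV.to_quotient _).card_eq_or_dvd.resolve_left fun e => by
      rcases z (t • v) (index_eq_one.1 e ▸ mem_top _) with e | e
      exacts [v1 (by rw [← inv_smul_smul t v, e, smul_one]), u1 e]) (a := ((1 : V) : V ⧸ zpowers v))
    fun s => congrArg QuotientGroup.mk (smul_one s)
  obtain ⟨u, rfl⟩ := QuotientGroup.mk_surjective u
  have n : u ∉ zpowers v := fun e => f2 ((QuotientGroup.eq_one_iff u).2 e).symm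
  have r : (tr V k).range ≤ zpowers v := by
    rintro _ ⟨w, rfl⟩
    change w * k • w ∈ _
    by_cases e : w ∈ zpowers v
    · exact mul_mem e (by rcases z w e with rfl | rfl; exacts [by simp, (mem_fx.1 hv).symm ▸ e])
    obtain ⟨c, c1, rfl⟩ := h2 u (hW u fun e => n (e ▸ one_mem _)) w (hW w fun e' => e (e' ▸ one_mem _))
      (fun e => n (e ▸ mem_zpowers _)) fun e' => e (e' ▸ mem_zpowers _)
    obtain ⟨n, hn⟩ := QuotientGroup.eq.1 (f1 ⟨_, S2 _ (inv_mem c1) k (S3 k hv k2)⟩).symm
    refine ⟨n, ?_⟩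
    have := congrArg (c • ·) hn
    simpa [smul_zpow', mem_stabilizer_iff.1 c1, smul_mul', mul_smul, inv_eq_of_mul_eq_one_left (h.two _)] using this
  have a1 := card_tr h.two k
  have a2 := card_le_of_le r
  rw [Nat.card_zpowers, vo] at a2
  have a3 : Nat.card (fx V k) ≤ 2 := Nat.le_of_mul_le_mul_left (by nlinarith) (Nat.card_pos (α := fx V k))
  have a4 := card_le_univ ({u | u ∈ orbit G v} : Finset V)
  rw [cO v v1, ← (hc v v1).index_eq_card, ← Nat.card_eq_fintype_card] at a4
  exact hs (solvable_of_card_lt_sixty _ G rfl ((Nat.le_of_dvd (Nat.factorial_pos _) ((Invol.card_dvd_factorial_index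
    (H := stabilizer G v) fun e => u1 (e.ge (mem_top t))).trans (Nat.factorial_dvd_factorial
      (show _ ≤ 4 by nlinarith)))).trans_lt (by decide)))

theorem Hyp.solvable (h : Hyp G V) : Group.IsSolvable G := by
  induction hn : Nat.card G using Nat.strong_induction_on generalizing G with | _ n ih => ?_
  subst hn
  have ih' : ∀ N : Subgroup G, N.Normal → N ≠ ⊤ → Group.IsSolvable N := fun N _ e =>
    ih _ (Core.card_lt_of_ne_top e) (h.sub N) rfl
  by_contra hs
  have hp : commutator G = ⊤ := by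
    by_contra e
    have := ih' _ inferInstance e
    exact hs (Group.isSolvable_of_ker_le_range (commutator G).subtype Abelianization.of (by
      rw [Abelianization.ker_of, range_subtype]))
  rcases subsingleton_or_nontrivial G with hG | hG
  · exact hs inferInstance
  rcases subsingleton_or_nontrivial V with hV | hV
  · obtain ⟨g, hg⟩ := exists_ne (1 : G)
    exact hg (h.faith g fun _ => Subsingleton.elim _ _)
  obtain ⟨k, -, ko⟩ := Rank.exists_ord Nat.prime_two (H := (⊤ : Subgroup G)) (by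
    rw [card_top, ← even_iff_two_dvd, ← Nat.not_odd_iff_even]; exact fun e => hs (FT.odd_order_solvable G e))
  obtain ⟨T, hT, -, co, hc, -⟩ := h.torus (k := k) (by rw [← sq, ← ko, pow_orderOf_eq_one]) (Rank.ne_one_of_ord Nat.prime_two ko)
  have : IsSimpleGroup G := ⟨fun N hN => by
    by_contra! e
    have := ih' N hN e.2
    obtain ⟨p, hp', h1⟩ := exists_pCore_inf_ne_bot_of_solvable N e.1
    have := Fact.mk hp'
    refine h1 (eq_bot_iff.2 (inf_le_left.trans ?_))
    by_cases hd : p ∣ Nat.card T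
    · obtain ⟨P, hP⟩ := exists_sylow_le_of_not_dvd_index (H := T) fun e => hp'.one_lt.ne' (Nat.eq_one_of_dvd_coprimes co hd e)
      have h2 := (pCore_le_sylow P).trans hP
      have := isCyclic_of_le h2
      rw [← Transfer.commutator_self_eq_bot (PGrp.isMulCommutative_of_isCyclic hT)]
      refine le_trans (le_inf (le_inf h2 (hp ▸ le_top)) fun x hx => mem_center_iff.2 fun g => ?_)
        (Transfer.inf_commutator_inf_center_le T (Transfer.coprime_relIndex_commutator co))
      exact (commutator_le_centralizer_of_isCyclic_normal (pCore p G) (hp ▸ mem_top g) x hx).symm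
    · refine fun x hx => h.faith x fun v => ?_
      by_cases v1 : v = 1
      · rw [v1, smul_one]
      obtain ⟨P, hP⟩ := exists_sylow_le_of_not_dvd_index ((hc v v1).index_eq_card ▸ hd)
      exact hP (pCore_le_sylow P hx)⟩
  exact hs h.simple

end Cfsg.Lib.Exc.RealCs
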