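import Cfsg.Agent.Lib.Exc.Real2
import Cfsg.Agent.Lib.Hall.MinNormal
import Cfsg.Agent.Lib.Exc.Rank3

/-!
# Groups whose prime graph on real class sizes is disconnected
-/

set_option autoImplicit false
set_option linter.unusedSectionVars false

namespace Cfsg.Lib.Exc.RealCs

open Cfsg Cfsg.Lib.Hall Cfsg.Lib.Core Subgroup MulAction
open scoped Pointwise

local notation "𝐂[" x "]" => centralizer ({x} : Set _)

universe u v
variable {G : Type u} [Group G] [Finite G]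

/-- real elements lift over a kernel of odd order -/
theorem lift_real {G' : Type v} [Group G'] [Finite G'] {f : G →* G'} (hf : Function.Surjective f)
    (ho : ¬ 2 ∣ Nat.card f.ker) {y : G'} (hy : IsConj y y⁻¹) : ∃ x, f x = y ∧ IsConj x x⁻¹ := by
  classical
  obtain ⟨t', h1, h2⟩ := exists_two_inverts hy
  obtain ⟨t, rfl, ht⟩ := exists_lift_isPGroup hf Nat.prime_two h1
  obtain ⟨k, hk⟩ := (isPGroup_zpowers_iff Nat.prime_two).1 ht
  obtain ⟨x, rfl⟩ := hf y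
  have := Fintype.ofFinite (f ⁻¹' {f x})
  let σ : Equiv.Perm (f ⁻¹' {f x}) := Equiv.Perm.subtypePerm ((Equiv.inv G).trans (MulAut.conj t).toEquiv) fun u => by
    simp only [Set.mem_preimage, Set.mem_singleton_iff, Equiv.trans_apply, Equiv.inv_apply, MulEquiv.toEquiv_eq_coe,
      EquivLike.coe_coe, MulAut.conj_apply, map_mul, map_inv]
    rw [inv_eq_iff_eq_inv, ← h2, mul_left_inj, mul_right_inj]
  have e : ∀ n u, (((σ ^ 2) ^ n) u : G) = t ^ (2 * n) * u * (t ^ (2 * n))⁻¹ := fun n u => by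
    induction n with
    | zero => simp
    | succ n ih =>
      rw [pow_succ', Equiv.Perm.mul_apply, sq, Equiv.Perm.mul_apply, ← sq]
      change t * (t * (((σ ^ 2) ^ n) u : G)⁻¹ * t⁻¹)⁻¹ * t⁻¹ = _
      rw [ih]; group
  obtain ⟨u, hu⟩ := Equiv.Perm.exists_fixed_point_of_prime (p := 2) (n := k + 1) (σ := σ) (by
      rwa [← Nat.card_eq_fintype_card, ← Nat.card_congr (f.fiberEquivKer x).symm]) (Equiv.ext fun u => Subtype.ext (by
    rw [pow_succ', pow_mul, e, ← hk, mul_comm 2, pow_mul, pow_orderOf_eq_one]; simp))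
  exact ⟨u, u.2, isConj_iff.2 ⟨t, by rw [← inv_inj, conj_inv, inv_inv]; exact congrArg Subtype.val hu⟩⟩

theorem odd_of_lift {G' : Type v} [Group G'] {f : G →* G'} {p : ℕ} (hp : p.Prime) (ho : ¬ p ∣ Nat.card f.ker) {x : G}
    (h : ¬ p ∣ orderOf (f x)) : ¬ p ∣ orderOf x := fun e => by
  have : x ^ orderOf (f x) ∈ f.ker := by rw [MonoidHom.mem_ker, map_pow, pow_orderOf_eq_one]
  have h2 : orderOf x ∣ orderOf (f x) * Nat.card f.ker := orderOf_dvd_of_pow_eq_one (by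
    rw [pow_mul]; exact orderOf_dvd_iff_pow_eq_one.1 (orderOf_dvd_natCard _ this))
  exact ((hp.dvd_mul.1 (e.trans h2)).elim h ho)

theorem odd_iff {n : ℕ} : Odd n ↔ ¬ 2 ∣ n := by rw [← even_iff_two_dvd, Nat.not_even_iff_odd]

theorem odd_index (h : ∀ x : G, x ≠ 1 → Odd (orderOf x) → ¬ IsConj x x⁻¹) : ¬ 2 ∣ (pCore 2 G).index := by
  obtain ⟨P⟩ : Nonempty (Sylow 2 G) := inferInstance
  have := sylow_two_normal_of_no_real h P
  exact fun e => P.not_dvd_index (e.trans (index_dvd_of_le (le_pCore P.2)))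

theorem solv_of_no_real (h : ∀ x : G, x ≠ 1 → Odd (orderOf x) → ¬ IsConj x x⁻¹) : Group.IsSolvable G := by
  have := pCore_characteristic 2 G
  have := (isPGroup_pCore 2 G).isNilpotent
  have := FT.odd_order_solvable (G ⧸ pCore 2 G) (odd_iff.2 (odd_index h))
  exact isSolvable_of_normal_of_quotient (pCore 2 G)

theorem lift_odd {G' : Type v} [Group G'] [Finite G'] {f : G →* G'} (hf : Function.Surjective f)
    (hk : ∀ x : f.ker, x ≠ 1 → Odd (orderOf x) → ¬ IsConj x x⁻¹) {y : G'} (hy : IsConj y y⁻¹) (ho : Odd (orderOf y)) :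
    ∃ x, f x = y ∧ IsConj x x⁻¹ ∧ Odd (orderOf x) := by
  have := pCore_characteristic 2 G
  let f' := QuotientGroup.lift (pCore 2 G ⊓ f.ker) f inf_le_right
  have h1 : ¬ 2 ∣ Nat.card f'.ker := by
    rw [QuotientGroup.ker_lift, card_map_mk'_eq_relIndex, ← map_subtype_pCore_eq, relIndex,
      subgroupOf, comap_map_eq_self_of_injective f.ker.subtype_injective]
    exact odd_index hk
  obtain ⟨z, rfl, hz⟩ := lift_real (f := f') (QuotientGroup.lift_surjective_of_surjective _ _ hf _) h1 hy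
  have h2 := odd_iff.2 (odd_of_lift Nat.prime_two h1 (odd_iff.1 ho))
  obtain ⟨x, rfl, -, a, b⟩ := exists_real_lift _ hz (coprime_card_of_isPGroup Nat.prime_two
    ((isPGroup_pCore 2 G).to_le inf_le_left) (Nat.coprime_two_right.2 h2)).symm
  exact ⟨x, rfl, b, a ▸ h2⟩

/-- a solvable group generated by `2`-elements has real `r`-elements -/
theorem exists_real {r : ℕ} (hr : r.Prime) (r2 : r ≠ 2) (hs : Group.IsSolvable G)
    (hg : ∀ H : Subgroup G, (∀ g, IsPGroup 2 (zpowers g) → g ∈ H) → H = ⊤) (hd : r ∣ Nat.card G) :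
    ∃ x : G, IsConj x x⁻¹ ∧ x ≠ 1 ∧ IsPGroup r (zpowers x) := by
  classical
  induction hn : Nat.card G using Nat.strong_induction_on generalizing G with | _ n ih => ?_
  subst hn
  have := Fact.mk hr
  have : Nontrivial G := Finite.one_lt_card_iff_nontrivial.1 (hr.one_lt.trans_le (Nat.le_of_dvd Nat.card_pos hd))
  obtain ⟨M, p, _, M1, -, hc, hp, -, hM⟩ := exists_minNormal_elementary (G := G)
  have := Fact.mk hp
  obtain ⟨k, hk⟩ := hM.exists_card_eq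
  by_cases h : r ∣ M.index
  · obtain ⟨y, y1, y2, y3⟩ := ih _ (Core.card_quotient_lt M1) inferInstance (fun H hH => by
      rw [← map_comap_mk' M H, hg (H.comap (QuotientGroup.mk' M)) fun g e => hH _ (by
        rw [← MonoidHom.map_zpowers]; exact e.map _), map_top_of_surjective _ (QuotientGroup.mk'_surjective M)]) h rfl
    by_cases e : p = r
    · subst e
      obtain ⟨x, rfl, hx⟩ := lift_real (QuotientGroup.mk'_surjective M) (by
        rw [QuotientGroup.ker_mk', hk]; exact fun e => r2 ((Nat.prime_dvd_prime_iff_eq Nat.prime_two hp).1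
          (Nat.prime_two.dvd_of_dvd_pow e)).symm) y1
      refine ⟨x, hx, fun e => y2 (by rw [e, map_one]), Rank.isPGroup_of_unique hp fun q hq e => ?_⟩
      have c := (Nat.coprime_primes hq hp).2 e
      rw [Nat.card_zpowers]
      refine odd_of_lift (f := QuotientGroup.mk' M) hq ?_ (hq.coprime_iff_not_dvd.1 (coprime_orderOf_of_isPGroup hp y3 c).symm)
      rw [QuotientGroup.ker_mk', hk]; exact hq.coprime_iff_not_dvd.1 (c.pow_right k)
    · obtain ⟨x, rfl, -, a, b⟩ := exists_real_lift M y1 (coprime_orderOf_of_isPGroup hr y3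
        (hk ▸ ((Nat.coprime_primes hp hr).2 e).pow_left k))
      exact ⟨x, b, fun e => y2 (by rw [e]; rfl), (isPGroup_zpowers_iff hr).2 (a ▸ (isPGroup_zpowers_iff hr).1 y3)⟩
  obtain rfl : r = p := (Nat.prime_dvd_prime_iff_eq hr hp).1 (hr.dvd_of_dvd_pow
    (hk ▸ (hr.dvd_mul.1 (M.card_mul_index.symm ▸ hd)).resolve_right h))
  by_cases e : ∀ g, IsPGroup 2 (zpowers g) → g ∈ centralizer (M : Set G)
  · obtain ⟨⟨u, hu⟩, u1⟩ := ne_bot_iff_exists_ne_one.1 M1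
    have hZ : M ≤ center G := centralizer_eq_top_iff_subset.1 (hg _ e)
    let _ : CommGroup (center G) := { (inferInstance : Group (center G)) with mul_comm := mul_comm' }
    have h1 := (hg ((powMonoidHom (2 ^ Nat.card G)).comp (MonoidHom.transferCenterPow G)).ker fun g e => by
      obtain ⟨j, hj⟩ := (isPGroup_zpowers_iff Nat.prime_two).1 e
      refine Subtype.ext ?_
      change (g ^ _) ^ _ = 1
      rw [← pow_mul, ← orderOf_dvd_iff_pow_eq_one, hj]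
      exact (pow_dvd_pow 2 (Nat.lt_two_pow_self.le.trans (hj ▸ orderOf_le_card))).mul_left _).ge (mem_top u)
    have h2 : u ^ ((center G).index * 2 ^ Nat.card G) = 1 := pow_mul u _ _ ▸ congrArg Subtype.val h1
    exact absurd (Subtype.ext (orderOf_eq_one_iff.1 (Nat.eq_one_of_dvd_coprimes (coprime_orderOf_of_isPGroup hr
      (isPGroup_zpowers_of_mem hM hu) (Nat.Coprime.mul_left (hr.coprime_iff_not_dvd.2 fun e => h (e.trans
        (index_dvd_of_le hZ))).symm (((Nat.coprime_primes Nat.prime_two hr).2 r2.symm).pow_left _))) dvd_rfl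
          (orderOf_dvd_of_pow_eq_one h2)))) u1
  push Not at e
  obtain ⟨g, g1, g2⟩ := e
  obtain ⟨j, hj⟩ := (isPGroup_zpowers_iff Nat.prime_two).1 g1
  have ex : ∃ n, g ^ 2 ^ n ∈ centralizer (M : Set G) := ⟨j, by rw [← hj, pow_orderOf_eq_one]; exact one_mem _⟩
  obtain ⟨n, hn⟩ := Nat.exists_eq_succ_of_ne_zero (show Nat.find ex ≠ 0 from fun e => g2 (by
    simpa [e] using Nat.find_spec ex))
  have a := Nat.find_spec ex
  have b := Nat.find_min ex (hn ▸ n.lt_succ_self)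
  rw [hn, pow_succ, pow_mul, sq] at a
  generalize g ^ 2 ^ n = s at a b
  rw [mem_centralizer_iff] at b
  push Not at b
  obtain ⟨u, hu, b⟩ := b
  have hu' : s * u * s⁻¹ ∈ M := Normal.conj_mem inferInstance u hu s
  refine ⟨u⁻¹ * (s * u * s⁻¹), isConj_iff.2 ⟨s, ?_⟩, fun e => b (by
    rw [inv_mul_eq_one.1 e, inv_mul_cancel_right, ← inv_mul_eq_one.1 e]),
    isPGroup_zpowers_of_mem hM (mul_mem (inv_mem hu) hu')⟩
  rw [show s * (u⁻¹ * (s * u * s⁻¹)) * s⁻¹ = (s * u * s⁻¹)⁻¹ * (s * s * u * (s * s)⁻¹) by group, ← a u hu]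
  group

/-- the stabiliser of a conjugacy class under multiplication -/
def St (x : G) : Subgroup G where
  carrier := {g | ∀ u, IsConj x u ↔ IsConj x (g * u)}
  one_mem' := by simp
  mul_mem' {a b} ha hb u := by rw [hb u, ha, mul_assoc]
  inv_mem' {a} ha u := by rw [ha (a⁻¹ * u), mul_inv_cancel_left]

instance (x : G) : (St x).Normal := ⟨fun a ha g u => by
  have e : ∀ v, IsConj x (g * v * g⁻¹) ↔ IsConj x v := fun v =>
    ⟨fun h => h.trans (isConj_iff.2 ⟨g, rfl⟩).symm, fun h => h.trans (isConj_iff.2 ⟨g, rfl⟩)⟩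
  rw [show g * a * g⁻¹ * u = g * (a * (g⁻¹ * u * g)) * g⁻¹ by group, e, ← ha, ← e (g⁻¹ * u * g)]
  simp [mul_assoc]⟩

theorem card_St (x : G) : Nat.card (St x) ∣ cs x := by
  let X : SubMulAction (St x) G := ⟨{u | IsConj x u}, fun a u hu => (a.2 u).1 hu⟩
  have e := Nat.card_congr (MulAction.selfEquivOrbitsQuotientProd (G := St x) (X := X) fun b => eq_bot_iff.2 fun a ha =>
    Subtype.ext (mul_eq_right.1 (congrArg Subtype.val ha)))
  rw [← ncard_isConj, ← Nat.card_coe_set_eq]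
  exact ⟨_, e.trans (by rw [Nat.card_prod, mul_comm])⟩

theorem eq_one_of_St {x : G} (h : x ∈ St x) : x = 1 := by
  simpa using (inv_mem h x).1 (IsConj.refl x)

theorem mem_St {x y : G} (h : (cs y).Coprime (cs x)) (h1 : cs (y * x) ≤ cs x) (g : G) : (g * y * g⁻¹)⁻¹ * y ∈ St x := by
  have key : ∀ a w, IsConj x w ↔ IsConj (y * x) (a * y * a⁻¹ * w) := fun a w => by
    have e : (fun u => a * y * a⁻¹ * u) '' {u | IsConj x u} = {u | IsConj (y * x) u} := Set.eq_of_subset_of_ncard_le (by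
      rintro _ ⟨_, hu, rfl⟩
      obtain ⟨b, rfl⟩ := isConj_iff.1 hu
      obtain ⟨c, hc⟩ := exists_conj_mul_of_coprime h a b
      exact isConj_iff.2 ⟨c, hc.symm⟩) (by
        rwa [Set.ncard_image_of_injective _ (mul_right_injective _), ncard_isConj, ncard_isConj])
    exact ⟨fun h => e.le ⟨w, h, rfl⟩, fun h => let ⟨u, h1, h2⟩ := e.ge h; mul_left_cancel h2 ▸ h1⟩
  intro u
  rw [key 1 u, key g]
  simp [mul_assoc]

structure Disc (α β : ℕ → Prop) (G : Type u) [Group G] : Prop where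
  dα : ∀ m n, m ∣ n → α n → α m
  dβ : ∀ m n, m ∣ n → β n → β m
  cop : ∀ m n, α m → β n → m.Coprime n
  all : ∀ x : G, IsConj x x⁻¹ → α (cs x) ∨ β (cs x)
  exa : ∃ x : G, IsConj x x⁻¹ ∧ α (cs x) ∧ x ∉ center G
  exb : ∃ x : G, IsConj x x⁻¹ ∧ β (cs x) ∧ x ∉ center G

theorem real_mul {x y : G} (hx : x ^ 2 = 1) (hy : y ^ 2 = 1) : IsConj (x * y) (x * y)⁻¹ :=
  isConj_iff.2 ⟨x, Invol.left_inverts (sq x ▸ hx) (sq y ▸ hy)⟩

namespace Disc
variable {α β : ℕ → Prop} (h : Disc α β G)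
include h

theorem symm : Disc β α G :=
  ⟨h.dβ, h.dα, fun m n a b => (h.cop n m b a).symm, fun x hx => (h.all x hx).symm, h.exb, h.exa⟩

theorem key {x y : G} (hx : IsConj x x⁻¹) (hy : IsConj y y⁻¹) (a : α (cs x)) (b : β (cs y)) :
    (∀ g, (g * y * g⁻¹)⁻¹ * y ∈ St x) ∨ ∀ g, (g * x * g⁻¹)⁻¹ * x ∈ St y := by
  have c := h.cop _ _ a b
  have d := cs_mul_dvd_of_coprime c
  refine (h.all (x * y) ?_).imp (fun e => mem_St c.symm (cs_mul_comm x y ▸ Nat.le_of_dvd (cs_pos x)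
    ((h.cop _ _ e b).dvd_of_dvd_mul_right d))) fun e => mem_St c (Nat.le_of_dvd (cs_pos y)
      ((h.cop _ _ a e).symm.dvd_of_dvd_mul_left d))
  obtain ⟨u, hu⟩ := isConj_iff.1 hx
  obtain ⟨v, hv⟩ := isConj_iff.1 hy
  obtain ⟨w, hw⟩ := exists_conj_mul_of_coprime c u v
  exact isConj_iff.2 ⟨x * w, by rw [show x * w * (x * y) * (x * w)⁻¹ = x * (w * (x * y) * w⁻¹) * x⁻¹ by group, ← hw, hu, hv]; group⟩

theorem even : ∃ x : G, IsConj x x⁻¹ ∧ 2 ∣ cs x := by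
  by_contra! e
  have k : ∀ x y : G, IsConj x x⁻¹ → IsConj y y⁻¹ → (∀ g, (g * y * g⁻¹)⁻¹ * y ∈ St x) → y ∈ center G := fun x y hx hy H =>
    mem_center_iff.2 fun g => by
      have y2 := sq_eq_one_of_real_of_odd_cs hy (e y hy)
      have r := real_mul (x := (g * y * g⁻¹)⁻¹) (by rw [inv_pow, conj_pow, y2]; simp) y2
      rw [← mul_inv_eq_iff_eq_mul]
      exact inv_mul_eq_one.1 (eq_one_of_odd_of_sq_eq_one (odd_iff.2 fun d => e x hx
        (d.trans ((orderOf_dvd_natCard _ (H g)).trans (card_St x)))) (sq_eq_one_of_real_of_odd_cs r (e _ r)))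
  obtain ⟨x, x1, x2, x3⟩ := h.exa
  obtain ⟨y, y1, y2, y3⟩ := h.exb
  exact (h.key x1 y1 x2 y2).elim (fun H => y3 (k x y x1 y1 H)) fun H => x3 (k y x y1 x1 H)

variable (h2 : α 2)
include h2

theorem odd {n : ℕ} (b : β n) : ¬ 2 ∣ n := Nat.prime_two.coprime_iff_not_dvd.1 (h.cop _ _ h2 b)

theorem sq {t : G} (ht : IsConj t t⁻¹) (b : β (cs t)) : t ^ 2 = 1 := sq_eq_one_of_real_of_odd_cs ht (h.odd h2 b)

theorem is_α {x : G} (hx : IsConj x x⁻¹) (ho : Odd (orderOf x)) (x1 : x ≠ 1) : α (cs x) ∧ x ∉ center G :=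
  ⟨(h.all x hx).resolve_right fun b => x1 (eq_one_of_odd_of_sq_eq_one ho (h.sq h2 hx b)), fun e => x1
    (eq_one_of_odd_of_sq_eq_one ho (sq_eq_one_of_real_of_odd_cs hx (by rw [cs_eq_one_iff.2 e]; decide)))⟩

theorem caseII {t : G} (ht : IsConj t t⁻¹) (b : β (cs t)) (hM : St t ≠ ⊥) : Group.IsSolvable G ∧
    ∀ x : G, IsConj x x⁻¹ → Odd (orderOf x) → x ≠ 1 → ∀ g, ¬ Commute x (g * t * g⁻¹) := by
  have o : ¬ 2 ∣ Nat.card (St t) := fun e => h.odd h2 b (e.trans (card_St t))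
  have o' : ∀ m ∈ St t, Odd (orderOf m) := fun m hm => odd_iff.2 fun e => o (e.trans (orderOf_dvd_natCard _ hm))
  have t2 := h.sq h2 ht b
  have inv : ∀ m ∈ St t, t * m * t⁻¹ = m⁻¹ := fun m hm => by
    obtain ⟨c, hc⟩ := isConj_iff.1 ((hm t).1 (IsConj.refl t))
    have : (m * t) ^ 2 = 1 := by rw [← hc, conj_pow, t2]; simp
    rw [eq_inv_iff_mul_eq_one, inv_eq_of_mul_eq_one_left (_root_.sq t ▸ t2), ← mul_left_inj t, ← mul_right_inj m]
    rw [show m * (t * m * t * m * t) = (m * t) ^ 2 * (m * t) by rw [_root_.sq]; group, this]; simp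
  obtain ⟨⟨m, hm⟩, m1⟩ := ne_bot_iff_exists_ne_one.1 hM
  have k : ∀ y : G ⧸ St t, y ≠ 1 → Odd (orderOf y) → ¬ IsConj y y⁻¹ := fun y y1 yo hy => by
    obtain ⟨x, rfl, hx⟩ := lift_real (QuotientGroup.mk'_surjective (St t)) (by rwa [QuotientGroup.ker_mk']) hy
    refine y1 (eq_one_of_odd_of_sq_eq_one yo ?_)
    rcases h.all x hx with a | a
    · rcases h.key hx ht a b with H | H
      · have e : m ^ 2 ∈ St x := by
          have := inv_mem (H m)
          rwa [show ((m * t * m⁻¹)⁻¹ * t)⁻¹ = (t ^ 2)⁻¹ * (t * m * t⁻¹) * t ^ 2 * m⁻¹ by rw [_root_.sq]; group, t2,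
            inv m hm, inv_one, one_mul, mul_one, ← mul_inv_rev, inv_mem_iff, ← _root_.sq] at this
        exact absurd (Subtype.ext (orderOf_eq_one_iff.1 (Nat.eq_one_of_dvd_coprimes (h.cop _ _ a b)
          ((orderOf_dvd_natCard _ (mem_of_pow_mem_of_coprime (Nat.coprime_two_left.2 (o' m hm)) e)).trans (card_St x))
          ((orderOf_dvd_natCard _ hm).trans (card_St t))))) m1
      · obtain ⟨c, hc⟩ := isConj_iff.1 hx
        have := H c
        rw [hc, inv_inv, ← _root_.sq] at this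
        rw [← map_pow]; exact (QuotientGroup.eq_one_iff _).2 this
    · rw [← map_pow, h.sq h2 hx a, map_one]
  have := solv_of_no_real k
  have := FT.odd_order_solvable _ (odd_iff.2 o)
  refine ⟨isSolvable_of_normal_of_quotient (St t), fun x hx xo x1 g c => x1 ?_⟩
  have hx' : x ∈ St t := by
    by_contra e
    exact k x (fun e' => e ((QuotientGroup.eq_one_iff _).1 e')) (xo.of_dvd_nat (orderOf_map_dvd (QuotientGroup.mk' (St t)) x))
      (IsConj.map_inv (QuotientGroup.mk' (St t)) hx)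
  have := inv _ (Normal.conj_mem' inferInstance x hx' g)
  refine eq_one_of_odd_of_sq_eq_one xo (sq_eq_one_of_inverts_of_mem_cent (t := g * t * g⁻¹) ?_ (mem_cent_iff.2 c.symm))
  rw [show g * t * g⁻¹ * x * (g * t * g⁻¹)⁻¹ = g * (t * (g⁻¹ * x * g) * t⁻¹) * g⁻¹ by group, this]; group

theorem caseI {t : G} (ht : IsConj t t⁻¹) (b : β (cs t)) (t1 : t ∉ center G) (hM : St t = ⊥) : Group.IsSolvable G ∧
    ∃ t : G, IsConj t t⁻¹ ∧ β (cs t) ∧ ∀ x : G, IsConj x x⁻¹ → Odd (orderOf x) → x ≠ 1 → ∀ g, ¬ Commute x (g * t * g⁻¹) := by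
  have t2 := h.sq h2 ht b
  have := pCore_characteristic 2 G
  have c1 : ∀ x : G, IsConj x x⁻¹ → α (cs x) → x ∉ center G → ∀ g, (g * t * g⁻¹)⁻¹ * t ∈ St x := fun x hx a x1 =>
    (h.key hx ht a b).resolve_right fun H => x1 (mem_center_iff.2 fun g =>
      mul_inv_eq_iff_eq_mul.1 (inv_mul_eq_one.1 (mem_bot.1 (hM ▸ H g))))
  have tO : t ∈ pCore 2 G := by
    rw [← Core.pCoreOf_top]
    refine Amalg.mem_op_two_of_not_inverts (_root_.sq t ▸ t2) (mem_top t) fun x _ xo e => by_contra fun x1 => ?_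
    have hx := isConj_iff.2 ⟨t, e⟩
    have := c1 x hx (h.is_α h2 hx xo x1).1 (h.is_α h2 hx xo x1).2 x
    rw [show (x * t * x⁻¹)⁻¹ * t = x * (t⁻¹ * x⁻¹ * t) by group, ← e, show t⁻¹ * (t * x * t⁻¹) * t = x by group, ← _root_.sq] at this
    exact x1 (eq_one_of_St (mem_of_pow_mem_of_coprime (Nat.coprime_two_left.2 xo) this))
  have tC : t ∈ centralizer (pCore 2 G : Set G) := by
    obtain ⟨P, hP⟩ := exists_sylow_le_of_not_dvd_index (h.odd h2 b)
    exact le_cent_iff.1 ((pCore_le_sylow P).trans hP)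
  let V : Subgroup G :=
    { carrier := {v | (v ∈ centralizer (pCore 2 G : Set G) ∧ v ∈ pCore 2 G) ∧ v ^ 2 = 1 ∧
        ∀ x : G, IsConj x x⁻¹ → α (cs x) → x ∉ center G → v ∈ St x}
      one_mem' := ⟨⟨one_mem _, one_mem _⟩, one_pow 2, fun _ _ _ _ => one_mem _⟩
      inv_mem' := fun {v} hv => ⟨⟨inv_mem hv.1.1, inv_mem hv.1.2⟩, by rw [inv_pow, hv.2.1, inv_one],
        fun x a b c => inv_mem (hv.2.2 x a b c)⟩
      mul_mem' := fun {u v} hu hv => ⟨⟨mul_mem hu.1.1 hv.1.1, mul_mem hu.1.2 hv.1.2⟩, by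
        rw [(show Commute u v from hv.1.1 u hu.1.2).mul_pow, hu.2.1, hv.2.1, mul_one],
        fun x a b c => mul_mem (hu.2.2 x a b c) (hv.2.2 x a b c)⟩ }
  have : V.Normal := ⟨fun v hv g => ⟨⟨Normal.conj_mem inferInstance v hv.1.1 g, Normal.conj_mem inferInstance v hv.1.2 g⟩,
    by rw [conj_pow, hv.2.1]; simp, fun x a b c => Normal.conj_mem inferInstance v (hv.2.2 x a b c) g⟩⟩
  have vr : ∀ v ∈ V, IsConj v v⁻¹ := fun v hv => by rw [inv_eq_of_mul_eq_one_left (_root_.sq v ▸ hv.2.1)]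
  have vb : ∀ v ∈ V, β (cs v) := fun v hv => by
    by_cases e : v ∈ center G
    · exact h.dβ _ _ (cs_eq_one_iff.2 e ▸ one_dvd _) b
    · exact (h.all v (vr v hv)).resolve_left fun a => e (eq_one_of_St (hv.2.2 v (vr v hv) a e) ▸ one_mem _)
  have fpf : ∀ x : G, IsConj x x⁻¹ → Odd (orderOf x) → x ≠ 1 → ∀ v ∈ V, Commute x v → v = 1 := fun x hx xo x1 v hv c => by
    obtain ⟨g, hg⟩ := isConj_iff.1 ((hv.2.2 x hx (h.is_α h2 hx xo x1).1 (h.is_α h2 hx xo x1).2 x).1 (IsConj.refl x))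
    have e : (v * x) ^ orderOf x = 1 := by rw [← hg, conj_pow, pow_orderOf_eq_one]; simp
    rw [c.symm.mul_pow, pow_orderOf_eq_one, mul_one] at e
    exact eq_one_of_odd_of_sq_eq_one (xo.of_dvd_nat (orderOf_dvd_of_pow_eq_one e)) hv.2.1
  obtain ⟨g, hg⟩ : ∃ g, (g * t * g⁻¹)⁻¹ * t ≠ 1 := by
    by_contra! e
    exact t1 (mem_center_iff.2 fun g => mul_inv_eq_iff_eq_mul.1 (inv_mul_eq_one.1 (e g)))
  have n1 := inv_mem (Normal.conj_mem inferInstance t tO g)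
  have hv : (g * t * g⁻¹)⁻¹ * t ∈ V := ⟨⟨mul_mem (inv_mem (Normal.conj_mem inferInstance t tC g)) tC, mul_mem n1 tO⟩, by
    rw [(show Commute _ t from tC _ n1).mul_pow, inv_pow, conj_pow, t2]; simp, fun x a b c => c1 x a b c g⟩
  refine ⟨?_, _, vr _ hv, vb _ hv, fun x hx xo x1 a c => hg (conj_eq_one_iff.1
    (fpf x hx xo x1 _ (Normal.conj_mem inferInstance _ hv a) c))⟩
  let _ : CommGroup V := { (inferInstance : Group V) with mul_comm := fun a b => Subtype.ext (b.2.1.1 a a.2.1.2) }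
  let φ := (MulAut.conjNormal (H := V)).rangeRestrict
  have hφ : Function.Surjective φ := MonoidHom.rangeRestrict_surjective _
  have hk : ∀ x : φ.ker, x ≠ 1 → Odd (orderOf x) → ¬ IsConj x x⁻¹ := fun x x1 xo hx =>
    hg (fpf x (IsConj.map_inv φ.ker.subtype hx) (by rwa [orderOf_coe]) (fun e => x1 (Subtype.ext e)) _ hv
      (mul_inv_eq_iff_eq_mul.1 (congrArg (fun s : (MulAut.conjNormal (H := V)).range => ((s : MulAut V) ⟨_, hv⟩ : G)) x.2)))
  have d : ∀ v : V, (stabilizer (MulAut.conjNormal (H := V)).range v).index ∣ cs (v : G) := fun v =>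
    (index_dvd_of_le (by
      rintro _ ⟨g, hg, rfl⟩
      exact Subtype.ext (mul_inv_eq_iff_eq_mul.2 (mem_cent_iff.1 hg)))).trans (index_map_dvd _ hφ)
  have H : Hyp (MulAut.conjNormal (H := V)).range V := ⟨fun v => Subtype.ext ((_root_.sq (v : G)).symm.trans v.2.2.1),
    fun g hg => Subtype.ext (MulEquiv.ext hg), fun v e => h.odd h2 (vb v v.2) (e.trans (d v)), fun y hy yo y1 v e => by
      obtain ⟨x, rfl, hx, xo⟩ := lift_odd hφ hk hy yo
      exact Subtype.ext (fpf x hx xo (fun e => y1 (by rw [e, map_one])) v v.2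
        (mul_inv_eq_iff_eq_mul.1 (congrArg Subtype.val e))), fun y hy yo v => by
      obtain ⟨x, rfl, hx, xo⟩ := lift_odd hφ hk hy yo
      by_cases x1 : x = 1
      · rw [x1, map_one, cs_one]; exact Nat.coprime_one_left _
      exact ((h.cop _ _ (h.is_α h2 hx xo x1).1 (vb v v.2)).coprime_dvd_left (cs_map_dvd hφ x)).coprime_dvd_right (d v)⟩
  have := H.solvable
  have := solv_of_no_real hk
  exact Group.isSolvable_of_ker_le_range φ.ker.subtype φ (range_subtype _).ge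

theorem main : Group.IsSolvable G ∧ ∃ t : G, IsConj t t⁻¹ ∧ β (cs t) ∧
    ∀ x : G, IsConj x x⁻¹ → Odd (orderOf x) → x ≠ 1 → ∀ g, ¬ Commute x (g * t * g⁻¹) := by
  obtain ⟨t, ht, b, t1⟩ := h.exb
  by_cases e : St t = ⊥
  · exact h.caseI h2 ht b t1 e
  · exact ⟨(h.caseII h2 ht b e).1, t, ht, b, (h.caseII h2 ht b e).2⟩

omit h2 in
theorem main' : Group.IsSolvable G ∧ ∃ t : G, t ^ 2 = 1 ∧ ¬ 2 ∣ cs t ∧
    (∀ x : G, IsConj x x⁻¹ → Odd (orderOf x) → x ≠ 1 → ∀ g, ¬ Commute x (g * t * g⁻¹)) ∧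
    ∀ y : G, IsConj y y⁻¹ → ¬ 2 ∣ cs y ∨ (cs y).Coprime (cs t) := by
  obtain ⟨x, hx, e⟩ := h.even
  rcases h.all x hx with a | a
  · have h2 := h.dα _ _ e a
    obtain ⟨s, t, t1, t2, t3⟩ := h.main h2
    exact ⟨s, t, h.sq h2 t1 t2, h.odd h2 t2, t3, fun y hy => (h.all y hy).symm.imp (h.odd h2) fun a => h.cop _ _ a t2⟩
  · have h2 := h.dβ _ _ e a
    obtain ⟨s, t, t1, t2, t3⟩ := h.symm.main h2
    exact ⟨s, t, h.symm.sq h2 t1 t2, h.symm.odd h2 t2, t3, fun y hy => (h.all y hy).imp (h.symm.odd h2) fun a => h.symm.cop _ _ a t2⟩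

end Disc

theorem disc_of {π₁ π₂ : Set ℕ} (h₁ : π₁.Nonempty) (h₂ : π₂.Nonempty)
    (hc : ∀ q : ℕ, q.Prime → (∃ n ∈ {n : ℕ | ∃ x : G, IsConj x x⁻¹ ∧ cs x = n}, q ∣ n) → q ∈ π₁ ∨ q ∈ π₂)
    (hs : ∀ q ∈ π₁ ∪ π₂, q.Prime ∧ ∃ n ∈ {n : ℕ | ∃ x : G, IsConj x x⁻¹ ∧ cs x = n}, q ∣ n) (hd : Disjoint π₁ π₂)
    (hn : ∀ a ∈ π₁, ∀ b ∈ π₂, ∀ n ∈ {n : ℕ | ∃ x : G, IsConj x x⁻¹ ∧ cs x = n}, ¬ (a ∣ n ∧ b ∣ n)) :
    Disc (fun n => ∀ q, q.Prime → q ∣ n → q ∈ π₁) (fun n => ∀ q, q.Prime → q ∣ n → q ∈ π₂) G := by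
  refine ⟨fun m n e h q hq d => h q hq (d.trans e), fun m n e h q hq d => h q hq (d.trans e),
    fun m n a b => Nat.coprime_of_dvd fun q hq d e => Set.disjoint_left.1 hd (a q hq d) (b q hq e), fun x hx => ?_, ?_, ?_⟩
  · by_contra! e
    obtain ⟨⟨a, a1, a2, a3⟩, b, b1, b2, b3⟩ := e
    exact hn b ((hc b b1 ⟨_, ⟨x, hx, rfl⟩, b2⟩).resolve_right b3) a ((hc a a1 ⟨_, ⟨x, hx, rfl⟩, a2⟩).resolve_left a3)
      _ ⟨x, hx, rfl⟩ ⟨b2, a2⟩
  · obtain ⟨q, hq⟩ := h₁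
    obtain ⟨a, _, ⟨x, hx, rfl⟩, b⟩ := hs q (Or.inl hq)
    exact ⟨x, hx, fun r c d => (hc r c ⟨_, ⟨x, hx, rfl⟩, d⟩).resolve_right fun e => hn q hq r e _ ⟨x, hx, rfl⟩ ⟨b, d⟩,
      fun e => a.not_dvd_one (cs_eq_one_iff.2 e ▸ b)⟩
  · obtain ⟨q, hq⟩ := h₂
    obtain ⟨a, _, ⟨x, hx, rfl⟩, b⟩ := hs q (Or.inr hq)
    exact ⟨x, hx, fun r c d => (hc r c ⟨_, ⟨x, hx, rfl⟩, d⟩).resolve_left fun e => hn r e q hq _ ⟨x, hx, rfl⟩ ⟨d, b⟩,
      fun e => a.not_dvd_one (cs_eq_one_iff.2 e ▸ b)⟩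

end Cfsg.Lib.Exc.RealCs
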