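import Cfsg.Agent.Lib.JTW.Cor
import Cfsg.Agent.Lib.Small.BT

/-! Groups of Ree type: the four constituents of the first column of the principal 2-block
(a variant of `JTW.arith`, `JTW.WD.main` keeping the characters). -/

set_option autoImplicit false
set_option linter.unusedSectionVars false
set_option linter.unusedVariables false

namespace Cfsg.Lib.JTW
open Subgroup Cfsg.Lib.Core Cfsg.Lib.BG1 Cfsg.Lib.Invol Cfsg.Lib.Wal Cfsg.Lib.Linear
open Cfsg.Lib.Amalg hiding le_cent_symm op_top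
open Cfsg.Lib.Clifford
open scoped ComplexConjugate

universe u

variable {G : Type u} [Group G] [Finite G] {t v s ξ a g w x y : G} {A K Φ T E : Subgroup G} {μ μ' Ψ ζ f f' χ : G → ℂ}
  {θ : Fin 4 → G → ℂ} {F : Type} [Field F] [Fintype F] {u n : ℤ} {dg tv k : Irr (⊤ : Subgroup G) → ℤ}

local notation "𝐄" => K ⊔ Φ
local notation "𝐎" => T ⊔ Φ
local notation "𝐋" => T ⊔ Φ ⊔ zpowers v
local notation "𝐌" => T ⊔ Φ ⊔ zpowers v ⊔ zpowers t
local notation "𝐳" => zz (Fintype.card F)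
local notation "𝐦" l => Clifford.cj (ξ ^ ((l : Fin 3) : ℕ)) μ
local notation "𝐠" l => ind 𝐌 ⊤ (kap 𝐋 * (1 - 𝐦 l))
local notation "𝚷" l => θ 0 - θ 1 - θ 2 + θ 3 - ind 𝐎 𝐄 (1 - 𝐦 l)
local notation "𝐏" i => II t 𝐄 (θ 0 - θ (Fin.succ i))
local notation "𝛀" => ∑ i : Fin 3, (θ 0 - θ (Fin.succ i))

open Finset in
/-- the constituents of `P 0` -/
def RC {ι : Type*} [Fintype ι] (z u N : ℤ) (d k P : ι → ℤ) (o : ι) : Prop :=
  ∃ a x y, d a = -(z ^ 2 + z + 1) ∧ (∀ F : ι → ℤ, ∑ χ, P χ * F χ = F o + F a + F x + F y) ∧ k x + k y = 6 * z ^ 2 ∧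
    k x * k y = 3 * z * N ∧ k x * d x = u * N ∧ k y * d y = u * N

section
open Finset
theorem rr_arith' {ι : Type*} [Fintype ι] {z u N : ℤ} {p n : ℕ} (hz : z % 8 = 5) (hu : 2 * u = z + 1) (hp : p.Prime)
    (hq : z.natAbs = p ^ n) (h11 : 11 ≤ z.natAbs) (hN : 0 < N) {d tv k : ι → ℤ} {P : Fin 3 → ι → ℤ} {o a b : ι}
    (hd : ∀ χ, d χ ≠ 0) (hk : ∀ χ, k χ * d χ = N * tv χ) (h8 : ∀ χ, 8 ∣ d χ - tv χ) (h01 : ∀ i χ, P i χ = 0 ∨ P i χ = 1)
    (hP : ∀ i j, ∑ χ, P i χ * P j χ = if i = j then 4 else 2) (hdeg : ∀ i, ∑ χ, P i χ * d χ = 0)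
    (hp0 : ∑ χ, P 0 χ * (tv χ * k χ) = z ^ 2 * (z + 1) * (z + 3))
    (hp2 : ∑ χ, P 2 χ * (tv χ * k χ) = z * (z + 1) ^ 2 * (z - 1))
    (htv : ∀ χ, (∃ i, P i χ ≠ 0) → tv χ = u * (P 0 χ + P 1 χ) - z * P 2 χ)
    (ho : d o = 1) (ho' : ∀ i, P i o = 1) (hka : k a = -z ^ 2) (hkb : k b = -z ^ 2) (a0 : P 0 a = 1) (b0 : P 0 b = 0)
    (h : (P 1 a = 1 ∧ P 2 a = 1 ∧ P 1 b = 0 ∧ P 2 b = 1) ∨ (P 1 a = 0 ∧ P 2 a = 0 ∧ P 1 b = 1 ∧ P 2 b = 0)) :
    RC z u N d k (P 0) o := by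
  have z0 : z ≠ 0 := by omega
  have ht : ∀ χ (x y w : ℤ), P 0 χ = x → P 1 χ = y → P 2 χ = w → (x = 1 ∨ y = 1 ∨ w = 1) → tv χ = u * (x + y) - z * w := by
    rintro χ _ _ _ rfl rfl rfl h
    exact htv χ (by rcases h with h | h | h <;> exact ⟨_, h.trans_ne one_ne_zero⟩)
  have h4 : ∀ i, ∑ χ, P i χ * P i χ = 4 := fun i => by simpa using hP i i
  have h2 : ∀ i j, i ≠ j → ∑ χ, P i χ * P j χ = 2 := fun i j e => by simpa [e] using hP i j
  have ne : ∀ (i : Fin 3) (x y : ι), P i x ≠ P i y → x ≠ y := fun i x y => ne_of_apply_ne (P i)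
  have o0 := ho' 0
  have o1 := ho' 1
  have o2 := ho' 2
  have t0 := ht o _ _ _ o0 o1 o2 (by simp)
  have ko := hk o
  have ka := hk a
  have kb := hk b
  rcases h with ⟨a1, a2, b1, b2⟩ | ⟨a1, a2, b1, b2⟩
  · have ta := ht a _ _ _ a0 a1 a2 (by simp)
    have tb := ht b _ _ _ b0 b1 b2 (by simp)
    obtain rfl : N = z ^ 2 * -d a := by linear_combination -ka + d a * hka - N * ta - N * hu
    have db : d b = z * -d a := mul_left_cancel₀ (pow_ne_zero 2 z0) (by linear_combination -kb + d b * hkb - z ^ 2 * -d a * tb)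
    have oa : o ≠ a := by
      rintro rfl
      rw [ho] at hN
      linarith [sq_nonneg z]
    obtain ⟨c, c2, e2⟩ := ar_e3 (h01 2) (h4 2) o2 a2 b2 oa (ne 0 _ _ (by omega)) (ne 0 _ _ (by omega))
    obtain ⟨x, y, x0, y0, -, -, e0⟩ := ar_e2 (h01 0) (h4 0) o0 a0 oa
    have f1 := (e2 _).symm.trans (h2 2 0 (by decide))
    have f2 := (e2 _).symm.trans (h2 2 1 (by decide))
    have f3 := (e0 _).symm.trans (h2 0 1 (by decide))
    have f4 := (e0 _).symm.trans (h2 0 2 (by decide))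
    have f5 := h01 1 x
    have f6 := h01 1 y
    have f7 := h01 2 x
    have f8 := h01 2 y
    have tc := ht c 0 0 1 (by omega) (by omega) c2 (by simp)
    have tx := ht x 1 0 0 x0 (by omega) (by omega) (by simp)
    have ty := ht y 1 0 0 y0 (by omega) (by omega) (by simp)
    have g2 := (e2 _).symm.trans (hdeg 2)
    have g0 := (e0 _).symm.trans (hdeg 0)
    rw [e0, t0, ta, tx, ty, hka] at hp0
    rw [e2, t0, ta, tb, tc, hka, hkb] at hp2
    rw [ho, t0] at ko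
    obtain ⟨-, r2⟩ := ar_one (A := -d a) (c := d c) (kc := k c) (h1 := d x) (h2 := d y) (k1 := k x) (k2 := k y) hu hp hq h11
      (by linear_combination g2 - ho - db) (by linear_combination hp2 - ko + (z ^ 2 + z ^ 2 * d a - k o) * hu)
      (by rw [hk, tc]; ring) (by linear_combination g0 - ho) (by rw [hk, tx]; ring) (by rw [hk, ty]; ring)
      (by linear_combination hp0 - ko + (z ^ 2 + z ^ 2 * d a - k o) * hu)
    have u0 : u ≠ 0 := by omega
    have e1 : k x * d x = u * (z ^ 2 * -d a) := by rw [hk, tx]; ring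
    have e2 : k y * d y = u * (z ^ 2 * -d a) := by rw [hk, ty]; ring
    have i2 : k x + k y = 6 * z ^ 2 := mul_left_cancel₀ u0 (by
      linear_combination hp0 - ko + (z ^ 2 + z ^ 2 * d a - k o) * hu - 3 * z ^ 2 * hu - z ^ 2 * r2)
    refine ⟨a, x, y, by rw [← r2, neg_neg], e0, i2, ?_, e1, e2⟩
    rw [r2] at e1 e2 ⊢
    exact mul_left_cancel₀ (mul_ne_zero two_ne_zero (mul_ne_zero u0 z0)) (by
      linear_combination k y * e1 + k x * e2 - k x * k y * (g0 - ho + r2) + u * (z ^ 2 * (z ^ 2 + z + 1)) * i2 +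
        k x * k y * z * hu)
  exfalso
  have ta := ht a _ _ _ a0 a1 a2 (by simp)
  have tb := ht b _ _ _ b0 b1 b2 (by simp)
  have cop : IsCoprime u z := ⟨2, -1, by linear_combination hu⟩
  obtain ⟨A, rfl⟩ : z ^ 2 ∣ N := cop.symm.pow_left.dvd_of_dvd_mul_right ⟨-d a, by linear_combination -ka + d a * hka - N * ta⟩
  have da : d a = -(u * A) := mul_left_cancel₀ (pow_ne_zero 2 z0) (by linear_combination -ka + d a * hka - z ^ 2 * A * ta)
  have db : d b = -(u * A) := mul_left_cancel₀ (pow_ne_zero 2 z0) (by linear_combination -kb + d b * hkb - z ^ 2 * A * tb)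
  have hA : A % 8 = 7 := by
    have : (2 : ℤ) ^ 3 ∣ A + 1 := (show IsCoprime 2 u from ⟨-(u / 2), 1, by omega⟩).pow_left.dvd_of_dvd_mul_left
      (by have := (h8 a).neg_right; rwa [da, ta, show -(-(u * A) - (u * (1 + 0) - z * 0)) = u * (A + 1) by ring] at this)
    omega
  rw [ho, t0] at ko
  obtain ⟨x, y, x0, y0, x1, ox, e0⟩ : ∃ x y, P 0 x = 1 ∧ P 0 y = 1 ∧ P 1 x = 1 ∧ o ≠ x ∧
      ∀ F : ι → ℤ, ∑ χ, P 0 χ * F χ = F o + F a + F x + F y := by
    obtain ⟨x, y, x0, y0, ox, oy, e0⟩ := ar_e2 (h01 0) (h4 0) o0 a0 (ne 1 _ _ (by omega))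
    have f1 := (e0 _).symm.trans (h2 0 1 (by decide))
    rcases h01 1 x with e | e
    · exact ⟨y, x, y0, x0, by omega, oy, fun F => by rw [e0]; ring⟩
    · exact ⟨x, y, x0, y0, e, ox, e0⟩
  have f1 := (e0 _).symm.trans (h2 0 1 (by decide))
  have f2 := (e0 _).symm.trans (h2 0 2 (by decide))
  have g0 := (e0 _).symm.trans (hdeg 0)
  rcases h01 2 x with x2 | x2
  · obtain ⟨c, c1, e1⟩ := ar_e3 (h01 1) (h4 1) o1 b1 x1 (ne 0 _ _ (by omega)) ox (ne 0 _ _ (by omega))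
    have f3 := (e1 _).symm.trans (h2 1 0 (by decide))
    have f4 := (e1 _).symm.trans (h2 1 2 (by decide))
    obtain ⟨g, g2, e2⟩ := ar_e3 (h01 2) (h4 2) o2 (show P 2 y = 1 by omega) (show P 2 c = 1 by omega) (ne 1 _ _ (by omega))
      (ne 0 _ _ (by omega)) (ne 0 _ _ (by omega))
    have f5 := (e2 _).symm.trans (h2 2 0 (by decide))
    have f6 := (e2 _).symm.trans (h2 2 1 (by decide))
    have tx := ht x 1 1 0 x0 x1 x2 (by simp)
    have ty := ht y 1 0 1 y0 (by omega) (by omega) (by simp)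
    have tc := ht c 0 1 1 (by omega) c1 (by omega) (by simp)
    have tg := ht g 0 0 1 (by omega) (by omega) g2 (by simp)
    have g1 := (e1 _).symm.trans (hdeg 1)
    have g2 := (e2 _).symm.trans (hdeg 2)
    have dc : d c = d y := by linear_combination g1 - g0 + da - db
    have kc : k c = k y := mul_right_cancel₀ (hd y) (by rw [hk y, ← dc, hk c, tc, ty]; ring)
    have h8g := h8 g
    rw [e0, t0, ta, tx, ty, hka] at hp0
    rw [e2, t0, ty, tc, tg, kc] at hp2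
    exact ar_two (A := A) (h := d x) (c := d y) (g := d g) (kh := k x) (kc := k y) (kg := k g) hz hu hp hq h11 (by omega) hA
      (by rw [tg] at h8g; simpa using h8g) (by linear_combination g0 - ho - da) (by linear_combination g2 - ho - dc)
      (by rw [hk, tx]; ring) (by rw [hk, ty]; ring) (by rw [hk, tg]; ring)
      (by linear_combination hp0 - ko - (z ^ 2 * A + k o) * hu) (by linear_combination hp2 - ko - (z ^ 2 * A + k o) * hu)
  · obtain ⟨g, g', g2, g2', -, -, e2⟩ := ar_e2 (h01 2) (h4 2) o2 x2 ox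
    have f3 := (e2 _).symm.trans (h2 2 0 (by decide))
    have f4 := (e2 _).symm.trans (h2 2 1 (by decide))
    have f5 := h01 0 g
    have f6 := h01 0 g'
    have f7 := h01 1 g
    have f8 := h01 1 g'
    have tx := ht x 1 1 1 x0 x1 x2 (by simp)
    have ty := ht y 1 0 0 y0 (by omega) (by omega) (by simp)
    have tg := ht g 0 0 1 (by omega) (by omega) g2 (by simp)
    have tg' := ht g' 0 0 1 (by omega) (by omega) g2' (by simp)
    have h8x := h8 x
    rw [e0, t0, ta, tx, ty, hka] at hp0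
    rw [e2, t0, tx, tg, tg'] at hp2
    exact ar_three (A := A) (B := d x) (c := d y) (kb := k x) (kc := k y) (k1 := k g) (k2 := k g') hz hu h11 hA
      (by rw [tx] at h8x; omega) (by linear_combination g0 - ho - da) (by rw [hk, tx]; linear_combination z ^ 2 * A * hu)
      (by rw [hk, ty]; ring) (by linear_combination hp0 - ko - (z ^ 2 * A + k o + k x) * hu)
      (by linear_combination hp2 - ko - (z ^ 2 * A + k o + k x) * hu)

theorem rr_arith {ι : Type*} [Fintype ι] {z u N : ℤ} {p n : ℕ} (hz : z % 8 = 5) (hu : 2 * u = z + 1) (hp : p.Prime)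
    (hq : z.natAbs = p ^ n) (h11 : 11 ≤ z.natAbs) (hN : 0 < N) {d tv k : ι → ℤ} {P : Fin 3 → ι → ℤ} {o a b : ι}
    {ea eb : ℤ} (hd : ∀ χ, 0 < d χ) (hk : ∀ χ, k χ * d χ = N * tv χ) (h8 : ∀ χ, 8 ∣ d χ - tv χ)
    (hP : ∀ i j, ∑ χ, P i χ * P j χ = if i = j then 4 else 2) (hdeg : ∀ i, ∑ χ, P i χ * d χ = 0)
    (hp0 : ∑ χ, P 0 χ * (tv χ * k χ) = z ^ 2 * (z + 1) * (z + 3))
    (hp1 : ∑ χ, P 1 χ * (tv χ * k χ) = z ^ 2 * (z + 1) * (z + 3))
    (hp2 : ∑ χ, P 2 χ * (tv χ * k χ) = z * (z + 1) ^ 2 * (z - 1))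
    (htv : ∀ χ, (∃ i, P i χ ≠ 0) → tv χ = u * (P 0 χ + P 1 χ) - z * P 2 χ)
    (ho : d o = 1) (ho' : ∀ i, P i o = 1) (h1 : ∀ χ, (∀ i, P i χ = 1) → d χ = 1 → χ = o)
    (hab : a ≠ b) (hea : ea = 1 ∨ ea = -1) (heb : eb = 1 ∨ eb = -1) (ha : ∃ i, P i a ≠ 0) (hb : ∃ i, P i b ≠ 0)
    (hw0 : ea * P 0 a + eb * P 0 b = -1) (hw1 : ea * P 1 a + eb * P 1 b = -1) (hw2 : ea * P 2 a + eb * P 2 b = 0)
    (hka : k a = -z ^ 2) (hkb : k b = -z ^ 2) :
    ∃ s : ι → ℤ, (∀ χ, s χ = 1 ∨ s χ = -1) ∧ s o = 1 ∧ RC z u N (fun χ => d χ * s χ) k (fun χ => P 0 χ * s χ) o := by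
  have u1 := fun i => ar_unit hd (by simpa using hP i i) (hdeg i)
  have u2 : ∀ i j χ, -1 ≤ P i χ - P j χ ∧ P i χ - P j χ ≤ 1 := fun i j χ => by
    by_cases e : i = j
    · simp [e]
    refine ar_unit (f := fun χ => P i χ - P j χ) hd ?_ (by simp only [sub_mul, sum_sub_distrib, hdeg, sub_zero]) χ
    simp only [sub_mul, mul_sub, sum_sub_distrib, hP]
    simp [e, Ne.symm e]
  obtain ⟨s, hs, hQ⟩ : ∃ s : ι → ℤ, (∀ χ, s χ = 1 ∨ s χ = -1) ∧ ∀ i χ, P i χ * s χ = 0 ∨ P i χ * s χ = 1 := by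
    refine ⟨fun χ => if ∃ i, P i χ = -1 then -1 else 1, fun χ => by dsimp only; split_ifs <;> simp, fun i χ => ?_⟩
    have := u1 i χ
    dsimp only
    split_ifs with h
    · obtain ⟨j, h⟩ := h
      have := u2 i j χ
      omega
    · have := not_exists.1 h i
      omega
  have ss : ∀ χ, s χ * s χ = 1 := fun χ => by rcases hs χ with h | h <;> simp [h]
  have s0 : ∀ χ, s χ ≠ 0 := fun χ => left_ne_zero_of_mul ((ss χ).trans_ne one_ne_zero)
  have so : s o = 1 := by have := hQ 0 o; have := hs o; rw [ho'] at *; omega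
  have key : ∀ a b, k a = -z ^ 2 → k b = -z ^ 2 → P 0 a * s a = 1 → P 0 b * s b = 0 →
      (P 1 a * s a = 1 ∧ P 2 a * s a = 1 ∧ P 1 b * s b = 0 ∧ P 2 b * s b = 1) ∨
        (P 1 a * s a = 0 ∧ P 2 a * s a = 0 ∧ P 1 b * s b = 1 ∧ P 2 b * s b = 0) → _ := fun a b =>
    rr_arith' (d := fun χ => d χ * s χ) (tv := fun χ => tv χ * s χ) (P := fun i χ => P i χ * s χ) (o := o) hz hu hp hq h11 hN
      (fun χ => mul_ne_zero (hd χ).ne' (s0 χ)) (fun χ => by linear_combination s χ * hk χ)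
      (fun χ => by rw [← sub_mul]; exact (h8 χ).mul_right _) hQ
      (fun i j => (sum_congr rfl fun χ _ => by linear_combination P i χ * P j χ * ss χ).trans (hP i j))
      (fun i => (sum_congr rfl fun χ _ => by linear_combination P i χ * d χ * ss χ).trans (hdeg i))
      ((sum_congr rfl fun χ _ => by linear_combination P 0 χ * (tv χ * k χ) * ss χ).trans hp0)
      ((sum_congr rfl fun χ _ => by linear_combination P 2 χ * (tv χ * k χ) * ss χ).trans hp2)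
      (fun χ ⟨i, h⟩ => by linear_combination s χ * htv χ ⟨i, left_ne_zero_of_mul h⟩) (by simp [ho, so]) (by simp [ho', so])
  refine ⟨s, hs, so, ?_⟩
  have nz : ∀ a, (∃ i, P i a ≠ 0) → P 0 a * s a ≠ 0 ∨ P 1 a * s a ≠ 0 ∨ P 2 a * s a ≠ 0 := fun a ⟨i, h⟩ => by
    have := mul_ne_zero h (s0 a)
    fin_cases i
    exacts [.inl this, .inr (.inl this), .inr (.inr this)]
  have pm : ∀ e a, e = 1 ∨ e = -1 → e * s a = 1 ∨ e * s a = -1 := fun e a h => by
    rcases hs a with h' | h' <;> rw [h'] <;> omega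
  rcases ar_cases (pm _ a hea) (pm _ b heb) (hQ 0 a) (hQ 1 a) (hQ 2 a) (hQ 0 b) (hQ 1 b) (hQ 2 b) (nz a ha) (nz b hb)
    (by linear_combination hw0 + ea * P 0 a * ss a + eb * P 0 b * ss b)
    (by linear_combination hw1 + ea * P 1 a * ss a + eb * P 1 b * ss b)
    (by linear_combination hw2 + ea * P 2 a * ss a + eb * P 2 b * ss b) with h | h
  · exact key a b hka hkb h.1 h.2.1 h.2.2
  · exact key b a hkb hka h.1 h.2.1 h.2.2
end

namespace WD
variable (d : WD t v s ξ A K Φ T F) (h : Th2 (K ⊔ Φ) (T ⊔ Φ) (4 * Nat.card Φ) θ (zz (Fintype.card F)) u)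
  (m : Mu (T ⊔ Φ ⊔ zpowers v ⊔ zpowers t) T μ)
include d h m

theorem rr_main (V : Val t dg tv k) : ∃ s : Irr (⊤ : Subgroup G) → ℤ, (∀ χ, s χ = 1 ∨ s χ = -1) ∧ s ⟨_, cut_one_mem ⊤⟩ = 1 ∧
    RC 𝐳 u (𝐂[t]).index (fun χ => dg χ * s χ) k (fun χ => vec (𝐏 0) χ * s χ) ⟨_, cut_one_mem ⊤⟩ := by
  classical
  have j := d.j
  have hz := d.z11
  have gg : ∀ i i', dot ⊤ (𝐠 i) (𝐠 i') = if i = i' then 3 else 2 := fun i i' => by
    rw [d.dot_g (d.ml m i) (d.ml m i'), d.dot_nu_pow m]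
  have g1 : ∀ i, (𝐠 i) 1 = 0 := fun i => d.g_sq (d.ml m i) (one_mul 1)
  obtain ⟨ε', hε', η', e1, e2, e3⟩ := exists_exceptional (K := ⊤) 0 (fun i => (𝐠 i) - 𝐠 0) (fun _ _ => by simp)
    (fun i => (d.gen_g m i).sub (d.gen_g m 0)) (fun i => by rw [Pi.sub_apply, g1, g1, sub_zero])
    (fun i hi => by simp only [dot_sub_left, dot_sub_right, gg, hi, hi.symm, if_true, if_false]; norm_num)
    fun i i' hi hi' e => by simp only [dot_sub_left, dot_sub_right, gg, hi, hi'.symm, e, if_true, if_false]; norm_num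
  obtain ⟨ε, hε, rfl⟩ : ∃ ε : ℤ, (ε = 1 ∨ ε = -1) ∧ ε' = -ε := by
    rcases hε' with rfl | rfl
    exacts [⟨-1, .inr rfl, by simp⟩, ⟨1, .inl rfl, by simp⟩]
  have hη : Function.Injective fun i => (⟨η' i, e1 i⟩ : Irr (⊤ : Subgroup G)) := fun i i' e => e2 (congrArg Subtype.val e)
  have gJ := fun l => d.spE.gen_II (d.gen_pi h m l)
  have gP := fun i : Fin 3 => d.spE.gen_II (h.gen_sub 0 i.succ)
  have gd := fun i => vec_apply (d.gen_g m i) V.deg (n := 0) ((g1 i).trans Int.cast_zero.symm)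
  have Jd := fun l => vec_apply (gJ l) V.deg (n := 0) ((d.spE.II_odd (d.odd_pi h l) (by simp)).trans Int.cast_zero.symm)
  obtain ⟨a, b, c, ea, eb, ec, hea, heb, hec, hab, hc, hb, hac, ha, hg, hJ, hJ0⟩ := wcomb V.pos hη hε (fun i χ => by
    refine Int.cast_injective (α := ℂ) ?_
    have := congrArg (dot ⊤ χ.1) (e3 i)
    rw [dot_cut_right, dot_sub_right, dot_smul_right, dot_sub_right, dot_irr χ.2 (e1 i), dot_irr χ.2 (e1 0)] at this
    simp only [Int.cast_sub, vec_cast (d.gen_g m _), this, Subtype.ext_iff]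
    simp
    split_ifs <;> simp) (fun i => vec_dot (d.gen_g m i) (d.gen_g m i) (by simp [gg])) gd
    (fun l => vec_dot (gJ l) (gJ l) (by
      rw [d.spE.dot_II_II (d.gen_pi h m l).classOn (d.odd_pi h l) (d.odd_pi h l), d.pi_norm h (d.ml m l)]; norm_num)) Jd
    fun l i => vec_dot (d.gen_g m i) (gJ l) (d.J_g h m l i)
  have PP : ∀ i i' : Fin 3, ∑ χ, vec (𝐏 i) χ * vec (𝐏 i') χ = if i = i' then 4 else 2 := fun i i' =>
    vec_dot (gP i) (gP i') (by rw [d.spE.dot_II_II (h.gen_sub _ _).classOn (h.odd_sub _ _) (h.odd_sub _ _), h.gram])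
  have Pg := fun i l => (hg l (vec (𝐏 i))).symm.trans (vec_dot (d.gen_g m l) (gP i) (d.P_g h m i l))
  have P0 := three_copies PP hη fun i l => by have := Pg i l; have := Pg i 0; rcases hε with rfl | rfl <;> omega
  have hw := fun i => Pg i 0
  simp only [P0, mul_zero, sub_zero] at hw
  have tP : ∀ χ : Irr (⊤ : Subgroup G), (∃ i : Fin 3, vec (𝐏 i) χ ≠ 0) → ∀ y ∈ 𝐄, Odd (orderOf y) →
      χ.1 (t * y) = -∑ i : Fin 3, vec (𝐏 i) χ * θ i.succ y := fun χ ⟨i, hi⟩ y hy o => by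
    simp only [vec_cast (gP _), d.spE.dot_II (irrOn_of_mem χ.2).classOn]
    exact h.tw_eq d.spE χ.2 (j := i.succ) (by
      rw [← d.spE.dot_II (irrOn_of_mem χ.2).classOn, ← vec_cast (gP i)]; exact_mod_cast hi) hy o.not_two_dvd_nat
  have htv : ∀ χ, (∃ i : Fin 3, vec (𝐏 i) χ ≠ 0) → tv χ = u * (vec (𝐏 0) χ + vec (𝐏 1) χ) - 𝐳 * vec (𝐏 2) χ := fun χ e => by
    have := tP χ e 1 (one_mem _) (by simp)
    rw [mul_one, V.val, Fin.sum_univ_three] at this
    refine Int.cast_injective (α := ℂ) (this.trans ?_)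
    simp [h.d1, h.d2, h.d3]
    ring
  have hN : (0 : ℤ) < (𝐂[t]).index := by exact_mod_cast Nat.pos_of_ne_zero index_ne_zero_of_finite
  have gt := fun i => (hg i tv).symm.trans (vec_apply (d.gen_g m i) V.val (n := 0)
    ((d.g_sq (d.ml m i) j.tt).trans Int.cast_zero.symm))
  have gp := (hg 0 _).symm.trans (vec_sum (d.gen_g m 0) (class_nI ⊤) V.pair (n := 0) (by rw [d.nI_g (d.ml m 0)]; simp))
  have gd' := fun i => (hg i dg).symm.trans (gd i)
  have Jt := (hJ0 tv).symm.trans (vec_apply (gJ 0) V.val (n := 4 * (𝐳 + 1)) (by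
    have := d.spE.II_mul (d.gen_pi h m 0).classOn (d.odd_pi h 0) (one_mem _) (by simp)
    have k3 : 2 * (u : ℂ) = 𝐳 + 1 := by exact_mod_cast h.hu
    rw [mul_one] at this
    rw [this, Pi.sub_apply, ind_one d.OE, Pi.sub_apply 1, (d.ml m 0).lin.2]
    simp only [Pi.sub_apply, Pi.add_apply, h.zero 1 (one_mem _), h.d1, h.d2, h.d3, Pi.one_apply]
    push_cast
    linear_combination 2 * k3))
  have Jp := (hJ0 _).symm.trans (vec_sum (gJ 0) (class_nI ⊤) V.pair (d.pr_J h m 0))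
  have Jd' := (hJ0 dg).symm.trans (Jd 0)
  have sg : ∀ {e : ℤ} (_ : e = 1 ∨ e = -1) χ, e * dg χ ≠ 0 := fun he χ => by have := V.pos χ; rcases he with rfl | rfl <;> omega
  have cn : ∀ (e : ℤ) χ, k χ * (e * dg χ) = (𝐂[t]).index * (e * tv χ) := fun e χ => by linear_combination e * V.cen χ
  have kη : ∀ i, ε * (tv ⟨η' i, e1 i⟩ * k ⟨η' i, e1 i⟩) = ε * tv ⟨η' 0, e1 0⟩ * k ⟨η' 0, e1 0⟩ := fun i => by
    have h1 : ε * tv ⟨η' i, e1 i⟩ = ε * tv ⟨η' 0, e1 0⟩ := by linear_combination gt 0 - gt i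
    have h2 : ε * dg ⟨η' i, e1 i⟩ = ε * dg ⟨η' 0, e1 0⟩ := by linear_combination gd' 0 - gd' i
    rw [← mul_assoc, h1, mul_right_cancel₀ (sg hε ⟨η' 0, e1 0⟩) ((h2 ▸ h1 ▸ cn ε _).trans (cn ε _).symm : k ⟨η' i, e1 i⟩ * _ = _)]
  obtain ⟨kab, hk⟩ := wnum (z := 𝐳) (by omega) (sg hea a) (sg heb b) (sg hε ⟨η' 0, e1 0⟩) (cn ea a) (cn eb b) (cn ec c) (cn ε _)
    (by linear_combination gd' 0) (by linear_combination gt 0) (by linear_combination gp)
    (by linear_combination Jd' - gd' 1 + gd' 2) (by linear_combination Jt - gt 1 + gt 2)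
    (by linear_combination Jp - kη 2 + kη 0 + kη 1)
  have hu := h.hu
  have w0 := hw 0
  have w1 := hw 1
  have w2 := hw 2
  simp only [Fin.reduceEq, if_true, if_false] at w0 w1 w2
  have nz : ∀ a b : Irr (⊤ : Subgroup G), k a = k b → vec (𝐏 0) a = vec (𝐏 1) a → vec (𝐏 0) a ≠ 0 → vec (𝐏 2) a = 0 → tv b ≠ 0 :=
    fun a b e h1 h2 h3 h4 => by
    have h5 := V.cen a
    have h6 := V.cen b
    rw [h4, mul_zero] at h6
    rw [e, (mul_eq_zero.1 h6).resolve_right (V.pos b).ne', zero_mul, htv a ⟨0, h2⟩, ← h1, h3] at h5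
    refine mul_ne_zero hN.ne' (mul_ne_zero (by omega : u ≠ 0) (by omega : 2 * vec (𝐏 0) a ≠ 0)) (by linear_combination -h5)
  have hb' : ∀ i, (⟨η' i, e1 i⟩ : Irr (⊤ : Subgroup G)) ≠ b := fun i e => hb (Finset.mem_image.2 ⟨i, Finset.mem_univ _, e⟩)
  have ha' : ∀ i, (⟨η' i, e1 i⟩ : Irr (⊤ : Subgroup G)) ≠ a := fun i e => ha (Finset.mem_image.2 ⟨i, Finset.mem_univ _, e⟩)
  have hc' : ∀ i, (⟨η' i, e1 i⟩ : Irr (⊤ : Subgroup G)) ≠ c := fun i e =>
    hc (Finset.mem_insert_of_mem (Finset.mem_image.2 ⟨i, Finset.mem_univ _, e⟩))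
  have Pb : ∃ i : Fin 3, vec (𝐏 i) b ≠ 0 := by
    by_contra! h0
    rw [h0] at w0 w1 w2
    have : vec (𝐏 0) a ≠ 0 := by rcases hea with rfl | rfl <;> omega
    exact d.case3 h m V hη hε heb hec hb' hc' (fun e => hc (e ▸ Finset.mem_insert_self _ _)) hg (fun l => (hJ l).2) hJ0 this h0
      (nz a b kab (by rcases hea with rfl | rfl <;> omega) this (by rcases hea with rfl | rfl <;> omega))
  have Pa : ∃ i : Fin 3, vec (𝐏 i) a ≠ 0 := by
    by_contra! h0
    rw [h0] at w0 w1 w2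
    have : vec (𝐏 0) b ≠ 0 := by rcases heb with rfl | rfl <;> omega
    exact d.case3 h m V hη hε hea hec ha' hc' hac.symm (fun i f => by rw [hg, add_comm (ea * _)]) (fun l => (hJ l).1) hJ0 this h0
      (nz b a kab.symm (by rcases heb with rfl | rfl <;> omega) this (by rcases heb with rfl | rfl <;> omega))
  have hka := hk (by
    linear_combination -gt 0 + ea * htv a Pa + eb * htv b Pb + u * w0 + u * w1 - 𝐳 * w2 - hu)
  obtain ⟨p, n, hp, hq, -⟩ := j.phi_dvd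
  have pr := fun i => vec_sum (gP i) (class_nI ⊤) V.pair (d.pr_P h i)
  exact rr_arith (P := fun i => vec (𝐏 i)) (o := ⟨_, cut_one_mem ⊤⟩) (zz_mod j.mod) hu hp
    ((zz_natAbs _).trans hq) hz hN V.pos V.cen V.eight PP
    (fun i => vec_apply (gP i) V.deg (n := 0) ((d.spE.II_odd (h.odd_sub _ _) (by simp)).trans Int.cast_zero.symm))
    (pr 0) (pr 1) (pr 2) htv (Int.cast_injective (α := ℂ) (by rw [← V.deg]; simp)) (fun i => vec_of (gP i) (by
      change dot ⊤ (cut ⊤ 1) _ = _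
      rw [cut_top, d.spE.dot_II (classOn_one _), dot_congr_left (φ := tw t 1) (φ' := θ 0) fun y hy => (h.zero y hy).symm, dot_sub_right, h.orth,
        h.orth, if_pos rfl, if_neg (Fin.succ_ne_zero i).symm]
      simp)) (fun χ h1 h2 => Subtype.ext ((irr_eq_one_iff χ.2).2 fun g _ => j.eq_one ((irrOn_of_mem χ.2).linOn
        (by rw [V.deg, h2, Int.cast_one])) (fun y hy o => by
      have := h.od y hy o.not_two_dvd_nat
      rw [Fin.sum_univ_succ, h.zero y hy] at this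
      rw [tP χ ⟨0, by rw [h1]; exact one_ne_zero⟩ y hy o]
      simp only [h1, Int.cast_one, one_mul]
      linear_combination -this) g)) hab hea heb Pa Pb w0 w1 w2 hka (kab ▸ hka)

end WD

theorem rr_vanish (χ : Irr (⊤ : Subgroup G)) (h1 : χ.1 1 = n) {β e p : ℕ} (hG : Nat.card G = β * e) (hc : β.Coprime e)
    (hd : (β : ℤ) ∣ n) (hp : p.Prime) (h2 : p ∣ β) (h3 : p ∣ orderOf g) : χ.1 g = 0 := by
  have hi : IsIrrCharacter G χ.1 := mem_Irr_top.1 χ.2
  have h4 : (charDegree χ.1 : ℤ) = n := Int.cast_injective (α := ℂ) (by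
    rw [← h1, (irrOn_of_mem χ.2).one_eq]; simp)
  refine Small.apply_eq_zero_of_defectZero hp (χ := ⟨χ.1, hi⟩) (le_antisymm (Block2.factorization_deg_le p hi) ?_) h3
  have h5 : β ∣ charDegree χ.1 := by exact_mod_cast h4 ▸ hd
  have h0 : β * e ≠ 0 := hG ▸ Nat.card_pos.ne'
  rw [hG, Nat.factorization_mul (left_ne_zero_of_mul h0) (right_ne_zero_of_mul h0), Finsupp.add_apply,
    Nat.factorization_eq_zero_of_not_dvd (n := e) fun e' => hp.ne_one (Nat.eq_one_of_dvd_coprimes hc h2 e'), add_zero]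
  exact (Nat.factorization_le_iff_dvd (left_ne_zero_of_mul h0) (Block2.deg_ne_zero hi)).2 h5 p

theorem rr_complex {ι : Type*} [Fintype ι] {P s : ι → ℤ} {o a x y : ι} (hs : ∀ χ, s χ = 1 ∨ s χ = -1)
    (h : ∀ F : ι → ℤ, ∑ χ, P χ * s χ * F χ = F o + F a + F x + F y) (F : ι → ℂ) :
    ∑ χ, (P χ : ℂ) * F χ = s o * F o + s a * F a + s x * F x + s y * F y := by
  classical
  have h1 : ∀ ψ, P ψ = (if o = ψ then s o else 0) + (if a = ψ then s a else 0) + (if x = ψ then s x else 0) +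
      (if y = ψ then s y else 0) := fun ψ => by
    have := h fun χ => if χ = ψ then s χ else 0
    rw [← this, Finset.sum_eq_single ψ (fun χ _ e => by simp [e]) (by simp), if_pos rfl]
    rcases hs ψ with e | e <;> simp [e]
  simp only [h1]
  push_cast
  simp [add_mul, Finset.sum_add_distrib]

/-- no element has order divisible by primes dividing `q + 1 + √(3q)` and `q + 1 - √(3q)` -/
theorem WD.nomix (d : WD t v s ξ A K Φ T F) {q r α β e p p' : ℕ} (hz : 𝐳 = -(q : ℤ)) (hr : r ^ 2 = 3 * q)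
    (hα : α = q + 1 + r) (hβ : β + r = q + 1) (hN : (𝐂[t]).index = q ^ 2 * (α * β)) (hG : Nat.card G = α * β * e)
    (c1 : α.Coprime (β * e)) (c2 : β.Coprime (α * e)) (c3 : (α * β).Coprime r) (ho : Odd (orderOf g))
    (hp : p.Prime) (hp' : p'.Prime) (h1 : p ∣ α) (h2 : p' ∣ β) (h3 : p ∣ orderOf g) (h4 : p' ∣ orderOf g) : False := by
  obtain ⟨θ, u, h⟩ := d.exists_th2
  obtain ⟨μ, m⟩ := d.exists_mu
  obtain ⟨dg, tv, k, V⟩ := d.j.exists_val
  obtain ⟨σ, hs, so, a, x, y, e1, e2, e3, e4, e5, e6⟩ := d.rr_main h m V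
  have gP := d.spE.gen_II (h.gen_sub 0 (Fin.succ 0))
  have e7 := d.spE.II_odd (h.odd_sub 0 (Fin.succ 0)) ho
  rw [gP.classOn.eq_sum (mem_top g), ← Finset.sum_coe_sort] at e7
  have e8 := rr_complex hs e2 fun χ => χ.1 g
  rw [Finset.sum_congr rfl fun χ _ => by rw [vec_cast gP, ← gP.dot_comm (irrOn_of_mem χ.2).genOn], e7, so] at e8
  have q0 : (q : ℤ) ≠ 0 := fun e => by have := d.z11; omega
  have hr' : (r : ℤ) ^ 2 = 3 * q := by exact_mod_cast hr
  have r0 : (r : ℤ) ≠ 0 := fun e => by rw [e] at hr'; omega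
  have hα' : (α : ℤ) = q + 1 + r := by exact_mod_cast hα
  have hβ' : (β : ℤ) = q + 1 - r := by have : (β : ℤ) + r = q + 1 := by exact_mod_cast hβ
                                       omega
  have α0 : (α : ℤ) ≠ 0 := by omega
  have β0 : (β : ℤ) ≠ 0 := fun e => by
    have : β = 0 := by exact_mod_cast e
    rw [this, mul_zero, mul_zero] at hN
    exact index_ne_zero_of_finite hN
  have sd : ∀ (b : ℤ) χ, b ∣ dg χ * σ χ → b ∣ dg χ := fun b χ e => by rcases hs χ with e' | e' <;> simpa [e'] using e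
  have va : ∀ χ : Irr (⊤ : Subgroup G), (α : ℤ) ∣ dg χ * σ χ → χ.1 g = 0 := fun χ e =>
    rr_vanish χ (V.deg χ) (hG.trans (mul_assoc _ _ _)) c1 (sd _ _ e) hp h1 h3
  have vb : ∀ χ : Irr (⊤ : Subgroup G), (β : ℤ) ∣ dg χ * σ χ → χ.1 g = 0 := fun χ e =>
    rr_vanish χ (V.deg χ) (hG.trans (by ring)) c2 (sd _ _ e) hp' h2 h4
  have ca : IsCoprime (α : ℤ) r := Nat.isCoprime_iff_coprime.2 (Nat.Coprime.coprime_mul_right c3)
  have cb : IsCoprime (β : ℤ) r := Nat.isCoprime_iff_coprime.2 (Nat.Coprime.coprime_mul_left c3)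
  simp only [hN, hz] at e1 e3 e4 e5 e6
  push_cast at e4 e5 e6
  have vk : ∀ χ : Irr (⊤ : Subgroup G), k χ * (dg χ * σ χ) = u * (q ^ 2 * (α * β)) →
      (k χ - q * r * α) * (k χ + q * r * β) = 0 → χ.1 g = 0 := fun χ e e' => by
    rcases mul_eq_zero.1 e' with e' | e'
    · refine vb χ (cb.dvd_of_dvd_mul_left ⟨u * q, mul_left_cancel₀ (mul_ne_zero q0 α0) ?_⟩)
      linear_combination e - dg χ * σ χ * e'
    · refine va χ (ca.dvd_of_dvd_mul_left ⟨-u * q, mul_left_cancel₀ (mul_ne_zero q0 β0) ?_⟩)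
      linear_combination -e + dg χ * σ χ * e'
  rw [va a ⟨-β, by rw [e1, hα', hβ']; linear_combination -hr'⟩,
    vk x e5 (by linear_combination k x * e3 - e4 - k x * q * r * (hα' - hβ') - (2 * k x * q + q ^ 2 * α * β) * hr'),
    vk y e6 (by linear_combination k y * e3 - e4 - k y * q * r * (hα' - hβ') - (2 * k y * q + q ^ 2 * α * β) * hr')] at e8
  simp at e8

end Cfsg.Lib.JTW
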