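import Cfsg.Agent.Lib.Exc.Basic
import Cfsg.Agent.Lib.FG.Count
import Cfsg.Agent.S0237

/-! Counting products of two involutions: general bounds. -/

set_option autoImplicit false
set_option linter.unusedSectionVars false

namespace Cfsg.Lib.Exc.Ree

open Subgroup Finset
open scoped Classical

variable {G : Type*} [Group G] [Fintype G] {t g x : G}

theorem inv_of_pair (ht : t * t = 1) {u : G} (h1 : IsConj t u) (h2 : IsConj t (u⁻¹ * g)) : u * g * u⁻¹ = g⁻¹ := by
  have sq : ∀ y, IsConj t y → y * y = 1 := fun y h => by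
    obtain ⟨c, rfl⟩ := isConj_iff.1 h
    rw [conj_mul, ht]; simp
  have e1 := sq u h1
  have e2 := sq _ h2
  rw [inv_eq_of_mul_eq_one_right e1] at e2 ⊢
  rw [eq_inv_iff_mul_eq_one, mul_assoc (u * g), e2]

theorem pc_zero (ht : t * t = 1) (h : ¬ IsConj g g⁻¹) : pairCount t t g = 0 :=
  Invol.card_eq_zero_of_forall fun u hu => h (isConj_iff.2 ⟨u, inv_of_pair ht hu.1 hu.2⟩)

theorem pc_le (ht : t * t = 1) (g : G) : pairCount t t g ≤ cc g := by
  by_cases h : IsConj g g⁻¹
  · rw [cc, ← Agent.S0237.result g h]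
    exact Invol.card_le_of_imp fun u hu => inv_of_pair ht hu.1 hu.2
  · rw [pc_zero ht h]; exact Nat.zero_le _

theorem sum_cls (x : G) : ∑ g with IsConj x g, cc g = Nat.card G := by
  rw [sum_congr rfl fun g hg => (cc_of_isConj (mem_filter.1 hg).2).symm, sum_const, Char.card_filter_isConj, smul_eq_mul,
    mul_comm, cc_mul_ix]

theorem cls_bound (X : Finset G) {k : ℕ} (h : ∀ x ∈ X, k ≤ #{y ∈ X | IsConj x y}) :
    k * ∑ g with (∃ x ∈ X, IsConj x g), cc g ≤ #X * Nat.card G := by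
  calc _ = ∑ g with (∃ x ∈ X, IsConj x g), k * cc g := mul_sum _ _ _
    _ ≤ ∑ g with (∃ x ∈ X, IsConj x g), ∑ y ∈ X with IsConj y g, cc g := sum_le_sum fun g hg => by
        obtain ⟨x, hx, e⟩ := (mem_filter.1 hg).2
        rw [sum_const, smul_eq_mul]
        exact Nat.mul_le_mul_right _ ((h x hx).trans (card_le_card fun y hy =>
          mem_filter.2 ⟨(mem_filter.1 hy).1, (mem_filter.1 hy).2.symm.trans e⟩))
    _ ≤ ∑ g, ∑ y ∈ X with IsConj y g, cc g := sum_le_sum_of_subset (filter_subset _ _)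
    _ = ∑ y ∈ X, ∑ g with IsConj y g, cc g := by simp only [sum_filter]; exact sum_comm
    _ = _ := by simp only [sum_cls, sum_const, smul_eq_mul]

theorem sum_pc (p : G → Prop) [DecidablePred p] : ∑ g with p g, pairCount t t g =
    ∑ u with IsConj t u, #{v | IsConj t v ∧ p (u * v)} := by
  have := sum_pairCount_smul t t fun g => if p g then 1 else 0
  simp only [smul_eq_mul, mul_ite, mul_one, mul_zero] at this
  rw [sum_filter, this]
  exact sum_congr rfl fun u _ => by rw [← sum_filter, filter_filter, sum_const, smul_eq_mul, mul_one]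

theorem sq_of_isConj (ht : t * t = 1) {y : G} (h : IsConj t y) : y * y = 1 := by
  obtain ⟨c, rfl⟩ := isConj_iff.1 h
  rw [conj_mul, ht]; simp

theorem sum_two (ht : t * t = 1) : ∑ g with g * g = 1, pairCount t t g ≤ Nat.card G := by
  rw [sum_pc, ← sum_cls t]
  refine sum_le_sum fun u hu => ?_
  rw [cc, Nat.card_eq_fintype_card, Fintype.card_subtype]
  refine card_le_card fun v hv => ?_
  simp only [mem_filter, mem_univ, true_and] at hu hv ⊢
  have e1 := sq_of_isConj ht hu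
  have e2 := sq_of_isConj ht hv.1
  rw [mem_centralizer_singleton_iff, ← inv_eq_of_mul_eq_one_right hv.2, mul_inv_rev, inv_eq_of_mul_eq_one_right e1,
    inv_eq_of_mul_eq_one_right e2]

theorem sum_sub (p : G → Prop) [DecidablePred p] (B : Subgroup G)
    (h : ∀ u v, IsConj t u → IsConj t v → p (u * v) → ∃ c, c * u * c⁻¹ ∈ B ∧ c * v * c⁻¹ ∈ B) :
    Nat.card B * ∑ g with p g, pairCount t t g ≤ Nat.card G * #{u | IsConj t u ∧ u ∈ B} ^ 2 := by
  have e : ∀ c : G, #{u | IsConj t u ∧ c * u * c⁻¹ ∈ B} = #{u | IsConj t u ∧ u ∈ B} := fun c =>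
    card_bij' (fun u _ => c * u * c⁻¹) (fun u _ => c⁻¹ * u * c)
      (fun u hu => by
        simp only [mem_filter, mem_univ, true_and] at hu ⊢
        exact ⟨hu.1.trans (Invol.isConj_conj c u), hu.2⟩)
      (fun u hu => by
        simp only [mem_filter, mem_univ, true_and] at hu ⊢
        exact ⟨hu.1.trans (by simpa using Invol.isConj_conj c⁻¹ u), by simpa [mul_assoc] using hu.2⟩)
      (fun u _ => by group) fun u _ => by group
  calc _ = ∑ u with IsConj t u, ∑ v with IsConj t v ∧ p (u * v), Nat.card B := by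
        rw [sum_pc, mul_sum]; simp only [sum_const, smul_eq_mul, mul_comm]
    _ ≤ ∑ u with IsConj t u, ∑ v with IsConj t v ∧ p (u * v), #{c | c * u * c⁻¹ ∈ B ∧ c * v * c⁻¹ ∈ B} :=
        sum_le_sum fun u hu => sum_le_sum fun v hv => by
          obtain ⟨c, h1, h2⟩ := h u v (mem_filter.1 hu).2 (mem_filter.1 hv).2.1 (mem_filter.1 hv).2.2
          rw [Nat.card_eq_fintype_card, Fintype.card_subtype]
          refine card_le_card_of_injOn (fun b => b * c) (fun b hb => ?_) fun _ _ _ _ e => mul_right_cancel e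
          simp only [coe_filter, mem_univ, true_and, Set.mem_ofPred_eq] at hb ⊢
          exact ⟨by simpa [mul_assoc] using mul_mem (mul_mem hb h1) (inv_mem hb),
            by simpa [mul_assoc] using mul_mem (mul_mem hb h2) (inv_mem hb)⟩
    _ ≤ ∑ u with IsConj t u, ∑ v with IsConj t v, #{c | c * u * c⁻¹ ∈ B ∧ c * v * c⁻¹ ∈ B} :=
        sum_le_sum fun u _ => sum_le_sum_of_subset fun v hv => mem_filter.2 ⟨mem_univ _, (mem_filter.1 hv).2.1⟩
    _ = ∑ c : G, #{u | IsConj t u ∧ c * u * c⁻¹ ∈ B} * #{u | IsConj t u ∧ c * u * c⁻¹ ∈ B} := by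
        simp only [card_filter, sum_filter, sum_mul_sum]
        rw [sum_comm (γ := G) (s := univ) (t := univ) (f := fun c u => _)]
        refine sum_congr rfl fun u _ => ?_
        rw [sum_comm (γ := G) (s := univ) (t := univ) (f := fun c u => _)]
        split_ifs with h1
        · refine sum_congr rfl fun v _ => ?_
          split_ifs with h2
          · exact sum_congr rfl fun c _ => by simp only [h1, h2, true_and, ite_and, ite_mul, one_mul, zero_mul]
          · simp only [h2, false_and, if_false, mul_zero, sum_const_zero]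
        · simp only [h1, false_and, if_false, zero_mul, sum_const_zero]
    _ = _ := by simp only [e, sum_const, card_univ, smul_eq_mul, Nat.card_eq_fintype_card, sq]

theorem dvd_card {e : ℕ} (p : G → Prop) [DecidablePred p] (h1 : ∀ g x, p g → IsConj g x → p x) (h2 : ∀ g, p g → e ∣ ix g) :
    e ∣ #{g | p g} := by
  rw [card_eq_sum_card_fiberwise (f := ConjClasses.mk) (t := univ) fun _ _ => mem_univ _]
  refine dvd_sum fun c _ => ?_
  by_cases h : ∃ g, p g ∧ ConjClasses.mk g = c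
  · obtain ⟨g, h3, rfl⟩ := h
    rw [filter_filter, filter_congr (q := IsConj g) fun x _ => ⟨fun e => (ConjClasses.mk_eq_mk_iff_isConj.1 e.2).symm,
      fun e => ⟨h1 g x h3 e, ConjClasses.mk_eq_mk_iff_isConj.2 e.symm⟩⟩, Char.card_filter_isConj]
    exact h2 g h3
  · rw [filter_filter, filter_false_of_mem fun g _ e => h ⟨g, e⟩]; simp

theorem card_hall {a e : ℕ} (hG : Nat.card G = a * e) (h : ∀ g : G, g ≠ 1 → g ^ a = 1 → cc g ∣ a)
    (h6 : (a : ℤ) ∣ e - 6) (h1 : a % 6 = 1) : 6 * #{g : G | g ≠ 1 ∧ g ^ a = 1} = e * (a - 1) := by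
  obtain ⟨u, hu⟩ := dvd_card (e := e) (fun g : G => g ≠ 1 ∧ g ^ a = 1) (fun g x h1 h2 => by
      obtain ⟨c, rfl⟩ := isConj_iff.1 h2
      exact ⟨by simpa using h1.1, by rw [conj_pow, h1.2]; simp⟩) fun g hg => by
    obtain ⟨c, hc⟩ := h g hg.1 hg.2
    exact ⟨c, Nat.eq_of_mul_eq_mul_left (cc_pos g) (by rw [cc_mul_ix, hG]; nth_rw 1 [hc]; ring)⟩
  have h2 := FG.frobenius (G := G) (⟨e, hG⟩ : a ∣ _)
  have h3 : Nat.card {g : G // g ^ a = 1} = e * u + 1 := by
    rw [← hu, Invol.card_remove (p := fun g : G => g ^ a = 1) (a := 1) (one_pow a), Invol.card_eq_filter]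
    simp only [and_comm]
  have h4 : e * u + 1 ≤ a * e := by
    rw [← h3, ← hG]; exact Finite.card_subtype_le _
  have h5 : u < a := by nlinarith
  rw [h3] at h2
  obtain ⟨c, hc⟩ : a ∣ 6 * u + 1 := by
    have := (Int.natCast_dvd_natCast.2 h2).sub (h6.mul_right u)
    push_cast at this
    exact_mod_cast (show (e : ℤ) * u + 1 - (e - 6) * u = 6 * u + 1 by ring) ▸ this
  have h7 : c < 6 := by nlinarith
  obtain ⟨b, rfl⟩ : ∃ b, a = 6 * b + 1 := ⟨a / 6, by omega⟩
  have h8 : c = 1 := by interval_cases c <;> omega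
  rw [hu, mul_left_comm, show 6 * u = 6 * b + 1 - 1 by rw [h8] at hc; omega]

theorem sum_hall (ht : t * t = 1) {a e : ℕ} (hG : Nat.card G = a * e) (h : ∀ g : G, g ≠ 1 → g ^ a = 1 → cc g ∣ a)
    (h6 : (a : ℤ) ∣ e - 6) (h1 : a % 6 = 1) :
    6 * ∑ g with g ≠ 1 ∧ g ^ a = 1, pairCount t t g ≤ Nat.card G * (a - 1) ∧ ∀ x : G, x ≠ 1 → x ^ a = 1 → ¬ IsConj x x⁻¹ →
      6 * ∑ g with g ≠ 1 ∧ g ^ a = 1, pairCount t t g + 12 * Nat.card G ≤ Nat.card G * (a - 1) := by
  have e1 : 6 * ∑ g : G with g ≠ 1 ∧ g ^ a = 1, a = Nat.card G * (a - 1) := by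
    rw [sum_const, smul_eq_mul, ← mul_assoc, card_hall hG h h6 h1, hG]; ring
  have e2 : ∀ g ∈ ({g | g ≠ 1 ∧ g ^ a = 1} : Finset G), cc g ≤ a := fun g hg =>
    Nat.le_of_dvd (by omega) (h g (mem_filter.1 hg).2.1 (mem_filter.1 hg).2.2)
  refine ⟨e1 ▸ Nat.mul_le_mul_left _ (sum_le_sum fun g hg => (pc_le ht g).trans (e2 g hg)), fun x x1 x2 x3 => ?_⟩
  have e3 : ∀ y : G, y ≠ 1 → y ^ a = 1 → ∑ g with g ≠ 1 ∧ g ^ a = 1, (if IsConj y g then cc g else 0) = Nat.card G :=
    fun y y1 y2 => by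
      rw [← sum_filter, filter_filter, ← sum_cls y]
      refine sum_congr (filter_congr fun g _ => and_iff_right_of_imp fun e => ?_) fun _ _ => rfl
      obtain ⟨c, rfl⟩ := isConj_iff.1 e
      exact ⟨by simpa using y1, by rw [conj_pow, y2]; simp⟩
  have e4 : ∑ g with g ≠ 1 ∧ g ^ a = 1, (pairCount t t g + (if IsConj x g then cc g else 0) +
      (if IsConj x⁻¹ g then cc g else 0)) ≤ ∑ g : G with g ≠ 1 ∧ g ^ a = 1, a := sum_le_sum fun g hg => by
    have inv : ∀ {y z : G}, IsConj y z → IsConj y⁻¹ z⁻¹ := fun e => by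
      obtain ⟨c, rfl⟩ := isConj_iff.1 e
      exact isConj_iff.2 ⟨c, by group⟩
    have := e2 g hg
    split_ifs with c1 c2 c2
    · exact absurd (c1.trans c2.symm) x3
    · rw [pc_zero ht fun e => x3 ((c1.trans e).trans (inv c1).symm)]; omega
    · rw [pc_zero ht fun e => x3 (((by simpa using inv c2 : IsConj x g⁻¹).trans e.symm).trans c2.symm)]; omega
    · have := pc_le ht g; omega
  rw [sum_add_distrib, sum_add_distrib, e3 x x1 x2, e3 x⁻¹ (by simpa) (by simpa)] at e4
  omega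

end Cfsg.Lib.Exc.Ree
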