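import Cfsg.Agent.Lib.Exc.Ree1
import Cfsg.Agent.Lib.Exc.Ree2

/-! Groups of Ree type: every element of order dividing `q² - q + 1` is real. -/

set_option autoImplicit false
set_option linter.unusedSectionVars false

namespace Cfsg.Lib.JTW
open Subgroup Cfsg.Lib.Core Cfsg.Lib.BG1 Cfsg.Lib.Invol Cfsg.Lib.Wal Cfsg.Lib.Linear
open Cfsg.Lib.Amalg hiding le_cent_symm op_top
open Cfsg.Lib.Exc (cc ix pairCount)

universe u

theorem rr_num {q ρ τ r α β : ℕ} (h3 : 3 ∣ q) (h1 : 2 * ρ + 1 = q) (h2 : 4 * τ = q + 1) (hr : r ^ 2 = 3 * q)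
    (hα : α = q + 1 + r) (hβ : β + r = q + 1) :
    α * β = 2 * ρ * q + 1 ∧ (α * β).Coprime (q ^ 3 * (8 * ρ * τ)) ∧ α.Coprime β ∧ (α * β).Coprime r ∧ α % 6 = 1 ∧
      β % 6 = 1 ∧ (α : ℤ) ∣ (β * (q ^ 3 * (8 * ρ * τ)) : ℕ) - 6 ∧ (β : ℤ) ∣ (α * (q ^ 3 * (8 * ρ * τ)) : ℕ) - 6 := by
  have e1 : α * β = 2 * ρ * q + 1 := by
    zify at h1 hr hα hβ ⊢
    rw [hα, show (β : ℤ) = q + 1 - r by omega]
    linear_combination -hr - q * h1
  have c1 : (α * β).Coprime (2 * ρ * q) := by rw [e1]; simp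
  have c3 : (α * β).Coprime 3 := c1.coprime_dvd_right (h3.mul_left _)
  have c2 : (α * β).Coprime τ := Nat.coprime_of_dvd fun l hl a1 a2 => by
    have : l ∣ 3 := by
      refine (Nat.dvd_add_right (a2.mul_left (4 * (2 * ρ - 1)))).1 (a1.trans (dvd_of_eq ?_))
      obtain ⟨c, rfl⟩ : ∃ c, ρ = c + 1 := ⟨ρ - 1, by omega⟩
      rw [show 2 * (c + 1) - 1 = 2 * c + 1 by omega, e1, mul_comm 4, mul_assoc (2 * c + 1), h2, ← h1]; ring
    exact hl.ne_one (Nat.eq_one_of_dvd_coprimes c3 a1 this)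
  have cq : (α * β).Coprime q := Nat.Coprime.coprime_mul_left_right c1
  have c2' : (α * β).Coprime 2 := Nat.Coprime.coprime_mul_right_right (Nat.Coprime.coprime_mul_right_right c1)
  have cr : (α * β).Coprime r := (Nat.coprime_pow_right_iff two_pos _ _).1 (hr ▸ c3.mul_right cq)
  have r3 : 3 ∣ r := Nat.prime_three.dvd_of_dvd_pow ⟨q, hr⟩
  have r2 : r % 2 = 1 := by
    by_contra e
    have : 2 ∣ r ^ 2 := dvd_pow (by omega) two_ne_zero
    omega
  refine ⟨e1, (cq.pow_right 3).mul_right (((c2'.pow_right 3).mul_right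
    (Nat.Coprime.coprime_mul_left_right (Nat.Coprime.coprime_mul_right_right c1))).mul_right c2),
    Nat.coprime_of_dvd fun l hl a1 a2 => hl.ne_one (Nat.eq_one_of_dvd_coprimes (c2'.mul_right cr) (a1.mul_right _)
      ((Nat.dvd_add_right a2).1 (by rwa [show β + 2 * r = α by omega]))), cr, by omega, by omega, ?_, ?_⟩
  all_goals
    zify at h1 h2 hα hβ e1
    push_cast
  · exact ⟨-(q ^ 3 * (8 * ρ * τ)) + β * (2 * q ^ 4 + 4 * q ^ 3 - 6 * q - 6), by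
      linear_combination (q ^ 3 * (8 * ρ * τ)) * (hα + hβ) - (2 * q ^ 4 + 4 * q ^ 3 - 6 * q - 6) * (e1 + q * h1) +
        2 * (q + 1) * q ^ 3 * (2 * ρ * h2 + (q + 1) * h1)⟩
  · exact ⟨-(q ^ 3 * (8 * ρ * τ)) + α * (2 * q ^ 4 + 4 * q ^ 3 - 6 * q - 6), by
      linear_combination (q ^ 3 * (8 * ρ * τ)) * (hα + hβ) - (2 * q ^ 4 + 4 * q ^ 3 - 6 * q - 6) * (e1 + q * h1) +
        2 * (q + 1) * q ^ 3 * (2 * ρ * h2 + (q + 1) * h1)⟩

variable {G : Type u} [Group G] [Finite G] {t v w s ξ g x a : G} {A K T U R P : Subgroup G} {n r α β l : ℕ}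
  {F : Type} [Field F] [Fintype F]

/-- the local structure of a group of Ree type -/
structure RD (t v s ξ w : G) (A K T U R P : Subgroup G) (F : Type) [Field F] [Fintype F] (n r α β : ℕ) : Prop where
  d : WD t v s ξ A K ⊥ T F
  hq : Fintype.card F = 3 ^ n
  b : Bor w A K ⊥ U R n
  hU : U ≤ P
  bn : BN P (zpowers t ⊔ R ⊔ ⊥) (3 ^ n)
  hR : ∀ x ∈ R, x ≠ 1 → 𝐂[x] ≤ 𝐂[t]
  hr : r ^ 2 = 3 * 3 ^ n
  hα : α = 3 ^ n + 1 + r
  hβ : β + r = 3 ^ n + 1
  hN : (𝐂[t]).index = (3 ^ n) ^ 2 * (α * β)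

theorem exists_rd [IsSimpleGroup G] {E : Subgroup G} (j : JR A t E K) : Spor.IsoJ1 G ∨
    ∃ (v s ξ w : G) (T U R P : Subgroup G) (F : Type) (_ : Field F) (_ : Fintype F) (n r α β : ℕ),
      RD t v s ξ w A K T U R P F n r α β := by
  obtain ⟨F, _, _, hq, k⟩ := jg_of_jr j
  have h0 := k.phi_eq_bot hq
  rw [h0] at k
  by_cases h5 : Fintype.card F = 5
  · exact .inl (k.five h5).1
  obtain ⟨h1, m, w, U, R, P, h2, h3, b, hU, bn⟩ := k.mn_ree hq h5
  obtain ⟨v, a1, a2, a3⟩ := k.ind_v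
  obtain ⟨T, h⟩ := exists_tor k.mod k.iso.some a2 a3
  have hT := fun x => k.torus h a1 (by simp) (.inr rfl) (by simp) (x := x)
  obtain ⟨s, ξ, d⟩ := k.exists_wd h a1 hT (by simp) (by
    rw [coe_bot, inf_eq_left.2 fun y _ => mem_centralizer_singleton_iff.2 (by simp), Ne, h.eq_bot_iff]; omega)
  have e1 : (3 ^ (m + 1)) ^ 2 = 3 * 3 ^ (2 * m + 1) := by ring
  have e2 : 3 ^ (m + 1) ≤ 3 ^ (2 * m + 1) := Nat.pow_le_pow_right (by decide) (by omega)
  have e3 := h1.2.1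
  have c1 : (3 ^ (2 * m + 1)).Coprime (Nat.card R) := by rw [← b.Rcard]; simp
  have c2 : ((3 ^ (2 * m + 1)) ^ 2 - 3 ^ (2 * m + 1) + 1).Coprime (Nat.card R) := by
    rw [← b.Rcard, Nat.sub_eq_of_eq_add (c := (4 * Nat.card R + 2) * Nat.card R) (by ring)]; simp
  rw [h3] at e3 bn
  refine .inr ⟨v, s, ξ, w, T, U, R, P, F, _, _, 2 * m + 1, 3 ^ (m + 1), _, 3 ^ (2 * m + 1) + 1 - 3 ^ (m + 1), d, h3, b, hU, bn,
    fun r => k.cent_R h3 b h a1 hT (e3 ▸ (c1.pow_left 2).mul_left c2) (by simp), e1, rfl, by omega, ?_⟩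
  rw [e3]
  congr 1
  generalize 3 ^ (2 * m + 1) = q at *
  generalize 3 ^ (m + 1) = r at *
  zify [show q ≤ q ^ 2 from Nat.le_self_pow two_ne_zero q, show r ≤ q + 1 by omega] at e1 ⊢
  linear_combination e1

namespace RD
variable (c : RD t v s ξ w A K T U R P F n r α β)
include c

local notation "𝐪" => 3 ^ n
local notation "𝐞" => (3 ^ n) ^ 3 * (8 * Nat.card R * Nat.card T)

theorem odd : Odd n := c.d.j.odd_n c.hq

theorem zq : zz (Fintype.card F) = -((𝐪 : ℕ) : ℤ) := by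
  obtain ⟨k, hk⟩ := c.odd
  rw [zz, if_neg, c.hq]
  rw [c.hq, hk, pow_succ, pow_mul, Nat.mul_mod, Nat.pow_mod]; simp

theorem tau : 4 * Nat.card T = 𝐪 + 1 := by
  have := c.d.h.card
  rw [c.zq, abs_of_nonpos (by have : 1 ≤ 𝐪 := Nat.one_le_pow _ _ three_pos; omega)] at this
  omega

theorem num : α * β = 2 * Nat.card R * 𝐪 + 1 ∧ (α * β).Coprime 𝐞 ∧ α.Coprime β ∧ (α * β).Coprime r ∧ α % 6 = 1 ∧
    β % 6 = 1 ∧ (α : ℤ) ∣ (β * 𝐞 : ℕ) - 6 ∧ (β : ℤ) ∣ (α * 𝐞 : ℕ) - 6 :=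
  rr_num (dvd_pow_self 3 c.odd.pos.ne') c.b.Rcard c.tau c.hr c.hα c.hβ

theorem cct : Nat.card 𝐂[t] = 𝐪 * (8 * Nat.card R * Nat.card T) := by
  rw [c.d.j.card_cent, card_K c.d.j.mod c.d.j.iso.some, card_bot, mul_one, c.hq, Nat.sq_sub_sq _ 1, ← c.tau,
    show 𝐪 - 1 = 2 * Nat.card R by have := c.b.Rcard; omega]
  ring

theorem cardG : Nat.card G = α * β * 𝐞 := by rw [← (𝐂[t]).index_mul_card, c.hN, c.cct]; ring

theorem cardB : Nat.card 𝐍(P) = 𝐪 ^ 3 * (2 * Nat.card R) := by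
  have h1 := (𝐍(P)).index_mul_card
  have h2 := c.b.Rcard
  rw [c.bn.idx, c.cardG, c.num.1, show 𝐪 ^ 3 + 1 = (2 * Nat.card R * 𝐪 + 1) * (4 * Nat.card T) by rw [c.tau, ← h2]; ring] at h1
  exact Nat.eq_of_mul_eq_mul_left (Nat.mul_pos (Nat.add_one_pos _) (Nat.mul_pos four_pos Nat.card_pos)) (h1.trans (by ring))

theorem cc_two (ha : orderOf a = 2) : cc a ∣ 𝐞 := by
  obtain ⟨g, rfl⟩ := c.d.j.one a ha
  rw [Exc.cc_conj, cc, c.cct]
  exact mul_dvd_mul_right (dvd_pow_self _ three_ne_zero) _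

theorem memK (h : g ∈ 𝐂[t]) : g ∈ K ∨ g * t ∈ K := by simpa using c.d.j.cov g h

theorem conjC (hx : (orderOf x).Prime) (h3 : orderOf x ≠ 3) (h : ¬ orderOf x ∣ α * β) : ∃ k, 𝐂[k * x * k⁻¹] ≤ 𝐂[t] := by
  have := Fact.mk hx
  have x1 : x ≠ 1 := fun e => hx.ne_one (orderOf_eq_one_iff.2 e)
  by_cases h2 : orderOf x = 2
  · obtain ⟨g, rfl⟩ := c.d.j.one x h2
    exact ⟨g⁻¹, by rw [show g⁻¹ * (g * t * g⁻¹) * g⁻¹⁻¹ = t by group]⟩
  obtain ⟨S, hS⟩ := exists_syl (orderOf x) 𝐂[t]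
  obtain ⟨g, -, hg⟩ := (hS.of_le_of_not_dvd le_top (by
    rw [relIndex_top_right, c.hN, hx.dvd_mul]
    exact not_or.2 ⟨fun e => h3 ((Nat.prime_dvd_prime_iff_eq hx Nat.prime_three).1
      (hx.dvd_of_dvd_pow (hx.dvd_of_dvd_pow e))), h⟩)).exists_conj_le (P := zpowers x)
    (.of_card (n := 1) (by rw [Nat.card_zpowers, pow_one])) le_top
  have o1 : ∀ g : G, orderOf (g * x * g⁻¹) = orderOf x := fun g => (orderOf_of_isConj (isConj_conj g x)).symm
  have h4 : g * x * g⁻¹ ∈ K := by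
    simpa using c.d.j.mem_E_of_odd (hS.le (hg (conj_mem_cj g (mem_zpowers x)))) (o1 g ▸ hx.odd_of_ne_two h2)
  obtain ⟨k, -, h5⟩ := c.d.j.trich c.hq c.b c.d.h h4
  rw [show k * (g * x * g⁻¹) * k⁻¹ = k * g * x * (k * g)⁻¹ by group] at h5
  refine ⟨k * g, ?_⟩
  have o2 := o1 (k * g)
  have y1 : k * g * x * (k * g)⁻¹ ≠ 1 := conj_eq_one_iff.not.2 x1
  generalize k * g * x * (k * g)⁻¹ = y at h5 o2 y1
  rcases h5 with e | e | e | e
  · exact absurd ((Nat.prime_dvd_prime_iff_eq hx Nat.prime_three).1 (o2 ▸ orderOf_dvd_of_pow_eq_one (c.b.Uexp _ e))) h3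
  · exact c.hR _ e y1
  · exact c.d.hT _ e y1
  · exfalso
    have h6 : Commute v y := by simpa [mul_assoc, c.d.vv] using ((c.d.h.comm _ e).mul_left (Commute.refl v)).symm
    have h7 := pow_inv_odd c.d.vv h6 ((o2 ▸ hx.odd_of_ne_two h2).mul c.d.Todd) (Dvd.intro _ rfl)
    rw [h6.eq, orderOf_dvd_iff_pow_eq_one.1 ((T.orderOf_dvd_natCard e).mul_left _)] at h7
    exact ne_one_of_two c.d.h.two h7.symm

theorem cc_dvd (hx : (orderOf x).Prime) (h : ¬ orderOf x ∣ α * β) : cc x ∣ 𝐞 := by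
  have x1 : x ≠ 1 := fun e => hx.ne_one (orderOf_eq_one_iff.2 e)
  by_cases h3 : orderOf x = 3
  · have := Fact.mk Nat.prime_three
    obtain ⟨g, -, hg⟩ := c.bn.syl.exists_conj_le (P := zpowers x) (.of_card (n := 1) (by rw [Nat.card_zpowers, h3]; rfl)) le_top
    rw [← Exc.cc_conj g]
    refine (card_dvd_of_le (c.bn.cent _ (hg (conj_mem_cj g (mem_zpowers x))) (by simpa using x1))).trans ?_
    rw [c.cardB]
    exact ⟨4 * Nat.card T, by ring⟩
  obtain ⟨k, hk⟩ := c.conjC hx h3 h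
  rw [← Exc.cc_conj k]
  exact (card_dvd_of_le hk).trans (c.cc_two c.d.j.two)

theorem nomix {p p' : ℕ} (ho : Odd (orderOf g)) (hp : p.Prime) (hp' : p'.Prime) (h1 : p ∣ α) (h2 : p' ∣ β)
    (h3 : p ∣ orderOf g) (h4 : p' ∣ orderOf g) : False := by
  obtain ⟨-, a1, a2, a3, -⟩ := c.num
  exact c.d.nomix c.zq c.hr c.hα c.hβ c.hN c.cardG (a2.mul_right (Nat.Coprime.coprime_mul_right a1))
    (a2.symm.mul_right (Nat.Coprime.coprime_mul_left a1)) a3 ho hp hp' h1 h2 h3 h4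

theorem sig {a b p : ℕ} (hab : a * b = α * β) (cop : a.Coprime b)
    (hm : ∀ (g : G) (p p' : ℕ), Odd (orderOf g) → p.Prime → p'.Prime → p ∣ a → p' ∣ b → p ∣ orderOf g → p' ∣ orderOf g → False)
    (hp : p.Prime) (h1 : p ∣ orderOf g) (h2 : p ∣ a) : cc g ∣ a := by
  have a1 := c.num.2.1
  have e : cc g ∣ a * (b * 𝐞) := by rw [← mul_assoc, hab, ← c.cardG]; exact card_subgroup_dvd_card _
  refine Nat.Coprime.dvd_of_dvd_mul_right (Nat.coprime_of_dvd fun l hl l1 l2 => ?_) e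
  have := Fact.mk hl
  obtain ⟨⟨y, hy⟩, ho⟩ := exists_prime_orderOf_dvd_card' (G := 𝐂[g]) l l1
  rw [orderOf_mk] at ho
  have o1 := orderOf_pow_orderOf_div (orderOf_pos g).ne' h1
  have h3 : Commute (g ^ (orderOf g / p)) y := (Commute.symm (mem_centralizer_singleton_iff.1 hy)).pow_left _
  generalize g ^ (orderOf g / p) = x at o1 h3
  have h4 : p ∣ α * β := hab ▸ h2.mul_right b
  by_cases h5 : l ∣ α * β
  · have h6 : l ∣ b := (hl.dvd_mul.1 l2).resolve_right fun e => hl.ne_one (Nat.eq_one_of_dvd_coprimes a1 h5 e)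
    have h7 : orderOf (x * y) = p * l := by
      rw [h3.orderOf_mul_eq_mul_orderOf_of_coprime (by rw [o1, ho]; exact (cop.coprime_dvd_left h2).coprime_dvd_right h6), o1, ho]
    have od : ∀ {m : ℕ}, m ∣ α * β → Odd m := fun h => Nat.coprime_two_right.1 ((a1.coprime_dvd_left h).coprime_dvd_right
      ⟨𝐪 ^ 3 * (4 * Nat.card R * Nat.card T), by ring⟩)
    exact hm (x * y) p l (h7 ▸ (od h4).mul (od h5)) hp hl h2 h6 (h7 ▸ Dvd.intro _ rfl) (h7 ▸ Dvd.intro_left _ rfl)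
  · exact hp.ne_one (Nat.eq_one_of_dvd_coprimes a1 h4 ((o1 ▸ (𝐂[y]).orderOf_dvd_natCard
      (mem_centralizer_singleton_iff.2 h3)).trans (c.cc_dvd (ho ▸ hl) (ho ▸ h5))))

theorem sigα {p : ℕ} (hp : p.Prime) (h1 : p ∣ orderOf g) (h2 : p ∣ α) : cc g ∣ α :=
  c.sig rfl c.num.2.2.1 (fun _ _ _ => c.nomix) hp h1 h2

theorem sigβ {p : ℕ} (hp : p.Prime) (h1 : p ∣ orderOf g) (h2 : p ∣ β) : cc g ∣ β :=
  c.sig (mul_comm _ _) c.num.2.2.1.symm (fun _ _ _ a1 a2 a3 a4 a5 a6 a7 => c.nomix a1 a3 a2 a5 a4 a7 a6) hp h1 h2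

theorem cover (g : G) : g * g = 1 ∨ 3 ∣ orderOf g ∨ (∃ x, ((x ∈ R ∨ x * t ∈ R) ∧ x * x ≠ 1) ∧ IsConj x g) ∨
    (∃ x, (∃ y ∈ T, y ≠ 1 ∧ ∃ a ∈ closure {t, v}, x = y * a) ∧ IsConj x g) ∨ (g ≠ 1 ∧ g ^ α = 1) ∨ (g ≠ 1 ∧ g ^ β = 1) := by
  by_cases h2 : g * g = 1
  · exact .inl h2
  by_cases h3 : 3 ∣ orderOf g
  · exact .inr (.inl h3)
  have g1 : g ≠ 1 := fun e => h2 (by simp [e])
  obtain ⟨p, hp, hd⟩ := Nat.exists_prime_and_dvd (mt orderOf_eq_one_iff.1 g1)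
  have o : orderOf g ∣ cc g := (𝐂[g]).orderOf_dvd_natCard (mem_centralizer_singleton_iff.2 rfl)
  by_cases h4 : p ∣ α * β
  · refine .inr (.inr (.inr (.inr ((hp.dvd_mul.1 h4).imp (fun e => ⟨g1, ?_⟩) fun e => ⟨g1, ?_⟩))))
    exacts [orderOf_dvd_iff_pow_eq_one.1 (o.trans (c.sigα hp hd e)), orderOf_dvd_iff_pow_eq_one.1 (o.trans (c.sigβ hp hd e))]
  have o1 := orderOf_pow_orderOf_div (orderOf_pos g).ne' hd
  obtain ⟨k, hk⟩ := c.conjC (x := g ^ (orderOf g / p)) (by rwa [o1]) (fun e => h3 (by rwa [← e, o1])) (by rwa [o1])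
  have h5 : k * g * k⁻¹ ∈ 𝐂[t] := hk (mem_centralizer_singleton_iff.2 (by
    rw [← conj_pow]; exact (Commute.refl _).pow_right _))
  have tt := mul_self_of_two c.d.j.two
  obtain ⟨y, hy, a, ha, e0⟩ : ∃ y ∈ K, ∃ a, (a = 1 ∨ a = t) ∧ k * g * k⁻¹ = y * a := by
    rcases c.memK h5 with e | e
    exacts [⟨_, e, 1, .inl rfl, (mul_one _).symm⟩, ⟨_, e, t, .inr rfl, by rw [mul_assoc _ t, tt, mul_one]⟩]
  obtain ⟨m, hm, h6⟩ := c.d.j.trich c.hq c.b c.d.h hy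
  have ca : ∀ y ∈ K, Commute y a := fun y hy => by
    rcases ha with rfl | rfl
    exacts [Commute.one_right y, mem_centralizer_singleton_iff.1 (c.d.j.le hy)]
  have aa : a * a = 1 := by rcases ha with rfl | rfl; exacts [one_mul 1, tt]
  have e1 : IsConj (m * y * m⁻¹ * a) g := (isConj_iff.2 ⟨m * k, by
    rw [mul_assoc m k, mul_assoc m, mul_inv_rev, ← mul_assoc (k * g), e0, mul_assoc (m * y), (ca _ (inv_mem hm)).eq]; group⟩ : IsConj g _).symm
  have hz : m * y * m⁻¹ ∈ K := mul_mem (mul_mem hm hy) (inv_mem hm)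
  generalize m * y * m⁻¹ = z at h6 e1 hz
  clear e0
  have e2 : z * a * (z * a) = z * z := by rw [mul_assoc, ← mul_assoc a, ← (ca z hz).eq, mul_assoc z a, aa, mul_one]
  have e3 : z * a * (z * a) ≠ 1 := fun e => h2 (by
    obtain ⟨b, rfl⟩ := isConj_iff.1 e1
    rw [conj_mul, e]; simp)
  have aW : a ∈ closure {t, v} := c.d.memW.2 (ha.imp_right .inl)
  rcases h6 with e | e | e | e
  · refine absurd ?_ h3
    rw [← orderOf_of_isConj e1]
    refine Dvd.dvd.trans (dvd_of_eq ?_) (orderOf_pow_dvd 2)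
    have := Fact.mk Nat.prime_three
    rw [sq, e2]
    exact (orderOf_eq_prime (c.b.Uexp _ (mul_mem e e)) (e2 ▸ e3)).symm
  · refine .inr (.inr (.inl ⟨_, ⟨?_, e3⟩, e1⟩))
    rcases ha with rfl | rfl
    exacts [.inl (by simpa using e), .inr (by rwa [mul_assoc, tt, mul_one])]
  · exact .inr (.inr (.inr (.inl ⟨_, ⟨z, e, fun h => e3 (by simp [h, aa]), a, aW, rfl⟩, e1⟩)))
  · refine .inr (.inr (.inr (.inl ⟨_, ⟨z * v, e, fun h => e3 ?_, v * a, mul_mem (c.d.memW.2 (by simp)) aW,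
      by rw [mul_assoc, ← mul_assoc v, c.d.vv, one_mul]⟩, e1⟩)))
    rw [e2, eq_inv_of_mul_eq_one_left h, ← mul_inv_rev, c.d.vv, inv_one]

theorem winv (hx : x ∈ R ∨ x * t ∈ R) : w * x * w⁻¹ = x⁻¹ ∧ (x⁻¹ ∈ R ∨ x⁻¹ * t ∈ R) := by
  have tt := mul_self_of_two c.d.j.two
  have ct : ∀ y ∈ K, Commute y t := fun y hy => mem_centralizer_singleton_iff.1 (c.d.j.le hy)
  rcases hx with e | e
  · exact ⟨c.b.winv x e, .inl (inv_mem e)⟩
  · obtain ⟨y, rfl⟩ : ∃ y, x = y * t := ⟨x * t, by rw [mul_assoc, tt, mul_one]⟩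
    rw [mul_assoc, tt, mul_one] at e
    have e1 : (y * t)⁻¹ = y⁻¹ * t := by
      rw [mul_inv_rev, inv_eq_of_mul_eq_one_left tt, (ct _ (inv_mem (c.b.Rle e))).eq]
    rw [e1, mul_assoc y⁻¹, tt, mul_one, ← c.b.winv y e, mul_assoc (w * y), (ct _ (inv_mem c.b.wK)).eq]
    exact ⟨by group, .inr (by rw [c.b.winv y e]; exact inv_mem e)⟩

open Classical Finset in
theorem sumR [Fintype G] : 2 * ∑ g with (∃ x, ((x ∈ R ∨ x * t ∈ R) ∧ x * x ≠ 1) ∧ IsConj x g), pairCount t t g ≤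
    2 * (Nat.card R - 1) * Nat.card G := by
  have tt := mul_self_of_two c.d.j.two
  have hw := fun x => c.winv (x := x)
  have h := Exc.Ree.cls_bound (k := 2) {x | (x ∈ R ∨ x * t ∈ R) ∧ x * x ≠ 1} fun x hx => by
    obtain ⟨h1, h2⟩ := (mem_filter.1 hx).2
    refine one_lt_card.2 ⟨x, mem_filter.2 ⟨hx, IsConj.refl x⟩, x⁻¹, ?_, fun e => h2 (mul_eq_one_iff_eq_inv.2 e)⟩
    simp only [mem_filter, mem_univ, true_and]
    exact ⟨⟨(hw x h1).2, by rwa [← mul_inv_rev, inv_ne_one]⟩, isConj_iff.2 ⟨w, (hw x h1).1⟩⟩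
  simp only [mem_filter, mem_univ, true_and] at h
  refine ((Nat.mul_le_mul_left 2 (sum_le_sum fun g _ => Exc.Ree.pc_le tt g)).trans h).trans (Nat.mul_le_mul_right _ ?_)
  have e : #(({x | x ∈ R} : Finset G).erase 1) = Nat.card R - 1 := by
    rw [card_erase_of_mem (by simp), Nat.card_eq_fintype_card, Fintype.card_subtype]
  rw [two_mul]
  refine (card_le_card (t := ({x | x ∈ R} : Finset G).erase 1 ∪ (({x | x ∈ R} : Finset G).erase 1).image (· * t))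
    fun x hx => ?_).trans ((card_union_le _ _).trans (add_le_add e.le (card_image_le.trans e.le)))
  obtain ⟨h1, h2⟩ := (mem_filter.1 hx).2
  simp only [mem_union, mem_erase, mem_filter, mem_univ, true_and, mem_image]
  refine h1.imp (fun e => ⟨fun e => h2 (by simp [e]), e⟩) fun e => ⟨x * t, ⟨fun e => h2 ?_, e⟩, by rw [mul_assoc, tt, mul_one]⟩
  rw [eq_inv_of_mul_eq_one_left e, ← mul_inv_rev, tt, inv_one]

open Classical Finset in
theorem sumT [Fintype G] : 6 * ∑ g with (∃ x, (∃ y ∈ T, y ≠ 1 ∧ ∃ a ∈ closure {t, v}, x = y * a) ∧ IsConj x g),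
    pairCount t t g ≤ 4 * (Nat.card T - 1) * Nat.card G := by
  have d := c.d
  have h := Exc.Ree.cls_bound (k := 6) {x | ∃ y ∈ T, y ≠ 1 ∧ ∃ a ∈ closure {t, v}, x = y * a} fun x hx => by
    obtain ⟨y, hy, y1, a, ha, rfl⟩ := (mem_filter.1 hx).2
    have hN : ∀ z : Fin 3 × Fin 2, ξ ^ (z.1 : ℕ) * s ^ (z.2 : ℕ) ∈ 𝐍(closure {t, v}) := fun z =>
      mul_mem (pow_mem d.xW _) (pow_mem d.sN _)
    have od : ∀ y ∈ T, y ≠ 1 → y * y ≠ 1 := fun y hy y1 e => y1 (eq_one_of_sq_odd e (Invol.odd_orderOf_of_mem d.Todd hy))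
    have e2 : y * a * (y * a) = y * y := by
      have ca : Commute a y := mem_centralizer_iff.1 (d.MC (d.TM hy)) a ha
      rw [mul_assoc, ← mul_assoc a, ca.eq, mul_assoc y a, d.j.sq a (d.WA ha), mul_one]
    have st : s ∈ 𝐂[t] := d.j.le d.sK
    refine (card_le_card_of_injOn (s := (univ : Finset (Fin 3 × Fin 2)))
      (fun z => ξ ^ (z.1 : ℕ) * s ^ (z.2 : ℕ) * (y * a) * (ξ ^ (z.1 : ℕ) * s ^ (z.2 : ℕ))⁻¹) (fun z _ => ?_) ?_).trans_eq' (by simp)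
    · simp only [coe_filter, mem_filter, mem_univ, true_and, Set.mem_ofPred_eq]
      exact ⟨⟨_, (mem_normalizer_iff.1 (d.j.normW_normT d.h d.hv (hN z)) y).1 hy, conj_eq_one_iff.not.2 y1, _,
        (mem_normalizer_iff.1 (hN z) a).1 ha, conj_mul.symm⟩, isConj_conj _ _⟩
    · rintro ⟨i, j⟩ - ⟨i', j'⟩ - e
      have e3 : (ξ ^ (i' : ℕ) * s ^ (j' : ℕ))⁻¹ * (ξ ^ (i : ℕ) * s ^ (j : ℕ)) ∈ 𝐂[y * y] := by
        rw [← e2]
        simp only at e
        generalize ξ ^ (i : ℕ) * s ^ (j : ℕ) = b, ξ ^ (i' : ℕ) * s ^ (j' : ℕ) = b', y * a = z at e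
        have : Commute (b'⁻¹ * b) z := by
          rw [Commute, SemiconjBy, mul_assoc, inv_mul_eq_iff_eq_mul, ← mul_assoc b', ← mul_assoc (b' * z), ← e]; group
        exact mem_centralizer_singleton_iff.2 (this.mul_right this)
      have e4 := d.hT _ (mul_mem hy hy) (od y hy y1) e3
      obtain rfl : i = i' := d.xinj i i' (by
        have := mul_mem (mul_mem (pow_mem st j') e4) (inv_mem (pow_mem st j))
        rwa [show s ^ (j' : ℕ) * ((ξ ^ (i' : ℕ) * s ^ (j' : ℕ))⁻¹ * (ξ ^ (i : ℕ) * s ^ (j : ℕ))) * (s ^ (j : ℕ))⁻¹ =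
          ξ ^ (i : ℕ) * (ξ ^ (i' : ℕ))⁻¹ by group] at this)
      have e5 : s ∉ 𝐂[y * y] := fun e => od _ (mul_mem hy hy) (od y hy y1) (by
        have := d.inv (mul_mem hy hy)
        rw [conj_of_comm (mem_centralizer_singleton_iff.1 e)] at this
        exact mul_eq_one_iff_eq_inv.2 this)
      rw [mul_inv_rev, mul_assoc, inv_mul_cancel_left] at e3
      fin_cases j <;> fin_cases j' <;> simp_all
  simp only [mem_filter, mem_univ, true_and] at h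
  refine ((Nat.mul_le_mul_left 6 (sum_le_sum fun g _ => Exc.Ree.pc_le (mul_self_of_two d.j.two) g)).trans h).trans
    (Nat.mul_le_mul_right _ ?_)
  have e : #(({x | x ∈ T} : Finset G).erase 1) = Nat.card T - 1 := by
    rw [card_erase_of_mem (by simp), Nat.card_eq_fintype_card, Fintype.card_subtype]
  refine (card_le_card (t := ((({1, t, v, t * v} : Finset G)) ×ˢ (({x | x ∈ T} : Finset G).erase 1)).image fun z => z.2 * z.1)
    fun x hx => ?_).trans (card_image_le.trans (by rw [card_product, e]; exact Nat.mul_le_mul_right _ card_le_four))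
  obtain ⟨y, hy, y1, a, ha, rfl⟩ := (mem_filter.1 hx).2
  exact mem_image.2 ⟨(a, y), mem_product.2 ⟨by simpa using d.memW.1 ha, by simp [hy, y1]⟩, rfl⟩

open Classical Finset in
theorem invB [Fintype G] : #{u | IsConj t u ∧ u ∈ 𝐍(P)} ≤ 𝐪 ^ 2 := by
  have tB : zpowers t ⊔ R ⊔ ⊥ ≤ 𝐍(P) := le_sup_right.trans c.bn.norm.ge
  have oR : Odd (Nat.card R) := by
    have := c.b.Rcard
    have := c.tau
    have := Nat.odd_iff.1 c.d.Todd
    exact Nat.odd_iff.2 (by omega)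
  have hS : Syl 2 (zpowers t) 𝐍(P) := syl_of_not_dvd (le_sup_left.trans (le_sup_left.trans tB))
    (.of_card (n := 1) (by rw [Nat.card_zpowers, c.d.j.two]; rfl)) (by
      have h1 := card_mul_relIndex (le_sup_left.trans (le_sup_left.trans tB))
      rw [c.cardB, Nat.card_zpowers, c.d.j.two, mul_left_comm] at h1
      rw [Nat.eq_of_mul_eq_mul_left two_pos h1]
      exact (((by decide : Odd 3).pow.pow).mul oR).not_two_dvd_nat)
  have h := mul_card_image_le_card ({p | p ∈ P} : Finset G) (f := fun p => p * t * p⁻¹) 𝐪 fun b hb => by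
    obtain ⟨p, hp, rfl⟩ := mem_image.1 hb
    rw [← c.b.Ucard, Nat.card_eq_fintype_card, Fintype.card_subtype]
    refine card_le_card_of_injOn (p * ·) (fun u hu => ?_) fun _ _ _ _ => mul_left_cancel
    simp only [coe_filter, mem_filter, mem_univ, true_and, Set.mem_ofPred_eq] at hu hp ⊢
    exact ⟨mul_mem hp (c.hU hu), by
      rw [mul_inv_rev, ← mul_assoc, mul_assoc p u, (mem_centralizer_singleton_iff.1 (c.d.j.le (c.b.Ule hu)))]; group⟩
  rw [← Fintype.card_subtype, ← Nat.card_eq_fintype_card, c.bn.card, pow_succ' _ 2] at h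
  refine (card_le_card fun u hu => ?_).trans (Nat.le_of_mul_le_mul_left h (by positivity))
  obtain ⟨h1, h2⟩ := (mem_filter.1 hu).2
  have o : orderOf u = 2 := (orderOf_of_isConj h1).symm.trans c.d.j.two
  obtain ⟨g, hg, e⟩ := hS.exists_le_conj (P := zpowers u) (.of_card (n := 1) (by rw [Nat.card_zpowers, o]; rfl)) (zpowers_le.2 h2)
  obtain ⟨y, hy, rfl⟩ := mem_cj'.1 (e (mem_zpowers u))
  obtain ⟨p, hp, k, hk, rfl⟩ := (mem_sup_of_le_normalizer' tB).1 (c.bn.norm.le hg)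
  rcases GW.mem_zpowers_two' c.d.j.two hy with rfl | rfl
  · simp at o
  refine mem_image.2 ⟨p, by simpa using hp, ?_⟩
  rw [mul_inv_rev, ← mul_assoc, mul_assoc p k, mem_centralizer_singleton_iff.1 (c.d.j.mn_H c.b hk)]; group

open Classical Finset in
theorem sum3 [Fintype G] : ∑ g with 3 ∣ orderOf g, pairCount t t g ≤ 2 * Nat.card G := by
  have tt := mul_self_of_two c.d.j.two
  have h := Exc.Ree.sum_sub (t := t) (fun g => 3 ∣ orderOf g) 𝐍(P) fun u v hu hv h3 => by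
    have := Fact.mk Nat.prime_three
    have o1 := orderOf_pow_orderOf_div (orderOf_pos (u * v)).ne' h3
    have uu := Exc.Ree.sq_of_isConj tt hu
    have vv := Exc.Ree.sq_of_isConj tt hv
    have i1 : u * (u * v) * u⁻¹ = (u * v)⁻¹ := by
      rw [← mul_assoc, uu, one_mul, mul_inv_rev, inv_eq_of_mul_eq_one_left vv]
    have i2 : v * (u * v) * v⁻¹ = (u * v)⁻¹ := by
      rw [mul_inv_rev, inv_eq_of_mul_eq_one_left vv, inv_eq_of_mul_eq_one_left uu, mul_assoc, mul_assoc, vv, mul_one]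
    replace i1 := congrArg (· ^ (orderOf (u * v) / 3)) i1
    replace i2 := congrArg (· ^ (orderOf (u * v) / 3)) i2
    simp only [conj_pow, inv_pow] at i1 i2
    generalize (u * v) ^ (orderOf (u * v) / 3) = x at o1 i1 i2
    obtain ⟨g, -, hg⟩ := c.bn.syl.exists_conj_le (P := zpowers x) (.of_card (n := 1) (by rw [Nat.card_zpowers, o1]; rfl)) le_top
    have hx := hg (conj_mem_cj g (mem_zpowers x))
    have key : ∀ u, u * x * u⁻¹ = x⁻¹ → g * u * g⁻¹ ∈ 𝐍(P) := fun u e => by_contra fun h => by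
      have : g * x⁻¹ * g⁻¹ = 1 := (c.bn.ti _ h).le ⟨by simpa [mul_assoc] using inv_mem hx,
        mem_cj'.2 ⟨_, hx, by rw [← e]; group⟩⟩
      rw [conj_eq_one_iff, inv_eq_one] at this
      simp [this] at o1
    exact ⟨g, key u i1, key v i2⟩
  have h1 := c.invB
  have h2 := c.b.Rcard
  have h3 : 3 ≤ 𝐪 := Nat.le_self_pow c.odd.pos.ne' 3
  rw [c.cardB] at h
  refine Nat.le_of_mul_le_mul_left (h.trans ?_) (Nat.mul_pos (by positivity) (by omega))
  calc _ ≤ Nat.card G * (𝐪 ^ 2) ^ 2 := by gcongr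
    _ = 𝐪 ^ 3 * 𝐪 * Nat.card G := by ring
    _ ≤ 𝐪 ^ 3 * (2 * Nat.card R * 2) * Nat.card G := by gcongr; omega
    _ = _ := by ring

open Classical Finset in
theorem real (hx : (orderOf x).Prime) (h : orderOf x ∣ α * β) : IsConj x x⁻¹ := by
  by_contra hn
  have := Fintype.ofFinite G
  have tt := mul_self_of_two c.d.j.two
  have x1 : x ≠ 1 := fun e => hx.ne_one (orderOf_eq_one_iff.2 e)
  obtain ⟨e1, -, -, -, a6, b6, a7, b7⟩ := c.num
  have pr : ∀ {a : ℕ} {g : G}, g ≠ 1 → g ^ a = 1 → ∃ p, p.Prime ∧ p ∣ orderOf g ∧ p ∣ a := fun h1 h2 =>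
    (Nat.exists_prime_and_dvd (mt orderOf_eq_one_iff.1 h1)).imp fun p hp =>
      ⟨hp.1, hp.2, hp.2.trans (orderOf_dvd_of_pow_eq_one h2)⟩
  obtain ⟨s5, s5'⟩ := Exc.Ree.sum_hall tt (c.cardG.trans (mul_assoc _ _ _)) (fun g h1 h2 => by
    obtain ⟨p, a, b, d⟩ := pr h1 h2; exact c.sigα a b d) a7 a6
  obtain ⟨s6, s6'⟩ := Exc.Ree.sum_hall tt (c.cardG.trans (by rw [mul_comm α, mul_assoc])) (fun g h1 h2 => by
    obtain ⟨p, a, b, d⟩ := pr h1 h2; exact c.sigβ a b d) b7 b6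
  have s56 : 6 * ∑ g with g ≠ 1 ∧ g ^ α = 1, pairCount t t g + 6 * ∑ g with g ≠ 1 ∧ g ^ β = 1, pairCount t t g +
      12 * Nat.card G ≤ Nat.card G * (α - 1) + Nat.card G * (β - 1) := by
    rcases hx.dvd_mul.1 h with e | e
    · have := s5' x x1 (orderOf_dvd_iff_pow_eq_one.1 e) hn; omega
    · have := s6' x x1 (orderOf_dvd_iff_pow_eq_one.1 e) hn; omega
  have s1 := Exc.Ree.sum_two tt
  have s2 := c.sum3
  have s3 := c.sumR
  have s4 := c.sumT
  have s0 := Exc.sum_pairCount t t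
  have key : ∀ (p q : G → Prop) [DecidablePred p] [DecidablePred q] [DecidablePred fun g => p g ∨ q g],
      ∑ g with p g ∨ q g, pairCount t t g ≤ ∑ g with p g, pairCount t t g + ∑ g with q g, pairCount t t g := fun p q _ _ _ => by
    simp only [sum_filter, ← sum_add_distrib]
    exact sum_le_sum fun g _ => by by_cases p g <;> by_cases q g <;> simp [*]
  rw [← filter_true_of_mem (s := univ) fun g _ => c.cover g] at s0
  have s7 := s0.ge.trans ((key _ _).trans (add_le_add le_rfl ((key _ _).trans (add_le_add le_rfl ((key _ _).trans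
    (add_le_add le_rfl ((key _ _).trans (add_le_add le_rfl (key _ _)))))))))
  have h1 := c.b.Rcard
  have h2 := c.tau
  have h3 := c.hα
  have h4 := c.hβ
  have h5 : 3 ≤ 𝐪 := Nat.le_self_pow c.odd.pos.ne' 3
  have s8 : 6 * (ix t * ix t) + 6 * Nat.card G ≤ 6 * 𝐪 * Nat.card G := by
    have e : Nat.card G * (α - 1) + Nat.card G * (β - 1) + 3 * (2 * (Nat.card R - 1) * Nat.card G) +
        4 * (Nat.card T - 1) * Nat.card G + 12 * Nat.card G = 6 * 𝐪 * Nat.card G := by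
      rw [show 6 * 𝐪 = α - 1 + (β - 1) + 3 * (2 * (Nat.card R - 1)) + 4 * (Nat.card T - 1) + 12 by omega]; ring
    omega
  rw [ix, c.hN, c.cardG, e1] at s8
  generalize 𝐪 = q at *
  generalize Nat.card R = ρ at *
  generalize Nat.card T = τ at *
  subst h1
  have e2 : 8 * ρ * τ = 2 * ρ * (2 * ρ + 1 + 1) := by rw [← h2]; ring
  rw [e2] at s8
  have : 0 < (2 * ρ + 1) ^ 3 * (2 * ρ * (2 * ρ + 1) + 1) * (4 * ρ + 1) := by positivity
  nlinarith

theorem real' (hx : (orderOf x).Prime) (h3 : orderOf x ≠ 3) : IsConj x x⁻¹ := by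
  have tr : ∀ y, IsConj y x → IsConj y y⁻¹ → IsConj x x⁻¹ := fun y h1 h2 => by
    obtain ⟨k, rfl⟩ := isConj_iff.1 h1
    exact h1.symm.trans (h2.trans (isConj_iff.2 ⟨k, by group⟩))
  rcases c.cover x with e | e | ⟨y, e, e'⟩ | ⟨_, ⟨y, hy, -, a, ha, rfl⟩, e'⟩ | e | e
  · rw [inv_eq_of_mul_eq_one_left e]
  · exact absurd ((Nat.prime_dvd_prime_iff_eq Nat.prime_three hx).1 e).symm h3
  · exact tr y e' (isConj_iff.2 ⟨w, (c.winv e.1).1⟩)
  · refine tr _ e' (isConj_iff.2 ⟨s, ?_⟩)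
    have ca : Commute a y := mem_centralizer_iff.1 (c.d.MC (c.d.TM hy)) a ha
    rw [← conj_mul, c.d.inv hy, conj_of_comm (c.d.j.comm c.d.sA (c.d.WA ha)), mul_inv_rev,
      inv_eq_of_mul_eq_one_left (c.d.j.sq a (c.d.WA ha)), ca.inv_right.eq]
  · exact c.real hx ((orderOf_dvd_of_pow_eq_one e.2).mul_right _)
  · exact c.real hx ((orderOf_dvd_of_pow_eq_one e.2).mul_left _)

end RD

/-- in a simple group of Janko–Ree type other than `J₁`, the elements of prime order `≠ 3` are real -/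
theorem jr_real [IsSimpleGroup G] {E : Subgroup G} (j : JR A t E K) :
    Spor.IsoJ1 G ∨ ∀ x : G, (orderOf x).Prime → orderOf x ≠ 3 → IsConj x x⁻¹ :=
  (exists_rd j).imp_right fun ⟨_, _, _, _, _, _, _, _, _, _, _, _, _, _, _, c⟩ _ => c.real'

end Cfsg.Lib.JTW
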