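import Cfsg.Agent.Lib.Exc.Ree3
import Cfsg.Agent.Lib.Coprime.S4Free
import Cfsg.Agent.Lib.GW.Final
import Cfsg.Agent.Lib.JTW.Cor
import Cfsg.Agent.Lib.Linear.PGL2Inv

/-! `π`-homogeneous groups with abelian or dihedral Sylow 2-subgroups. -/

set_option autoImplicit false
set_option linter.unusedSectionVars false

namespace Cfsg.Lib.Exc.PiH
open Subgroup Cfsg.Lib.Core Cfsg.Lib.Amalg Cfsg.Lib.Linear Cfsg.Lib.Coprime Cfsg.Lib.Fus2

universe u

theorem psl2_real {F : Type*} [Field F] [Finite F] (x : PSL2 F) (h2 : orderOf x ≠ 2) (h : orderOf x ≠ ringChar F)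
    (hp : (orderOf x).Prime) : IsConj x x⁻¹ := by
  have x1 : x ≠ 1 := fun e => hp.ne_one (orderOf_eq_one_iff.2 e)
  by_cases hF : (2 : F) = 0
  · obtain ⟨g, rfl⟩ := QuotientGroup.mk_surjective x
    have ht : tr2 g ≠ 0 := fun e => h2 ((Nat.prime_dvd_prime_iff_eq hp Nat.prime_two).1
      (orderOf_dvd_of_pow_eq_one (psl2_sq_eq_one_iff.2 (.inl e))))
    obtain ⟨s, h3, h4⟩ : ∃ s : Matrix.SpecialLinearGroup (Fin 2) F, tr2 s = 0 ∧ tr2 (s * g) = 0 := by
      obtain ⟨a, b, c, d, e, rfl⟩ := exists_slMat g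
      by_cases hc : c = 0
      · by_cases hb : b = 0
        · exact ⟨slMat 0 1 1 0 (by linear_combination -hF), by simp [tr2_slMat], by simp [slMat_mul, tr2_slMat, hb, hc]⟩
        · refine ⟨slMat 1 0 ((a + d) / b) 1 (by ring), by rw [tr2_slMat]; linear_combination hF, ?_⟩
          rw [slMat_mul, tr2_slMat, div_mul_cancel₀ _ hb]
          linear_combination (a + d) * hF
      · refine ⟨slMat 1 ((a + d) / c) 0 1 (by ring), by rw [tr2_slMat]; linear_combination hF, ?_⟩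
        rw [slMat_mul, tr2_slMat, div_mul_cancel₀ _ hc]
        linear_combination (a + d) * hF
    have a := psl2_sq_eq_one_iff.2 (.inl h3)
    have b := psl2_sq_eq_one_iff.2 (.inl h4)
    rw [QuotientGroup.mk_mul] at b
    rw [sq] at a b
    exact isConj_iff.2 ⟨s, by
      rw [inv_eq_of_mul_eq_one_left a, eq_inv_iff_mul_eq_one, mul_assoc, b]⟩
  have := Fact.mk (CharP.char_is_prime F (ringChar F))
  have hi := Matrix.ProjectiveSpecialLinearGroup.toPGL_injective (n := Fin 2) (R := F)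
  rcases pow_char_or_mem_tor hF (ringChar F) (z := Matrix.ProjectiveSpecialLinearGroup.toPGL x)
    (by rwa [Ne, map_eq_one_iff _ hi]) with e | ⟨t, ht, e⟩
  · rw [← map_pow, map_eq_one_iff _ hi] at e
    exact absurd ((Nat.prime_dvd_prime_iff_eq hp this.out).1 (orderOf_dvd_of_pow_eq_one e)) h
  · obtain ⟨_, ⟨s, rfl⟩, h3, h4⟩ := exists_not_mem_tor_LL hF ht
    exact isConj_iff.2 ⟨s, hi (by simpa using conj_eq_inv_of_not_mem_tor hF ht h3 h4 e)⟩

/-- `π`-homogeneity for subgroups of prime power order -/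
def Hom (π : Set ℕ) (G : Type*) [Group G] : Prop :=
  ∀ p ∈ π, ∀ P : Subgroup G, IsPGroup p P → ∀ r : ℕ, r.Prime → r ∣ (𝐂(P)).relIndex 𝐍(P) → r ∈ π

variable {G X : Type*} [Group G] [Finite G] [Group X] {π : Set ℕ}

theorem Hom.involves (hπ : ∀ p ∈ π, p.Prime) (h : Hom π G) (e : Involves X G) : Hom π X := fun p hp P hP r hr hd => by
  obtain ⟨K, f, hf⟩ := involves_iff.1 e
  have := Fact.mk (hπ p hp)
  obtain ⟨Q, hQ⟩ := exists_syl p (P.comap f)
  have h1 := hQ.map f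
  rw [map_comap_eq_self_of_surjective hf] at h1
  replace h1 := h1.eq_of_isPGroup hP
  have h2 : (𝐍(Q)).map f = 𝐍(P) := le_antisymm (h1 ▸ le_normalizer_map f) fun x hx => by
    obtain ⟨g, rfl⟩ := hf x
    obtain ⟨n, hn, a, ha, rfl⟩ := hQ.frattini_mem (le_normalizer_comap f hx)
    rw [map_mul]
    exact mul_mem (map_mono le_normalizer (h1.ge hn)) (mem_map_of_mem f ha)
  refine h p hp (Q.map K.subtype) (hQ.isPGroup.map _) r hr (hd.trans ?_)
  rw [← h2, ← relIndex_comap]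
  refine (relIndex_dvd_of_le_left (H := (𝐂(Q.map K.subtype)).comap K.subtype) _ fun x hx => ?_).trans ?_
  · rw [← h1]
    rintro _ ⟨y, hy, rfl⟩
    rw [← map_mul, ← map_mul]
    exact congrArg f (Subtype.ext (hx y ⟨y, hy, rfl⟩))
  · rw [relIndex_comap]
    exact BG1.relIndex_dvd_of_le_right (centralizer_le_normalizer _) (le_normalizer_map _)
      ((le_normalizer_map _).trans (normalizer_le_normalizer_centralizer _))

theorem Hom.not_real (h2 : 2 ∉ π) (h : Hom π G) {x : G} (hx : (orderOf x).Prime) (hp : orderOf x ∈ π) : ¬ IsConj x x⁻¹ := fun e => by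
  obtain ⟨s, hs⟩ := isConj_iff.1 e
  have := Fact.mk hx
  have h1 : s ∈ 𝐍(zpowers x) := mem_normalizer_of_cj_le (by rw [cj_zpowers, hs, zpowers_le]; exact inv_mem (mem_zpowers x))
  have h4 := Transfer.pow_relIndex_mem' (normalizer_le_normalizer_centralizer _) h1
  obtain ⟨k, hk⟩ : Odd ((𝐂(zpowers x)).relIndex 𝐍(zpowers x)) := Nat.not_even_iff_odd.1 fun e =>
    h2 (h _ hp _ (.of_card (n := 1) (by rw [Nat.card_zpowers, pow_one])) 2 Nat.prime_two e.two_dvd)
  rw [hk, zpowers_eq_closure, centralizer_closure, pow_succ, pow_mul, mul_mem_cancel_left (pow_mem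
    (mem_centralizer_singleton_iff.2 (by
      rw [← mul_inv_eq_iff_eq_mul, show s ^ 2 * x * (s ^ 2)⁻¹ = s * (s * x * s⁻¹) * s⁻¹ by rw [sq]; group, hs, ← conj_inv, hs,
        inv_inv])) k)] at h4
  rw [mem_centralizer_singleton_iff.1 h4, mul_inv_cancel_right, ← mul_eq_one_iff_eq_inv, ← sq] at hs
  exact h2 ((Nat.prime_dvd_prime_iff_eq hx Nat.prime_two).1 (orderOf_dvd_of_pow_eq_one hs) ▸ hp)

theorem Hom.frob [IsSimpleGroup G] (hc : ¬ IsMulCommutative G) (h : Hom π G) {p : ℕ} (hp : p.Prime) (h1 : p ∈ π)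
    (hd : p ∣ Nat.card G) : ∃ r ∈ π, r.Prime ∧ r ≠ p ∧ r ∣ Nat.card G ∧ (¬ p ^ 2 ∣ Nat.card G → r < p) := by
  have := Fact.mk hp
  obtain ⟨T⟩ : Nonempty (Sylow p G) := inferInstance
  obtain ⟨Q, hQ, r, hr, h2, g, -, ⟨k, hk⟩, h3, h4⟩ := (Transfer.sylowIn_top T).exists_of_not_pnil
    (Transfer.not_pnil_of_simple (by by_contra! e; exact hc ⟨⟨e⟩⟩) hd)
  have hq := T.isPGroup'.to_le hQ
  have h5 : r ∣ (𝐂(Q)).relIndex 𝐍(Q) := by_contra fun e => h4 (le_of_coprime_card_relIndex (zpowers_le.2 h3)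
    (normalizer_le_normalizer_centralizer Q) (by
      rw [Nat.card_zpowers]
      exact ((hr.coprime_iff_not_dvd.2 e).pow_left k).coprime_dvd_left (orderOf_dvd_of_pow_eq_one hk)) (mem_zpowers g))
  refine ⟨r, h p h1 Q hq r hr h5, hr, h2, h5.trans ((relIndex_dvd_card _ _).trans (card_subgroup_dvd_card _)), fun e => ?_⟩
  obtain ⟨n, hn⟩ := hq.exists_card_eq
  have h6 : Nat.card Q = p := by
    have h7 := hn ▸ card_subgroup_dvd_card Q
    rcases n with _ | _ | n
    · exact absurd (by rw [card_eq_one.1 hn]; simp [mem_centralizer_iff]) h4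
    · simpa using hn
    · exact absurd ((pow_dvd_pow p (by omega)).trans h7) e
  have := isCyclic_of_prime_card h6
  rw [relIndex, ← normalizerMonoidHom_ker, index_ker] at h5
  have h7 := h5.trans (card_subgroup_dvd_card _)
  rw [IsCyclic.card_mulAut, h6, Nat.totient_prime hp] at h7
  have := hp.two_le
  have := Nat.le_of_dvd (by omega) h7
  omega

/-- elements of odd prime order are real, with one possible exception or unless the Sylow subgroup has prime order -/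
def Good (G : Type*) [Group G] : Prop := (∃ c, ∀ x : G, (orderOf x).Prime → orderOf x ≠ 2 → orderOf x ≠ c → IsConj x x⁻¹) ∨
  ∀ p : ℕ, p.Prime → p ≠ 2 → p ^ 2 ∣ Nat.card G → ∃ x : G, orderOf x = p ∧ IsConj x x⁻¹

theorem Good.of_equiv (h : Good X) (e : G ≃* X) : Good G := by
  rcases h with ⟨c, h⟩ | h
  on_goal 1 => refine .inl ⟨c, fun x h1 h2 h3 => ?_⟩
  on_goal 2 => refine .inr fun p h1 h2 h3 => ?_
  · rw [← e.orderOf_eq] at h1 h2 h3
    simpa using e.symm.toMonoidHom.map_isConj (h _ h1 h2 h3)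
  · obtain ⟨x, h4, h5⟩ := h p h1 h2 (Nat.card_congr e.toEquiv ▸ h3)
    exact ⟨e.symm x, by rw [e.symm.orderOf_eq, h4], by simpa using e.symm.toMonoidHom.map_isConj h5⟩

theorem good_psl2 (F : Type*) [Field F] [Finite F] : Good (PSL2 F) := .inl ⟨_, fun x h1 h2 h3 => psl2_real x h2 h3 h1⟩

theorem good_A7 : Good (alternatingGroup (Fin 7)) := .inr fun p h1 h2 h3 => by
  rw [nat_card_alternatingGroup, Nat.card_eq_fintype_card, Fintype.card_fin, show Nat.factorial 7 / 2 = 2520 by rfl] at h3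
  have h4 : p ≤ 51 := by nlinarith [Nat.le_of_dvd (by norm_num) h3]
  obtain rfl : p = 3 := by interval_cases p <;> simp_all (config := {decide := true})
  have := Fact.mk Nat.prime_three
  exact ⟨⟨Equiv.swap 0 1 * Equiv.swap 1 2, by simp [Equiv.Perm.mem_alternatingGroup]⟩, orderOf_eq_prime (by decide) (by decide),
    isConj_iff.2 ⟨⟨Equiv.swap 0 1 * Equiv.swap 3 4, by simp [Equiv.Perm.mem_alternatingGroup]⟩, by decide⟩⟩

theorem good_of_comm {G : Type u} [Group G] [Finite G] [IsSimpleGroup G] (hc : ¬ IsMulCommutative G) (S : Sylow 2 G)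
    (hS : IsMulCommutative S) : Good G := by
  rcases Wal.walter hc (syl_top S) hS with ⟨F, _, _, -, -, ⟨e⟩⟩ | ⟨F, _, _, -, ⟨e⟩⟩ | ⟨t, E, K, h⟩
  · exact (good_psl2 F).of_equiv e
  · exact (good_psl2 F).of_equiv e
  · refine (JTW.jr_real h).elim (fun e => .inr fun p h1 h2 h3 => ?_) fun e => .inl ⟨3, fun x h1 _ => e x h1⟩
    rw [(JTW.isJ1 e).2, show 175560 = 2 ^ 3 * (3 * (5 * (7 * (11 * 19)))) by rfl] at h3
    have h4 := ((Nat.coprime_primes h1 Nat.prime_two).2 h2).pow 2 3 |>.dvd_of_dvd_mul_left h3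
    have h5 := (dvd_pow_self p two_ne_zero).trans h4
    simp only [h1.dvd_mul, Nat.prime_dvd_prime_iff_eq h1, show Nat.Prime 3 by norm_num, show Nat.Prime 5 by norm_num,
      show Nat.Prime 7 by norm_num, show Nat.Prime 11 by norm_num, show Nat.Prime 19 by norm_num] at h5
    rcases h5 with rfl | rfl | rfl | rfl | rfl <;> norm_num at h4

theorem Good.false [IsSimpleGroup G] (hG : Good G) (hc : ¬ IsMulCommutative G) (h2 : 2 ∉ π) (h : Hom π G) {p : ℕ}
    (hp : p.Prime) (h1 : p ∈ π) : ¬ p ∣ Nat.card G := by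
  induction p using Nat.strong_induction_on with
  | _ p ih =>
  intro hd
  obtain ⟨r, a1, a2, a3, a4, a5⟩ := h.frob hc hp h1 hd
  rcases hG with ⟨c, e⟩ | e
  · have key : ∀ r ∈ π, r.Prime → r ∣ Nat.card G → r = c := fun r b1 b2 b3 => by_contra fun b4 => by
      have := Fact.mk b2
      obtain ⟨x, rfl⟩ := exists_prime_orderOf_dvd_card' r b3
      exact h.not_real h2 b2 b1 (e x b2 (fun e => h2 (e ▸ b1)) b4)
    exact a3 ((key r a1 a2 a4).trans (key p h1 hp hd).symm)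
  · refine ih r (a5 fun e' => ?_) a2 a1 a4
    obtain ⟨x, rfl, hx⟩ := e p hp (fun e => h2 (e ▸ h1)) e'
    exact h.not_real h2 hp h1 hx

theorem good_of_involves {G X : Type u} [Group G] [Finite G] [Group X] [Finite X] [IsSimpleGroup X] (hc : ¬ IsMulCommutative X)
    (h2 : ∀ S : Sylow 2 G, IsMulCommutative S ∨ ∃ n : ℕ, Nonempty ((S : Subgroup G) ≃* DihedralGroup n)) (e : Involves X G) :
    Good X := by
  obtain ⟨S⟩ : Nonempty (Sylow 2 G) := inferInstance
  obtain ⟨K, f, hf⟩ := involves_iff.1 e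
  rcases h2 S with h | ⟨n, ⟨h⟩⟩
  · obtain ⟨T⟩ : Nonempty (Sylow 2 K) := inferInstance
    obtain ⟨g, -, hg⟩ := (syl_top S).exists_le_conj (T.isPGroup'.map K.subtype) le_top
    refine good_of_comm hc (T.mapSurjective hf) ⟨⟨?_⟩⟩
    rintro ⟨_, x, hx, rfl⟩ ⟨_, y, hy, rfl⟩
    obtain ⟨a, ha, e1⟩ := mem_cj'.1 (hg ⟨x, hx, rfl⟩)
    obtain ⟨b, hb, e2⟩ := mem_cj'.1 (hg ⟨y, hy, rfl⟩)
    refine Subtype.ext ((map_mul f x y).symm.trans ((congrArg f (Subtype.ext ?_)).trans (map_mul f y x)))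
    change K.subtype x * K.subtype y = K.subtype y * K.subtype x
    rw [← e1, ← e2, conj_mul, conj_mul, setLike_mul_comm ha hb]
  · rcases GW.known_of_simple X hc (((GW.dc2_of_dihedral S h).subgroup K).of_surjective f hf) with ⟨F, _, _, -, -, ⟨e⟩⟩ | ⟨⟨e⟩⟩
    exacts [(good_psl2 F).of_equiv e, good_A7.of_equiv e]

theorem main {G : Type u} [Group G] [Finite G] (π : Set ℕ) (hodd : ∀ p ∈ π, p.Prime ∧ p ≠ 2)
    (h2 : ∀ S : Sylow 2 G, IsMulCommutative S ∨ ∃ n : ℕ, Nonempty ((S : Subgroup G) ≃* DihedralGroup n))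
    (hhom : (∀ H : Subgroup G, H ≠ ⊥ → (∀ p : ℕ, p.Prime → p ∣ Nat.card ↥H → p ∈ π) →
        ∀ p : ℕ, p.Prime → p ∣ (Subgroup.centralizer (H : Set G)).relIndex (Subgroup.normalizer (H : Set G)) → p ∈ π)) :
    (∃ K : Subgroup G, ∀ x : G, x ∈ K ↔ ∀ p : ℕ, p.Prime → p ∣ orderOf x → p ∉ π) := by
  refine ⟨_, Agent.S4050.closed_of_sep (π := πᶜ) ?_ fun H h1 h2 p hp hd e =>
    e (hhom H h1 (fun q hq h4 => not_not.1 (h2 q hq h4)) p hp hd)⟩
  have hH : Hom π G := fun p hp P hP r hr hd => by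
    refine hhom P ?_ (fun q hq hd => ?_) r hr hd
    · rintro rfl
      rw [relIndex_eq_one.2 (by simp [SetLike.le_def, mem_centralizer_iff])] at hd
      exact hr.not_dvd_one hd
    · have := Fact.mk (hodd p hp).1
      obtain ⟨n, hn⟩ := hP.exists_card_eq
      rwa [(Nat.prime_dvd_prime_iff_eq hq this.out).1 (hq.dvd_of_dvd_pow (hn ▸ hd))]
  refine of_simple_sections (P := fun G _ => Hall.IsPiSeparable πᶜ G) (fun _ _ _ => piSep_of_isSolvable _)
    (fun _ _ _ N _ => piSep_of_normal_of_quotient N) fun X _ _ _ e => ?_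
  by_cases hc : IsMulCommutative X
  · have := Group.isSolvable_of_comm hc.is_comm.comm
    exact piSep_of_isSolvable _
  exact piSep_of_isPi fun p hp hd hπ => (good_of_involves hc h2 e).false hc (fun e => (hodd 2 e).2 rfl)
    (hH.involves (fun p h => (hodd p h).1) e) hp hπ hd

end Cfsg.Lib.Exc.PiH
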