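import Cfsg.Agent.Lib.Exc.TwoNil
import Cfsg.Agent.Lib.GW.ModelL2
import Cfsg.Agent.Lib.Linear.PSL2Small

/-! Groups in which all nontrivial subgroups of a cyclic subgroup of even order have the same normalizer. -/

set_option autoImplicit false
set_option linter.unusedSectionVars false

namespace Cfsg.Lib.Exc
open Subgroup Cfsg.Lib.Core Cfsg.Lib.Transfer Cfsg.Lib.Linear Cfsg.Lib.Layer
open Matrix (ProjGenLinGroup ProjectiveSpecialLinearGroup SpecialLinearGroup)

universe u
variable {G : Type u} [Group G] [Finite G]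

/-- an almost simple group from solvable involution centralizers -/
theorem exists_socle [Nontrivial G] (hss : ∀ N : Subgroup G, N.Normal → Group.IsSolvable N → N = ⊥)
    (hI : ∀ t : G, orderOf t = 2 → Group.IsSolvable (centralizer ({t} : Set G))) :
    ∃ E : Subgroup G, E.Normal ∧ IsSimpleGroup E ∧ ¬ IsMulCommutative E ∧ centralizer (E : Set G) = ⊥ := by
  have hF : fittingSubgroup G = ⊥ := hss _ fit_normal fit_solvable
  have h1 := fstar_eq_layer hF
  obtain ⟨L, hL⟩ := exists_component_of_layer_ne_bot (h1 ▸ fstar_ne_bot : layer G ≠ ⊥)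
  have h2 : layer G = L := le_antisymm (layer_le fun K hK => by
    by_contra hn
    obtain ⟨t, ht⟩ := exists_prime_orderOf_dvd_card' 2 (hp := ⟨Nat.prime_two⟩)
      (FT.even_card_of_not_solvable L (IsQuasisimple.not_isSolvable hL.2)).two_dvd
    have h3 : K ≤ centralizer {(t : G)} :=
      (commutator_eq_bot_iff_le_centralizer.1 (IsComponent.commutator_eq_bot_of_ne hK hL fun e => hn e.le)).trans
        (centralizer_le (Set.singleton_subset_iff.2 t.2))
    have := hI t (by rw [orderOf_coe, ht])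
    exact IsQuasisimple.not_isSolvable hK.2 (isSolvable_of_le h3)) (IsComponent.le_layer hL)
  have hn : L.Normal := h2 ▸ layer_normal
  have hC : centralizer (L : Set G) = ⊥ := le_bot_iff.1 (by
    have := centralizer_fstar_le_fit (G := G)
    rwa [h1, h2, hF] at this)
  have hZ : center L = ⊥ := eq_bot_iff.2 fun z hz => mem_bot.2 (Subtype.ext (mem_bot.1 (hC ▸
    fun y hy => congrArg Subtype.val (mem_center_iff.1 hz ⟨y, hy⟩))))
  refine ⟨L, hn, ?_, fun hc => IsQuasisimple.not_isSolvable hL.2 (Group.isSolvable_of_comm hc.1.1), hC⟩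
  have := hL.2.2
  exact (QuotientGroup.quotientMulEquivOfEq hZ).trans QuotientGroup.quotientBot |>.symm.isSimpleGroup

/-- all nontrivial subgroups of a cyclic subgroup of even order have the same normalizer -/
def SN (G : Type*) [Group G] : Prop :=
  ∀ x : G, Even (orderOf x) → ∀ y ∈ zpowers x, y ≠ 1 → ∀ g, g ∈ normalizer (zpowers y : Set G) ↔ g ∈ normalizer (zpowers x : Set G)

theorem mem_norm_zpowers {g y : G} : g ∈ normalizer (zpowers y : Set G) ↔ g * y * g⁻¹ ∈ zpowers y :=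
  ⟨fun h => (mem_normalizer_iff.1 h y).1 (mem_zpowers y), fun h => mem_normalizer_of_cj_le (cj_zpowers_le.2 h)⟩

namespace SN

theorem of_inj {H : Type*} [Group H] [Finite H] (h : SN G) (f : H →* G) (hf : Function.Injective f) : SN H :=
  fun x hx y hy h1 g => by
    have key : ∀ z : H, g * z * g⁻¹ ∈ zpowers z ↔ f g * f z * (f g)⁻¹ ∈ zpowers (f z) := fun z => by
      rw [← MonoidHom.map_zpowers, ← map_inv, ← map_mul, ← map_mul, mem_map_iff_mem hf]
    rw [mem_norm_zpowers, mem_norm_zpowers, key, key, ← mem_norm_zpowers, ← mem_norm_zpowers]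
    exact h _ (by rwa [orderOf_injective f hf]) _ (by rw [← MonoidHom.map_zpowers]; exact mem_map_of_mem f hy)
      (by simpa [map_eq_one_iff f hf] using h1) _

variable (h : SN G)
include h

theorem comm {x y g : G} (hx : Even (orderOf x)) (hy : y ∈ zpowers x) (h1 : y ≠ 1) (hg : g * y * g⁻¹ ∈ zpowers y) :
    Commute x (g * x * g⁻¹) := by
  obtain ⟨k, hk⟩ := mem_norm_zpowers.1 ((h x hx y hy h1 g).1 (mem_norm_zpowers.2 hg))
  rw [← hk]; exact Commute.self_zpow x k

theorem odd {a b g : G} (ha : orderOf a = 2) (hb : Odd (orderOf b)) (h1 : b ≠ 1) (hc : Commute a b) :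
    g * b * g⁻¹ ∈ zpowers b ↔ Commute g a := by
  have hco : (orderOf a).Coprime (orderOf b) := ha ▸ Nat.coprime_two_left.2 hb
  have hx : Even (orderOf (a * b)) := by rw [hc.orderOf_mul_eq_mul_orderOf_of_coprime hco, ha]; exact even_two_mul _
  have ha' : a ∈ zpowers (a * b) := ⟨orderOf b, by
    obtain ⟨k, hk⟩ := hb
    simp only [zpow_natCast]
    rw [hc.mul_pow, pow_orderOf_eq_one, mul_one, hk, pow_succ, pow_mul, ← ha, pow_orderOf_eq_one, one_pow, one_mul]⟩
  have hb' : b ∈ zpowers (a * b) := by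
    have := mul_mem (inv_mem ha') (mem_zpowers (a * b))
    rwa [inv_mul_cancel_left] at this
  rw [← mem_norm_zpowers, h _ hx b hb' h1, ← h _ hx a ha' (Invol.ne_one_of_two ha), mem_norm_zpowers]
  refine ⟨fun e => ?_, fun e => by rw [e.eq, mul_inv_cancel_right]; exact mem_zpowers a⟩
  have := Invol.eq_of_mem_zpowers e (mem_zpowers a) (by rw [← ha]; exact (SemiconjBy.orderOf_eq g (by simp [SemiconjBy])).symm) ha
  exact mul_inv_eq_iff_eq_mul.1 this

theorem pnil {t : G} (ht : orderOf t = 2) : PNil 2 (centralizer ({t} : Set G)) := by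
  refine fun e => BG1.not_dvd_card_pPrimeCoreOf Nat.prime_two (centralizer ({t} : Set G))
    (e.trans (card_dvd_of_le (resOf_le_iff.2 fun b hb ho => ?_)))
  by_cases h1 : b = 1
  · exact h1 ▸ one_mem _
  refine BG1.le_pPrimeCoreOf' Nat.prime_two (zpowers_le.2 hb) (fun g hg => mem_norm_zpowers.2
    ((h.odd ht (Nat.coprime_two_right.1 ho) h1 (mem_centralizer_singleton_iff.1 hb).symm).2
      (mem_centralizer_singleton_iff.1 hg))) ?_ (mem_zpowers b)
  rw [Nat.card_zpowers]
  exact (Nat.Prime.coprime_iff_not_dvd Nat.prime_two).1 ho.symm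

theorem four {y g : G} (hy : orderOf y = 4) (hg : Commute g (y * y)) : g * y * g⁻¹ = y ∨ g * y * g⁻¹ * y = 1 := by
  classical
  have h4 : y ^ 4 = 1 := hy ▸ pow_orderOf_eq_one y
  have h2 : y * y ≠ 1 := fun e => by
    have := orderOf_dvd_of_pow_eq_one (sq y ▸ e : y ^ 2 = 1)
    rw [hy] at this; norm_num at this
  have := mem_norm_zpowers.1 ((h y (by rw [hy]; decide) (y * y) (mul_mem (mem_zpowers y) (mem_zpowers y)) h2 g).1
    (mem_norm_zpowers.2 (by rw [hg.eq, mul_inv_cancel_right]; exact mem_zpowers _)))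
  rw [mem_zpowers_iff_mem_range_orderOf, hy] at this
  simp only [Finset.mem_image, Finset.mem_range] at this
  obtain ⟨k, hk, e⟩ := this
  have h3 : y ^ k * y ^ k = y * y := by
    rw [e, show g * y * g⁻¹ * (g * y * g⁻¹) = g * (y * y) * g⁻¹ by group, hg.eq, mul_inv_cancel_right]
  interval_cases k
  · exact absurd (by simpa using h3.symm) h2
  · exact Or.inl (by rw [← e, pow_one])
  · exact absurd (by rw [← h3, ← pow_add, h4]) h2
  · exact Or.inr (by rw [← e, ← pow_succ, h4])

end SN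

theorem not_sn_sz {F : Type*} [Field F] [Fintype F] (m : ℕ) [BN.Sz.SzField F m] : ¬ SN (Cfsg.Sz F m) := fun h => by
  have := BN.Sz.charP (F := F) m
  obtain ⟨c, hc⟩ := BN.Sz.exists_σ_ne (F := F) m
  have := h.four (g := BN.Sz.U m c 0) (BN.Sz.orderOf_U m (a := (1 : F)) one_ne_zero 0)
    (by simp [Commute, SemiconjBy, BN.Sz.U_mul, CharTwo.add_self_eq_zero])
  simp only [BN.Sz.U_inv, BN.Sz.U_mul, BN.Sz.U_inj, BN.Sz.U_eq_one_iff, map_add, map_one] at this
  have h2 := BN.Sz.σ_σ m c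
  rcases this with ⟨-, e⟩ | ⟨-, e⟩
  · exact hc (by grind)
  · have h3 : BN.Sz.σ m c = c + 1 := by grind
    rw [h3, map_add, map_one, h3] at h2
    have h4 : c * (c + 1) = 0 := by grind
    rcases mul_eq_zero.1 h4 with rfl | e
    · simp at hc
    · obtain rfl : c = 1 := by grind
      simp at hc

theorem not_sn_a7 : ¬ SN (alternatingGroup (Fin 7)) := fun h => by
  have := (h.odd (a := ⟨Equiv.swap 0 1 * Equiv.swap 2 3, Equiv.Perm.mem_alternatingGroup.2 (by decide)⟩) (b := ⟨Equiv.swap 4 5 * Equiv.swap 5 6, Equiv.Perm.mem_alternatingGroup.2 (by decide)⟩)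
    (g := ⟨Equiv.swap 0 1 * Equiv.swap 1 2, Equiv.Perm.mem_alternatingGroup.2 (by decide)⟩) (orderOf_eq_prime (by decide) (by decide))
    (by rw [orderOf_eq_prime (p := 3) (hp := ⟨Nat.prime_three⟩) (by decide) (by decide)]; decide) (by decide)
    (by unfold Commute SemiconjBy; decide)).1 (by convert mem_zpowers _ using 1; decide)
  revert this
  unfold Commute SemiconjBy
  decide

/-- unitriangular matrices -/
def utm {F : Type*} [Field F] (a b c : F) : SpecialLinearGroup (Fin 3) F :=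
  ⟨!![1, a, c; 0, 1, b; 0, 0, 1], by simp [Matrix.det_fin_three]⟩

/-- unitriangular matrices -/
def ut {F : Type*} [Field F] (a b c : F) : ProjectiveSpecialLinearGroup (Fin 3) F := QuotientGroup.mk (utm a b c)

theorem ut_mul {F : Type*} [Field F] (a b c a' b' c' : F) :
    ut a b c * ut a' b' c' = ut (a + a') (b + b') (c + c' + a * b') := by
  rw [ut, ut, ut, ← QuotientGroup.mk_mul]
  congr 1
  refine Subtype.ext ?_
  change !![1, a, c; 0, 1, b; 0, 0, 1] * !![1, a', c'; 0, 1, b'; 0, 0, 1] = !![1, a + a', c + c' + a * b'; 0, 1, b + b'; 0, 0, 1]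
  ext i j; fin_cases i <;> fin_cases j <;> simp [Matrix.mul_apply, Fin.sum_univ_three] <;> ring

theorem ut_eq_one {F : Type*} [Field F] {a b c : F} : ut a b c = 1 ↔ a = 0 ∧ b = 0 ∧ c = 0 := by
  rw [ut, QuotientGroup.eq_one_iff, Matrix.SpecialLinearGroup.mem_center_iff]
  constructor
  · rintro ⟨r, -, hr⟩
    exact ⟨by simpa [utm] using (congrFun (congrFun hr 0) 1).symm, by simpa [utm] using (congrFun (congrFun hr 1) 2).symm,
      by simpa [utm] using (congrFun (congrFun hr 0) 2).symm⟩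
  · rintro ⟨rfl, rfl, rfl⟩
    refine ⟨1, by simp, ?_⟩
    ext i j; fin_cases i <;> fin_cases j <;> simp [utm]

theorem not_sn_psl3 {F : Type*} [Field F] [Fintype F] (hF : Fintype.card F = 4) :
    ¬ SN (ProjectiveSpecialLinearGroup (Fin 3) F) := fun h => by
  classical
  have h2 : (2 : F) = 0 := by
    have := FiniteField.cast_card_eq_zero F
    rw [hF] at this
    have h4 : (2 : F) * 2 = 0 := by rw [← this]; norm_num
    exact mul_self_eq_zero.1 h4
  obtain ⟨c, hc⟩ : ∃ c : F, c ∉ ({0, 1} : Finset F) := by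
    by_contra hn
    push Not at hn
    have := Finset.card_le_card (fun x _ => hn x : Finset.univ ⊆ ({0, 1} : Finset F))
    have := this.trans Finset.card_le_two
    rw [Finset.card_univ, hF] at this
    omega
  simp only [Finset.mem_insert, Finset.mem_singleton, not_or] at hc
  have hi : (ut c 0 0)⁻¹ = ut c 0 0 := by rw [inv_eq_iff_mul_eq_one, ut_mul, ut_eq_one]; grind
  have := h.four (g := ut c 0 0) (y := ut 1 1 0) (orderOf_eq_prime_pow (p := 2) (n := 1)
    (by rw [pow_one, sq, ut_mul, ut_eq_one]; simp)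
    (by rw [show 2 ^ (1 + 1) = 2 * 2 by norm_num, pow_mul, sq, sq, ut_mul, ut_mul, ut_eq_one]; grind))
    (by rw [Commute, SemiconjBy, ut_mul, ut_mul, ut_mul]; congr 1 <;> grind)
  rw [hi, ← mul_inv_eq_one, show (ut (1 : F) 1 0)⁻¹ = ut 1 1 1 by rw [inv_eq_iff_mul_eq_one, ut_mul, ut_eq_one]; grind] at this
  simp only [ut_mul, ut_eq_one] at this
  grind

section field
variable {F : Type*} [Field F] [Finite F] {E : Subgroup G} (f : GW.Fr E F)

theorem exists_gen_conj {σ : F ≃+* F} (h1 : σ ≠ 1) (h2 : σ * σ = 1) (hF : 4 < Nat.card F) :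
    ∃ d : Fˣ, (∀ a : Fˣ, a ∈ zpowers d) ∧ (d : F) * σ d ≠ 1 ∧ σ d * σ d ≠ d * d := by
  obtain ⟨q, hq⟩ := Forms.exists_isConj (σ := (σ : F →+* F)) (fun h => h1 (RingEquiv.ext fun a => DFunLike.congr_fun h a))
    fun a => DFunLike.congr_fun h2 a
  obtain ⟨d, hd⟩ := IsCyclic.exists_generator (α := Fˣ)
  have ho : orderOf d = q ^ 2 - 1 := by rw [orderOf_eq_card_of_forall_mem_zpowers hd, Nat.card_units, hq.card]
  have hσ : σ d = (d : F) ^ q := hq.apply _
  have h3 : 3 ≤ q := by
    by_contra hc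
    rw [hq.card] at hF
    have : q ≤ 2 := by omega
    nlinarith
  obtain ⟨k, rfl⟩ := Nat.exists_eq_add_of_le' h3
  have h4 : (k + 3) ^ 2 - 1 = k * k + 6 * k + 8 := by rw [Nat.sub_eq_iff_eq_add (by nlinarith)]; ring
  refine ⟨d, hd, fun e => ?_, fun e => ?_⟩
  · have : d ^ (k + 4) = 1 := Units.ext (by rw [Units.val_pow_eq_pow_val, pow_succ', ← hσ, e, Units.val_one])
    have := Nat.le_of_dvd (by omega) (orderOf_dvd_of_pow_eq_one this)
    rw [ho, h4] at this
    omega
  · have : d ^ (2 * k + 4) = 1 := Units.ext (mul_right_cancel₀ (mul_ne_zero d.ne_zero d.ne_zero) (by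
      rw [Units.val_pow_eq_pow_val, Units.val_one, one_mul]
      conv_rhs => rw [← e, hσ]
      ring))
    have := Nat.le_of_dvd (by omega) (orderOf_dvd_of_pow_eq_one this)
    rw [ho, h4] at this
    omega

theorem fr_comm {φ x : G} (hφ : f.κ φ = 1) (hx : f.Φ x = 1)
    (h : ProjGenLinGroup.map (n := Fin 2) (f.Φ φ : F →+* F) (f.κ x) = f.κ x) : Commute φ x := by
  have := f.conj φ hx
  rw [hφ, h, one_mul, inv_one, mul_one, f.eq_iff (f.Φ_conj φ hx) hx] at this
  exact mul_inv_eq_iff_eq_mul.1 this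

theorem fr_pow {φ : G} (hφ : f.κ φ = 1) (n : ℕ) : f.κ (φ ^ n) = 1 := by
  induction n with
  | zero => rw [pow_zero, f.one]
  | succ n ih => rw [pow_succ, f.mul, ih, hφ, map_one, mul_one]

theorem fr_order {φ : G} (hφ : f.κ φ = 1) : orderOf φ = orderOf (f.Φ φ) :=
  Nat.dvd_antisymm (orderOf_dvd_of_pow_eq_one (f.inj _ (by rw [map_pow, pow_orderOf_eq_one]) (fr_pow f hφ _)))
    (orderOf_map_dvd _ _)

theorem fr_shift {x : G} {g : PGL2 F} (h : g * (f.κ x)⁻¹ ∈ LL F) : ∃ y, f.Φ y = f.Φ x ∧ f.κ y = g := by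
  obtain ⟨e, he, h1⟩ := f.exists_E h
  exact ⟨e * x, by rw [map_mul, f.ΦE he, one_mul], by rw [f.mul' (f.ΦE he), h1, inv_mul_cancel_right]⟩

theorem SN.no_pure (h : SN G) (hF : 4 < Nat.card F) {φ : G} (hφ : f.κ φ = 1) (hp : (orderOf (f.Φ φ)).Prime) : False := by
  have ho := fr_order f hφ
  obtain ⟨w, hw, e1⟩ := f.exists_E (g := mat 0 1 (-1) 0 (by simp)) (mat_mem_range_toPGL.2 ⟨1, by simp⟩)
  obtain ⟨s, hs, e2⟩ := f.exists_E (g := mat 1 1 0 1 (by simp)) (mat_mem_range_toPGL.2 ⟨1, by simp⟩)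
  have hw := f.ΦE hw
  have hs := f.ΦE hs
  have c1 : Commute φ w := fr_comm f hφ hw (by rw [e1, map_mat]; simp)
  have c2 : Commute φ s := fr_comm f hφ hs (by rw [e2, map_mat]; simp)
  have hφ1 : φ ≠ 1 := fun e => by rw [← ho, e, orderOf_one] at hp; exact Nat.not_prime_one hp
  rcases hp.eq_two_or_odd' with h2 | h2
  · by_cases hc : (2 : F) = 0
    · obtain ⟨d, -, h3, -⟩ := exists_gen_conj (σ := f.Φ φ) (fun e => by simp [e] at h2)
        (by rw [← sq, ← h2, pow_orderOf_eq_one]) hF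
      have h4 : f.Φ φ (f.Φ φ d) = d := DFunLike.congr_fun (show f.Φ φ * f.Φ φ = 1 by rw [← sq, ← h2, pow_orderOf_eq_one]) (d : F)
      set a : F := d * f.Φ φ d
      have ha0 : a ≠ 0 := mul_ne_zero d.ne_zero ((map_ne_zero _).2 d.ne_zero)
      have : CharP F 2 := CharTwo.of_one_ne_zero_of_two_eq_zero one_ne_zero hc
      obtain ⟨b, hb, e3⟩ := f.exists_E (g := mat a 0 0 1 (by simpa using ha0)) (mat_mem_range_toPGL.2 (by
        let _ := Fintype.ofFinite F
        exact FiniteField.isSquare_of_char_two (ringChar.eq F 2) _))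
      have hb := f.ΦE hb
      have c3 : Commute φ b := fr_comm f hφ hb (by
        rw [e3, map_mat]
        simp only [map_zero, map_one]
        congr 1
        simp only [a, RingHom.coe_coe, map_mul, h4, mul_comm])
      have hpow : ∀ n : ℕ, mat a 0 0 1 (by simpa using ha0) ^ n = mat (a ^ n) 0 0 1 (by simpa using pow_ne_zero n ha0) := by
        intro n
        induction n with
        | zero => rw [pow_zero, one_eq_mat]; simp
        | succ n ih => rw [pow_succ, ih, mat_mul]; simp [pow_succ]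
      have hbo : Odd (orderOf b) := by
        let _ := Fintype.ofFinite F
        refine Odd.of_dvd_nat (n := Fintype.card F - 1) ?_ ?_
        · have := (FiniteField.even_card_of_char_two (ringChar.eq F 2))
          have := Fintype.card_pos (α := F)
          exact Nat.odd_iff.2 (by omega)
        · rw [← f.order hb, e3, orderOf_dvd_iff_pow_eq_one, hpow, mat_eq_one_iff]
          exact ⟨rfl, rfl, FiniteField.pow_card_sub_one_eq_one a ha0⟩
      have hb1 : b ≠ 1 := fun e => by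
        rw [e, f.one, eq_comm, mat_eq_one_iff] at e3
        exact h3 e3.2.2
      obtain ⟨k, hk⟩ := (h.odd (ho.trans h2) hbo hb1 c3).2 c2.symm
      have h5 : Commute b (s * b * s⁻¹) := hk ▸ Commute.self_zpow b k
      rw [← f.comm_iff hb (f.Φ_conj s hb), f.conj' hb hs, e2, e3, mat_inv, Commute, SemiconjBy] at h5
      simp only [mat_mul, mat_eq_mat_iff] at h5
      obtain ⟨u, -, -, h6, -, h7⟩ := h5
      exact h3 (by grind)
    · obtain ⟨p, hp', hp⟩ := exists_char_prime F
      have hpow : ∀ n : ℕ, mat (1 : F) 1 0 1 (by simp) ^ n = mat (1 : F) n 0 1 (by simp) := by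
        intro n
        induction n with
        | zero => rw [pow_zero, one_eq_mat]; simp
        | succ n ih => rw [pow_succ, ih, mat_mul]; simp [add_comm]
      have hso : Odd (orderOf s) := by
        refine Odd.of_dvd_nat (n := p) (hp'.odd_of_ne_two fun e => hc (by simpa [e] using CharP.cast_eq_zero F p)) ?_
        rw [← f.order hs, e2, orderOf_dvd_iff_pow_eq_one, hpow, mat_eq_one_iff]
        exact ⟨CharP.cast_eq_zero F p, rfl, rfl⟩
      have hs1 : s ≠ 1 := fun e => by
        rw [e, f.one, eq_comm, mat_eq_one_iff] at e2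
        exact one_ne_zero e2.1
      obtain ⟨k, hk⟩ := (h.odd (ho.trans h2) hso hs1 c2).2 c1.symm
      have h5 : Commute s (w * s * w⁻¹) := hk ▸ Commute.self_zpow s k
      rw [← f.comm_iff hs (f.Φ_conj w hs), f.conj' hs hw, e2, e1, mat_inv, Commute, SemiconjBy] at h5
      simp only [mat_mul, mat_eq_mat_iff] at h5
      obtain ⟨u, -, h6, -⟩ := h5
      simp at h6
  · have hwo : orderOf w = 2 := by
      rw [← f.order hw, e1]
      exact orderOf_eq_prime (by rw [sq, mat_mul, mat_eq_one_iff]; simp) (by rw [Ne, mat_eq_one_iff]; simp)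
    have h5 := (h.odd (g := s) hwo (ho ▸ h2) hφ1 c1.symm).1 (by rw [c2.symm.eq, mul_inv_cancel_right]; exact mem_zpowers φ)
    rw [← f.comm_iff hs hw, e2, e1, Commute, SemiconjBy] at h5
    simp only [mat_mul, mat_eq_mat_iff] at h5
    obtain ⟨u, hu, h6, -⟩ := h5
    exact hu (by simpa using h6)

theorem SN.Φ_eq_one (h : SN G) (hF : 4 < Nat.card F) (x : G) : f.Φ x = 1 := by
  by_contra hx
  have : Finite (F ≃+* F) := Finite.of_injective (fun f : F ≃+* F => (f : F → F)) DFunLike.coe_injective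
  obtain ⟨r, hr, hd⟩ := Nat.exists_prime_and_dvd (n := orderOf (f.Φ x)) (by simpa using hx)
  obtain ⟨y, hy⟩ : ∃ y, orderOf (f.Φ y) = r :=
    ⟨x ^ (orderOf (f.Φ x) / r), by rw [map_pow, orderOf_pow_orderOf_div (orderOf_pos _).ne' hd]⟩
  have key : ∀ y, orderOf (f.Φ y) = r → f.κ y ∉ LL F := fun y hy e => by
    obtain ⟨φ, h1, h2⟩ := fr_shift f (x := y) (g := 1) (by simpa using e)
    exact h.no_pure f hF h2 (by rw [h1, hy]; exact hr)
  by_cases hc : (2 : F) = 0
  · obtain ⟨g, hg⟩ := ProjGenLinGroup.mk_surjective (f.κ y)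
    have : CharP F 2 := CharTwo.of_one_ne_zero_of_two_eq_zero one_ne_zero hc
    let _ := Fintype.ofFinite F
    exact key y hy (hg ▸ pk_mem_LL.2 (FiniteField.isSquare_of_char_two (ringChar.eq F 2) _))
  rcases hr.eq_two_or_odd' with rfl | h2
  · have h1 : f.Φ y * f.Φ y = 1 := by rw [← sq, ← hy, pow_orderOf_eq_one]
    obtain ⟨d, hd, h3, h4⟩ := exists_gen_conj (σ := f.Φ y) (fun e => by simp [e] at hy) h1 hF
    have hδ : mat (d : F) 0 0 1 (by simp) ∉ LL F := fun e => by
      obtain ⟨c, hc⟩ := mat_mem_range_toPGL.1 e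
      obtain ⟨g, hg⟩ := ProjGenLinGroup.mk_surjective (f.κ y)
      refine key y hy (hg ▸ pk_mem_LL.2 ?_)
      obtain ⟨k, hk⟩ := hd (Units.mk0 _ (gl_det_ne g))
      refine ⟨c ^ k, ?_⟩
      have := congrArg Units.val hk
      simp only [Units.val_zpow_eq_zpow_val, Units.val_mk0] at this
      rw [← this, ← mul_zpow, ← hc]
      simp
    obtain ⟨z, h5, h6⟩ := fr_shift f (x := y) (g := mat (d : F) 0 0 1 (by simp))
      ((mul_mem_iff_of_index_two (index_LL hc)).2 (by simp [hδ, key y hy]))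
    obtain ⟨w, hw, e1⟩ := f.exists_E (g := mat 0 1 (-1) 0 (by simp)) (mat_mem_range_toPGL.2 ⟨1, by simp⟩)
    have hw := f.ΦE hw
    have h7 : f.Φ (z * z) = 1 := by rw [map_mul, h5, h1]
    have h8 : f.κ (z * z) = mat (d * f.Φ y d) 0 0 1 (by simp) := by rw [f.mul, h6, h5, map_mat, mat_mul]; simp
    have h9 : f.κ (w * z * w⁻¹) = mat 1 0 0 (d : F) (by simp) := by
      rw [f.mul, f.mul' hw, f.inv hw, e1, h6, mat_inv, map_mat, mat_mul, mat_mul]; simp
    have h10 := h.comm (x := z) (y := z * z) (g := w) (even_iff_two_dvd.2 (hy ▸ h5 ▸ orderOf_map_dvd f.Φ z))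
      (mul_mem (mem_zpowers z) (mem_zpowers z)) (fun e => by
        rw [e, f.one, eq_comm, mat_eq_one_iff] at h8
        exact h3 h8.2.2) (by
        rw [show w * (z * z) * w⁻¹ = (z * z)⁻¹ by
          rw [← f.eq_iff (f.Φ_conj w h7) (by rw [map_inv, h7, inv_one]), f.conj' h7 hw, f.inv h7, h8, e1, mat_inv, mat_inv,
            mat_mul, mat_mul]
          simp]
        exact inv_mem (mem_zpowers _))
    have h11 := congrArg f.κ h10.eq
    rw [f.mul, f.mul (w * z * w⁻¹), show f.Φ (w * z * w⁻¹) = f.Φ y by simp [hw, h5], h9, h6, h5, map_mat, map_mat,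
      mat_mul, mat_mul, mat_eq_mat_iff] at h11
    obtain ⟨u, -, h12, -, -, h13⟩ := h11
    simp only [map_one, map_zero, mul_one, mul_zero, add_zero, one_mul, zero_add, RingHom.coe_coe] at h12 h13
    exact h4 (by linear_combination (f.Φ y d) * h12 - (d : F) * h13)
  · refine key (y * y) (by rw [map_mul, ← sq, (hy ▸ Nat.coprime_two_right.2 h2 : (orderOf (f.Φ y)).Coprime 2).orderOf_pow, hy]) ?_
    exact (f.mul_mem_LL hc y y).2 Iff.rfl

theorem fr_linear (h : ∀ x, f.Φ x = 1) (e : E ≃* PSL2 F) : Nonempty (G ≃* PSL2 F) ∨ Nonempty (G ≃* PGL2 F) := by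
  let K : G →* PGL2 F := MonoidHom.mk' f.κ fun x => f.mul' (h x)
  have hK : Function.Injective K := fun x y e => (f.eq_iff (h x) (h y)).1 e
  by_cases hE : E = ⊤
  · exact Or.inl ⟨(topEquiv.symm.trans (MulEquiv.subgroupCongr hE.symm)).trans e⟩
  obtain ⟨x, hx⟩ : ∃ x, x ∉ E := by simpa [eq_top_iff'] using hE
  have h1 : f.κ x ∉ LL F := fun e => hx ((f.memE x).2 ⟨h x, e⟩)
  refine Or.inr ⟨MulEquiv.ofBijective K ⟨hK, fun g => ?_⟩⟩
  by_cases hg : g ∈ LL F
  · obtain ⟨y, -, h2⟩ := f.exists_E hg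
    exact ⟨y, h2⟩
  have hc : (2 : F) ≠ 0 := fun hc => by
    obtain ⟨g, rfl⟩ := ProjGenLinGroup.mk_surjective g
    have : CharP F 2 := CharTwo.of_one_ne_zero_of_two_eq_zero one_ne_zero hc
    let _ := Fintype.ofFinite F
    exact hg (pk_mem_LL.2 (FiniteField.isSquare_of_char_two (ringChar.eq F 2) _))
  obtain ⟨y, -, h2⟩ := fr_shift f (x := x) (g := g) ((mul_mem_iff_of_index_two (index_LL hc)).2 (by simp [hg, h1]))
  exact ⟨y, h2⟩

end field

theorem SN.main [Nontrivial G] (h : SN G) (hss : ∀ N : Subgroup G, N.Normal → Group.IsSolvable N → N = ⊥) :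
    ∃ (F : Type) (_ : Field F) (_ : Fintype F), 3 < Fintype.card F ∧
      (Nonempty (G ≃* PSL2 F) ∨ Nonempty (G ≃* PGL2 F)) := by
  obtain ⟨E, hn, hs, hc, hC⟩ := exists_socle hss fun t ht => solvable_of_pnil (h.pnil ht)
  have hE : SN E := h.of_inj E.subtype E.subtype_injective
  have key : ∀ (F : Type) [Field F] [Fintype F], 3 < Fintype.card F → Nonempty (E ≃* PSL2 F) →
      ∃ (F : Type) (_ : Field F) (_ : Fintype F), 3 < Fintype.card F ∧
      (Nonempty (G ≃* PSL2 F) ∨ Nonempty (G ≃* PGL2 F)) := by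
    have key : ∀ (F : Type) [Field F] [Fintype F], 4 < Fintype.card F → Nonempty (E ≃* PSL2 F) →
        ∃ (F : Type) (_ : Field F) (_ : Fintype F), 3 < Fintype.card F ∧
        (Nonempty (G ≃* PSL2 F) ∨ Nonempty (G ≃* PGL2 F)) := fun F _ _ hF ⟨e⟩ => by
      obtain ⟨f⟩ := GW.nonempty_fr E hC e
      exact ⟨F, _, _, by omega, fr_linear f (h.Φ_eq_one f (by rwa [Nat.card_eq_fintype_card])) e⟩
    intro F _ _ hF ⟨e⟩
    by_cases h4 : Fintype.card F = 4
    · have : Fact (Nat.Prime 5) := ⟨by norm_num⟩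
      obtain ⟨e1⟩ := psl2_four_equiv (F := F) (by rw [Nat.card_eq_fintype_card, h4])
      obtain ⟨e2⟩ := psl2_five_equiv (F := ZMod 5) (by simp)
      exact key (ZMod 5) (by simp) ⟨e.trans (e1.trans e2.symm)⟩
    · exact key F (by omega) ⟨e⟩
  rcases twoNil_list hc fun t ht => hE.pnil ht with
    (⟨F, _, _, n, h1, h2, h3⟩ | ⟨F, _, _, m, hm, ⟨e⟩⟩ | ⟨F, _, _, k, h1, h2, h3⟩ | ⟨F, _, _, h1, ⟨e⟩⟩) | ⟨F, _, _, -, h1, h2⟩ | ⟨⟨e⟩⟩
  · exact key F (by have := Nat.pow_le_pow_right two_pos h1; omega) h3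
  · exact (not_sn_sz m (hE.of_inj e.symm.toMonoidHom e.symm.injective)).elim
  · exact key F (by have := Nat.pow_le_pow_right two_pos h1; omega) h3
  · exact (not_sn_psl3 h1 (hE.of_inj e.symm.toMonoidHom e.symm.injective)).elim
  · exact key F h1 h2
  · exact (not_sn_a7 (hE.of_inj e.symm.toMonoidHom e.symm.injective)).elim

end Cfsg.Lib.Exc
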