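import Cfsg.Agent.Lib.Small.SylNum
import Cfsg.Agent.Lib.Small.Order
import Cfsg.Agent.Lib.Hall.ClassSize
import Cfsg.Agent.S0144

/-! Groups whose Sylow numbers are prime powers are solvable. -/

set_option autoImplicit false
set_option linter.unusedSectionVars false

namespace Cfsg.Lib.Exc

open Subgroup Cfsg.Lib.Amalg

universe u

variable {G : Type u} [Group G] [Finite G]

/-- In a simple group, a proper subgroup of index prime to `n_p` has index divisible by `p`. -/
theorem dvd_index_of_coprime [IsSimpleGroup G] {p : ℕ} [Fact p.Prime] (hp : p ∣ Nat.card G) {H : Subgroup G}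
    (hH : H ≠ ⊤) (h : (Nat.card (Sylow p G)).Coprime H.index) : p ∣ H.index := by
  by_contra h1
  obtain ⟨P, hP⟩ := Hall.exists_sylow_le_of_not_dvd_index h1
  rw [← Small.index_normalizer_sylow P] at h
  have h2 : (P : Subgroup G) ≤ H.normalCore := fun x hx g => by
    obtain ⟨n, hn, m, hm, e⟩ := Hall.factor_of_coprime_index h g⁻¹
    obtain rfl : g = m⁻¹ * n⁻¹ := by rw [← mul_inv_rev, ← e, inv_inv]
    rw [show m⁻¹ * n⁻¹ * x * (m⁻¹ * n⁻¹)⁻¹ = m⁻¹ * (n⁻¹ * x * n⁻¹⁻¹) * m by group]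
    exact mul_mem (mul_mem (inv_mem hm) (hP ((mem_normalizer_iff.1 (inv_mem hn) x).1 hx))) hm
  rcases H.normalCore_normal.eq_bot_or_eq_top with e | e
  · exact P.ne_bot_of_dvd_card hp (le_bot_iff.1 (e ▸ h2))
  · exact hH (top_le_iff.1 (e ▸ H.normalCore_le))

theorem exists_third_prime [IsSimpleGroup G] (hG : ¬ IsMulCommutative G) {p q : ℕ} (hp : p.Prime) (hq : q.Prime) :
    ∃ r, r.Prime ∧ r ∣ Nat.card G ∧ r ≠ p ∧ r ≠ q := by
  by_contra! h
  obtain ⟨a, m, hm, e⟩ := Nat.exists_eq_pow_mul_and_not_dvd (Nat.card_pos (α := G)).ne' p hp.ne_one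
  have h0 : m ≠ 0 := by rintro rfl; simp at hm
  have := Nat.eq_prime_pow_of_unique_prime_dvd (p := q) h0 fun {r} hr hd =>
    h r hr (e ▸ hd.mul_left _) fun e' => hm (e' ▸ hd)
  exact Small.not_isSolvable_of_simple hG (Agent.S0144.result p q a _ hp hq (e.trans (by rw [← this])))

theorem card_sylow_ne_one [IsSimpleGroup G] (hG : ¬ IsMulCommutative G) {p : ℕ} [Fact p.Prime] (hp : p ∣ Nat.card G) :
    Nat.card (Sylow p G) ≠ 1 := fun e => by
  obtain ⟨P⟩ : Nonempty (Sylow p G) := inferInstance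
  rw [← Small.index_normalizer_sylow P, index_eq_one] at e
  exact Small.normalizer_ne_top_of_isPGroup hG P.2 (P.ne_bot_of_dvd_card hp) e

theorem solvable_of_simple_sections (Q : ∀ (G : Type u) [Group G], Prop)
    (h1 : ∀ (G : Type u) [Group G] [Finite G] (N : Subgroup G) [N.Normal], Q G → Q N ∧ Q (G ⧸ N))
    (h2 : ∀ (G : Type u) [Group G] [Finite G] [IsSimpleGroup G], Q G → IsMulCommutative G) :
    ∀ (n : ℕ) (G : Type u) [Group G] [Finite G], Nat.card G = n → Q G → Group.IsSolvable G := by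
  intro n
  induction n using Nat.strong_induction_on with | _ n ih => ?_
  intro G _ _ hn hG
  rcases subsingleton_or_nontrivial G with h | h
  · infer_instance
  by_cases hs : IsSimpleGroup G
  · exact Group.isSolvable_of_comm (h2 G hG).is_comm.comm
  obtain ⟨K, hK, hK1, hK2⟩ : ∃ K : Subgroup G, K.Normal ∧ K ≠ ⊥ ∧ K ≠ ⊤ := by
    by_contra h1
    exact hs ⟨fun K hK => by by_contra h2; exact h1 ⟨K, hK, by tauto⟩⟩
  have := ih _ (by rw [← hn, ← card_top (G := G)]; exact Core.card_lt_of_lt (lt_top_iff_ne_top.2 hK2)) K rfl (h1 G K hG).1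
  have := ih _ (by
    rw [← hn, ← K.card_mul_index]
    exact lt_mul_of_one_lt_left Nat.card_pos ((one_lt_card_iff_ne_bot K).2 hK1)) (G ⧸ K) rfl (h1 G K hG).2
  exact Group.isSolvable_of_ker_le_range K.subtype (QuotientGroup.mk' K) (by simp)

theorem solvable_of_sylow_primePow
    (h : ∀ (r : ℕ) [Fact r.Prime], Nat.card (Sylow r G) = 1 ∨ IsPrimePow (Nat.card (Sylow r G))) :
    Group.IsSolvable G := by
  have k : ∀ {a b : ℕ}, a ∣ b → b = 1 ∨ IsPrimePow b → a = 1 ∨ IsPrimePow a := fun {a b} h1 h2 =>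
    or_iff_not_imp_left.2 fun h3 => h2.elim (fun e => absurd (Nat.dvd_one.1 (e ▸ h1)) h3) fun e => e.dvd h1 h3
  refine solvable_of_simple_sections (fun G _ => ∀ (r : ℕ) [Fact r.Prime], Nat.card (Sylow r G) = 1 ∨
    IsPrimePow (Nat.card (Sylow r G))) (fun G _ _ N _ h => ⟨fun r _ => k (Small.card_sylow_normal_dvd N) (h r),
      fun r _ => k (Small.card_sylow_dvd_of_surjective (QuotientGroup.mk'_surjective N)) (h r)⟩) ?_ _ G rfl h
  intro G _ _ _ h
  by_contra hG
  have h1 : ∀ p : ℕ, p.Prime → p ∣ Nat.card G → ∃ r a, r.Prime ∧ r ∣ Nat.card G ∧ r ≠ p ∧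
      Nat.card (Sylow p G) = r ^ (a + 1) := fun p hp hd => by
    have := Fact.mk hp
    obtain ⟨r, a, hr, ha, e⟩ := (isPrimePow_nat_iff _).1 ((h p).resolve_left (card_sylow_ne_one hG hd))
    obtain ⟨P⟩ : Nonempty (Sylow p G) := inferInstance
    have h2 : r ∣ Nat.card (Sylow p G) := e ▸ dvd_pow_self r ha.ne'
    exact ⟨r, a - 1, hr, h2.trans (P.card_dvd_index.trans (index_dvd_card _)), fun e' => not_dvd_card_sylow p G (e' ▸ h2),
      by rw [← e, Nat.sub_add_cancel ha]⟩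
  choose! f a f1 f2 f3 f4 using h1
  have h2 : ∀ p q : ℕ, p.Prime → p ∣ Nat.card G → q.Prime → q ∣ Nat.card G → f p ≠ f q → p = f q :=
    fun p q hp hp' hq hq' e => by
    have := Fact.mk hp
    have := Fact.mk hq
    obtain ⟨Q⟩ : Nonempty (Sylow q G) := inferInstance
    have h3 := dvd_index_of_coprime hp' (H := 𝐍 (Q : Subgroup G))
      (Small.normalizer_ne_top_of_isPGroup hG Q.2 (Q.ne_bot_of_dvd_card hq')) (by
        rw [Small.index_normalizer_sylow, f4 p hp hp', f4 q hq hq']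
        exact ((Nat.coprime_primes (f1 p hp hp') (f1 q hq hq')).2 e).pow _ _)
    rw [Small.index_normalizer_sylow, f4 q hq hq'] at h3
    exact (Nat.prime_dvd_prime_iff_eq hp (f1 q hq hq')).1 (hp.dvd_of_dvd_pow h3)
  obtain ⟨p, hp, hp', -⟩ := exists_third_prime hG Nat.prime_two Nat.prime_two
  have r1 := f1 p hp hp'
  have r2 := f2 p hp hp'
  obtain ⟨s, hs, hs', s1, s2⟩ := exists_third_prime hG hp r1
  have h3 := h2 p _ hp hp' r1 r2 (f3 _ r1 r2).symm
  have h4 : f s = f p := by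
    by_contra e
    exact s2 (h2 s p hs hs' hp hp' e)
  exact s1 ((h2 s _ hs hs' r1 r2 (by rw [h4, ← h3]; exact f3 p hp hp')).trans h3.symm)

end Cfsg.Lib.Exc
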