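import Cfsg.Agent.Lib.Exc.Free
import Cfsg.Agent.Lib.Coprime.Spec5
import Cfsg.Agent.Lib.BN.SzCount
import Cfsg.Agent.S1003

/-!
# Groups in which no prime divides three element orders: the CIT case
-/

set_option autoImplicit false
set_option linter.unusedSectionVars false

namespace Cfsg.Lib.Exc

open Cfsg Cfsg.Lib.Transfer Cfsg.Lib.Invol Subgroup

local notation "PSL" => Matrix.ProjectiveSpecialLinearGroup

variable {G : Type*} [Group G] [Finite G]

/-- element orders -/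
def Sp (G : Type*) [Group G] (n : ℕ) : Prop := ∃ x : G, orderOf x = n

/-- no prime divides three element orders -/
def T3 (G : Type*) [Group G] : Prop :=
  ∀ p a b c : ℕ, p.Prime → Sp G a → Sp G b → Sp G c → p ∣ a → p ∣ b → p ∣ c → a = b ∨ b = c ∨ a = c

theorem Sp.dvd {n m : ℕ} (h : Sp G n) (hm : m ∣ n) : Sp G m := by
  obtain ⟨x, rfl⟩ := h
  exact ⟨x ^ (orderOf x / m), orderOf_pow_orderOf_div (orderOf_pos x).ne' hm⟩

theorem Sp.of_surj {X : Type*} [Group X] {n : ℕ} (h : Sp X n) (f : G →* X) (hf : Function.Surjective f) : Sp G n := by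
  obtain ⟨x, rfl⟩ := h
  obtain ⟨g, rfl⟩ := hf x
  exact Sp.dvd ⟨g, rfl⟩ (orderOf_map_dvd f g)

theorem Sp.of_inj {X : Type*} [Group X] {n : ℕ} (h : Sp X n) (f : X →* G) (hf : Function.Injective f) : Sp G n :=
  let ⟨x, hx⟩ := h; ⟨f x, (orderOf_injective f hf x).trans hx⟩

theorem Sp.mul {x y : G} (h : Commute x y) (hc : (orderOf x).Coprime (orderOf y)) : Sp G (orderOf x * orderOf y) :=
  ⟨_, h.orderOf_mul_eq_mul_orderOf_of_coprime hc⟩

theorem T3.of_surj {X : Type*} [Group X] (h : T3 G) (f : G →* X) (hf : Function.Surjective f) : T3 X :=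
  fun p a b c hp ha hb hc => h p a b c hp (ha.of_surj f hf) (hb.of_surj f hf) (hc.of_surj f hf)

theorem T3.omega (h : T3 G) {m : ℕ} (hm : Sp G m) : m.primeFactorsList.length ≤ 2 := by
  by_contra! h3
  have h0 : m ≠ 0 := by rintro rfl; simp at h3
  have h1 := Nat.prod_primeFactorsList h0
  have h2 := fun p => Nat.prime_of_mem_primeFactorsList (n := m) (p := p)
  obtain ⟨a, b, c, l, e⟩ : ∃ a b c l, m.primeFactorsList = a :: b :: c :: l := by
    rcases e : m.primeFactorsList with _ | ⟨a, _ | ⟨b, _ | ⟨c, l⟩⟩⟩ <;> simp_all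
  rw [e] at h1 h2
  have ha := h2 a (by simp)
  have hb := (h2 b (by simp)).one_lt
  have hc := (h2 c (by simp)).one_lt
  have := ha.pos
  simp only [List.prod_cons] at h1
  rcases h a a (a * b) (a * b * c) ha (hm.dvd ⟨_, h1.symm⟩) (hm.dvd ⟨c * l.prod, by rw [← h1]; ring⟩)
    (hm.dvd ⟨l.prod, by rw [← h1]; ring⟩) dvd_rfl (dvd_mul_right _ _) ((dvd_mul_right _ _).mul_right _) with e | e | e <;>
    nlinarith [Nat.mul_pos this (by omega : 0 < b)]

theorem T3.not_eight (h : T3 G) : ¬ Sp G 8 := fun e => absurd (h.omega e) (by decide +kernel)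

theorem T2.pow_four (h : ¬ Sp G 8) {x : G} (hx : T2 x) : x ^ 4 = 1 := by
  obtain ⟨k, hk⟩ := hx
  obtain ⟨j, -, hj⟩ := (Nat.dvd_prime_pow Nat.prime_two).1 (orderOf_dvd_of_pow_eq_one hk)
  rw [← orderOf_dvd_iff_pow_eq_one, hj]
  refine pow_dvd_pow 2 (show j ≤ 2 from not_lt.1 fun e => h (Sp.dvd ⟨x, hj⟩ (pow_dvd_pow 2 e)))

theorem CIT.eq_bot_sz (h : CIT G) (h8 : ¬ Sp G 8) {N : Subgroup G} [N.Normal] (hN : IsPGroup 2 N) {F : Type*} [Field F] {m : ℕ}
    [BN.Sz.SzField F m] (e : G ⧸ N ≃* Cfsg.Sz F m) : N = ⊥ := by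
  by_contra h0
  obtain ⟨T, -, hT, -⟩ := BN.Sz.exists_tori F m
  obtain ⟨f, hf, f4, f2⟩ := hT.exists_order_four
  obtain ⟨z, hz, z2, hc⟩ := exists_central hN h0
  obtain ⟨x, hx, x1⟩ := hT.exists_ne_one
  let π := e.toMonoidHom.comp (QuotientGroup.mk' N)
  have hπ : Function.Surjective π := e.surjective.comp (QuotientGroup.mk'_surjective N)
  have hk : ∀ g, π g = 1 ↔ g ∈ N := fun g => by simp [π]
  obtain ⟨g, rfl⟩ := hπ x
  have : (N ⊓ centralizer (N : Set G)).Normal := inferInstance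
  have : IsMulCommutative (N ⊓ centralizer (N : Set G) : Subgroup G) := ⟨⟨fun a b => Subtype.ext (b.2.2 a a.2.1)⟩⟩
  have t2 : ∀ y, (π y) ^ 4 = 1 → y ^ 4 = 1 := fun y hy => (T2.of_mul_self (T2.of_mul_self
    (T2.of_mem hN ((hk _).1 (by simpa [pow_succ, mul_assoc] using hy))))).pow_four h8
  have := free_comm π hπ (N ⊓ centralizer (N : Set G)) (fun a ha b hb => (hb.2 a ((hk a).1 ha)).symm) T hf (n := 4)
    (fun i h1 h2 => (eq_bot_iff.2 fun y hy => T2.eq_one ((cit_sz m).t2 (x := f ^ i) (T2.pow ⟨2, f4⟩ i) (fun e => f2 (by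
      have h3 := Nat.dvd_gcd (orderOf_dvd_of_pow_eq_one e) (orderOf_dvd_of_pow_eq_one f4)
      rw [← sq, ← orderOf_dvd_iff_pow_eq_one]
      interval_cases i <;> exact h3.trans (by norm_num))) (mem_cent.1 hy.2)) (odd_orderOf_of_mem hT.odd_card hy.1)))
    (by norm_num) (fun y hy v hv => by
      have h1 : π y ^ 4 = 1 := by
        obtain ⟨c, hc⟩ := isConj_iff.1 hy
        rw [← hc, conj_pow, f4, mul_one, mul_inv_cancel]
      rw [t2 y h1, t2 _ (by rwa [map_mul, (hk v).2 hv.1, one_mul])])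
    (w := z) ⟨hz, fun a ha => (hc a ha).symm⟩ (by rw [z2]; exact Nat.coprime_two_left.2 hT.odd_card) hx
  exact x1 (((h.t2 (T2.of_sq (mul_self_of_two z2)) (ne_one_of_two z2) this).map π).eq_one
    (odd_orderOf_of_mem hT.odd_card hx))

theorem CIT.not_nine2 (h : CIT G) (h8 : ¬ Sp G 8) : ¬ Nine2 G := fun hn => Coprime.not_nine2 hn fun x => by
  by_cases hx : T2 x
  · exact (Nat.le_of_dvd (by norm_num) (orderOf_dvd_of_pow_eq_one (hx.pow_four h8))).trans (by norm_num)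
  obtain ⟨N, _, hi, F, _, _, hF, ⟨e⟩⟩ := hn
  obtain ⟨k, hk⟩ := h.odd hx
  have h1 : x ∈ N := by
    have h6 := pow_orderOf_eq_one x
    rw [hk, pow_succ, pow_mul] at h6
    exact eq_inv_of_mul_eq_one_right h6 ▸ inv_mem (pow_mem (sq_mem_of_index_two hi _) k)
  have : CharP F 3 := charP_of_card_eq_prime_pow (f := 2) hF
  have h2 := (Known.PSL2_spectrum 3 _).1 ⟨e ⟨x, h1⟩, rfl⟩
  rw [MulEquiv.orderOf_eq, ← orderOf_coe, Nat.card_eq_fintype_card, hF] at h2
  rcases h2 with h | h | h <;> exact (Nat.le_of_dvd (by norm_num) h).trans (by norm_num)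

theorem CIT.eq_bot_nine (h : CIT G) {N : Subgroup G} [N.Normal] (hN : IsPGroup 2 N) {F : Type*} [Field F] [Fintype F]
    (hF : Fintype.card F = 9) (e : G ⧸ N ≃* PSL (Fin 2) F) : N = ⊥ := by
  have := Fact.mk Nat.prime_three
  have : CharP F 3 := charP_of_card_eq_prime_pow (f := 2) hF
  obtain ⟨K, hK⟩ := Sylow.exists_subgroup_card_pow_prime (G := PSL (Fin 2) F) 3 (n := 2) (by rw [card_psl2_nine hF]; norm_num)
  refine h.eq_bot hN e K Nat.prime_three Nat.prime_three hK (by decide) fun x hx => ?_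
  have h2 := (Known.PSL2_spectrum 3 _).1 ⟨x, hx⟩
  rw [Nat.card_eq_fintype_card, hF] at h2
  norm_num at h2

theorem CIT.eq_bot_seven (h : CIT G) {N : Subgroup G} [N.Normal] (hN : IsPGroup 2 N) {F : Type*} [Field F] [Fintype F]
    (hF : Fintype.card F = 7) (e : G ⧸ N ≃* PSL (Fin 2) F) : N = ⊥ := by
  have : Fact (Nat.Prime 7) := ⟨by norm_num⟩
  have : CharP F 7 := charP_of_card_eq_prime hF
  have h1 := Linear.card_PSL_two (F := F)
  rw [Nat.card_eq_fintype_card (α := F), hF] at h1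
  have h2 : Nat.card (PSL (Fin 2) F) = 168 := by norm_num at h1; omega
  have := Linear.isSimpleGroup_PSL2 (F := F) (by rw [Nat.card_eq_fintype_card, hF]; norm_num)
  obtain ⟨P⟩ : Nonempty (Sylow 7 (PSL (Fin 2) F)) := inferInstance
  have h3 := Small.card_normalizer_mul_card_sylow P
  rw [(Agent.S1003.result h2).2.2, h2] at h3
  refine h.eq_bot hN e (normalizer (P : Subgroup (PSL (Fin 2) F))) Nat.prime_three (q := 7) (by norm_num) (by omega)
    (by decide) fun x hx => ?_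
  have h2 := (Known.PSL2_spectrum 7 _).1 ⟨x, hx⟩
  rw [Nat.card_eq_fintype_card, hF] at h2
  norm_num at h2

end Cfsg.Lib.Exc
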