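import Cfsg.Agent.Lib.Exc.T3
import Cfsg.Agent.Lib.Exc.TwoNil
import Cfsg.Agent.Lib.Gold.Inner
import Cfsg.Agent.Lib.Layer.LBalance
import Cfsg.Agent.Lib.BG1.AmbRank
import Cfsg.Agent.Lib.Hall.SolvCrit
import Cfsg.Agent.S3188

/-!
# Groups in which no prime divides three element orders: the case of an element of order `2p`
-/

set_option autoImplicit false
set_option linter.unusedSectionVars false

namespace Cfsg.Lib.Exc

open Cfsg Cfsg.Lib.Transfer Cfsg.Lib.Invol Subgroup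
open scoped commutatorElement

local notation:max "𝐂 " H:max => centralizer (SetLike.coe (A := Subgroup _) H)
local notation:max "𝐍 " H:max => normalizer (SetLike.coe (A := Subgroup _) H)
local notation "PSL" => Matrix.ProjectiveSpecialLinearGroup

variable {G : Type*} [Group G] [Finite G] {p : ℕ}

/-- an element of order `2p` -/
structure NC (G : Type*) [Group G] (p : ℕ) : Prop where
  hp : p.Prime
  h2 : p ≠ 2
  t3 : T3 G
  sp : Sp G (2 * p)

namespace NC

variable (h : NC G p)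
include h

theorem three : 3 ≤ p := by have := h.hp.two_le; have := h.h2; omega

theorem even {n : ℕ} (hn : Sp G n) (he : 2 ∣ n) : n = 2 ∨ n = 2 * p := by
  have := h.three
  have := h.t3 2 2 (2 * p) n Nat.prime_two (h.sp.dvd (dvd_mul_right _ _)) h.sp hn dvd_rfl (dvd_mul_right _ _) he
  omega

theorem pd {n : ℕ} (hn : Sp G n) (he : p ∣ n) : n = p ∨ n = 2 * p := by
  have := h.three
  have := h.t3 p p (2 * p) n h.hp (h.sp.dvd (dvd_mul_left _ _)) h.sp hn dvd_rfl (dvd_mul_left _ _) he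
  omega

theorem sq {x : G} (hx : T2 x) : x * x = 1 := by
  obtain ⟨k, hk⟩ := hx
  obtain ⟨j, -, hj⟩ := (Nat.dvd_prime_pow Nat.prime_two).1 (orderOf_dvd_of_pow_eq_one hk)
  rw [← _root_.sq, ← orderOf_dvd_iff_pow_eq_one]
  rcases j with _ | j
  · simp [hj]
  rcases h.even ⟨x, rfl⟩ (hj ▸ dvd_pow_self 2 (by omega)) with e | e
  · exact e.dvd
  · exact absurd ((Nat.prime_dvd_prime_iff_eq h.hp Nat.prime_two).1 (h.hp.dvd_of_dvd_pow (hj ▸ e ▸ dvd_mul_left p 2))) h.h2

theorem of_comm {x y : G} {r : ℕ} (hx : orderOf x = 2 ∨ orderOf x = p) (hr : r.Prime) (hy : orderOf y = r)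
    (hc : Commute x y) : r = 2 ∨ r = p := by
  by_contra! e
  have := h.three
  rcases hx with hx | hx
  · have h1 := Sp.mul hc (by rw [hx, hy]; exact (Nat.coprime_primes Nat.prime_two hr).2 e.1.symm)
    rw [hx, hy] at h1
    have := h.even h1 (dvd_mul_right _ _)
    have := hr.two_le
    omega
  · have h1 := Sp.mul hc (by rw [hx, hy]; exact (Nat.coprime_primes h.hp hr).2 e.2.symm)
    rw [hx, hy] at h1
    have := hr.two_le
    rcases h.pd h1 (dvd_mul_right _ _) with e1 | e1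
    · nlinarith
    · exact e.1 (Nat.eq_of_mul_eq_mul_left h.hp.pos (e1.trans (mul_comm _ _)))

theorem cent {x : G} (hx : orderOf x = 2 ∨ orderOf x = p) {r : ℕ} (hr : r.Prime)
    (hd : r ∣ Nat.card (centralizer ({x} : Set G))) : r = 2 ∨ r = p := by
  have := Fact.mk hr
  obtain ⟨y, hy⟩ := exists_prime_orderOf_dvd_card' r hd
  exact h.of_comm hx hr ((orderOf_coe y).trans hy) (mem_cent.1 y.2).symm

theorem solv {x : G} (hx : orderOf x = 2 ∨ orderOf x = p) : Group.IsSolvable (centralizer ({x} : Set G)) :=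
  Hall.isSolvable_of_two_primes Nat.prime_two h.hp fun _ => h.cent hx

theorem commute {S : Subgroup G} (hS : IsPGroup 2 S) {a b : G} (ha : a ∈ S) (hb : b ∈ S) : Commute a b := by
  have h1 := h.sq (T2.of_mem hS (mul_mem ha hb))
  rw [← inv_eq_iff_mul_eq_one, mul_inv_rev, inv_eq_of_mul_eq_one_left (h.sq (T2.of_mem hS ha)),
    inv_eq_of_mul_eq_one_left (h.sq (T2.of_mem hS hb))] at h1
  exact h1.symm

theorem comm {S : Subgroup G} (hS : IsPGroup 2 S) : IsMulCommutative S :=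
  ⟨⟨fun a b => Subtype.ext (h.commute hS a.2 b.2)⟩⟩

theorem exists_y (hs : ¬ Group.IsSolvable G) {S : Subgroup G} (hS : SylowIn 2 S ⊤) :
    ∃ y ∈ 𝐍 S, y ∉ 𝐂 S ∧ (orderOf y).Prime ∧ orderOf y ≠ 2 := by
  obtain ⟨y, hy, h1⟩ : ∃ y ∈ 𝐍 S, y ∉ 𝐂 S := by
    by_contra! e
    exact hs (Core.isSolvable_top_iff.1 (solvable_of_pnil (hS.pnil_of_normalizer_le_centralizer fun y hy => e y hy.2)))
  have h2 : ∀ x ∈ 𝐍 S, T2 x → x ∈ 𝐂 S := fun x hx e a ha => h.commute (e.sup hS.isPGroup hx) (mem_sup_left ha)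
    (mem_sup_right (mem_zpowers x))
  have := h.three
  obtain ⟨k, hk⟩ := h.hp.odd_of_ne_two h.h2
  by_cases h3 : 2 ∣ orderOf y
  · rcases h.even ⟨y, rfl⟩ h3 with e | e
    · exact absurd (h2 y hy (T2.of_sq (mul_self_of_two e))) h1
    have e2 : orderOf (y ^ 2) = p := by rw [orderOf_pow_of_dvd two_ne_zero h3, e]; simp
    refine ⟨y ^ 2, pow_mem hy 2, fun e1 => h1 ?_, e2 ▸ h.hp, e2 ▸ h.h2⟩
    have := h2 (y ^ p) (pow_mem hy p) (T2.of_sq (by rw [← pow_add, ← two_mul, ← e, pow_orderOf_eq_one]))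
    rwa [hk, pow_succ, pow_mul, mul_mem_cancel_left (pow_mem e1 k)] at this
  by_cases h4 : p ∣ orderOf y
  · have e := (h.pd ⟨y, rfl⟩ h4).resolve_right fun e => h3 (e ▸ dvd_mul_right _ _)
    exact ⟨y, hy, h1, e ▸ h.hp, e ▸ h.h2⟩
  obtain ⟨r, hr, h5⟩ := Nat.exists_prime_and_dvd (n := orderOf y) fun e => h1 (orderOf_eq_one_iff.1 e ▸ one_mem _)
  have e := orderOf_pow_orderOf_div (orderOf_pos y).ne' h5
  refine ⟨_, pow_mem hy (orderOf y / r), fun e1 => ?_, e.symm ▸ hr, fun e1 => h3 (e1 ▸ e.symm ▸ h5)⟩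
  obtain ⟨t, ht, t2, -⟩ := exists_central hS.isPGroup fun e => h1 fun a ha => by simp [mem_bot.1 (e ▸ ha)]
  rcases h.of_comm (Or.inl t2) hr e (e1 t ht) with rfl | rfl
  exacts [h3 h5, h4 h5]

theorem core (hs : ¬ Group.IsSolvable G) {N : Subgroup (G ⧸ oddCore G)} [N.Normal] [IsSimpleGroup N]
    (hN : ¬ Group.IsSolvable N) (hC : 𝐂 N = ⊥) : oddCore G = ⊥ := by
  by_contra h0
  have ho := Core.odd_card_oddCore G
  have := FT.odd_order_solvable _ ho
  obtain ⟨A, _, h1, h2, h3⟩ := Core.exists_abelian_normal_le_of_solvable (oddCore G) h0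
  obtain ⟨s, hs1, h4⟩ := Nat.exists_prime_and_dvd (n := Nat.card A) fun e => h2 (card_eq_one.1 e)
  have := PGrp.omegaOne_normal s A
  have hW := BG1.isElementaryAbelian_omegaOne (p := s) h3
  have hWO := (PGrp.omegaOne_le s A).trans h1
  obtain ⟨⟨w, hw⟩, w1⟩ := ne_bot_iff_exists_ne_one.1 (BG1.omegaOne_ne_bot hs1 h4)
  replace w1 : w ≠ 1 := fun e => w1 (Subtype.ext e)
  generalize omegaOne s A = W at *
  have := Fact.mk hs1
  have hwo : ∀ v ∈ W, v ≠ 1 → orderOf v = s := fun v hv e => orderOf_eq_prime (hW.2 v hv) e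
  have s2 : s ≠ 2 := fun e => (odd_orderOf_of_mem ho (hWO hw)).not_two_dvd_nat (by rw [hwo w hw w1, e])
  obtain ⟨S, hS⟩ := exists_sylowIn (p := 2) (⊤ : Subgroup G)
  obtain ⟨y, hy, h5, hr, r2⟩ := h.exists_y hs hS
  have hcop : (Nat.card (zpowers y)).Coprime (Nat.card S) := by
    obtain ⟨n, hn⟩ := hS.isPGroup.exists_card_eq
    rw [Nat.card_zpowers, hn]
    exact ((Nat.coprime_primes hr Nat.prime_two).2 r2).pow_right _
  obtain rfl : s = p := by
    by_contra h6
    have hi : ∀ t, orderOf t = 2 → t * w * t⁻¹ = w⁻¹ := fun t ht =>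
      Coprime.conj_eq_inv_of_fpf (le_normalizer_of_normal (mem_top t)) (mul_self_of_two ht) (eq_bot_iff.2 fun v hv =>
        by_contra fun e => (h.of_comm (Or.inl ht) hs1 (hwo v hv.1 e) (mem_cent.1 hv.2).symm).elim s2 h6) hw
    obtain ⟨a, ha, h7⟩ : ∃ a ∈ S, a * y ≠ y * a := by
      by_contra! e
      exact h5 e
    have hb : y * a⁻¹ * y⁻¹ ∈ S := (mem_normalizer_iff.1 hy _).1 (inv_mem ha)
    have two : ∀ t ∈ S, t ≠ 1 → orderOf t = 2 := fun t ht e => two_of_sq (by rw [_root_.sq, h.sq (T2.of_mem hS.isPGroup ht)]) e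
    have a1 : a ≠ 1 := fun e => h7 (by simp [e])
    have e1 := hi _ (two _ (mul_mem ha hb) fun e => h7 (by
      rw [← mul_assoc, mul_inv_eq_one, ← mul_assoc, mul_inv_eq_iff_eq_mul] at e; exact e))
    have e2 := hi _ (two _ hb (by simpa using a1))
    have e3 := hi a (two a ha a1)
    generalize y * a⁻¹ * y⁻¹ = b at *
    rw [show a * b * w * (a * b)⁻¹ = a * (b * w * b⁻¹) * a⁻¹ by group, e2, ← conj_inv, e3, inv_inv,
      eq_inv_iff_mul_eq_one] at e1
    exact s2 ((hwo w hw w1).symm.trans (two_of_sq (by rw [_root_.sq, e1]) w1))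
  have := h.comm hS.isPGroup
  have hK := Coprime.centralizer_inf_commutator_eq_bot (zpowers_le.2 hy) hcop
  have hKS := Coprime.commutator_le_of_le_normalizer (zpowers_le.2 hy)
  obtain ⟨⟨k, hk⟩, k1⟩ := ne_bot_iff_exists_ne_one.1 (show ⁅S, zpowers y⁆ ≠ ⊥ from fun e =>
    h5 (le_centralizer_iff.1 (commutator_eq_bot_iff_le_centralizer.1 e) (mem_zpowers y)))
  have := hW.1
  have hkW : k ∈ 𝐂 W := fun v hv => (free_comm (MonoidHom.id G) Function.surjective_id W (by simp) ⁅S, zpowers y⁆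
    (normalizer_commutator_ge_right _ _ (mem_zpowers y)) (n := orderOf y) (fun i h6 h7 => eq_bot_iff.2 fun a ha => hK.le
      ⟨⟨hKS ha.1, by
        obtain ⟨m, hm⟩ := exists_pow_eq_self_of_coprime (x := y) (n := i) (Nat.coprime_of_lt_prime h6.ne' h7 hr).symm
        exact (cent_zpowers y).ge (mem_cent.2 (hm ▸ (mem_cent.1 ha.2).pow_right m))⟩, ha.1⟩) hr.pos (fun g hg u hu => by
      have e1 : orderOf g = orderOf y := by
        obtain ⟨c, hc⟩ := isConj_iff.1 hg
        rw [← show c * y * c⁻¹ = g from hc, orderOf_conj]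
      have e2 : g ^ orderOf y = 1 := e1 ▸ pow_orderOf_eq_one g
      have e3 : (u * g) ^ orderOf y ∈ W := by
        rw [← QuotientGroup.eq_one_iff, QuotientGroup.mk_pow, QuotientGroup.mk_mul, (QuotientGroup.eq_one_iff u).2 hu,
          one_mul, ← QuotientGroup.mk_pow, e2, QuotientGroup.mk_one]
      have e4 : orderOf (u * g) ∣ orderOf y * s := by rw [orderOf_dvd_iff_pow_eq_one, pow_mul, hW.2 _ e3]
      rw [e2, ← orderOf_dvd_iff_pow_eq_one]
      by_cases h6 : s ∣ orderOf (u * g)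
      · rcases h.pd ⟨_, rfl⟩ h6 with e | e
        · by_cases h7 : orderOf y = s
          · rw [e, h7]
          have e5 : (g : G ⧸ W) ^ s = 1 := by
            have : ((u * g : G) : G ⧸ W) ^ s = 1 := by
              rw [← QuotientGroup.mk_pow, ← e, pow_orderOf_eq_one, QuotientGroup.mk_one]
            rwa [QuotientGroup.mk_mul, (QuotientGroup.eq_one_iff u).2 hu, one_mul] at this
          have e6 : (g : G ⧸ W) ^ orderOf y = 1 := by rw [← QuotientGroup.mk_pow, e2, QuotientGroup.mk_one]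
          have e7 := (QuotientGroup.eq_one_iff g).1 (orderOf_eq_one_iff.1 (Nat.eq_one_of_dvd_coprimes
            ((Nat.coprime_primes hr hs1).2 h7) (orderOf_dvd_of_pow_eq_one e6) (orderOf_dvd_of_pow_eq_one e5)))
          exact absurd (e1.symm.trans (hwo g e7 fun e => hr.ne_one (by rw [← e1, e, orderOf_one]))) h7
        · rw [e] at e4
          exact absurd ((dvd_mul_right 2 s).trans e4) (Nat.prime_two.not_dvd_mul
            (fun e => r2 ((Nat.prime_dvd_prime_iff_eq Nat.prime_two hr).1 e).symm)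
            fun e => s2 ((Nat.prime_dvd_prime_iff_eq Nat.prime_two hs1).1 e).symm)
      · exact ((hs1.coprime_iff_not_dvd.2 h6).symm).dvd_of_dvd_mul_right e4) hv (by
      obtain ⟨n, hn⟩ := (hS.isPGroup.to_le hKS).exists_card_eq
      exact hn ▸ (Nat.coprime_two_right.2 (odd_orderOf_of_mem ho (hWO hv))).pow_right _) hk).symm
  have := h.solv (Or.inr (hwo w hw w1))
  have : Group.IsSolvable (𝐂 W) := Core.isSolvable_of_le (show 𝐂 W ≤ centralizer {w} from centralizer_le (by simpa using hw))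
  have h6 := Core.isSolvable_map (𝐂 W) (QuotientGroup.mk' (oddCore G))
  have h7 : ((𝐂 W).map (QuotientGroup.mk' (oddCore G))).Normal := Normal.map inferInstance _ (QuotientGroup.mk'_surjective _)
  have h8 : (𝐂 W).map (QuotientGroup.mk' (oddCore G)) ⊓ N = ⊥ := by
    rcases (h7.subgroupOf N).eq_bot_or_eq_top with e | e
    · exact disjoint_iff.1 (subgroupOf_eq_bot.1 e)
    · exact absurd (Core.isSolvable_of_le (subgroupOf_eq_top.1 e)) hN
  have h9 : (k : G ⧸ oddCore G) = 1 := hC.le (commutator_eq_bot_iff_le_centralizer.1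
    (le_bot_iff.1 (h8 ▸ commutator_le_inf _ _)) (mem_map_of_mem (QuotientGroup.mk' (oddCore G)) hkW))
  exact k1 (Subtype.ext ((T2.of_mem hS.isPGroup (hKS hk)).eq_one
    (odd_orderOf_of_mem ho ((QuotientGroup.eq_one_iff k).1 h9))))

theorem key {L : Subgroup G} [L.Normal] (hL : p ∣ L.index) {r : ℕ} [hr : Fact r.Prime] (r2 : r ≠ 2) (rp : r ≠ p)
    {T : Subgroup G} (hT : SylowIn r T L) (hc : IsCyclic T) (h1 : T ≠ ⊥) {k : ℕ}
    (hk : p ^ k ∣ Nat.card (L ⊓ 𝐍 T : Subgroup G)) : p ^ (k + 1) ∣ r - 1 := by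
  have h2 := hT.frattini_sup (H := ⊤) le_top le_normalizer_of_normal
  rw [top_inf_eq] at h2
  have h3 : L.relIndex (𝐍 T) = L.index := by rw [← relIndex_sup_left, h2, relIndex_top_right]
  have h4 := card_mul_relIndex (inf_le_right : L ⊓ 𝐍 T ≤ 𝐍 T)
  rw [inf_relIndex_right, h3] at h4
  have h5 : p ^ (k + 1) ∣ Nat.card (𝐍 T) := h4 ▸ pow_succ p k ▸ mul_dvd_mul hk hL
  rw [← T.normalizerMonoidHom.ker.card_mul_index, index_ker] at h5
  obtain ⟨a, ha⟩ := hT.isPGroup.exists_card_eq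
  have h6 : ¬ p ∣ Nat.card T.normalizerMonoidHom.ker := fun e => by
    have := Fact.mk h.hp
    obtain ⟨x, hx⟩ := exists_prime_orderOf_dvd_card' p e
    obtain ⟨t, ht⟩ := exists_prime_orderOf_dvd_card' r (Core.dvd_card_of_isPGroup_of_ne_bot hr.out hT.isPGroup h1)
    have h7 : ((x : 𝐍 T) : G) ∈ 𝐂 T := mem_subgroupOf.1 ((normalizerMonoidHom_ker T).le x.2)
    exact (h.of_comm (Or.inr ((orderOf_coe _).trans ((orderOf_coe x).trans hx))) hr.out ((orderOf_coe t).trans ht)
      (h7 t t.2).symm).elim r2 rp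
  have h7 := (((h.hp.coprime_iff_not_dvd.2 h6).pow_left _).dvd_of_dvd_mul_left h5).trans (card_subgroup_dvd_card _)
  rw [IsCyclic.card_mulAut, ha, Nat.totient_prime_pow hr.out
    (Nat.pos_of_ne_zero fun e => h1 (card_eq_one.1 (by rw [ha, e, pow_zero])))] at h7
  exact (Nat.Coprime.pow _ _ ((Nat.coprime_primes h.hp hr.out).2 rp.symm)).dvd_of_dvd_mul_left h7

theorem key0 {L : Subgroup G} [L.Normal] (hL : p ∣ L.index) {r : ℕ} (hr : r.Prime) (r2 : r ≠ 2) (rp : r ≠ p)
    (hc : CycS r L) : p ∣ r - 1 := by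
  have := Fact.mk hr
  obtain ⟨T, h1, h2, h3⟩ := hc.exists_sylow
  simpa using h.key hL r2 rp h1 h2 h3 (k := 0) (by simp)

theorem dvd_index (hO : oddCore G = ⊥) {L : Subgroup G} [L.Normal] (hC : 𝐂 L = ⊥) (hne : L ≠ ⊤)
    (hi : ∀ x y : L, orderOf x = 2 → orderOf y = 2 → IsConj x y) : p ∣ L.index := by
  obtain ⟨S⟩ : Nonempty (Sylow 2 G) := inferInstance
  have hS : (S : Subgroup G) ≤ L := fun t ht => by
    obtain ⟨s, hs, e⟩ := Gold.exists_inner_cent ((Amalg.syl_top S).inf_normal_top L) (h.comm S.isPGroup'.to_inf_left)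
      (Layer.pPrimeCoreOf_eq_bot_of_isSubnormal Nat.prime_two hO (Normal.isSubnormal ‹_›)) (t := t)
      (le_normalizer_of_normal (mem_top t)) (fun a ha => h.commute S.isPGroup' ha.1 ht) (k := 1)
      (by rw [pow_one, _root_.sq, h.sq (T2.of_mem S.isPGroup' ht)])
    rw [hC, mem_bot, mul_eq_one_iff_eq_inv] at e
    exact e ▸ inv_mem hs.2
  have h1 : ∀ t, orderOf t = 2 → t ∈ L := fun t ht => by
    obtain ⟨P, hP⟩ := (T2.of_sq (mul_self_of_two ht)).zpowers.exists_le_sylow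
    obtain ⟨g, rfl⟩ := MulAction.exists_smul_eq G S P
    obtain ⟨s, hs, rfl⟩ := hP (mem_zpowers t)
    exact Normal.conj_mem ‹_› _ (hS hs) g
  obtain ⟨t, ht⟩ := h.sp.dvd (dvd_mul_right 2 p)
  have h2 : L ⊔ centralizer {t} = ⊤ := eq_top_iff.2 fun g _ => by
    have e1 : orderOf (g * t * g⁻¹) = 2 := by rw [orderOf_conj, ht]
    obtain ⟨c, hc⟩ := isConj_iff.1 (hi ⟨t, h1 t ht⟩ ⟨_, h1 _ e1⟩ ((orderOf_coe _).symm.trans ht) ((orderOf_coe _).symm.trans e1))
    have e2 : (c : G) * t * (c : G)⁻¹ = g * t * g⁻¹ := congrArg Subtype.val hc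
    refine (mul_mem_cancel_left (inv_mem (mem_sup_left c.2))).1 (mem_sup_right (mem_cent.2 ?_))
    calc (c : G)⁻¹ * g * t = (c : G)⁻¹ * (g * t * g⁻¹) * g := by group
      _ = _ := by rw [← e2]; group
  obtain ⟨r, hr, h3⟩ := Nat.exists_prime_and_dvd fun e => hne (index_eq_one.1 e)
  have h4 : L.relIndex (centralizer {t}) = L.index := by rw [← relIndex_sup_left, h2, relIndex_top_right]
  rcases h.cent (Or.inl ht) hr (h3.trans (h4 ▸ relIndex_dvd_card _ _)) with rfl | rfl
  · exact absurd (h3.trans (index_dvd_of_le hS)) S.not_dvd_index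
  · exact h3

omit h in
theorem psl2_isConj {F : Type*} [Field F] [Finite F] {x y : PSL (Fin 2) F} (hx : orderOf x = 2) (hy : orderOf y = 2) :
    IsConj x y := by
  by_cases h2 : (2 : F) = 0
  swap
  · exact Linear.psl2_isConj_of_orderOf_two h2 hx hy
  have : CharP F 2 := CharTwo.of_one_ne_zero_of_two_eq_zero one_ne_zero h2
  have h3 := Known.char_dvd_natCard (F := F) 2
  have h4 := Linear.two_le_card_field (F := F)
  have key : ∀ x : PSL (Fin 2) F, orderOf x = 2 → ∃ b, b ≠ 0 ∧ IsConj x (Known.pmk F (Known.triS 1 b)) := fun x hx => by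
    rcases Known.PSL2_types x with rfl | h | ⟨a, -, h⟩ | ⟨a, -, h⟩
    · simp at hx
    · exact h
    · have := (Known.isTorus_torusS.orderOf_pmk_dvd a).trans (Nat.div_dvd_of_dvd (Nat.gcd_dvd_left _ _))
      rw [← Known.orderOf_eq_of_isConj h, hx, Nat.card_units] at this
      omega
    · have := (Known.isTorus_singerS.orderOf_pmk_dvd a).trans (Nat.div_dvd_of_dvd (Nat.gcd_dvd_left _ _))
      rw [← Known.orderOf_eq_of_isConj h, hx, Known.card_U1] at this
      omega
  obtain ⟨b, hb, e⟩ := key x hx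
  obtain ⟨c, hc, e'⟩ := key y hy
  exact (e.trans (Known.isConj_pmk ((Known.isConj_triS_par_iff (one_pow 2) hb hc).2
    (FiniteField.isSquare_of_char_two (ringChar.eq F 2) _)))).trans e'.symm

omit h in
theorem cycS_psl2' {F : Type*} [Field F] [Finite F] {r : ℕ} (hr : r.Prime) (r2 : r ≠ 2)
    (h : r ∣ Nat.card F - 1 ∨ r ∣ Nat.card F + 1) : CycS r (PSL (Fin 2) F) := by
  have h1 := Linear.card_PSL_two (F := F)
  have h2 := Linear.two_le_card_field (F := F)
  have h5 : (Nat.gcd 2 (Nat.card F - 1)).Coprime r := Nat.Coprime.coprime_dvd_left (Nat.gcd_dvd_left _ _)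
    ((Nat.coprime_primes Nat.prime_two hr).2 r2.symm)
  have h6 : 0 < Nat.gcd 2 (Nat.card F - 1) := Nat.gcd_pos_of_pos_left _ two_pos
  obtain ⟨⟨x, hx⟩, y, hy⟩ := psl2_orders F
  have h7 : ∀ a b : ℕ, r ∣ a → r ∣ b → a = b + 1 ∨ a = b + 2 → False := fun a b ha hb e => by
    have := Nat.dvd_sub ha hb
    rcases e with rfl | rfl
    · exact hr.ne_one (by simpa using this)
    · exact r2 ((Nat.prime_dvd_prime_iff_eq hr Nat.prime_two).1 (by simpa using this))
  generalize Nat.gcd 2 (Nat.card F - 1) = d at *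
  rcases h with h | h
  · have e : Nat.card F - 1 = d * orderOf x := by omega
    exact ⟨x, Nat.card F * (Nat.card F + 1), h5.symm.dvd_of_dvd_mul_left (e ▸ h),
      Nat.eq_of_mul_eq_mul_left h6 (by rw [h1, e]; ring),
      hr.not_dvd_mul (fun e => h7 _ _ e h (by omega)) fun e => h7 _ _ e h (by omega)⟩
  · exact ⟨y, Nat.card F * (Nat.card F - 1), h5.symm.dvd_of_dvd_mul_left (hy ▸ h),
      Nat.eq_of_mul_eq_mul_left h6 (by rw [h1, ← hy]; ring),
      hr.not_dvd_mul (fun e => h7 _ _ h e (by omega)) fun e => h7 _ _ h e (by omega)⟩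

theorem eq_top (hO : oddCore G = ⊥) {L : Subgroup G} [L.Normal] (hC : 𝐂 L = ⊥) {F : Type*} [Field F] [Fintype F]
    (hF : ((Fintype.card F % 8 = 3 ∨ Fintype.card F % 8 = 5) ∧ 5 ≤ Fintype.card F) ∨ ∃ n : ℕ, 2 ≤ n ∧ Fintype.card F = 2 ^ n)
    (e : L ≃* PSL (Fin 2) F) : L = ⊤ := by
  by_contra hne
  have hL := h.dvd_index hO hC hne fun x y hx hy => by
    simpa using e.symm.toMonoidHom.map_isConj (psl2_isConj (x := e x) (y := e y) (by rwa [MulEquiv.orderOf_eq])
      (by rwa [MulEquiv.orderOf_eq]))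
  have k0 : ∀ r, r.Prime → r ≠ 2 → r ≠ p → r ∣ Nat.card F - 1 ∨ r ∣ Nat.card F + 1 → p ∣ r - 1 := fun r hr r2 rp hd =>
    h.key0 hL hr r2 rp ((cycS_psl2' hr r2 hd).of_equiv e)
  have k3 : 3 ∣ Nat.card F - 1 ∨ 3 ∣ Nat.card F + 1 → p = 3 := fun hd => by_contra fun e =>
    h.h2 ((Nat.prime_dvd_prime_iff_eq h.hp Nat.prime_two).1 (k0 3 Nat.prime_three (by norm_num) (Ne.symm e) hd))
  have d3 : ∀ q : ℕ, ¬ 3 ∣ q → 3 ∣ q - 1 ∨ 3 ∣ q + 1 := fun q _ => by omega
  have sp : ∀ x : PSL (Fin 2) F, Sp G (orderOf x) := fun x =>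
    Sp.of_inj ⟨x, rfl⟩ (L.subtype.comp e.symm.toMonoidHom) (L.subtype_injective.comp e.symm.injective)
  obtain ⟨⟨x, hx⟩, y, hy⟩ := psl2_orders F
  have hc := (Nat.card_congr e.toEquiv).trans (rfl : Nat.card (PSL (Fin 2) F) = _)
  have h1 := Linear.card_PSL_two (F := F)
  have := h.three
  rw [← Nat.card_eq_fintype_card] at hF
  rcases hF with ⟨h2, h3⟩ | ⟨n, h2, h3⟩
  · rw [Nat.gcd_eq_left (by omega)] at hx hy h1
    rcases h2 with h2 | h2
    · have h4 := h.even (sp y) (by omega)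
      obtain ⟨r, hr, h5⟩ := Nat.exists_prime_and_dvd (n := orderOf x) (by omega)
      have h6 : orderOf x + 1 = 2 * p := by omega
      have h7 := Nat.le_of_dvd (orderOf_pos x) h5
      have r2 : r ≠ 2 := by rintro rfl; omega
      obtain ⟨c, hc⟩ := k0 r hr r2 (by
        rintro rfl
        exact hr.ne_one (Nat.dvd_one.1 ((Nat.dvd_add_right h5).1 (h6 ▸ dvd_mul_left _ _))))
        (Or.inl (h5.trans (Dvd.intro_left 2 (by omega))))
      have := hr.two_le
      obtain ⟨k, hk⟩ := h.hp.odd_of_ne_two h.h2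
      obtain ⟨l, hl⟩ := hr.odd_of_ne_two r2
      rcases c with _ | _ | c
      · omega
      · omega
      · nlinarith [show r = p * (c + 1 + 1) + 1 by omega]
    have h4 : ¬ 3 ∣ Nat.card F := fun e => by
      obtain ⟨s, _, n, hs, hn⟩ := FiniteField.card' F
      rw [Nat.card_eq_fintype_card, hn] at e h2
      obtain rfl := (Nat.prime_dvd_prime_iff_eq Nat.prime_three hs).1 (Nat.prime_three.dvd_of_dvd_pow e)
      have : ∀ m : ℕ, 3 ^ m % 8 = 1 ∨ 3 ^ m % 8 = 3 := fun m => by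
        induction m with
        | zero => simp
        | succ m ih => rw [pow_succ]; omega
      have := this n
      omega
    obtain rfl := k3 (d3 _ h4)
    rcases h.even (sp x) (by omega) with h5 | h5
    · have : Fact (Nat.Prime 5) := ⟨Nat.prime_five⟩
      rw [show Nat.card F = 5 by omega] at h1
      exact absurd (h.key0 hL Nat.prime_five (by norm_num) (by norm_num) (cycS_of_card (c := 12) (by omega) (by norm_num)))
        (by norm_num)
    have : Fact (Nat.Prime 13) := ⟨by norm_num⟩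
    rw [show Nat.card F = 13 by omega] at h1
    obtain ⟨P⟩ : Nonempty (Sylow 13 L) := inferInstance
    have h6 := Small.card_normalizer_mul_card_sylow P
    have h7 := Small.card_sylow_dvd (G := L) (p := 13) (a := 1) (m := 84) (by omega) (by norm_num)
    have h8 := Small.card_sylow_mod (G := L) (p := 13)
    have h9 := Small.card_sylow_subgroup_eq P (a := 1) (m := 84) (by omega) (by norm_num)
    have h10 : Nat.card ((P : Subgroup L).map L.subtype) = 13 := (card_map_of_injective L.subtype_injective).trans h9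
    refine absurd (h.key hL (by norm_num) (by norm_num) (sylowIn_map_subtype P) (isCyclic_of_prime_card h10)
      (fun e => by simp [e] at h10) (k := 1) (Dvd.dvd.trans ?_ (card_dvd_of_le
        (le_inf (map_subtype_le _) (le_normalizer_map _))))) (by norm_num)
    rw [card_map_of_injective L.subtype_injective]
    have := Nat.le_of_dvd (by norm_num) h7
    generalize Nat.card (Sylow 13 L) = m at *
    interval_cases m <;> omega
  · rw [gcd_even h3 (by omega), one_mul] at hx hy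
    have h4 := not_three_dvd_two_pow n
    obtain ⟨m, rfl⟩ := Nat.exists_eq_add_of_le' h2
    have : 0 < 2 ^ m := by positivity
    rw [pow_add] at h3 h4
    obtain rfl := k3 (d3 _ (h3 ▸ h4))
    rcases d3 _ (h3 ▸ h4) with h5 | h5
    swap
    · have := h.pd (sp y) (hy ▸ h5)
      omega
    have := h.pd (sp x) (by rwa [← hx] at h5)
    exact absurd (k0 5 Nat.prime_five (by norm_num) (by norm_num) (by omega)) (by norm_num)

end NC

end Cfsg.Lib.Exc
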