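import Cfsg.Agent.Lib.Invol.RankOne
import Cfsg.Agent.Lib.BN.ZassSharp
import Cfsg.Agent.Lib.Amalg.Syl

/-! Bender's lemma on a `TI`-subgroup `M` with odd centralizers: the local analysis. -/

set_option autoImplicit false
set_option linter.unusedSectionVars false

namespace Cfsg.Lib.Exc

open Subgroup Cfsg.Lib.Invol

variable {G : Type*} [Group G] [Finite G] {M : Subgroup G} {g h k u v w x y z : G}

local notation "𝐍 " M:max => Subgroup.normalizer (SetLike.coe M)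

theorem mem_of_mul_self_mem {H : Subgroup G} (ho : Odd (orderOf x)) (e : x * x ∈ H) : x ∈ H := by
  obtain ⟨k, hk⟩ := ho
  have : x = (x * x) ^ (k + 1) := by
    rw [← sq, ← pow_mul, show 2 * (k + 1) = 2 * k + 1 + 1 by ring, pow_succ, ← hk, pow_orderOf_eq_one, one_mul]
  rw [this]; exact H.pow_mem e _

theorem eq_one_of_odd_of_mul_self (ho : Odd (orderOf x)) (e : x * x = 1) : x = 1 :=
  mem_bot.1 (mem_of_mul_self_mem ho (mem_bot.2 e))

/-- the hypotheses of Bender's lemma -/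
structure TIB (M : Subgroup G) : Prop where
  ne : M ≠ ⊥
  ti : ∀ x ∈ M, x ≠ 1 → ∀ g, g * x * g⁻¹ ∈ M → g ∈ 𝐍 M
  odd : ∀ x ∈ M, x ≠ 1 → ∀ d, d * x = x * d → Odd (orderOf d)
  comm : ∀ u ∈ 𝐍 M, u * u = 1 → ∀ h ∈ 𝐍 M, u * h * u⁻¹ * h⁻¹ ∈ M

theorem nconj (hg : g ∈ 𝐍 M) (hx : x ∈ M) : g * x * g⁻¹ ∈ M := (mem_normalizer_iff.1 hg x).1 hx

theorem inverts_of_odd (hodd : ∀ x ∈ M, x ≠ 1 → ∀ d, d * x = x * d → Odd (orderOf d)) (hu : u ∈ 𝐍 M)
    (h2 : orderOf u = 2) : ∀ x ∈ M, u * x * u⁻¹ = x⁻¹ :=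
  inverts_of_fpf (mul_self_of_two h2) hu fun d hd e => by
    by_contra h1
    have := hodd d hd h1 u e.symm.eq
    rw [h2] at this
    exact absurd this (by decide)

theorem tib_of (hM1 : M ≠ ⊥)
    (hTI : ∀ g : G, M ⊓ M.map (MulAut.conj g).toMonoidHom ≠ ⊥ → M.map (MulAut.conj g).toMonoidHom = M)
    (hz : orderOf z = 2) (hzN : z ∈ 𝐍 M)
    (hfac : M ⊔ (𝐍 M ⊓ centralizer ({z} : Set G)) = 𝐍 M)
    (hodd : ∀ x ∈ M, x ≠ 1 → Odd (Nat.card (centralizer ({x} : Set G)))) : TIB M := by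
  have ho : ∀ x ∈ M, x ≠ 1 → ∀ d, d * x = x * d → Odd (orderOf d) := fun x hx h1 d e =>
    (hodd x hx h1).of_dvd_nat (orderOf_dvd_natCard _ (mem_centralizer_singleton_iff.2 e))
  have hf : ∀ h ∈ 𝐍 M, ∃ x ∈ M, ∃ c ∈ 𝐍 M, c * z = z * c ∧ h = x * c := fun h hh => by
    rw [← hfac, ← SetLike.mem_coe, coe_mul_of_right_le_normalizer_left _ _ inf_le_left] at hh
    obtain ⟨x, hx, c, hc, e⟩ := hh
    exact ⟨x, hx, c, hc.1, mem_centralizer_singleton_iff.1 hc.2, e.symm⟩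
  have hz2 := mul_self_of_two hz
  have h5 : ∀ h ∈ 𝐍 M, z * h * z⁻¹ * h⁻¹ ∈ M := fun h hh => by
    obtain ⟨x, hx, c, -, e, rfl⟩ := hf h hh
    have : z * (x * c) * z⁻¹ * (x * c)⁻¹ = z * x * z⁻¹ * x⁻¹ := by
      calc _ = z * x * (c * z⁻¹ * c⁻¹) * x⁻¹ := by group
        _ = _ := by rw [show c * z⁻¹ * c⁻¹ = z⁻¹ by rw [(Commute.inv_right e).eq]; group]
    rw [this]; exact M.mul_mem (nconj hzN hx) (M.inv_mem hx)
  refine ⟨hM1, fun x hx h1 g hg => ?_, ho, fun u hu u2 h hh => ?_⟩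
  · have := hTI g (ne_bot_iff_exists_ne_one.2 ⟨⟨g * x * g⁻¹, hg, x, hx, rfl⟩, fun e => h1 (by
      simpa using congrArg Subtype.val e)⟩)
    rw [mem_normalizer_iff]
    refine fun a => ⟨fun ha => this ▸ ⟨a, ha, rfl⟩, fun ha => ?_⟩
    rw [← this] at ha
    obtain ⟨b, hb, e⟩ := ha
    have : b = a := by simpa using e
    exact this ▸ hb
  · by_cases u1 : u = 1
    · simp [u1]
    obtain ⟨x, hx, c, hc, e, rfl⟩ := hf u hu
    obtain ⟨⟨a, ha⟩, a1⟩ := ne_bot_iff_exists_ne_one.1 hM1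
    have a1' : a ≠ 1 := fun e => a1 (Subtype.ext e)
    have h1 := inverts_of_odd ho hu (two_of_mul_self u2 u1)
    have h2 := inverts_of_odd ho hzN hz
    have h3 : x * c * z * a = a * (x * c * z) := by
      have := h1 _ (M.inv_mem ha)
      rw [inv_inv, ← h2 a ha] at this
      rw [← mul_inv_eq_iff_eq_mul]
      refine Eq.trans ?_ this
      group
    have h4 : c * c ∈ M := by
      have : c * c = (x * (c * x * c⁻¹))⁻¹ := by
        rw [eq_inv_iff_mul_eq_one, mul_eq_one_comm, ← u2]; group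
      rw [this]; exact M.inv_mem (M.mul_mem hx (nconj hc hx))
    have h6 : x * c * z ∈ M := by
      refine mem_of_mul_self_mem (ho a ha a1' _ h3) ?_
      have : x * c * z * (x * c * z) = x * (c * z * x * (c * z)⁻¹) * (c * c) := by
        calc _ = x * (c * z * x * (c * z)⁻¹) * (c * (z * c) * z) := by group
          _ = _ := by rw [← e]; simp only [mul_assoc, hz2, mul_one]
      rw [this]
      exact M.mul_mem (M.mul_mem hx (nconj (mul_mem hc hzN) hx)) h4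
    have : x * c * h * (x * c)⁻¹ * h⁻¹ = x * c * z * (z * h * z⁻¹ * h⁻¹) * (h * (x * c * z)⁻¹ * h⁻¹) := by
      calc _ = x * c * (z * z) * h * (z * z)⁻¹ * (x * c)⁻¹ * h⁻¹ := by rw [hz2]; group
        _ = _ := by group
    rw [this]
    exact M.mul_mem (M.mul_mem h6 (h5 h hh)) (nconj hh (M.inv_mem h6))

namespace TIB

variable (H : TIB M)
include H

theorem inv (hu : u ∈ 𝐍 M) (h2 : orderOf u = 2) (hx : x ∈ M) : u * x * u⁻¹ = x⁻¹ :=
  inverts_of_odd H.odd hu h2 x hx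

theorem odd_mem (hx : x ∈ M) : Odd (orderOf x) := by
  by_cases h1 : x = 1
  · simp [h1]
  · exact H.odd x hx h1 x rfl

theorem eq_one (hx : x ∈ M) (e : x * x = 1) : x = 1 := eq_one_of_odd_of_mul_self (H.odd_mem hx) e

theorem eq_one' (hx : x ∈ M) (e : x⁻¹ = x) : x = 1 := H.eq_one hx (mul_eq_one_iff_inv_eq.2 e)

theorem odd_card : Odd (Nat.card M) := by
  by_contra hn
  obtain ⟨x, hx⟩ := exists_prime_orderOf_dvd_card' 2 (Nat.not_odd_iff_even.1 hn).two_dvd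
  have := H.odd_mem x.2
  rw [orderOf_coe, hx] at this
  exact absurd this (by decide)

theorem not_mem (h2 : orderOf u = 2) : u ∉ M := fun e => ne_one_of_two h2 (H.eq_one e (mul_self_of_two h2))

theorem exists_ne : ∃ x ∈ M, x ≠ 1 := by
  obtain ⟨⟨a, ha⟩, a1⟩ := ne_bot_iff_exists_ne_one.1 H.ne
  exact ⟨a, ha, fun e => a1 (Subtype.ext e)⟩

theorem exists_sqrt (hx : x ∈ M) : ∃ w ∈ M, w * w = x := by
  obtain ⟨k, hk⟩ := H.odd_mem hx
  refine ⟨x ^ (k + 1), M.pow_mem hx _, ?_⟩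
  rw [← pow_add, show k + 1 + (k + 1) = 2 * k + 1 + 1 by ring, pow_succ, ← hk, pow_orderOf_eq_one, one_mul]

theorem eq_one_of_comm (hu : u ∈ 𝐍 M) (h2 : orderOf u = 2) (hx : x ∈ M) (e : u * x = x * u) : x = 1 :=
  H.eq_one' hx (by rw [← H.inv hu h2 hx, e]; group)

theorem mul_comm' (hz : z ∈ 𝐍 M) (h2 : orderOf z = 2) (hx : x ∈ M) (hy : y ∈ M) : x * y = y * x := by
  have := H.inv hz h2 (M.mul_mem hx hy)
  rw [show z * (x * y) * z⁻¹ = z * x * z⁻¹ * (z * y * z⁻¹) by group, H.inv hz h2 hx, H.inv hz h2 hy] at this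
  rw [← inv_inj, ← this]; group

theorem isMulCommutative (hz : z ∈ 𝐍 M) (h2 : orderOf z = 2) : IsMulCommutative M :=
  ⟨⟨fun x y => Subtype.ext (H.mul_comm' hz h2 x.2 y.2)⟩⟩

theorem mul_mem_of_two (hu : u ∈ 𝐍 M) (h2 : orderOf u = 2) (hv : v ∈ 𝐍 M) (h2' : orderOf v = 2) :
    u * v ∈ M := by
  obtain ⟨a, ha, a1⟩ := H.exists_ne
  refine mem_of_mul_self_mem (H.odd a ha a1 _ ?_) ?_
  · have := H.inv hu h2 (M.inv_mem ha)
    rw [inv_inv, ← H.inv hv h2' ha] at this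
    rw [← mul_inv_eq_iff_eq_mul]
    refine Eq.trans ?_ this
    group
  · have := H.comm u hu (mul_self_of_two h2) v hv
    rwa [inv_of_two h2, inv_of_two h2', mul_assoc (u * v)] at this

theorem two_mul (hz : z ∈ 𝐍 M) (h2 : orderOf z = 2) (hx : x ∈ M) : orderOf (x * z) = 2 := by
  refine two_of_mul_self ?_ fun e => H.not_mem h2 ?_
  · calc x * z * (x * z) = x * (z * x * z⁻¹) * (z * z) := by group
      _ = 1 := by rw [H.inv hz h2 hx, mul_self_of_two h2]; group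
  · rw [← inv_eq_of_mul_eq_one_right e]; exact M.inv_mem hx

theorem conj_eq (hz : z ∈ 𝐍 M) (h2 : orderOf z = 2) (hw : w ∈ M) : w * z * w⁻¹ = w * w * z := by
  have := H.inv hz h2 (M.inv_mem hw)
  rw [inv_inv] at this
  calc w * z * w⁻¹ = w * (z * w⁻¹ * z⁻¹) * z := by group
    _ = _ := by rw [this]

theorem exists_conj (hz : z ∈ 𝐍 M) (h2 : orderOf z = 2) (hu : u ∈ 𝐍 M) (h2' : orderOf u = 2) :
    ∃ w ∈ M, u = w * z * w⁻¹ := by
  obtain ⟨w, hw, e⟩ := H.exists_sqrt (H.mul_mem_of_two hu h2' hz h2)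
  exact ⟨w, hw, by rw [H.conj_eq hz h2 hw, e, mul_assoc, mul_self_of_two h2, mul_one]⟩

theorem exists_fac (hz : z ∈ 𝐍 M) (h2 : orderOf z = 2) (hh : h ∈ 𝐍 M) :
    ∃ w ∈ M, z * (w * h) = w * h * z := by
  obtain ⟨w, hw, e⟩ := H.exists_sqrt (H.comm z hz (mul_self_of_two h2) h hh)
  refine ⟨w, hw, ?_⟩
  calc z * (w * h) = z * w * z⁻¹ * (z * h * z⁻¹ * h⁻¹) * h * z := by group
    _ = _ := by rw [H.inv hz h2 hw, ← e]; group

theorem eq_of_comm (hz : z ∈ 𝐍 M) (h2 : orderOf z = 2) (hu : u ∈ 𝐍 M) (h2' : orderOf u = 2)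
    (e : z * u = u * z) : u = z := by
  have := H.eq_one_of_comm hz h2 (H.mul_mem_of_two hu h2' hz h2) (by rw [← mul_assoc, e])
  rw [← inv_of_two h2]; exact eq_inv_of_mul_eq_one_left this

/-- a coset of `M` outside `N` contains at most one involution -/
theorem eq_one_of_two (hu : u ∉ 𝐍 M) (h2 : u * u = 1) (hx : x ∈ M) (h2' : u * x * (u * x) = 1) : x = 1 := by
  by_contra h1
  refine hu (H.ti x hx h1 u ?_)
  rw [inv_eq_of_mul_eq_one_right h2, show u * x * u = x⁻¹ from eq_inv_of_mul_eq_one_left (by rw [← h2']; group)]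
  exact M.inv_mem hx

theorem exists_two (hz : z ∈ 𝐍 M) (h2 : orderOf z = 2) (hJ : M.index < Nat.card {g : G // orderOf g = 2})
    (hg : g ∉ 𝐍 M) : ∃ x ∈ M, orderOf (g * x) = 2 := by
  classical
  by_contra hn
  push Not at hn
  have key : ∀ u v : G, orderOf u = 2 → orderOf v = 2 → u ∉ 𝐍 M → v ∈ 𝐍 M →
      ((u : G) : G ⧸ M) ≠ ((v * z * g : G) : G ⧸ M) := fun u v hu hv h1 h3 e => by
    have h4 := H.mul_mem_of_two h3 hv hz h2
    have h5 := QuotientGroup.eq.1 e.symm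
    refine hn _ (M.mul_mem h5 h4) ?_
    rw [← orderOf_conj' (v * z) u] at hu
    rw [← hu]; congr 1; group
  refine hJ.not_ge (Nat.card_le_card_of_injective (β := G ⧸ M)
    (fun u => if u.1 ∈ 𝐍 M then ((u.1 * z * g : G) : G ⧸ M) else (u.1 : G ⧸ M)) ?_)
  rintro ⟨u, hu⟩ ⟨v, hv⟩ e
  refine Subtype.ext ?_
  dsimp only at e ⊢
  split_ifs at e with h1 h3 h3
  · have h4 := QuotientGroup.eq.1 e
    by_contra hne
    refine hg (inv_mem_iff.1 (H.ti ((u * z)⁻¹ * (v * z)) (M.mul_mem (M.inv_mem (H.mul_mem_of_two h1 hu hz h2))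
      (H.mul_mem_of_two h3 hv hz h2)) (fun e' => hne ?_) _ ?_))
    · exact mul_right_cancel (inv_mul_eq_one.1 e')
    · convert h4 using 1; group
  · exact absurd e.symm (key v u hv hu h3 h1)
  · exact absurd e (key u v hu hv h1 h3)
  · have h4 := QuotientGroup.eq.1 e
    exact inv_mul_eq_one.1 (H.eq_one_of_two h1 (mul_self_of_two hu) h4 (by
      rw [mul_inv_cancel_left, mul_self_of_two hv]))

end TIB

/-- the hypotheses of Bender's lemma, with an involution in each coset of `M` outside `N` -/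
structure TIC (M : Subgroup G) : Prop extends TIB M where
  ex : ∃ z ∈ 𝐍 M, orderOf z = 2
  two : ∀ g ∉ 𝐍 M, ∃ x ∈ M, orderOf (g * x) = 2

namespace TIC

variable (H : TIC M)
include H

theorem exists_inv (hu : u ∉ 𝐍 M) (h2 : u * u = 1) (hh : h ∈ 𝐍 M) :
    ∃ x ∈ M, u * (h * x) * u⁻¹ = (h * x)⁻¹ := by
  obtain ⟨x, hx, e⟩ := H.two (u * h) fun e => hu ((mul_mem_cancel_right hh).1 e)
  refine ⟨x, hx, ?_⟩
  rw [inv_eq_of_mul_eq_one_right h2, eq_inv_iff_mul_eq_one, ← mul_self_of_two e]; group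

theorem exists_comm (hu : u ∉ 𝐍 M) (h2 : u * u = 1) : ∃ z ∈ 𝐍 M, orderOf z = 2 ∧ z * u = u * z := by
  obtain ⟨z, hz, z2⟩ := H.ex
  obtain ⟨x, hx, e⟩ := H.exists_inv hu h2 hz
  have : orderOf (z * x) = 2 := by rw [orderOf_mul_comm]; exact H.two_mul hz z2 hx
  refine ⟨z * x, mul_mem hz (le_normalizer hx), this, ?_⟩
  rw [inv_of_two this, mul_inv_eq_iff_eq_mul] at e
  exact e.symm

theorem eq_one_of_conj (hu : u ∉ 𝐍 M) (h2 : u * u = 1) (hx : x ∈ M) (e : u * x * u⁻¹ ∈ 𝐍 M) : x = 1 := by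
  obtain ⟨z, hz, z2, ez⟩ := H.exists_comm hu h2
  by_contra h1
  refine hu (H.ti x hx h1 u (mem_of_mul_self_mem (by rw [orderOf_conj]; exact H.odd_mem hx) ?_))
  have h3 := H.comm z hz (mul_self_of_two z2) _ e
  have h4 : z * (u * x * u⁻¹) * z⁻¹ = (u * x * u⁻¹)⁻¹ := by
    calc z * (u * x * u⁻¹) * z⁻¹ = (z * u) * x * (z * u)⁻¹ := by group
      _ = u * (z * x * z⁻¹) * u⁻¹ := by rw [ez]; group
      _ = _ := by rw [H.inv hz z2 hx]; group
  rw [h4, ← mul_inv_rev] at h3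
  exact inv_mem_iff.1 h3

theorem inv_of_conj (hu : u ∉ 𝐍 M) (h2 : u * u = 1) (hk : k ∈ 𝐍 M) (e : u * k * u⁻¹ ∈ 𝐍 M) :
    u * k * u⁻¹ = k⁻¹ := by
  obtain ⟨x, hx, e'⟩ := H.exists_inv hu h2 hk
  have : x = 1 := H.eq_one_of_conj hu h2 hx (by
    rw [show u * x * u⁻¹ = (u * k * u⁻¹)⁻¹ * (u * (k * x) * u⁻¹) by group, e']
    exact mul_mem (inv_mem e) (inv_mem (mul_mem hk (le_normalizer hx))))
  rwa [this, mul_one] at e'

theorem mul_self (hz : z ∈ 𝐍 M) (z2 : orderOf z = 2) (hg : g ∉ 𝐍 M) (e : z * g = g * z) : g * g = 1 := by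
  obtain ⟨x, hx, e'⟩ := H.two g hg
  have h1 : g * x ∉ 𝐍 M := fun h => hg ((mul_mem_cancel_right (le_normalizer hx)).1 h)
  have h3 : z * (g * x) * z⁻¹ = g * x * (x * x)⁻¹ := by
    calc z * (g * x) * z⁻¹ = z * g * z⁻¹ * (z * x * z⁻¹) := by group
      _ = _ := by rw [e, H.inv hz z2 hx]; group
  have h4 := H.eq_one_of_two h1 (mul_self_of_two e') (M.inv_mem (M.mul_mem hx hx)) (by
    rw [← h3]; exact mul_self_of_two (by rw [orderOf_conj, e']))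
  have := mul_self_of_two e'
  rwa [H.eq_one hx (inv_eq_one.1 h4), mul_one] at this

theorem comm_of_conj (hz : z ∈ 𝐍 M) (z2 : orderOf z = 2) (hg : g ∉ 𝐍 M) (e : z * g = g * z) (hk : k ∈ 𝐍 M)
    (e' : g * k * g⁻¹ ∈ 𝐍 M) : z * k = k * z := by
  have g2 := H.mul_self hz z2 hg e
  have h0 : g * z * g⁻¹ = z := by rw [← e]; group
  have h1 := H.inv_of_conj hg g2 (mul_mem hz hk) (by
    rw [show g * (z * k) * g⁻¹ = g * z * g⁻¹ * (g * k * g⁻¹) by group, h0]; exact mul_mem hz e')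
  rw [show g * (z * k) * g⁻¹ = g * z * g⁻¹ * (g * k * g⁻¹) by group, h0, H.inv_of_conj hg g2 hk e',
    mul_inv_rev, inv_of_two z2] at h1
  exact (Commute.inv_right_iff.1 h1).eq

theorem inv_of_comm (hz : z ∈ 𝐍 M) (z2 : orderOf z = 2) (hg : g ∉ 𝐍 M) (e : z * g = g * z) (hk : k ∈ 𝐍 M)
    (e' : z * k = k * z) : g * k * g⁻¹ = k⁻¹ := by
  have g2 := H.mul_self hz z2 hg e
  obtain ⟨x, hx, h1⟩ := H.exists_inv hg g2 hk
  have h2 := H.comm_of_conj hz z2 hg e (mul_mem hk (le_normalizer hx))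
    (by rw [h1]; exact inv_mem (mul_mem hk (le_normalizer hx)))
  have : x = 1 := H.eq_one_of_comm hz z2 hx (by
    rw [← mul_assoc, e', mul_assoc, mul_assoc] at h2; exact mul_left_cancel h2)
  rwa [this, mul_one] at h1

theorem exists_conj_comm (hz : z ∈ 𝐍 M) (z2 : orderOf z = 2) (hu : orderOf u = 2) :
    ∃ w ∈ M, ∃ e, z * e = e * z ∧ u = w * e * w⁻¹ := by
  by_cases h1 : u ∈ 𝐍 M
  · obtain ⟨w, hw, e⟩ := H.exists_conj hz z2 h1 hu
    exact ⟨w, hw, z, rfl, e⟩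
  obtain ⟨z', hz', z2', e⟩ := H.exists_comm h1 (mul_self_of_two hu)
  obtain ⟨w, hw, rfl⟩ := H.exists_conj hz z2 hz' z2'
  refine ⟨w, hw, w⁻¹ * u * w, ?_, by group⟩
  calc z * (w⁻¹ * u * w) = w⁻¹ * (w * z * w⁻¹ * u) * w := by group
    _ = _ := by rw [e]; group

theorem exists_dc (hz : z ∈ 𝐍 M) (z2 : orderOf z = 2) (hg : g ∉ 𝐍 M) :
    ∃ w ∈ M, ∃ e ∉ 𝐍 M, ∃ x ∈ M, z * e = e * z ∧ g = w * e * x := by
  obtain ⟨x, hx, h1⟩ := H.two g hg
  obtain ⟨w, hw, e, h2, h3⟩ := H.exists_conj_comm hz z2 h1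
  have h4 : g = w * e * (w⁻¹ * x⁻¹) := by rw [← mul_assoc, ← h3]; group
  refine ⟨w, hw, e, fun h => hg ?_, _, M.mul_mem (M.inv_mem hw) (M.inv_mem hx), h2, h4⟩
  rw [h4]
  exact mul_mem (mul_mem (le_normalizer hw) h) (le_normalizer (M.mul_mem (M.inv_mem hw) (M.inv_mem hx)))

theorem dc_inj (hz : z ∈ 𝐍 M) (z2 : orderOf z = 2) (hu : u ∉ 𝐍 M) (eu : z * u = u * z) (ev : z * v = v * z)
    (hw : w ∈ M) (hx : x ∈ M) (e : w * u * x = v) : w = 1 ∧ x = 1 := by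
  have h1 : w⁻¹ * u * x⁻¹ = v := by
    calc w⁻¹ * u * x⁻¹ = z * w * z⁻¹ * (z * u * z⁻¹) * (z * x * z⁻¹) := by
          rw [H.inv hz z2 hw, H.inv hz z2 hx, eu]; group
      _ = z * v * z⁻¹ := by rw [← e]; group
      _ = v := by rw [ev]; group
  have h2 : u * (x * x) * u⁻¹ = (w * w)⁻¹ := by
    calc u * (x * x) * u⁻¹ = w⁻¹ * (w * u * x) * x * u⁻¹ := by group
      _ = _ := by rw [e, ← h1]; group
  have h3 : x * x = 1 := by
    by_contra h
    exact hu (H.ti _ (M.mul_mem hx hx) h u (h2 ▸ M.inv_mem (M.mul_mem hw hw)))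
  rw [h3] at h2
  exact ⟨H.eq_one hw (inv_eq_one.1 (by rw [← h2]; group)), H.eq_one hx h3⟩

end TIC

end Cfsg.Lib.Exc
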