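import Cfsg.Agent.Lib.Exc.TIBa
import Cfsg.Agent.Lib.Exc.AC2
import Cfsg.Agent.Lib.Char.Integral
import Cfsg.Agent.Lib.Invol.Sylow2
import Mathlib.Algebra.CharP.CharAndCard
import Mathlib.GroupTheory.SpecificGroups.ZGroup

/-! Bender's lemma on a `TI`-subgroup `M` with odd centralizers: the two cases. -/

set_option autoImplicit false
set_option linter.unusedSectionVars false

namespace Cfsg.Lib.Exc

open Subgroup Cfsg.Lib.Invol Cfsg.Lib.BN Cfsg.Lib.Amalg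
open scoped commutatorElement

universe u

theorem relIndex_normal_dvd {G : Type*} [Group G] [Finite G] (A N : Subgroup G) [N.Normal] :
    A.relIndex N ∣ A.index := by
  have e1 := Core.card_mul_relIndex (le_sup_left : A ≤ A ⊔ N)
  have e2 := Core.card_sup_mul_card_inf (H := A) (K := N) le_normalizer_of_normal
  have e3 := Core.card_mul_relIndex (inf_le_right : A ⊓ N ≤ N)
  rw [← e1, ← e3, mul_assoc, inf_relIndex_right, mul_comm (Nat.card ↥(A ⊓ N))] at e2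
  rw [← Nat.eq_of_mul_eq_mul_right Nat.card_pos (Nat.eq_of_mul_eq_mul_left Nat.card_pos e2)]
  exact relIndex_dvd_index_of_le le_sup_left

/-- A group with an abelian subgroup of prime power index is solvable. -/
theorem solvable_of_comm_index {p : ℕ} (hp : p.Prime) : ∀ (n : ℕ) (G : Type u) [Group G] [Finite G],
    Nat.card G = n → ∀ (A : Subgroup G), IsMulCommutative A → ∀ k, A.index ∣ p ^ k → Group.IsSolvable G := by
  intro n
  induction n using Nat.strong_induction_on with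
  | _ n ih =>
  intro G _ _ hn A hA k hk
  have := Fact.mk hp
  rcases subsingleton_or_nontrivial G with h0 | h0
  · infer_instance
  by_cases hs : IsSimpleGroup G
  · obtain ⟨j, -, hj⟩ := (Nat.dvd_prime_pow hp).1 hk
    by_cases h1 : A = ⊥
    · rw [h1, index_bot] at hj
      have := (IsPGroup.of_card hj).isNilpotent
      infer_instance
    obtain ⟨⟨a, ha⟩, a1⟩ := ne_bot_iff_exists_ne_one.1 h1
    have h2 : A ≤ centralizer ({a} : Set G) := fun b hb => mem_centralizer_singleton_iff.2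
      (congrArg Subtype.val (hA.is_comm.comm (⟨b, hb⟩ : A) ⟨a, ha⟩))
    obtain ⟨i, -, hi⟩ := (Nat.dvd_prime_pow hp).1 ((index_dvd_of_le h2).trans hk)
    exact Group.isSolvable_of_comm
      (Char.comm_of_isSimpleGroup_of_prime_pow_class hp (fun e => a1 (Subtype.ext e)) hi)
  obtain ⟨N, hN, h1, h2⟩ : ∃ N : Subgroup G, N.Normal ∧ N ≠ ⊥ ∧ N ≠ ⊤ := by
    by_contra hc
    push Not at hc
    exact hs ⟨fun N hN => or_iff_not_imp_left.2 (hc N hN)⟩
  have h3 := N.card_mul_index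
  have h4 := (one_lt_card_iff_ne_bot N).2 h1
  have h5 := one_lt_index_of_ne_top h2
  have : Group.IsSolvable N := ih _ (by nlinarith) N rfl (A.subgroupOf N) inferInstance k
    ((relIndex_normal_dvd A N).trans hk)
  have : Group.IsSolvable (G ⧸ N) := ih _ (by rw [← index_eq_card]; nlinarith) (G ⧸ N) rfl
    (A.map (QuotientGroup.mk' N)) inferInstance k
    ((index_map_dvd _ (QuotientGroup.mk'_surjective N)).trans hk)
  exact Core.isSolvable_of_normal_of_quotient N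

variable {G : Type u} [Group G] [Finite G] {M : Subgroup G} {g h k u v w x y z : G}

namespace TIC

variable (H : TIC M) (hz : z ∈ 𝐍 M) (z2 : orderOf z = 2)
include H hz z2

section A

variable (hy : y ∉ 𝐍 M) (ey : z * y = y * z)
  (hA : ∀ u ∉ 𝐍 M, ∀ v ∉ 𝐍 M, z * u = u * z → z * v = v * z → u * v ∈ 𝐍 M)
include hy ey

omit H hz z2 ey in
theorem A_ne : ((1 : G) : G ⧸ 𝐍 M) ≠ (y : G) := fun e => hy (by simpa using QuotientGroup.eq.1 e)

omit H hz z2 hy ey in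
theorem A_fix : g • ((1 : G) : G ⧸ 𝐍 M) = (1 : G) ↔ g ∈ 𝐍 M := by
  rw [← MulAction.mem_stabilizer_iff, MulAction.stabilizer_quotient]

omit H hz z2 hy ey in
theorem A_eq : g • ((y : G) : G ⧸ 𝐍 M) = h • (y : G ⧸ 𝐍 M) ↔ y⁻¹ * (g⁻¹ * h) * y ∈ 𝐍 M := by
  rw [MulAction.Quotient.smul_coe, MulAction.Quotient.smul_coe, QuotientGroup.eq, smul_eq_mul, smul_eq_mul]
  congr! 1; group

theorem A_inj (hw : w ∈ M) (hx : x ∈ M) (e : w • ((y : G) : G ⧸ 𝐍 M) = x • (y : G ⧸ 𝐍 M)) : w = x := by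
  have y2 := H.mul_self hz z2 hy ey
  rw [A_eq, inv_eq_of_mul_eq_one_right y2] at e
  exact inv_mul_eq_one.1 (H.eq_one_of_conj hy y2 (M.mul_mem (M.inv_mem hw) hx)
    (by rwa [inv_eq_of_mul_eq_one_right y2]))

theorem A_E2 : x ∈ E2 G ((1 : G) : G ⧸ 𝐍 M) (y : G) ↔ x ∈ 𝐍 M ∧ z * x = x * z := by
  have y2 := H.mul_self hz z2 hy ey
  have y1 := inv_eq_of_mul_eq_one_right y2
  rw [mem_E2, A_fix]
  refine and_congr_right fun hx => ?_
  rw [eq_comm, ← one_smul G ((y : G) : G ⧸ 𝐍 M), ← mul_smul, A_eq, inv_one, one_mul, mul_one, y1]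
  refine ⟨fun e => H.comm_of_conj hz z2 hy ey hx (by rwa [y1]), fun e => ?_⟩
  have := H.inv_of_comm hz z2 hy ey hx e
  rw [y1] at this
  rw [this]; exact inv_mem hx

theorem A_invE : InvE G ((1 : G) : G ⧸ 𝐍 M) (y : G) := by
  have y2 := H.mul_self hz z2 hy ey
  have := sw_of_mul_self y2 ((1 : G) : G ⧸ 𝐍 M)
  rw [MulAction.Quotient.smul_coe, smul_eq_mul, mul_one] at this
  refine invE_of this fun x hx => ?_
  rw [H.A_E2 hz z2 hy ey] at hx
  exact H.inv_of_comm hz z2 hy ey hx.1 hx.2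

include hA

theorem A_surj {c : G ⧸ 𝐍 M} (hc : c ≠ (1 : G)) : ∃ w ∈ M, w • ((y : G) : G ⧸ 𝐍 M) = c := by
  obtain ⟨g, rfl⟩ := QuotientGroup.mk_surjective c
  obtain ⟨w, hw, e, h1, x, hx, h2, rfl⟩ := H.exists_dc hz z2 (g := g) fun e => hc (by
    rw [eq_comm, QuotientGroup.eq]; simpa using e)
  refine ⟨w, hw, ?_⟩
  rw [MulAction.Quotient.smul_coe, QuotientGroup.eq, smul_eq_mul,
    show (w * y)⁻¹ * (w * e * x) = y⁻¹ * e * x by group, inv_eq_of_mul_eq_one_right (H.mul_self hz z2 hy ey)]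
  exact mul_mem (hA y hy e h1 ey h2) (le_normalizer hx)

theorem A_two {c d : G ⧸ 𝐍 M} (hc : c ≠ d) :
    ∃ g : G, g • ((1 : G) : G ⧸ 𝐍 M) = c ∧ g • ((y : G) : G ⧸ 𝐍 M) = d := by
  obtain ⟨g, rfl⟩ := QuotientGroup.mk_surjective c
  have h0 : g • ((1 : G) : G ⧸ 𝐍 M) = g := by rw [MulAction.Quotient.smul_coe, smul_eq_mul, mul_one]
  obtain ⟨w, hw, e⟩ := H.A_surj hz z2 hy ey hA (c := g⁻¹ • d) fun e => hc (by
    rw [inv_smul_eq_iff, h0] at e; exact e.symm)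
  exact ⟨g * w, by rw [mul_smul, A_fix.2 (le_normalizer hw), h0], by rw [mul_smul, e, smul_inv_smul]⟩

theorem A_three {c : G ⧸ 𝐍 M} (h1 : c ≠ (1 : G)) (h2 : c ≠ (y : G)) (hx : x ∈ E2 G ((1 : G) : G ⧸ 𝐍 M) (y : G))
    (e : x • c = c) : x = 1 := by
  obtain ⟨w, hw, rfl⟩ := H.A_surj hz z2 hy ey hA h1
  have w1 : w ≠ 1 := fun e => h2 (by rw [e, one_smul])
  obtain ⟨h3, h4⟩ := (H.A_E2 hz z2 hy ey).1 hx
  have h5 : x * w * x⁻¹ = w := H.A_inj hz z2 hy ey (nconj h3 hw) hw (by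
    rw [mul_smul, inv_smul_eq_iff.2 hx.2.symm, mul_smul, e])
  rw [mul_inv_eq_iff_eq_mul] at h5
  obtain ⟨t, e1, e2⟩ := H.A_two hz z2 hy ey hA h2.symm
  have h6 := (H.A_invE hz z2 hy ey).conj t
  have h7 := sw_of_mul_self (mul_self_of_two (H.two_mul hz z2 hw)) ((y : G) : G ⧸ 𝐍 M)
  rw [mul_smul, ((H.A_E2 hz z2 hy ey).2 ⟨hz, rfl⟩).2] at h7
  rw [e1, e2] at h6
  have h8 := h6 _ h7 x ⟨hx.2, e⟩
  refine eq_one_of_odd_of_mul_self (H.odd w hw w1 x h5) (mul_eq_one_iff_inv_eq.2 ?_)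
  rw [← h8, mul_assoc w, h4, ← mul_assoc, ← h5]; group

theorem A_z3 : Z3 G (G ⧸ 𝐍 M) := by
  have key : ∀ {g : G} {a b c : G ⧸ 𝐍 M}, a ≠ b → b ≠ c → a ≠ c → g • a = a → g • b = b → g • c = c → g = 1 := by
    intro g a b c h1 h2 h3 e1 e2 e3
    obtain ⟨t, rfl, rfl⟩ := H.A_two hz z2 hy ey hA h1
    have := H.A_three hz z2 hy ey hA (x := t⁻¹ * g * t) (c := t⁻¹ • c)
      (fun e => h3 (inv_smul_eq_iff.1 e).symm) (fun e => h2 (inv_smul_eq_iff.1 e).symm)
      (mem_E2_smul.1 ⟨e1, e2⟩) (by rw [conj_fix', smul_inv_smul, e3])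
    calc g = t * (t⁻¹ * g * t) * t⁻¹ := by group
      _ = 1 := by rw [this]; group
  refine ⟨fun h1 h2 => ?_, key, fun e => ?_, ⟨_, _, A_ne hy⟩⟩
  · obtain ⟨s, rfl, rfl⟩ := H.A_two hz z2 hy ey hA h1
    obtain ⟨t, rfl, rfl⟩ := H.A_two hz z2 hy ey hA h2
    exact ⟨t * s⁻¹, by simp [mul_smul], by simp [mul_smul]⟩
  · obtain ⟨w, hw, w1⟩ := H.exists_ne
    refine key (A_ne hy) (c := w • ((y : G) : G ⧸ 𝐍 M)) (fun e' => w1 ?_) (fun e' => A_ne hy ?_) (e _) (e _) (e _)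
    · exact H.A_inj hz z2 hy ey hw M.one_mem (by rw [one_smul, ← e'])
    · rw [← inv_smul_eq_iff, A_fix.2 (inv_mem (le_normalizer hw))] at e'; exact e'

theorem caseA : ∃ (F : Type) (_ : Field F) (_ : Fintype F) (p : ℕ) (_ : Fact p.Prime) (_ : CharP F p),
    Fintype.card F = Nat.card M ∧ Cfsg.IsElementaryAbelian p M ∧
      (Nonempty (G ≃* (GL (Fin 2) F ⧸ Subgroup.center (GL (Fin 2) F))) ∨
        (Fintype.card F % 4 = 1 ∧ Nonempty (G ≃* Matrix.ProjectiveSpecialLinearGroup (Fin 2) F))) := by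
  have Z := H.A_z3 hz z2 hy ey hA
  have hab := A_ne (M := M) hy
  have hK : M = Z.K ((1 : G) : G ⧸ 𝐍 M) := by
    refine Z.eq_K_of_reg (fun w hw => A_fix.2 (le_normalizer hw)) hab fun c d hc hd => ?_
    obtain ⟨w, hw, rfl⟩ := H.A_surj hz z2 hy ey hA hc
    obtain ⟨x, hx, rfl⟩ := H.A_surj hz z2 hy ey hA hd
    refine ⟨⟨x * w⁻¹, M.mul_mem hx (M.inv_mem hw)⟩, by simp [mul_smul], fun v e => Subtype.ext ?_⟩
    exact eq_mul_inv_of_mul_eq (H.A_inj hz z2 hy ey (M.mul_mem v.2 hw) hx ((mul_smul _ _ _).trans e))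
  have hzE := (H.A_E2 hz z2 hy ey).2 ⟨hz, rfl⟩
  have he := even_card_of_two_mem z2 hzE
  have hE : E2 G ((1 : G) : G ⧸ 𝐍 M) (y : G) ≠ ⊥ := fun e => ne_one_of_two z2 (mem_bot.1 (e ▸ hzE))
  have hl := Z.le_two_mul_of_even hab he
  obtain ⟨hc, p, f, hp, h1, h2⟩ := elementary_of_fpf_of_large (Z.fpf hab) hl (Z.K_ne_bot' hab hE)
    (Z.nilpotent_K hab hE) (Z.E2_le_norm _ _)
  have := Fact.mk hp
  have hi := H.A_invE hz z2 hy ey
  rcases Z.eq_or_eq_of_large hab hE hl with h3 | h3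
  · obtain ⟨k, _, _, h4, h5⟩ := Z.pgl_of_invE hab hi h3
    obtain ⟨F, _, _, h6, h7⟩ := exists_pgl_zero h5
    exact ⟨F, _, _, p, this, charP_of_card_eq_prime_pow (h6.trans (h4.trans h2)), by rw [h6, h4, ← hK],
      by rw [hK]; exact ⟨hc, h1⟩, Or.inl h7⟩
  · obtain ⟨k, _, _, h4, -, h5⟩ := Z.psl_of_invE hab hi h3
    obtain ⟨F, _, _, h6, -, h7⟩ := exists_psl_zero h5
    refine ⟨F, _, _, p, this, charP_of_card_eq_prime_pow (h6.trans (h4.trans h2)), by rw [h6, h4, ← hK],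
      by rw [hK]; exact ⟨hc, h1⟩, Or.inr ⟨?_, h7⟩⟩
    rw [h6, h4]
    obtain ⟨r, hr⟩ := he
    have : 0 < Nat.card (Z.K ((1 : G) : G ⧸ 𝐍 M)) := Nat.card_pos
    omega

end A

section B

variable (hu : u ∉ 𝐍 M) (eu : z * u = u * z) (hv : v ∉ 𝐍 M) (ev : z * v = v * z) (huv : u * v ∉ 𝐍 M)

include hu eu hv ev huv

theorem B_K (hk : k ∈ 𝐍 M) (e : z * k = k * z) : k = 1 ∨ k = z := by
  have h1 := H.inv_of_comm hz z2 huv (by rw [← mul_assoc, eu, mul_assoc, ev, mul_assoc]) hk e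
  rw [show u * v * k * (u * v)⁻¹ = u * (v * k * v⁻¹) * u⁻¹ by group, H.inv_of_comm hz z2 hv ev hk e,
    H.inv_of_comm hz z2 hu eu (inv_mem hk) (Commute.inv_right e).eq, inv_inv] at h1
  refine or_iff_not_imp_left.2 fun h2 => H.eq_of_comm hz z2 hk (two_of_mul_self ?_ h2) e
  exact mul_eq_one_iff_eq_inv.2 h1

theorem B_sq (e : z * g = g * z) : g * g = 1 := by
  by_cases hg : g ∈ 𝐍 M
  · rcases H.B_K hz z2 hu eu hv ev huv hg e with rfl | rfl
    · simp
    · exact mul_self_of_two z2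
  · exact H.mul_self hz z2 hg e

theorem B_N (hh : h ∈ 𝐍 M) : h ∈ M ∨ h * z ∈ M := by
  obtain ⟨w, hw, e⟩ := H.exists_fac hz z2 hh
  rcases H.B_K hz z2 hu eu hv ev huv (mul_mem (le_normalizer hw) hh) e with h1 | h1
  · exact Or.inl ((mul_mem_cancel_left hw).1 (h1 ▸ M.one_mem))
  · refine Or.inr ((mul_mem_cancel_left hw).1 ?_)
    rw [← mul_assoc, h1, mul_self_of_two z2]; exact M.one_mem

theorem B_cardN : Nat.card (𝐍 M) = 2 * Nat.card M := by
  have : M.relIndex (𝐍 M) = 2 := by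
    rw [relIndex_eq_two_iff]
    refine ⟨z, hz, fun b hb => ?_⟩
    rcases H.B_N hz z2 hu eu hv ev huv hb with h1 | h1
    · exact Or.inr ⟨h1, fun e => H.not_mem z2 ((mul_mem_cancel_left h1).1 e)⟩
    · exact Or.inl ⟨h1, fun e => H.not_mem z2 ((mul_mem_cancel_left e).1 h1)⟩
  rw [← Core.card_mul_relIndex (le_normalizer (H := M)), this, mul_comm]

theorem B_inj {e e' : G} (h1 : z * e = e * z) (h2 : z * e' = e' * z) (e1 : e ≠ 1) (hw : w ∈ M)
    (h3 : w * e * w⁻¹ = e') : w = 1 := by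
  by_cases h4 : e ∈ 𝐍 M
  · obtain rfl := (H.B_K hz z2 hu eu hv ev huv h4 h1).resolve_left e1
    rw [H.conj_eq hz z2 hw] at h3
    rw [← h3, ← mul_assoc] at h2
    exact H.eq_one hw (H.eq_one_of_comm hz z2 (M.mul_mem hw hw) (mul_right_cancel h2))
  · exact (H.dc_inj hz z2 h4 h1 h2 hw (M.inv_mem hw) h3).1

theorem B_conj_inj {S : Set G} (hS : ∀ e ∈ S, z * e = e * z ∧ e ≠ 1) :
    Function.Injective fun p : M × S => (p.1 : G) * p.2 * (p.1 : G)⁻¹ := by
  rintro ⟨w, e⟩ ⟨w', e'⟩ h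
  dsimp only at h
  have : (w' : G)⁻¹ * w = 1 := H.B_inj hz z2 hu eu hv ev huv (hS _ e.2).1 (hS _ e'.2).1 (hS _ e.2).2
    (M.mul_mem (M.inv_mem w'.2) w.2) (by
      calc _ = (w' : G)⁻¹ * (w * e * (w : G)⁻¹) * w' := by group
        _ = _ := by rw [h]; group)
  obtain rfl : w' = w := Subtype.ext (inv_mul_eq_one.1 this)
  rw [show e = e' from Subtype.ext (by simpa using h)]

theorem B_cardJ : Nat.card {g : G // orderOf g = 2} =
    Nat.card M * (Nat.card (centralizer ({z} : Set G)) - 1) := by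
  have h1 : Nat.card ↥((centralizer ({z} : Set G) : Set G) \ {1}) = Nat.card (centralizer ({z} : Set G)) - 1 := by
    rw [Nat.card_coe_set_eq, Set.ncard_sdiff_singleton_of_mem (one_mem _)]; rfl
  have hS : ∀ e ∈ (centralizer ({z} : Set G) : Set G) \ {1}, z * e = e * z ∧ e ≠ 1 := fun e he =>
    ⟨(mem_centralizer_singleton_iff.1 he.1).symm, he.2⟩
  rw [← h1, ← Nat.card_prod]
  refine (Nat.card_eq_of_bijective (fun p : M × ↥((centralizer ({z} : Set G) : Set G) \ {1}) =>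
    (⟨(p.1 : G) * p.2 * (p.1 : G)⁻¹, by
      rw [orderOf_conj]
      exact two_of_mul_self (H.B_sq hz z2 hu eu hv ev huv (hS _ p.2.2).1) (hS _ p.2.2).2⟩ :
      {g : G // orderOf g = 2})) ⟨fun a b e => H.B_conj_inj hz z2 hu eu hv ev huv hS (congrArg Subtype.val e),
    fun g => ?_⟩).symm
  obtain ⟨w, hw, e, h2, h3⟩ := H.exists_conj_comm hz z2 g.2
  exact ⟨⟨⟨w, hw⟩, e, mem_centralizer_singleton_iff.2 h2.symm, fun h => ne_one_of_two g.2 (by
    rw [h3, Set.mem_singleton_iff.1 h]; group)⟩, Subtype.ext h3.symm⟩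

theorem B_cardG : Nat.card G = 2 * Nat.card M +
    Nat.card M * ((Nat.card (centralizer ({z} : Set G)) - 2) * Nat.card M) := by
  have h1 : Nat.card ↥((centralizer ({z} : Set G) : Set G) \ {1, z}) = Nat.card (centralizer ({z} : Set G)) - 2 := by
    rw [Nat.card_coe_set_eq, Set.ncard_sdiff (by
      rintro _ (rfl | rfl)
      · exact one_mem _
      · exact mem_centralizer_singleton_iff.2 rfl), Set.ncard_pair (ne_one_of_two z2).symm]; rfl
  have hS : ∀ e ∈ (centralizer ({z} : Set G) : Set G) \ {1, z}, z * e = e * z ∧ e ∉ 𝐍 M := fun e he =>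
    ⟨(mem_centralizer_singleton_iff.1 he.1).symm, fun h => he.2
      (H.B_K hz z2 hu eu hv ev huv h (mem_centralizer_singleton_iff.1 he.1).symm)⟩
  have h2 : Nat.card ↥((𝐍 M : Set G)ᶜ) =
      Nat.card M * ((Nat.card (centralizer ({z} : Set G)) - 2) * Nat.card M) := by
    rw [← h1, ← Nat.card_prod, ← Nat.card_prod]
    refine (Nat.card_eq_of_bijective (fun p : M × ↥((centralizer ({z} : Set G) : Set G) \ {1, z}) × M =>
      (⟨(p.1 : G) * p.2.1 * p.2.2, fun h => (hS _ p.2.1.2).2 ((mul_mem_cancel_left (le_normalizer p.1.2)).1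
        ((mul_mem_cancel_right (le_normalizer p.2.2.2)).1 h))⟩ : ↥((𝐍 M : Set G)ᶜ))) ⟨?_, fun g => ?_⟩).symm
    · rintro ⟨w, e, x⟩ ⟨w', e', x'⟩ h
      have h : (w : G) * e * x = w' * e' * x' := congrArg Subtype.val h
      obtain ⟨h3, h4⟩ := H.dc_inj hz z2 (hS _ e.2).2 (hS _ e.2).1 (hS _ e'.2).1
        (M.mul_mem (M.inv_mem w'.2) w.2) (M.mul_mem x.2 (M.inv_mem x'.2)) (by
          calc _ = (w' : G)⁻¹ * (w * e * x) * (x' : G)⁻¹ := by group
            _ = _ := by rw [h]; group)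
      obtain rfl : w' = w := Subtype.ext (inv_mul_eq_one.1 h3)
      obtain rfl : x = x' := Subtype.ext (mul_inv_eq_one.1 h4)
      rw [show e = e' from Subtype.ext (by simpa using h)]
    · obtain ⟨w, hw, e, h3, x, hx, h4, h5⟩ := H.exists_dc hz z2 g.2
      refine ⟨⟨⟨w, hw⟩, ⟨e, mem_centralizer_singleton_iff.2 h4.symm, ?_⟩, x, hx⟩, Subtype.ext h5.symm⟩
      rintro (rfl | rfl)
      · exact h3 (one_mem _)
      · exact h3 hz
  rw [← h2, ← H.B_cardN hz z2 hu eu hv ev huv, Nat.card_coe_set_eq]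
  exact (Set.ncard_add_ncard_compl (𝐍 M : Set G)).symm

theorem B_pgroup : IsPGroup 2 (centralizer ({z} : Set G)) := isPGroup_iff_mem.2 fun x hx =>
  ⟨1, by rw [pow_one, sq]; exact H.B_sq hz z2 hu eu hv ev huv (mem_centralizer_singleton_iff.1 hx).symm⟩

theorem B_cardE : ∃ d, 2 ≤ d ∧ Nat.card (centralizer ({z} : Set G)) = 2 * 2 ^ d := by
  obtain ⟨n, hn⟩ := (H.B_pgroup hz z2 hu eu hv ev huv).exists_card_eq
  have u2 := H.mul_self hz z2 hu eu
  have h1 : ({1, z, u, v, u * v} : Set G) ⊆ centralizer ({z} : Set G) := by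
    rintro _ (rfl | rfl | rfl | rfl | rfl)
    · exact one_mem _
    · exact mem_centralizer_singleton_iff.2 rfl
    · exact mem_centralizer_singleton_iff.2 eu.symm
    · exact mem_centralizer_singleton_iff.2 ev.symm
    · exact mul_mem (mem_centralizer_singleton_iff.2 eu.symm) (mem_centralizer_singleton_iff.2 ev.symm)
  have h2 : ∀ {a}, a ∉ 𝐍 M → 1 ≠ a ∧ z ≠ a := fun h => ⟨fun e => h (e ▸ one_mem _), fun e => h (e ▸ hz)⟩
  have h3 := Set.ncard_le_ncard h1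
  rw [Set.ncard_insert_of_notMem (by simp [(ne_one_of_two z2).symm, h2 hu, h2 hv, h2 huv]),
    Set.ncard_insert_of_notMem (by simp [h2 hu, h2 hv, h2 huv]),
    Set.ncard_insert_of_notMem (by
      simp only [Set.mem_insert_iff, Set.mem_singleton_iff, left_eq_mul, not_or]
      exact ⟨fun e => huv (e ▸ u2 ▸ one_mem _), (h2 hv).1.symm⟩),
    Set.ncard_pair (by simpa using (h2 hu).1.symm)] at h3
  change _ ≤ Nat.card (centralizer ({z} : Set G)) at h3
  rw [hn] at h3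
  rcases n with _ | _ | _ | n
  · omega
  · omega
  · omega
  · exact ⟨n + 2, by omega, by rw [hn]; ring⟩

theorem B_arith : ∃ d, 2 ≤ d ∧ Nat.card (centralizer ({z} : Set G)) = 2 * 2 ^ d ∧
    (Nat.card M = 2 ^ d + 1 ∧ M.index = 2 * 2 ^ (2 * d) ∨
      Nat.card M = 2 * 2 ^ d + 1 ∧ Nat.card G = 2 * 2 ^ d * (2 * 2 ^ d - 1) * (2 * 2 ^ d + 1) ∧
        ∀ t : G, orderOf t = 2 → IsConj z t) := by
  obtain ⟨d, hd, h1⟩ := H.B_cardE hz z2 hu eu hv ev huv
  refine ⟨d, hd, h1, ?_⟩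
  have h2 := H.B_cardG hz z2 hu eu hv ev huv
  have h3 := H.B_cardJ hz z2 hu eu hv ev huv
  have h4 := card_isConj_mul z
  have h5 : {y : G | IsConj z y} ⊆ {g : G | orderOf g = 2} := fun y hy => (orderOf_of_isConj hy).symm.trans z2
  have h6 : Nat.card {y : G // IsConj z y} ≤ Nat.card {g : G // orderOf g = 2} := Set.ncard_le_ncard h5
  have h7 := M.card_mul_index
  have h8 := (one_lt_card_iff_ne_bot M).2 H.ne
  have h9 : (2 ^ d).Coprime (Nat.card M) := Nat.Coprime.pow_left _ (Nat.coprime_two_left.2 H.odd_card)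
  have h10 : Nat.card {g : G // orderOf g = 2} ≤ Nat.card {y : G // IsConj z y} → ∀ t : G, orderOf t = 2 →
      IsConj z t := fun h t ht => (Set.eq_of_subset_of_ncard_le h5 h).ge ht
  rw [h1] at h2 h3 h4
  rw [h3] at h6 h10
  have h11 : 2 ^ 2 ≤ 2 ^ d := Nat.pow_le_pow_right two_pos hd
  rw [two_mul d, pow_add]
  generalize 2 ^ d = Q at *
  generalize Nat.card M = m at *
  generalize Nat.card {y : G // IsConj z y} = c at *
  obtain ⟨q, rfl⟩ : ∃ q, Q = q + 1 := ⟨Q - 1, by omega⟩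
  rw [show 2 * (q + 1) - 2 = 2 * q by omega] at h2
  rw [show 2 * (q + 1) - 1 = 2 * q + 1 by omega] at h6 h10 ⊢
  have e1 : (q + 1) * c = m * (1 + q * m) := by nlinarith
  obtain ⟨n, rfl⟩ : ∃ n, m = n + 1 := ⟨m - 1, by omega⟩
  obtain ⟨r, hr⟩ : q + 1 ∣ n := by
    have := h9.dvd_of_dvd_mul_left ⟨c, e1.symm⟩
    rw [show 1 + q * (n + 1) = q * n + (q + 1) by ring, Nat.dvd_add_self_right] at this
    exact (show (q + 1).Coprime q by simp).dvd_of_dvd_mul_left this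
  have e2 : c = (n + 1) * (1 + q * r) := Nat.eq_of_mul_eq_mul_left q.succ_pos (by
    rw [Nat.succ_eq_add_one, e1, hr]; ring)
  have e3 : 1 + q * r ≤ 2 * q + 1 := Nat.le_of_mul_le_mul_left (e2 ▸ h6) n.succ_pos
  have e4 : r ≤ 2 := by nlinarith
  interval_cases r
  · omega
  · refine Or.inl ⟨by omega, Nat.eq_of_mul_eq_mul_left n.succ_pos ?_⟩
    rw [Nat.succ_eq_add_one, h7, h2, hr]; ring
  · exact Or.inr ⟨by omega, by rw [h2, hr]; ring, h10 (by rw [e2]; exact le_of_eq (by ring))⟩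

theorem B_sl {d : ℕ} (h2 : Nat.card G = 2 * 2 ^ d * (2 * 2 ^ d - 1) * (2 * 2 ^ d + 1))
    (h3 : ∀ t : G, orderOf t = 2 → IsConj z t) :
    ∃ (F : Type) (_ : Field F) (_ : Fintype F), Fintype.card F = 2 * 2 ^ d ∧ IsCyclic M ∧
      Nonempty (G ≃* Matrix.ProjectiveSpecialLinearGroup (Fin 2) F) := by
  have h4 : AC G := fun t ht x y hx hy => by
    obtain ⟨g, rfl⟩ := isConj_iff.1 (h3 t ht)
    have key : ∀ {a : G}, Commute a (g * z * g⁻¹) → a⁻¹ = a := fun {a} h => by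
      have := H.B_sq hz z2 hu eu hv ev huv (g := g⁻¹ * a * g) (by
        calc z * (g⁻¹ * a * g) = g⁻¹ * (g * z * g⁻¹ * a) * g := by group
          _ = _ := by rw [← h.eq]; group)
      refine inv_eq_of_mul_eq_one_right ?_
      calc a * a = g * (g⁻¹ * a * g * (g⁻¹ * a * g)) * g⁻¹ := by group
        _ = 1 := by rw [this]; group
    have := key (hx.mul_left hy)
    rw [mul_inv_rev, key hx, key hy] at this
    exact this.symm
  obtain ⟨w, hw, w1⟩ := H.exists_ne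
  obtain ⟨F, _, _, A, _, _, hF, -, hA, ⟨e⟩⟩ := h4.sl z2
    (two_of_mul_self (H.mul_self hz z2 hu eu) fun e => hu (e ▸ one_mem _)) eu.symm (fun e => hu (e ▸ hz))
    z2 (H.two_mul hz z2 hw) fun e => w1 (H.eq_one_of_comm hz z2 hw (by
      have := e.eq; rw [← mul_assoc] at this; exact mul_right_cancel this))
  have h5 : ∀ a : A, a = 1 := fun a => by
    have := H.B_sq hz z2 hu eu hv ev huv (g := e.symm (1, a)) (e.injective (by
      simp only [map_mul, MulEquiv.apply_symm_apply]; exact Prod.ext (by simp) (mul_comm _ _)))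
    rw [← map_mul, map_eq_one_iff _ e.symm.injective] at this
    exact eq_one_of_odd_of_mul_self (hA.of_dvd_nat (orderOf_dvd_natCard a)) (congrArg Prod.snd this)
  have : Unique A := ⟨⟨1⟩, h5⟩
  replace e := e.trans MulEquiv.prodUnique
  have h6 := Nat.card_congr e.toEquiv
  rw [Linear.card_SL_two, h2] at h6
  have h7 : Nat.card F = 2 * 2 ^ d := by
    have h8 : 0 < 2 * 2 ^ d := by positivity
    have h9 : 0 < Nat.card F := Nat.card_pos
    generalize 2 * 2 ^ d = a at *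
    generalize Nat.card F = b at *
    obtain ⟨a, rfl⟩ : ∃ q, a = q + 1 := ⟨a - 1, by omega⟩
    obtain ⟨b, rfl⟩ : ∃ q, b = q + 1 := ⟨b - 1, by omega⟩
    simp only [Nat.add_sub_cancel] at h6
    rcases lt_trichotomy a b with h | h | h
    · nlinarith [Nat.mul_le_mul (Nat.mul_le_mul h h) h, Nat.mul_le_mul h h]
    · omega
    · nlinarith [Nat.mul_le_mul (Nat.mul_le_mul h h) h, Nat.mul_le_mul h h]
  obtain ⟨e'⟩ := Small.nonempty_sl_equiv_psl (F := F) (by rw [h7]; exact even_two_mul _)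
  refine ⟨F, _, _, by rw [← h7, Nat.card_eq_fintype_card], ?_, ⟨e.trans e'⟩⟩
  have := H.isMulCommutative hz z2
  have : IsZGroup M := ⟨fun r hr P => by
    have := Fact.mk hr
    by_cases hr2 : r = 2
    · subst hr2
      have : (P : Subgroup M) = ⊥ := isPGroup_eq_bot_of_not_dvd P.2 le_top (by
        rw [card_top]; exact H.odd_card.not_two_dvd_nat)
      rw [this]; infer_instance
    · let f : M →* _ := e.toMonoidHom.comp M.subtype
      have hf : Function.Injective f := e.injective.comp M.subtype_injective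
      refine ((P : Subgroup M).equivMapOfInjective f hf).isCyclic.2
        (Linear.sl2_isCyclic_of_isPGroup (r := r) (fun h => hr2 ?_) hr2 (P.2.map f))
      rw [CharP.cast_eq_zero_iff F 2] at h
      exact ((Nat.prime_dvd_prime_iff_eq Nat.prime_two hr).1 h).symm⟩
  open IsMulCommutative in have : Group.IsNilpotent M := CommGroup.isNilpotent
  infer_instance

omit hu eu hv ev huv in
theorem exists_sup {n : ℕ} (hn : M.index = 2 ^ n) :
    ∃ E : Subgroup G, E.Normal ∧ IsPGroup 2 E ∧ E ⊔ 𝐍 M = ⊤ := by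
  have := solvable_of_comm_index Nat.prime_two _ G rfl M (H.isMulCommutative hz z2) n hn.dvd
  obtain ⟨L, ⟨hL, h1⟩, hm⟩ := (wellFounded_lt (α := Subgroup G)).has_min {L | L.Normal ∧ ¬ IsPGroup 2 L}
    ⟨⊤, inferInstance, fun h => H.ne (isPGroup_eq_bot_of_not_dvd (h.to_le le_top) le_rfl
      H.odd_card.not_two_dvd_nat)⟩
  have h2 : L ≠ ⊥ := fun e => h1 (e ▸ IsPGroup.of_bot)
  have h3 : IsPGroup 2 (⁅L, L⁆ : Subgroup G) := by
    by_contra h
    exact hm _ ⟨inferInstance, h⟩ (Group.IsSolvable.commutator_lt_of_ne_bot h2)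
  obtain ⟨r, hr, h4, h5⟩ : ∃ r : ℕ, r.Prime ∧ r ∣ Nat.card L ∧ r ≠ 2 := by
    by_contra h
    push Not at h
    exact h1 (IsPGroup.of_card (Nat.eq_prime_pow_of_unique_prime_dvd Nat.card_pos.ne' fun hr hd => h _ hr hd))
  have := Fact.mk hr
  obtain ⟨R, hR⟩ := exists_syl r (M ⊓ L)
  have h6 : Syl r R L := hR.of_le_of_not_dvd inf_le_right fun h => h5 (by
    rw [inf_relIndex_right] at h
    have := h.trans (relIndex_normal_dvd M L)
    rw [hn] at this
    exact (Nat.prime_dvd_prime_iff_eq hr Nat.prime_two).1 (hr.dvd_of_dvd_pow this))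
  have h7 : 𝐍 R ≤ 𝐍 M := fun g hg => by
    obtain ⟨⟨a, ha⟩, a1⟩ := ne_bot_iff_exists_ne_one.1 (h6.ne_bot h4)
    exact H.ti a (hR.le ha).1 (fun e => a1 (Subtype.ext e)) g (hR.le (nconj hg ha)).1
  have h8 : L ≤ 𝐍 (R ⊔ ⁅L, L⁆) := fun l hl => by
    have key : ∀ l ∈ L, ∀ a ∈ R ⊔ ⁅L, L⁆, l * a * l⁻¹ ∈ R ⊔ ⁅L, L⁆ := fun l hl a ha => by
      rw [show l * a * l⁻¹ = ⁅l, a⁆ * a by rw [commutatorElement_def]; group]
      exact mul_mem (mem_sup_right (commutator_mem_commutator hl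
        (sup_le h6.le (commutator_le_left L L) ha))) ha
    refine mem_normalizer_iff.2 fun a => ⟨key l hl a, fun h => ?_⟩
    simpa [mul_assoc] using key _ (L.inv_mem hl) _ h
  have h9 := h6.of_le le_sup_left (sup_le h6.le (commutator_le_left L L))
  have h10 : R ≤ ⁅L, L⁆ ⊔ 𝐍 M := le_normalizer.trans (h7.trans le_sup_right)
  have h11 : L ≤ ⁅L, L⁆ ⊔ 𝐍 M := by
    refine (h9.frattini (sup_le h6.le (commutator_le_left L L)) h8).ge.trans ?_
    exact sup_le (sup_le h10 le_sup_left) (inf_le_right.trans (h7.trans le_sup_right))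
  refine ⟨_, inferInstance, h3, eq_top_iff.2 ?_⟩
  rw [← h6.frattini (H := ⊤) le_top le_normalizer_of_normal]
  exact sup_le h11 (inf_le_right.trans (h7.trans le_sup_right))

theorem B_aff {d : ℕ} (hd : 2 ≤ d) (h0 : Nat.card (centralizer ({z} : Set G)) = 2 * 2 ^ d)
    (h1 : Nat.card M = 2 ^ d + 1) (h2 : M.index = 2 * 2 ^ (2 * d)) :
    ∃ E : Subgroup G, E.Normal ∧ Cfsg.IsElementaryAbelian 2 E ∧ Nat.card E = 2 ^ (2 * d) ∧
      E ⊓ 𝐍 M = ⊥ ∧ E ⊔ 𝐍 M = ⊤ ∧ Nonempty (𝐍 M ≃* DihedralGroup (2 ^ d + 1)) := by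
  obtain ⟨E, hE, h3, h4⟩ := H.exists_sup hz z2 (n := 2 * d + 1) (by rw [h2]; ring)
  have h5 : ∀ a ∈ E, Odd (orderOf a) → a = 1 := fun a ha ho => by
    obtain ⟨k, hk⟩ := isPGroup_iff_mem.1 h3 a ha
    exact orderOf_eq_one_iff.1 (Nat.eq_one_of_dvd_coprimes
      (Nat.Coprime.pow_left k (Nat.coprime_two_left.2 ho)) (orderOf_dvd_of_pow_eq_one hk) dvd_rfl)
  obtain ⟨w, hw, w1⟩ := H.exists_ne
  have h6 : E ⊓ 𝐍 M = ⊥ := eq_bot_iff.2 fun a ha => mem_bot.2 (by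
    rcases H.B_N hz z2 hu eu hv ev huv ha.2 with h | h
    · exact h5 a ha.1 (H.odd_mem h)
    · have h7 := H.two_mul hz z2 h
      rw [mul_assoc, mul_self_of_two z2, mul_one] at h7
      have h8 := E.mul_mem (hE.conj_mem a ha.1 w) (E.inv_mem ha.1)
      rw [H.conj_eq ha.2 h7 hw, mul_inv_cancel_right] at h8
      exact absurd (H.eq_one hw (h5 _ h8 (H.odd_mem (M.mul_mem hw hw)))) w1)
  have h7 := Core.card_sup_mul_card_inf (H := 𝐍 M) (K := E) le_normalizer_of_normal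
  rw [sup_comm, h4, inf_comm, h6, card_bot, card_top, H.B_cardN hz z2 hu eu hv ev huv, ← M.card_mul_index, h2] at h7
  have h8 : Nat.card E = 2 ^ (2 * d) := Nat.eq_of_mul_eq_mul_left (Nat.card_pos (α := M)) (by nlinarith)
  have h9 : E.index = 2 * Nat.card M := Nat.eq_of_mul_eq_mul_left (Nat.card_pos (α := E)) (by
    rw [E.card_mul_index, ← M.card_mul_index, h2, h8]; ring)
  have h10 : E.relIndex (centralizer ({z} : Set G)) ∣ 2 := by
    have a1 := relIndex_dvd_index_of_normal E (centralizer ({z} : Set G))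
    have a2 := relIndex_dvd_card E (centralizer ({z} : Set G))
    rw [h9] at a1
    rw [h0] at a2
    have := Nat.dvd_gcd a1 a2
    rwa [Nat.gcd_mul_left, (Nat.Coprime.pow_left _ (Nat.coprime_two_left.2 H.odd_card)).symm.gcd_eq_one] at this
  have h11 : 2 ^ d ≤ Nat.card ↥(E ⊓ centralizer ({z} : Set G)) := by
    have := Core.card_mul_relIndex (inf_le_right : E ⊓ centralizer ({z} : Set G) ≤ _)
    rw [inf_relIndex_right, h0] at this
    nlinarith [Nat.le_of_dvd two_pos h10]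
  have hS : ∀ e ∈ ((E ⊓ centralizer ({z} : Set G) : Subgroup G) : Set G) \ {1}, z * e = e * z ∧ e ≠ 1 :=
    fun e he => ⟨(mem_centralizer_singleton_iff.1 he.1.2).symm, he.2⟩
  have h12 : ∀ a ∈ E, a * a = 1 := fun a ha => by
    by_cases a1 : a = 1
    · simp [a1]
    let f : M × ↥(((E ⊓ centralizer ({z} : Set G) : Subgroup G) : Set G) \ {1}) → ↥((E : Set G) \ {1}) :=
      fun p => ⟨(p.1 : G) * p.2 * (p.1 : G)⁻¹, hE.conj_mem _ p.2.2.1.1 _, by simpa using p.2.2.2⟩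
    obtain ⟨p, e⟩ := (Nat.bijective_iff_injective_and_card f).2 (by
        have b1 : Function.Injective f := fun a b e => H.B_conj_inj hz z2 hu eu hv ev huv hS
          (congrArg Subtype.val e)
        refine ⟨b1, le_antisymm (Nat.card_le_card_of_injective _ b1) ?_⟩
        rw [Nat.card_prod, Nat.card_coe_set_eq, Nat.card_coe_set_eq, Set.ncard_sdiff_singleton_of_mem (one_mem _),
          Set.ncard_sdiff_singleton_of_mem (one_mem _), h1]
        change Nat.card E - 1 ≤ _ * (Nat.card ↥(E ⊓ centralizer ({z} : Set G)) - 1)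
        rw [h8, two_mul d, pow_add, ← sq, ← one_pow 2, Nat.sq_sub_sq, one_pow]
        exact Nat.mul_le_mul_left _ (by omega)) |>.2 ⟨a, ha, a1⟩
    have e : (p.1 : G) * p.2 * (p.1 : G)⁻¹ = a := congrArg Subtype.val e
    rw [← e, conj_mul, H.B_sq hz z2 hu eu hv ev huv (hS _ p.2.2).1]; group
  refine ⟨E, hE, ⟨⟨⟨fun a b => Subtype.ext ?_⟩⟩, fun a ha => by rw [sq, h12 a ha]⟩, h8, h6, h4, ?_⟩
  · have := inv_eq_of_mul_eq_one_right (h12 _ (E.mul_mem a.2 b.2))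
    rw [mul_inv_rev, inv_eq_of_mul_eq_one_right (h12 _ a.2), inv_eq_of_mul_eq_one_right (h12 _ b.2)] at this
    exact this.symm
  have := H.isMulCommutative hz z2
  have h13 : IsCyclic M := Coprime.Fpf.isCyclic_of_comm (K := E) (fun r hr r1 => eq_bot_iff.2 fun a ha =>
    mem_bot.2 (h5 a ha.1 (H.odd r hr r1 a (mem_centralizer_singleton_iff.1 ha.2)))) le_normalizer_of_normal
    (fun e => by
      rw [e, card_bot] at h8
      exact absurd h8 (Nat.one_lt_two_pow (by omega)).ne)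
  obtain ⟨r, rfl⟩ := (Subgroup.isCyclic_iff_exists_zpowers_eq_top M).1 h13
  have h14 : closure ({z, r} : Set G) = 𝐍 (zpowers r) := by
    refine le_antisymm ((closure_le _).2 ?_) fun a ha => ?_
    · rintro _ (rfl | rfl)
      · exact hz
      · exact le_normalizer (mem_zpowers _)
    have b1 : zpowers r ≤ closure ({z, r} : Set G) := zpowers_le.2 (subset_closure (by simp))
    rcases H.B_N hz z2 hu eu hv ev huv ha with h | h
    · exact b1 h
    · exact (mul_mem_cancel_right (subset_closure (by simp))).1 (b1 h)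
  rw [← h14]
  exact closure_mulEquiv_dihedral (mul_self_of_two z2) (H.inv hz z2 (mem_zpowers r))
    (by rw [← h1, Nat.card_zpowers]) (H.not_mem z2)

end B

end TIC

theorem TIB.main (H : TIB M) (hz : z ∈ 𝐍 M) (z2 : orderOf z = 2) : M.Normal ∨
    Nat.card {g : G // orderOf g = 2} ≤ M.index ∨
    (∃ (F : Type) (_ : Field F) (_ : Fintype F) (p : ℕ) (_ : Fact p.Prime) (_ : CharP F p),
      Fintype.card F = Nat.card M ∧ Cfsg.IsElementaryAbelian p M ∧
        (Nonempty (G ≃* (GL (Fin 2) F ⧸ Subgroup.center (GL (Fin 2) F))) ∨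
         (Fintype.card F % 4 = 1 ∧ Nonempty (G ≃* Matrix.ProjectiveSpecialLinearGroup (Fin 2) F)))) ∨
    (∃ (F : Type) (_ : Field F) (_ : Fintype F) (e : ℕ), 1 < e ∧ Fintype.card F = 2 ^ e ∧ IsCyclic M ∧
      Nat.card M = 2 ^ e + 1 ∧ Nonempty (G ≃* Matrix.ProjectiveSpecialLinearGroup (Fin 2) F)) ∨
    (∃ (d : ℕ) (E : Subgroup G), 1 ≤ d ∧ E.Normal ∧ Cfsg.IsElementaryAbelian 2 E ∧ Nat.card E = 2 ^ (2 * d) ∧
      E ⊓ 𝐍 M = ⊥ ∧ E ⊔ 𝐍 M = ⊤ ∧ Nonempty (𝐍 M ≃* DihedralGroup (2 ^ d + 1))) := by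
  refine or_iff_not_imp_left.2 fun h1 => or_iff_not_imp_left.2 fun h2 => ?_
  have C : TIC M := ⟨H, ⟨z, hz, z2⟩, fun g hg => H.exists_two hz z2 (not_le.1 h2) hg⟩
  by_cases hA : ∀ u ∉ 𝐍 M, ∀ v ∉ 𝐍 M, z * u = u * z → z * v = v * z → u * v ∈ 𝐍 M
  · obtain ⟨g, hg⟩ : ∃ g, g ∉ 𝐍 M := by
      by_contra h
      push Not at h
      exact h1 (normalizer_eq_top_iff.1 (eq_top_iff.2 fun g _ => h g))
    obtain ⟨-, -, y, hy, -, -, ey, -⟩ := C.exists_dc hz z2 hg
    exact Or.inl (C.caseA hz z2 hy ey hA)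
  push Not at hA
  obtain ⟨u, hu, v, hv, eu, ev, huv⟩ := hA
  obtain ⟨d, hd, h3, ⟨h4, h5⟩ | ⟨h4, h5, h6⟩⟩ := C.B_arith hz z2 hu eu hv ev huv
  · obtain ⟨E, h⟩ := C.B_aff hz z2 hu eu hv ev huv hd h3 h4 h5
    exact Or.inr (Or.inr ⟨d, E, by omega, h⟩)
  · obtain ⟨F, _, _, h7, h8, h9⟩ := C.B_sl hz z2 hu eu hv ev huv h5 h6
    exact Or.inr (Or.inl ⟨F, _, _, d + 1, by omega, by rw [h7, pow_succ'], h8, by rw [h4, pow_succ'], h9⟩)

end Cfsg.Lib.Exc
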