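import Cfsg.Agent.Lib.Exc.BSW2

/-!
# Centralizers of involutions are bounded by an inverted TI-subgroup
-/

set_option autoImplicit false
set_option linter.unusedSectionVars false

namespace Cfsg.Lib.Exc.TwoPr

open Cfsg Cfsg.Lib.Clifford Cfsg.Lib.Char Cfsg.Lib.PF Cfsg.Lib.Invol Subgroup
open scoped ComplexConjugate

variable {G : Type*} [Group G] [Finite G]

/-- an odd order linear character of `H` inverted by `N \ H`, with TI support -/
structure Inv2 (N H Q : Subgroup G) (l : Lin H) : Prop where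
  HN : H ≤ N
  QH : Q ≤ H
  card : Nat.card N = 2 * Nat.card H
  odd : ∀ a ∈ H, lin l a * lin l a = 1 → lin l a = 1
  oddQ : Odd (Nat.card Q)
  ne : ∃ w ∈ Q, lin l w ≠ 1
  ti : ∀ a ∈ H, lin l a ≠ 1 → ∀ g, g * a * g⁻¹ ∈ H → g ∈ N
  nrm : ∀ g ∈ N, ∀ a ∈ H, g * a * g⁻¹ ∈ H
  inv : ∀ g ∈ N, g ∉ H → ∀ a ∈ H, lin l (g * a * g⁻¹) = (lin l a)⁻¹
  invQ : ∀ g ∈ N, g ∉ H → ∀ w ∈ Q, g * w * g⁻¹ = w⁻¹

theorem lin_conj {H : Subgroup G} (l : Lin H) {g a : G} (hg : g ∈ H) (ha : a ∈ H) :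
    lin l (g * a * g⁻¹) = lin l a := by
  rw [lin_map_mul _ (mul_mem hg ha) (inv_mem hg), lin_map_mul _ hg ha, lin_map_inv _ hg, mul_right_comm,
    mul_inv_cancel₀ (lin_ne_zero _ hg), one_mul]

theorem int_bound {m x : ℤ} (h1 : 0 < m) (h2 : |x| ≤ m) : (m - x) ^ 2 < 4 * (m * (m + 1)) := by
  obtain ⟨h3, h4⟩ := abs_le.1 h2
  nlinarith

theorem dirr_norm_le {a : G → ℂ} (ha : Dirr ⊤ a) (x : G) : ‖a x‖ ≤ ‖a 1‖ := by
  rcases ha with h | h
  · exact (mem_Irr_top.1 h).isCharacter.norm_le x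
  · simpa using (mem_Irr_top.1 h).isCharacter.norm_le x

theorem dirr_ne [IsSimpleGroup G] {a : G → ℂ} (ha : Dirr ⊤ a) (h1 : dot ⊤ a 1 = 0) {u : G} (hu : u ≠ 1) :
    a u ≠ a 1 := fun e => by
  have key : ∀ a : G → ℂ, a ∈ Irr (⊤ : Subgroup G) → dot ⊤ a 1 = 0 → a u = a 1 → False := fun a h h1 e => by
    have h2 := mem_Irr_top.1 h
    rcases h2.charKer_normal.eq_bot_or_eq_top with h3 | h3
    · exact hu (mem_bot.1 (h3 ▸ h2.mem_charKer.2 e))
    · rw [h2.charKer_eq_top_iff.1 h3] at h1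
      exact one_ne_zero ((irr_dot_self one_mem_Irr_top).symm.trans h1)
  rcases ha with h | h
  · exact key a h h1 e
  · exact key _ h (by rw [dot_neg_left, h1, neg_zero]) (by simp [e])

namespace Inv2

variable {N H Q : Subgroup G} {l : Lin H} (h : Inv2 N H Q l)
include h

theorem ne_one : l ≠ 1 := fun e => by
  obtain ⟨w, hw, h1⟩ := h.ne
  exact h1 (by rw [e, lin_one_apply (h.QH hw)])

theorem ne_inv : l ≠ l⁻¹ := fun e => by
  obtain ⟨w, hw, h1⟩ := h.ne
  refine h1 (h.odd w (h.QH hw) ?_)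
  nth_rewrite 2 [e]
  rw [lin_inv_apply _ (h.QH hw), mul_inv_cancel₀ (lin_ne_zero _ (h.QH hw))]

theorem th_apply {a : G} (ha : a ∈ H) (h1 : lin l a ≠ 1) :
    th 1 l a = (lin (1 : Lin H) + lin (1 : Lin H) - (lin l + lin l⁻¹)) a := by
  classical
  have e1 : ((elems N).filter (· ∈ H)).card = Nat.card H := by
    rw [← card_elems]; congr 1; ext x; simpa [mem_elems] using fun e => h.HN e
  have e2 := Finset.card_filter_add_card_filter_not (s := elems N) (· ∈ H)
  rw [e1, card_elems, h.card, two_mul, Nat.add_left_cancel_iff] at e2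
  rw [th, ind_apply', ← Finset.sum_subset (elems_mono (le_top : N ≤ ⊤))
    fun x _ hx => cut_of_notMem _ fun e => hx (mem_elems.2 (h.ti a ha h1 x e)),
    ← Finset.sum_filter_add_sum_filter_not _ (· ∈ H),
    Finset.sum_congr rfl (g := fun _ => 1 - lin l a) fun x hx => by
      have hx := (Finset.mem_filter.1 hx).2
      have := mul_mem (mul_mem hx ha) (inv_mem hx)
      rw [cut_of_mem _ this, Pi.sub_apply, lin_one_apply this, lin_conj l hx ha],
    Finset.sum_congr rfl (s₁ := Finset.filter (fun x => ¬ x ∈ H) _) (g := fun _ => 1 - (lin l a)⁻¹) fun x hx => by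
      obtain ⟨hx, hx'⟩ := Finset.mem_filter.1 hx
      have := h.nrm x (mem_elems.1 hx) a ha
      rw [cut_of_mem _ this, Pi.sub_apply, lin_one_apply this, h.inv x (mem_elems.1 hx) hx' a ha]]
  simp only [Finset.sum_const, e1, e2, nsmul_eq_mul, Pi.sub_apply, Pi.add_apply, lin_one_apply ha, lin_inv_apply _ ha]
  rw [← mul_add, inv_mul_cancel_left₀ (Clifford.card_ne_zero H)]
  ring

theorem norm_three : dot ⊤ (th 1 l) (th 1 l) = 3 := by
  nth_rewrite 1 [th]
  rw [dot_ind_cf le_top _ (vc_cf (th_vc _ _)), dot_congr_on (A := {a | a ∈ H ∧ lin l a ≠ 1})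
    (χ := lin (1 : Lin H) + lin (1 : Lin H) - (lin l + lin l⁻¹)) (fun x hx h1 => by
      rw [Pi.sub_apply, not_not.1 fun e => h1 ⟨hx, e⟩, lin_one_apply hx, sub_self])
    fun x hx => h.th_apply hx.1 hx.2]
  simp only [dot_sub_left, dot_sub_right, dot_add_right, dot_lin]
  simp [h.ne_one, h.ne_one.symm, h.ne_inv]
  norm_num

theorem th_two {u : G} (hu : orderOf u = 2) : th 1 l u = 0 := ind_eq_zero fun g _ hg => by
  rw [Pi.sub_apply, lin_one_apply hg, h.odd _ hg (by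
    rw [← lin_map_mul _ hg hg, show g * u * g⁻¹ * (g * u * g⁻¹) = g * (u * u) * g⁻¹ by group, mul_self_of_two hu]
    simp [lin_at_one]), sub_self]

theorem le_pairCount {u a : G} (hu : orderOf u = 2) (ha : a ∈ H) (h1 : lin l a ≠ 1) (h2 : pairCount u u a ≠ 0)
    {w : G} (hw : w ∈ Q) : Nat.card Q ≤ pairCount u u w := by
  obtain ⟨⟨v, h3, h4⟩⟩ := (Nat.card_ne_zero.1 h2).1
  have o : ∀ {y}, IsConj u y → y * y = 1 := fun e => by
    obtain ⟨g, rfl⟩ := isConj_iff.1 e
    rw [show g * u * g⁻¹ * (g * u * g⁻¹) = g * (u * u) * g⁻¹ by group, mul_self_of_two hu]; simp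
  have h5 : v⁻¹ = v := inv_eq_of_mul_eq_one_right (o h3)
  have h6 : v * a * v⁻¹ = a⁻¹ := by
    have := o h4
    rw [h5] at this ⊢
    exact eq_inv_of_mul_eq_one_left (by rw [← this]; group)
  have h7 : v ∈ N := h.ti a ha h1 v (h6 ▸ inv_mem ha)
  have h8 : v ∉ H := fun e => h1 (h.odd a ha (by
    nth_rewrite 1 [← lin_conj l e ha]
    rw [h6, lin_map_inv _ ha, inv_mul_cancel₀ (lin_ne_zero _ ha)]))
  have h9 : ∀ y ∈ Q, IsConj u (v * y) := fun y hy => by
    obtain ⟨k, hk⟩ := h.oddQ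
    have e1 : y ^ (k + 1) * y ^ (k + 1) = y := by
      rw [← pow_add, show k + 1 + (k + 1) = 2 * k + 1 + 1 by ring, pow_succ, ← hk,
        orderOf_dvd_iff_pow_eq_one.1 (Q.orderOf_dvd_natCard hy), one_mul]
    refine h3.trans (isConj_iff.2 ⟨(y ^ (k + 1))⁻¹, ?_⟩)
    rw [← h.invQ v h7 h8 _ (pow_mem hy _), mul_inv_rev, mul_inv_rev, inv_inv, mul_assoc, mul_assoc, mul_assoc,
      inv_mul_cancel_left, ← mul_assoc v (y ^ (k + 1))⁻¹, h.invQ v h7 h8 _ (inv_mem (pow_mem hy _)), inv_inv, e1]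
  refine Nat.card_le_card_of_injective (fun y : Q => (⟨v * y, h9 y y.2, ?_⟩ :
    {x : G // IsConj u x ∧ IsConj u (x⁻¹ * w)})) fun y z e => Subtype.ext (mul_left_cancel (congrArg Subtype.val e))
  convert h9 (y * w) (mul_mem y.2 hw) using 1
  rw [mul_inv_rev, ← h.invQ v h7 h8 _ y.2, h5, mul_assoc, mul_assoc, mul_assoc, ← mul_assoc v v, o h3, one_mul]

theorem bound [IsSimpleGroup G] {u : G} (hu : orderOf u = 2) :
    cc u ^ 2 * Nat.card Q ^ 2 < 4 * Nat.card H * Nat.card G := by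
  classical
  have d1 : Dirr ⊤ (1 : G → ℂ) := irr_dirr one_mem_Irr_top
  have h2 : dot ⊤ (th 1 l) 1 = 1 := by rw [th_dot_one]; simp [h.ne_one]
  obtain ⟨a, b, ha, hb, hab, e⟩ := exists_add_of_norm_two (sub_mem (th_vc 1 l) one_vc_top)
    ((dot_sub_self (th_vc 1 l) d1 h.norm_three h2).trans (by norm_num))
  obtain ⟨ha1, hb1⟩ := Exc.Dirr.dot_add_eq_zero ha d1 hab (by
    rw [← e, dot_sub_left, h2, d1.dot_self, sub_self])
  have hi : ∀ c ∈ VC (⊤ : Subgroup G), ∃ x : ℤ, c u = x := fun c hc =>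
    (mem_VC_top.1 hc).exists_int_of_pow two_ne_zero (hu ▸ pow_orderOf_eq_one u) fun k hk => by
      rw [← pow_mod_orderOf, hu, Nat.odd_iff.1 (Nat.coprime_two_right.1 hk), pow_one]
  have hu1 := ne_one_of_two hu
  -- the real number `E`
  obtain ⟨E, hE0, hE4, hE⟩ : ∃ E : ℝ, E ≠ 0 ∧ E < 4 ∧ 1 + a u * a u / a 1 + b u * b u / b 1 = E := by
    have key : ∀ a b : G → ℂ, Dirr ⊤ a → Dirr ⊤ b → dot ⊤ a 1 = 0 → th 1 l - 1 = a + b → ∀ m : ℤ, 0 < m → a 1 = m →
        ∃ E : ℝ, E ≠ 0 ∧ E < 4 ∧ 1 + a u * a u / a 1 + b u * b u / b 1 = E := fun a b ha hb ha1 e m h0 hm => by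
      obtain ⟨x, hx⟩ := hi a ha.vc
      have e1 := congrFun e 1
      have e2 := congrFun e u
      simp only [Pi.sub_apply, Pi.add_apply, Pi.one_apply, th_one, h.th_two hu, hm, hx] at e1 e2
      have e3 := dirr_norm_le ha u
      have e4 := dirr_ne ha ha1 hu1
      rw [hx, hm] at e3 e4
      rw [Complex.norm_intCast, Complex.norm_intCast] at e3
      have e5 : |x| ≤ m := by rw [← abs_of_pos h0]; exact_mod_cast e3
      have p : (0 : ℝ) < m * (m + 1) := by positivity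
      refine ⟨(m - x) ^ 2 / (m * (m + 1)), div_ne_zero (pow_ne_zero _ fun e => e4 ?_) p.ne', ?_, ?_⟩
      · exact_mod_cast (sub_eq_zero.1 e).symm
      · rw [div_lt_iff₀ p]; exact_mod_cast int_bound h0 e5
      · have q1 : (m : ℂ) ≠ 0 := by exact_mod_cast h0.ne'
        have q2 : (m + 1 : ℂ) ≠ 0 := by exact_mod_cast (by omega : m + 1 ≠ 0)
        rw [hx, hm, show b u = -(x + 1) by linear_combination -e2, show b 1 = -(m + 1) by linear_combination -e1,
          div_neg]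
        push_cast
        field_simp
        ring
    obtain ⟨m, hm⟩ := vc_one_int ha.vc
    obtain ⟨n, hn⟩ := vc_one_int hb.vc
    have e1 := congrFun e 1
    simp only [Pi.sub_apply, Pi.add_apply, Pi.one_apply, th_one, hm, hn] at e1
    have e2 : m + n = -1 := by exact_mod_cast e1.symm.trans (zero_sub 1)
    have e3 : m ≠ 0 := fun e => ha.one_ne_zero (by simp [hm, e])
    have e4 : n ≠ 0 := fun e => hb.one_ne_zero (by simp [hn, e])
    by_cases h0 : 0 < m
    · exact key a b ha hb ha1 e m h0 hm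
    · rw [add_right_comm]
      exact key b a hb ha hb1 (e.trans (add_comm _ _)) n (by omega) hn
  have f1 : (Nat.card G : ℂ) * dot ⊤ (th 1 l) (pcf u u) = ix u * ix u * E := by
    rw [sub_eq_iff_eq_add.1 e, dot_add_left, dot_add_left, mul_add, mul_add, one_dot_pcf, Exc.Dirr.dot_pcf ha,
      Exc.Dirr.dot_pcf hb, ← hE]
    ring
  rw [th, dot_ind_cf le_top _ (pcf_cf u u), dot] at f1
  have f2 : (Nat.card G : ℝ) * ∑ x ∈ elems H, (1 - (lin l x).re) * pairCount u u x =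
      Nat.card H * (ix u * ix u * E) := by
    rw [mul_left_comm, inv_mul_eq_iff_eq_mul₀ (Clifford.card_ne_zero H),
      Finset.sum_congr rfl (g := fun x => (1 - lin l x) * (pairCount u u x : ℂ)) fun x hx => by
      rw [Pi.sub_apply, lin_one_apply (mem_elems.1 hx), pcf, map_natCast]] at f1
    simpa [Complex.re_sum] using congrArg Complex.re f1
  have r0 : ∀ x ∈ H, 0 ≤ 1 - (lin l x).re := fun x hx =>
    sub_nonneg.2 ((Complex.re_le_norm _).trans (lin_norm l hx).le)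
  have p1 : (0 : ℝ) < Nat.card G := by exact_mod_cast Nat.card_pos
  have p2 : (0 : ℝ) < Nat.card H := by exact_mod_cast Nat.card_pos
  have p3 : (0 : ℝ) < ix u := by exact_mod_cast ix_pos u
  obtain ⟨x, hx, f3⟩ := Finset.exists_ne_zero_of_sum_ne_zero (s := elems H)
    (f := fun x => (1 - (lin l x).re) * (pairCount u u x : ℝ)) fun e => by
      rw [e, mul_zero] at f2
      exact mul_ne_zero p2.ne' (mul_ne_zero (mul_pos p3 p3).ne' hE0) f2.symm
  have f4 := fun w (hw : w ∈ Q) => h.le_pairCount hu (mem_elems.1 hx) (fun e => f3 (by simp [e]))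
    (fun e => f3 (by simp [e])) hw
  have f5 : ∑ w ∈ elems Q, lin l w = 0 := by
    have := dot_lin (resLin h.QH l) 1
    rw [if_neg fun e => by
      obtain ⟨w, hw, h1⟩ := h.ne
      exact h1 (by rw [← cut_of_mem (lin l) hw, ← lin_resLin _ h.QH, e, lin_one_apply hw]), dot,
      mul_eq_zero_iff_left (inv_ne_zero (Clifford.card_ne_zero Q))] at this
    rw [← this]
    refine Finset.sum_congr rfl fun w hw => ?_
    rw [lin_resLin, cut_of_mem _ (mem_elems.1 hw), lin_one_apply (mem_elems.1 hw), map_one, mul_one]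
  have f6 : (Nat.card Q : ℝ) * Nat.card Q ≤ ∑ x ∈ elems H, (1 - (lin l x).re) * pairCount u u x := by
    refine le_trans ?_ (Finset.sum_le_sum_of_subset_of_nonneg (elems_mono h.QH) fun y hy _ =>
      mul_nonneg (r0 y (mem_elems.1 hy)) (Nat.cast_nonneg _))
    refine le_trans (le_of_eq ?_) (Finset.sum_le_sum (f := fun w => (1 - (lin l w).re) * (Nat.card Q : ℝ))
      fun w hw => mul_le_mul_of_nonneg_left (by exact_mod_cast f4 w (mem_elems.1 hw)) (r0 w (h.QH (mem_elems.1 hw))))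
    rw [← Finset.sum_mul, Finset.sum_sub_distrib, ← Complex.re_sum, f5]
    simp [card_elems]
  have f7 : (cc u : ℝ) * ix u = Nat.card G := by exact_mod_cast cc_mul_ix u
  have f8 : (Nat.card G : ℝ) * (Nat.card Q * Nat.card Q) < Nat.card H * (ix u * ix u * 4) :=
    (mul_le_mul_of_nonneg_left f6 p1.le).trans_lt (f2 ▸ by gcongr)
  have f9 : (cc u : ℝ) ^ 2 * Nat.card Q ^ 2 < 4 * Nat.card H * Nat.card G := by
    refine lt_of_mul_lt_mul_right (a := (ix u : ℝ) * ix u) ?_ (mul_pos p3 p3).le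
    calc _ = (Nat.card G : ℝ) * (Nat.card G * (Nat.card Q * Nat.card Q)) := by rw [← f7]; ring
      _ < Nat.card G * (Nat.card H * (ix u * ix u * 4)) := by gcongr
      _ = _ := by ring
  exact_mod_cast f9

end Inv2

end Cfsg.Lib.Exc.TwoPr
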