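import Cfsg.Agent.Lib.Exc.Two1
import Cfsg.Agent.Lib.Hall.ClassSize

/-!
# Groups in which every nonidentity class size misses exactly one prime: local analysis
-/

set_option autoImplicit false
set_option linter.unusedSectionVars false

namespace Cfsg.Lib.Exc.TwoPr

open Cfsg Cfsg.Lib.Hall Cfsg.Lib.Transfer Cfsg.Lib.PF Subgroup

variable {G : Type*} [Group G] [Finite G]

local notation "𝐂 " H:max => centralizer ((H : Subgroup G) : Set G)
local notation "𝐍 " H:max => normalizer ((H : Subgroup G) : Set G)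

/-- all `p`-subgroups are abelian -/
def Ab (p : ℕ) (G : Type*) [Group G] : Prop := ∀ P : Subgroup G, IsPGroup p P → P ≤ centralizer (P : Set G)

theorem ab_of {p : ℕ} [Fact p.Prime] {P : Subgroup G} (hP : SylowIn p P ⊤) (h : P ≤ 𝐂 P) : Ab p G := fun Q hQ => by
  obtain ⟨g, -, e⟩ := hP.exists_cj_le hQ le_top
  rw [← cj_le_cj (g := g), cj_centralizer]
  exact e.trans (h.trans (centralizer_le e))

theorem Ab.not_dvd {p : ℕ} [Fact p.Prime] (h : Ab p G) {x : G} (hx : IsPGroup p (zpowers x)) : ¬ p ∣ cs x := by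
  obtain ⟨P, hP⟩ := hx.exists_le_sylow
  exact not_dvd_index_of_sylow_le P (le_cent_iff.2 (h P P.2 (hP (mem_zpowers x))))

theorem dvd_of_isPGroup {p : ℕ} [Fact p.Prime] {x : G} (hx : IsPGroup p (zpowers x)) (h1 : x ≠ 1) : p ∣ Nat.card G :=
  (hx.card_eq_or_dvd.resolve_left fun e => h1 (zpowers_eq_bot.1 (card_eq_one.1 e))).trans (card_subgroup_dvd_card _)

theorem mem_of_cent {p : ℕ} [Fact p.Prime] {P : Subgroup G} (hP : SylowIn p P ⊤) {x : G}
    (hx : IsPGroup p (zpowers x)) (h : x ∈ 𝐂 P) : x ∈ P :=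
  hP.le_of_normalizes hx le_top (zpowers_le.2 (centralizer_le_normalizer _ h)) (mem_zpowers x)

theorem not_dvd_of_cent {p : ℕ} {P : Subgroup G} (hP : SylowIn p P ⊤) {x : G} (h : x ∈ 𝐂 P) : ¬ p ∣ cs x := fun e =>
  hP.3 (by rw [relIndex_top_right]; exact e.trans (cs_dvd_index_of_le (le_cent_iff.2 h)))

theorem exists_conj_cent {p : ℕ} [Fact p.Prime] {P : Subgroup G} (hP : SylowIn p P ⊤) {x : G} (h : ¬ p ∣ cs x) :
    ∃ g : G, g * x * g⁻¹ ∈ 𝐂 P := by
  obtain ⟨P, rfl⟩ := hP.exists_sylow_top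
  exact exists_conj_mem_centralizer_sylow P h

theorem isPGroup_conj {p : ℕ} {x : G} (hp : p.Prime) (hx : IsPGroup p (zpowers x)) (g : G) :
    IsPGroup p (zpowers (g * x * g⁻¹)) := by
  rw [isPGroup_zpowers_iff hp] at hx ⊢
  rwa [Invol.orderOf_conj]

theorem card_cent_eq {p : ℕ} [Fact p.Prime] {P Q : Subgroup G} (hP : SylowIn p P ⊤) (hQ : SylowIn p Q ⊤) :
    Nat.card (𝐂 P) = Nat.card (𝐂 Q) := by
  obtain ⟨g, -, rfl⟩ := hP.exists_cj_eq hQ
  rw [← cj_centralizer, card_cj]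

/-- the number of nonidentity elements centralizing a Sylow `p`-subgroup -/
noncomputable def aa (p : ℕ) (G : Type*) [Group G] : ℕ := {x : G | x ≠ 1 ∧ ¬ p ∣ cs x}.ncard

theorem aa_le {p : ℕ} [Fact p.Prime] {P : Subgroup G} (hP : SylowIn p P ⊤) :
    aa p G + (𝐍 P).index ≤ (𝐍 P).index * Nat.card (𝐂 P) := by
  have h1 := ncard_conj_mem_le (Core.normalizer_le_normalizer_centralizer P)
  replace h1 := le_trans (Set.ncard_le_ncard (s := {x : G | x ≠ 1 ∧ ¬ p ∣ cs x})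
    fun x hx => Set.mem_ofPred.2 ⟨hx.1, exists_conj_cent hP hx.2⟩) h1
  obtain ⟨c, hc⟩ := Nat.exists_eq_add_of_le' (Nat.card_pos (α := 𝐂 P))
  rw [hc] at h1 ⊢
  exact Nat.add_le_add_right h1 _

theorem card_eq (P : Subgroup G) : (𝐍 P).index * Nat.card (𝐂 P) * (𝐂 P).relIndex (𝐍 P) = Nat.card G := by
  rw [mul_assoc, Transfer.card_mul_relIndex (centralizer_le_normalizer _), index_mul_card]

theorem aa_lt {p : ℕ} [Fact p.Prime] {P : Subgroup G} (hP : SylowIn p P ⊤) {e : ℕ} (he : e ≤ (𝐂 P).relIndex (𝐍 P))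
    (h0 : 0 < e) : e * aa p G < Nat.card G := by
  have h1 := aa_le hP
  have h2 : 0 < (𝐍 P).index := Nat.pos_of_ne_zero index_ne_zero_of_finite
  rw [← card_eq P]
  nlinarith [Nat.mul_le_mul_left ((𝐍 P).index * Nat.card (𝐂 P)) he]

theorem two_le_ee [IsSimpleGroup G] (hG : ∃ x y : G, x * y ≠ y * x) {p : ℕ} [Fact p.Prime] (hd : p ∣ Nat.card G)
    {P : Subgroup G} (hP : SylowIn p P ⊤) : 2 ≤ (𝐂 P).relIndex (𝐍 P) := by
  have e1 := mt relIndex_eq_one.1 fun e =>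
    not_pnil_of_simple hG hd (hP.pnil_of_normalizer_le_centralizer (inf_le_right.trans e))
  have e2 : (𝐂 P).relIndex (𝐍 P) ≠ 0 := index_ne_zero_of_finite
  omega

theorem exists_relIndex {p : ℕ} [hp : Fact p.Prime] {P : Subgroup G} (hP : IsPGroup p P) (h : ¬ P ≤ 𝐂 P) :
    ∃ j, (𝐂 P).relIndex P = p ^ (j + 2) := by
  have e : (𝐂 P).subgroupOf P = center P := by
    ext x
    simp [mem_subgroupOf, mem_centralizer_iff, mem_center_iff, Subtype.ext_iff]
  obtain ⟨j, hj⟩ := hP.index (center P)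
  rw [relIndex, e]
  rcases j with _ | _ | j
  · exact absurd (relIndex_eq_one.1 (by rw [relIndex, e, hj, pow_zero])) h
  · have : IsCyclic (P ⧸ center P) := isCyclic_of_prime_card (p := p) (by rw [← index, hj]; simp)
    have := isMulCommutative_of_isCyclic_quotient_center_self P
    exact absurd (le_centralizer P) h
  · exact ⟨j, hj⟩

theorem sq_le_ee {p : ℕ} [hp : Fact p.Prime] {P : Subgroup G} (hP : IsPGroup p P) (h : ¬ P ≤ 𝐂 P) :
    p ^ 2 ≤ (𝐂 P).relIndex (𝐍 P) := by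
  obtain ⟨j, hj⟩ := exists_relIndex hP h
  exact ((Nat.pow_le_pow_right hp.out.pos (by omega)).trans hj.ge).trans
    (relIndex_le_of_le_right le_normalizer index_ne_zero_of_finite)

theorem three_le_ee [IsSimpleGroup G] (hG : ∃ x y : G, x * y ≠ y * x) (hd : 2 ∣ Nat.card G)
    {P : Subgroup G} (hP : SylowIn 2 P ⊤) : 3 ≤ (𝐂 P).relIndex (𝐍 P) := by
  by_cases h : P ≤ 𝐂 P
  · have h1 := two_le_ee hG hd hP
    have h2 := mt (fun e => dvd_trans e (relIndex_dvd_of_le_left (𝐍 P) h)) (hP.mono le_normalizer le_top).3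
    omega
  · exact le_trans (by norm_num) (sq_le_ee hP.2 h)

theorem sum_aa (hσ : ∀ x : G, (cs x).primeFactors.card ≤ 2) (T : Finset ℕ) (hT : ∀ p ∈ T, p.Prime) :
    T.card * (Nat.card G - 1) ≤ ∑ p ∈ T, aa p G + 2 * (Nat.card G - 1) := by
  classical
  have := Fintype.ofFinite G
  have e1 : ∀ p, aa p G = ∑ x ∈ Finset.univ.erase (1 : G), if ¬ p ∣ cs x then 1 else 0 := fun p => by
    rw [aa, ← Finset.card_filter, ← Set.ncard_coe_finset]; congr 1; ext x; simp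
  have e2 : Nat.card G - 1 = (Finset.univ.erase (1 : G)).card := by simp
  simp only [e1]
  rw [Finset.sum_comm, e2, mul_comm 2, ← smul_eq_mul _ 2, ← Finset.sum_const, ← Finset.sum_add_distrib, mul_comm,
    ← smul_eq_mul]
  refine Finset.card_nsmul_le_sum _ _ _ fun x _ => ?_
  rw [← Finset.card_filter, ← Finset.card_filter_add_card_filter_not (s := T) (fun p => ¬ p ∣ cs x)]
  refine Nat.add_le_add_left (le_trans (Finset.card_le_card fun p hp => ?_) (hσ x)) _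
  obtain ⟨h1, h2⟩ := Finset.mem_filter.1 hp
  exact Nat.mem_primeFactors.2 ⟨hT p h1, not_not.1 h2, cs_ne_zero x⟩

/-- every nonidentity class size misses exactly one prime divisor of the group order -/
structure Tp (G : Type*) [Group G] : Prop where
  cover : ∀ x : G, x ≠ 1 → ∃ p, p.Prime ∧ p ∣ Nat.card G ∧ ¬ p ∣ cs x
  excl : ∀ x : G, x ≠ 1 → ∀ p q, p.Prime → q.Prime → p ∣ Nat.card G → q ∣ Nat.card G → ¬ p ∣ cs x → ¬ q ∣ cs x → p = q

namespace Tp

variable (h : Tp G) {p q : ℕ}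
include h

theorem of_zpow {x y : G} (hy : y ∈ zpowers x) (h1 : y ≠ 1) (hp : p.Prime) (hd : p ∣ Nat.card G) (h2 : ¬ p ∣ cs y) :
    ¬ p ∣ cs x := by
  obtain ⟨q, hq, hq', h3⟩ := h.cover x (by rintro rfl; exact h1 (by simpa using hy))
  exact h.excl y h1 q p hq hp hq' hd (fun e => h3 (e.trans (cs_dvd_of_mem_zpowers hy))) h2 ▸ h3

variable [hp : Fact p.Prime] (hA : Ab p G)
include hA

theorem of_commute {x y : G} (hx : IsPGroup p (zpowers x)) (h1 : x ≠ 1) (hc : Commute x y) : ¬ p ∣ cs y := by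
  have hd := dvd_of_isPGroup hx h1
  obtain ⟨a, ha, b, hb, e, h2, h3⟩ := exists_pPart hp.out y
  by_cases h4 : a = 1
  · rw [h4, one_mul] at e
    have h5 := coprime_orderOf_of_isPGroup hp.out hx (e ▸ h3)
    exact fun e => h.of_zpow (left_mem_zpowers_mul hc h5) h1 hp.out hd (hA.not_dvd hx)
      (e.trans (cs_dvd_of_mem_zpowers (right_mem_zpowers_mul hc h5)))
  · exact h.of_zpow ha h4 hp.out hd (hA.not_dvd h2)

theorem cent_eq {P : Subgroup G} (hP : SylowIn p P ⊤) {x : G} (hx : x ∈ P) (h1 : x ≠ 1) :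
    centralizer {x} = 𝐂 P := by
  refine le_antisymm ?_ (centralizer_le (Set.singleton_subset_iff.2 hx))
  have h2 := isPGroup_zpowers_of_mem hP.2 hx
  have h3 : P ≤ centralizer {x} := le_cent_iff.2 (hA P hP.2 hx)
  have := sylow_le_center_of_forall_not_dvd (hP.mono h3 le_top).toSylow fun y e => by
    obtain ⟨Q, h4, h5⟩ := exists_sylow_ge_le_of_not_dvd_index h2 (zpowers_le.2 (Hall.mem_cent_comm.1 y.2))
      (h.of_commute hA h2 h1 (mem_cent_iff.1 y.2).symm)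
    rw [cs_coe_eq_relIndex] at e
    exact ((sylowIn_top Q).mono (le_cent_iff.2 (hA Q Q.2 (h4 (mem_zpowers x)))) le_top).3
      (e.trans (relIndex_dvd_of_le_left _ h5))
  exact fun y hy => mem_centralizer_iff.2 fun w hw =>
    (congrArg Subtype.val (mem_center_iff.1 (this (x := ⟨w, h3 hw⟩) hw) ⟨y, hy⟩)).symm

theorem eq_of_dvd_cent {x : G} (h1 : x ≠ 1) (hq : q.Prime) (hd : q ∣ Nat.card G) (hx : ¬ q ∣ cs x)
    (h2 : p ∣ Nat.card (centralizer ({x} : Set G))) : p = q := by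
  obtain ⟨y, hy, h3⟩ := exists_prime_mem hp.out h2
  have h4 : y ≠ 1 := fun e => hp.out.one_lt.ne (by rw [← h3, e, orderOf_one])
  exact h.excl x h1 p q hp.out hq (h2.trans (card_subgroup_dvd_card _)) hd
    (h.of_commute hA ((isPGroup_zpowers_iff hp.out).2 ⟨1, by rw [h3, pow_one]⟩) h4 (mem_cent_iff.1 hy)) hx

theorem inv2 (h2 : p ≠ 2) (hd : p ∣ Nat.card G) {Q : Subgroup G} (hQ : SylowIn p Q ⊤)
    (he : (𝐂 Q).relIndex (𝐍 Q) = 2) : ∃ l, Inv2 (𝐍 Q) (𝐂 Q) Q l := by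
  have hQH := hA Q hQ.2
  have hS := hQ.mono hQH le_top
  have hc : normalizer (hS.toSylow : Set (𝐂 Q)) ≤ centralizer (hS.toSylow : Set (𝐂 Q)) := fun y _ =>
    mem_centralizer_iff.2 fun w hw => Subtype.ext (y.2 w hw)
  obtain ⟨⟨w, hw⟩, hw1⟩ := ne_bot_iff_exists_ne_one.1 (mt hQ.eq_bot_iff.1 (by rwa [card_top, not_not]))
  have hw2 : MonoidHom.transferSylow _ hc ⟨w, hQH hw⟩ ≠ 1 := fun e => by
    rw [MonoidHom.transferSylow_eq_pow _ hc _ hw, Subtype.ext_iff, Subtype.ext_iff] at e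
    have := Nat.Coprime.eq_one_of_dvd (hS.coprime.coprime_dvd_left (Q.orderOf_dvd_natCard hw))
      (orderOf_dvd_of_pow_eq_one e)
    exact hw1 (Subtype.ext (orderOf_eq_one_iff.1 this))
  let : CommGroup hS.toSylow := { (inferInstance : Group hS.toSylow) with
    mul_comm := fun a b => Subtype.ext (hc (le_normalizer b.2) a a.2) }
  obtain ⟨μ, hμ⟩ := CommGroup.exists_apply_ne_one_of_hasEnoughRootsOfUnity hS.toSylow ℂ hw2
  set l := Lin.ofHom (μ.comp (MonoidHom.transferSylow _ hc)) with hl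
  obtain ⟨n, hn⟩ := hQ.2.exists_card_eq
  have ho : Odd (p ^ n) := (hp.out.odd_of_ne_two h2).pow
  have l1 : ∀ a ∈ 𝐂 Q, ∀ k : ℕ, k.Coprime (p ^ n) → lin l a ^ k = 1 → lin l a = 1 := fun a ha k hk e => by
    have e1 : lin l a ^ p ^ n = 1 := by
      rw [lin_of_mem _ ha, hl, Lin.hom_ofHom, ← Units.val_pow_eq_pow_val, MonoidHom.comp_apply, ← map_pow, ← hn,
        ← Nat.card_congr (subgroupOfEquivOfLe hQH).toEquiv]
      erw [pow_card_eq_one']
      simp
    rw [← pow_one (lin l a), ← hk, pow_gcd_eq_one]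
    exact ⟨e, e1⟩
  have l2 : ∀ a ∈ 𝐂 Q, (orderOf a).Coprime p → lin l a = 1 := fun a ha hc =>
    l1 a ha _ (hc.pow_right n) (by rw [← lin_map_pow _ ha, pow_orderOf_eq_one, lin_at_one])
  have nrm : ∀ g ∈ 𝐍 Q, ∀ a ∈ 𝐂 Q, g * a * g⁻¹ ∈ 𝐂 Q := fun g hg a ha =>
    conj_mem_of_mem_normalizer (Core.normalizer_le_normalizer_centralizer Q hg) ha
  have invQ : ∀ g ∈ 𝐍 Q, g ∉ 𝐂 Q → ∀ w ∈ Q, g * w * g⁻¹ = w⁻¹ := fun g hg h1 w hw => by
    have h3 := conj_mem_of_mem_normalizer hg hw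
    have h4 : g * g ∈ 𝐂 Q := mul_self_mem_of_index_two he ⟨g, hg⟩
    by_contra h5
    refine h1 (h.cent_eq hA hQ (mul_mem h3 hw) (fun e => h5 (eq_inv_of_mul_eq_one_left e)) ▸ mem_cent_iff.2 ?_)
    calc g * (g * w * g⁻¹ * w) = g * g * w * (g * g)⁻¹ * (g * w * g⁻¹) * g := by group
      _ = _ := by rw [conj_eq_of_mem_centralizer h4 hw, hQH h3 w hw]
  refine ⟨l, centralizer_le_normalizer _, hQH, by rw [← Transfer.card_mul_relIndex (centralizer_le_normalizer _), he, mul_comm],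
    fun a ha e => l1 a ha 2 (Nat.coprime_two_left.2 ho) (by rw [sq, e]), hn ▸ ho, ⟨w, hw, fun e => hμ (Units.ext ?_)⟩,
    fun a ha h1 g hg => ?_, nrm, fun g hg h1 a ha => ?_, invQ⟩
  · rwa [lin_of_mem _ (hQH hw)] at e
  · obtain ⟨x, hx, y, hy, e, h3, h4⟩ := exists_pPart hp.out a
    have h5 : x ≠ 1 := fun e1 => h1 (l2 a ha (by rwa [e, e1, one_mul]))
    have h6 : g * x * g⁻¹ ∈ 𝐂 Q := by
      obtain ⟨k, rfl⟩ := hx
      simpa only [conj_zpow] using zpow_mem hg k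
    have h7 := h.cent_eq hA hQ (mem_of_cent hQ (isPGroup_conj hp.out h3 g) h6) (by simpa using h5)
    refine mem_normalizer_of_cj_le (cj_le_iff.2 fun z hz => mem_of_cent hQ
      (isPGroup_conj hp.out (isPGroup_zpowers_of_mem hQ.2 hz) g) (h7 ▸ mem_cent_iff.2 ?_))
    exact (Invol.commute_conj g (zpowers_le.2 ha hx z hz)).eq
  · obtain ⟨x, hx, y, hy, e, h3, h4⟩ := exists_pPart hp.out a
    have h5 := zpowers_le.2 ha hx
    have h6 := zpowers_le.2 ha hy
    rw [e, show g * (x * y) * g⁻¹ = g * x * g⁻¹ * (g * y * g⁻¹) by group, lin_map_mul _ (nrm g hg x h5) (nrm g hg y h6),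
      lin_map_mul _ h5 h6, l2 y h6 h4, l2 _ (nrm g hg y h6) (by rwa [Invol.orderOf_conj]),
      invQ g hg h1 x (mem_of_cent hQ h3 h5), lin_map_inv _ h5, mul_one, mul_one]

end Tp

end Cfsg.Lib.Exc.TwoPr
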