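import Cfsg.Agent.Lib.Exc.Two2
import Cfsg.Agent.Lib.Exc.CIT7
import Cfsg.Agent.Lib.Exc.AC2
import Cfsg.Agent.Lib.FT.Sec14d
import Cfsg.Agent.Lib.Hall.SolvCrit
import Cfsg.Agent.Lib.Linear.SmallRec
import Cfsg.Agent.S4355

/-!
# Simple groups whose class sizes have at most two prime divisors
-/

set_option autoImplicit false
set_option linter.unusedSectionVars false

namespace Cfsg.Lib.Exc.TwoPr

open Cfsg Cfsg.Lib.Hall Cfsg.Lib.Transfer Subgroup

variable {G : Type*} [Group G] [Finite G]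

local notation "𝐂 " H:max => centralizer ((H : Subgroup G) : Set G)
local notation "𝐍 " H:max => normalizer ((H : Subgroup G) : Set G)

theorem arith {Q R i a b c nq nr g : ℕ} (hQ : 3 ≤ Q) (hR : 3 ≤ R) (hc : 1 ≤ c) (hg : g = 2 ^ i * Q * R)
    (C : (2 ^ i) ^ 2 * Q ^ 2 < 4 * (Q * 2 ^ a) * g) (D : (2 ^ i) ^ 2 * R ^ 2 < 4 * (R * 2 ^ b) * g)
    (A : b ≠ 0 → (2 ^ c * 2 ^ b * R) ^ 2 * Q ^ 2 < 4 * (Q * 2 ^ a) * g)
    (B : a ≠ 0 → (2 ^ c * 2 ^ a * Q) ^ 2 * R ^ 2 < 4 * (R * 2 ^ b) * g)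
    (e1 : nq * (Q * 2 ^ a) * 2 = g) (e2 : nr * (R * 2 ^ b) * 2 = g) (hn : c = 1 → nq + nr ≤ 1 + Q * R) :
    a = 0 ∧ b = 0 := by
  subst hg
  have key : ∀ {Q R a b : ℕ}, 3 ≤ Q → 3 ≤ R → (2 ^ i) ^ 2 * Q ^ 2 < 4 * (Q * 2 ^ a) * (2 ^ i * Q * R) →
      (2 ^ c * 2 ^ b * R) ^ 2 * Q ^ 2 < 4 * (Q * 2 ^ a) * (2 ^ i * Q * R) →
      c + b < a + 2 ∧ (2 ^ c * 2 ^ b) ^ 2 * R < 4 * 2 ^ a * 2 ^ i := fun {Q R a b} hQ hR C A => by
    have h1 : 2 ^ i < 4 * 2 ^ a * R := Nat.lt_of_mul_lt_mul_right (a := 2 ^ i * Q ^ 2) (by linarith)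
    have h2 : (2 ^ c * 2 ^ b) ^ 2 * R < 4 * 2 ^ a * 2 ^ i := Nat.lt_of_mul_lt_mul_right (a := R * Q ^ 2) (by linarith)
    refine ⟨(Nat.pow_lt_pow_iff_right one_lt_two).1 (lt_of_pow_lt_pow_left₀ 2 (Nat.zero_le _)
      (Nat.lt_of_mul_lt_mul_right (a := R) ?_)), h2⟩
    have : 0 < 2 ^ a := by positivity
    rw [pow_add, pow_add]
    nlinarith
  have A' := fun h => key hQ hR C (A h)
  have B' := fun h : a ≠ 0 => key hR hQ (by rwa [mul_right_comm _ R]) (by rw [mul_right_comm _ R]; exact B h)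
  by_contra h
  have ha : a ≠ 0 := fun e => by have := (A' fun e' => h ⟨e, e'⟩).1; omega
  have hb : b ≠ 0 := fun e => by have := (B' ha).1; omega
  obtain ⟨h1, h2⟩ := A' hb
  obtain ⟨h3, h4⟩ := B' ha
  obtain rfl : c = 1 := by omega
  obtain rfl : a = b := by omega
  have p : 0 < 2 ^ a := by positivity
  have h5 : 2 ^ a * R < 2 ^ i := Nat.lt_of_mul_lt_mul_left (a := 4 * 2 ^ a) (by linarith)
  have h6 : 2 ^ a * Q < 2 ^ i := Nat.lt_of_mul_lt_mul_left (a := 4 * 2 ^ a) (by linarith)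
  obtain ⟨w, rfl⟩ := Nat.exists_eq_add_of_le ((Nat.pow_lt_pow_iff_right one_lt_two).1
    (lt_of_le_of_lt (Nat.le_mul_of_pos_right _ (by omega)) h5)).le
  rw [pow_add] at h5 h6 e1 e2
  have h7 := Nat.lt_of_mul_lt_mul_left h5
  have h8 := Nat.lt_of_mul_lt_mul_left h6
  have h9 : nq * 2 = 2 ^ w * R := mul_left_cancel₀ (a := 2 ^ a * Q) (by positivity) (by linarith)
  have h10 : nr * 2 = 2 ^ w * Q := mul_left_cancel₀ (a := 2 ^ a * R) (by positivity) (by linarith)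
  have := hn rfl
  nlinarith

/-- three primes, one type for each element, abelian Sylow subgroups for the odd primes -/
structure Tri (G : Type*) [Group G] (q r : ℕ) : Prop extends Tp G where
  hq : q.Prime
  hr : r.Prime
  q2 : q ≠ 2
  r2 : r ≠ 2
  qr : q ≠ r
  d2 : 2 ∣ Nat.card G
  dq : q ∣ Nat.card G
  dr : r ∣ Nat.card G
  all : ∀ p, p.Prime → p ∣ Nat.card G → p = 2 ∨ p = q ∨ p = r
  aq : Ab q G
  ar : Ab r G
  sum : Nat.card G ≤ 1 + (aa 2 G + aa q G + aa r G)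

theorem exists_tri [IsSimpleGroup G] (hG : ∃ x y : G, x * y ≠ y * x) (hσ : ∀ x : G, (cs x).primeFactors.card ≤ 2) :
    ∃ q r, Tri G q r := by
  have ns : ¬ Group.IsSolvable G := fun h => by
    obtain ⟨x, y, e⟩ := hG
    exact e (IsSimpleGroup.comm_iff_isSolvable.2 h x y)
  have d2 : 2 ∣ Nat.card G := by_contra fun h => ns (FT.odd_order_solvable G (Nat.odd_iff.2 (by omega)))
  have p2 := Nat.prime_two
  have h0 : 0 < Nat.card G := Nat.card_pos
  obtain ⟨q, hq, dq, q2, -⟩ : ∃ q, q.Prime ∧ q ∣ Nat.card G ∧ q ≠ 2 ∧ q ≠ 2 := by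
    simpa [not_or] using mt (isSolvable_of_two_primes p2 p2) ns
  obtain ⟨r, hr, dr, r2, rq⟩ : ∃ r, r.Prime ∧ r ∣ Nat.card G ∧ r ≠ 2 ∧ r ≠ q := by
    simpa [not_or] using mt (isSolvable_of_two_primes p2 hq) ns
  have a2 : 3 * aa 2 G < Nat.card G := by
    obtain ⟨P, hP⟩ := exists_sylowIn 2 (⊤ : Subgroup G)
    exact aa_lt hP (three_le_ee hG d2 hP) (by norm_num)
  have ap : ∀ p, p.Prime → p ∣ Nat.card G → 2 * aa p G < Nat.card G := fun p hp hd => by
    have := Fact.mk hp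
    obtain ⟨P, hP⟩ := exists_sylowIn p (⊤ : Subgroup G)
    exact aa_lt hP (two_le_ee hG hd hP) (by norm_num)
  have all : ∀ p, p.Prime → p ∣ Nat.card G → p = 2 ∨ p = q ∨ p = r := fun p hp hd => by
    by_contra! h
    have := sum_aa hσ {p, 2, q, r} (by simp [*])
    rw [Finset.card_insert_of_notMem (by simp [h]), Finset.card_insert_of_notMem (by simp [q2.symm, r2.symm]),
      Finset.card_pair rq.symm, Finset.sum_insert (by simp [h]), Finset.sum_insert (by simp [q2.symm, r2.symm]),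
      Finset.sum_pair rq.symm] at this
    have := ap p hp hd
    have := ap q hq dq
    have := ap r hr dr
    omega
  have sum : Nat.card G ≤ 1 + (aa 2 G + aa q G + aa r G) := by
    have := sum_aa hσ {2, q, r} (by simp [*])
    rw [Finset.card_insert_of_notMem (by simp [q2.symm, r2.symm]), Finset.card_pair rq.symm,
      Finset.sum_insert (by simp [q2.symm, r2.symm]), Finset.sum_pair rq.symm] at this
    omega
  have ab : ∀ q r, q.Prime → q ≠ 2 → 2 * aa r G < Nat.card G → Nat.card G ≤ 1 + (aa 2 G + aa q G + aa r G) → Ab q G :=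
    fun q r hq q2 h1 h2 => by
      have := Fact.mk hq
      obtain ⟨P, hP⟩ := exists_sylowIn q (⊤ : Subgroup G)
      refine ab_of hP (by_contra fun h => ?_)
      have := aa_lt hP ((Nat.pow_le_pow_left (show 3 ≤ q by have := hq.two_le; omega) 2).trans (sq_le_ee hP.2 h))
        (by norm_num)
      omega
  refine ⟨q, r, ⟨fun x hx => ?_, fun x hx p p' hp hp' hd hd' h1 h2 => by_contra fun h => ?_⟩, hq, hr, q2, r2, rq.symm,
    d2, dq, dr, all, ab q r hq q2 (ap r hr dr) sum, ab r q hr r2 (ap q hq dq) (by omega), sum⟩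
  · by_contra! h
    have h1 := (Finset.card_le_card (s := {2, q, r}) (by
      simp [Finset.insert_subset_iff, cs_ne_zero, *])).trans (hσ x)
    rw [Finset.card_insert_of_notMem (by simp [q2.symm, r2.symm]), Finset.card_pair rq.symm] at h1
    omega
  · obtain ⟨t, ht, h3⟩ : ∃ t, t.Prime ∧ ∀ d, d = 2 ∨ d = q ∨ d = r → d = p ∨ d = p' ∨ d = t := by
      rcases all p hp hd with rfl | rfl | rfl <;> rcases all p' hp' hd' with rfl | rfl | rfl <;>
        first | exact absurd rfl h | exact ⟨r, hr, by omega⟩ | exact ⟨q, hq, by omega⟩ | exact ⟨2, p2, by omega⟩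
    obtain ⟨a, b, e⟩ := hG
    refine e (Char.comm_of_isSimpleGroup_of_prime_pow_class ht hx
      (Nat.eq_prime_pow_of_unique_prime_dvd (cs_ne_zero x) fun {d} h4 h5 => ?_) a b)
    rcases h3 d (all d h4 (h5.trans (cs_dvd_card x))) with rfl | rfl | rfl
    exacts [absurd h5 h1, absurd h5 h2, rfl]

namespace Tri

variable {q r : ℕ} (h : Tri G q r) {S Q R : Subgroup G}
include h

theorem symm : Tri G r q :=
  ⟨h.toTp, h.hr, h.hq, h.r2, h.q2, h.qr.symm, h.d2, h.dr, h.dq, fun p hp hd => by have := h.all p hp hd; omega,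
    h.ar, h.aq, by have := h.sum; omega⟩

theorem card_eq (hS : SylowIn 2 S ⊤) (hQ : SylowIn q Q ⊤) (hR : SylowIn r R ⊤) :
    Nat.card G = Nat.card S * Nat.card Q * Nat.card R := by
  have := Fact.mk h.hq
  have := Fact.mk h.hr
  have h0 : Nat.card G ≠ 0 := Nat.card_pos.ne'
  have e : (Nat.card G).primeFactors = {2, q, r} := Finset.ext fun p => by
    simp only [Nat.mem_primeFactors, Finset.mem_insert, Finset.mem_singleton]
    refine ⟨fun e => h.all p e.1 e.2.1, ?_⟩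
    rintro (rfl | rfl | rfl)
    exacts [⟨Nat.prime_two, h.d2, h0⟩, ⟨h.hq, h.dq, h0⟩, ⟨h.hr, h.dr, h0⟩]
  rw [hS.card_eq_pow, hQ.card_eq_pow, hR.card_eq_pow, card_top, mul_assoc]
  conv_lhs => rw [← Nat.prod_factorization_pow_eq_self h0, Finsupp.prod, Nat.support_factorization, e,
    Finset.prod_insert (by simp [h.q2.symm, h.r2.symm]), Finset.prod_pair h.qr]

theorem two_cent {z : G} (h1 : z ≠ 1) (hz : ¬ 2 ∣ cs z) : SylowIn 2 (centralizer {z}) ⊤ := by
  have := Fact.mk h.hq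
  have := Fact.mk h.hr
  refine ⟨le_top, IsPGroup.of_card (Nat.eq_prime_pow_of_unique_prime_dvd Nat.card_pos.ne' fun {d} hd e => ?_),
    by rwa [relIndex_top_right]⟩
  rcases h.all d hd (e.trans (card_subgroup_dvd_card _)) with rfl | rfl | rfl
  exacts [rfl, h.eq_of_dvd_cent h.aq h1 Nat.prime_two h.d2 hz e, h.eq_of_dvd_cent h.ar h1 Nat.prime_two h.d2 hz e]

theorem cent_two (hS : SylowIn 2 S ⊤) {z : G} (h1 : z ≠ 1) (hz : z ∈ 𝐂 S) : centralizer {z} = S :=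
  hS.eq_of_le (h.two_cent h1 (not_dvd_of_cent hS hz)).2 (le_cent_iff.2 hz) le_top

theorem exists_z (hS : SylowIn 2 S ⊤) : ∃ z ∈ 𝐂 S, orderOf z = 2 := by
  have h1 := Core.inf_centralizer_ne_bot_of_isPGroup hS.2 hS.2 le_normalizer
    (mt hS.eq_bot_iff.1 (by rw [card_top, not_not]; exact h.d2))
  obtain ⟨z, hz, h2⟩ := exists_prime_mem Nat.prime_two
    ((hS.2.to_inf_left (K := 𝐂 S)).card_eq_or_dvd.resolve_left fun e => h1 (card_eq_one.1 e))
  exact ⟨z, hz.2, h2⟩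

theorem cent_le (hS : SylowIn 2 S ⊤) : 𝐂 S ≤ S := fun z hz => by
  by_cases h1 : z = 1
  · exact h1 ▸ one_mem S
  · exact h.cent_two hS h1 hz ▸ self_mem_cent z

theorem card_le_two (hS : SylowIn 2 S ⊤) (h4 : (𝐂 S).relIndex S = 4) : Nat.card (𝐂 S) ≤ 2 := by
  have k1 : ∀ t ∈ S, t ∉ 𝐂 S → (𝐂 S).relIndex (S ⊓ centralizer {t}) = 2 := fun t ht h1 => by
    have h2 := relIndex_mul_relIndex (𝐂 S) (S ⊓ centralizer {t}) S
      (le_inf (h.cent_le hS) (centralizer_le (Set.singleton_subset_iff.2 ht))) inf_le_left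
    have h3 := mt relIndex_eq_one.1 fun e : S ⊓ centralizer {t} ≤ 𝐂 S => h1 (e ⟨ht, self_mem_cent t⟩)
    have h5 := mt relIndex_eq_one.1 fun e : S ≤ S ⊓ centralizer {t} => h1 (le_cent_iff.1 (e.trans inf_le_right))
    rw [h4] at h2
    have h6 := Nat.le_of_dvd (by norm_num) (Dvd.intro _ h2)
    generalize (𝐂 S).relIndex (S ⊓ centralizer {t}) = m at *
    interval_cases m <;> omega
  obtain ⟨t, ht, h1, h2⟩ : ∃ t ∈ S, t ∉ 𝐂 S ∧ ¬ 2 ∣ cs t := by
    by_contra! hc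
    have k2 : ∀ t ∈ S, t ∉ 𝐂 S → t * t = 1 := fun t ht h1 => by_contra fun h2 =>
      h.of_zpow (mul_mem (mem_zpowers t) (mem_zpowers t)) h2 Nat.prime_two h.d2 (not_dvd_of_cent hS
        (mul_self_mem_of_index_two (k1 t ht h1) ⟨t, ht, self_mem_cent t⟩)) (hc t ht h1)
    have h1 : S ≤ 𝐂 S := fun a ha => mem_centralizer_iff.2 fun b hb => by_contra fun e => by
      have e1 := k2 a ha fun h1 => e (h1 b hb)
      have e2 := k2 b hb fun h1 => e (h1 a ha).symm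
      have e3 := k2 _ (mul_mem ha hb) fun h1 => e (mul_left_cancel (a := a) (by rw [← mul_assoc, ← h1 a ha]))
      refine e ?_
      rw [← inv_eq_of_mul_eq_one_right e3, mul_inv_rev, inv_eq_of_mul_eq_one_right e1, inv_eq_of_mul_eq_one_right e2]
    rw [relIndex_eq_one.2 h1] at h4
    omega
  have h3 : t ≠ 1 := fun e => h1 (e ▸ one_mem _)
  have h5 := h.two_cent h3 h2
  obtain ⟨z, hz, z2⟩ := h.exists_z hS
  have h6 := Hall.card_mul_card_le (H := 𝐂 S) (K := 𝐂 (centralizer {t})) (L := S ⊓ centralizer {t})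
    (le_inf (h.cent_le hS) (centralizer_le (Set.singleton_subset_iff.2 ht))) (le_inf (fun w hw =>
      h.cent_two hS (Invol.ne_one_of_two z2) hz ▸ Hall.mem_cent_iff.2 (hw z (Hall.mem_cent_iff.2 (hz t ht).symm)).symm)
      (h.cent_le h5))
  rw [(eq_bot_iff_forall _).2 fun w (hw : w ∈ 𝐂 S ⊓ 𝐂 (centralizer {t})) => by_contra fun e =>
    h1 (le_cent_iff.1 ((h.cent_two hS e hw.1).symm.trans (h.cent_two h5 e hw.2)).le), card_bot, mul_one,
    ← Transfer.card_mul_relIndex (le_inf (h.cent_le hS) (centralizer_le (Set.singleton_subset_iff.2 ht))),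
    k1 t ht h1, card_cent_eq h5 hS] at h6
  exact Nat.le_of_mul_le_mul_left h6 Nat.card_pos

theorem eight (hS : SylowIn 2 S ⊤) (hn : ¬ S ≤ 𝐂 S) : 8 * aa 2 G ≤ Nat.card G := by
  obtain ⟨j, hj⟩ := exists_relIndex hS.2 hn
  have h1 := aa_le hS
  have h2 := Transfer.card_mul_relIndex (h.cent_le hS)
  have h3 := Nat.mul_le_mul_left (𝐍 S).index (card_le_of_le (le_normalizer (H := S)))
  rw [index_mul_card, ← h2, hj] at h3
  rcases j with _ | j
  · have h4 := h.card_le_two hS hj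
    have h5 : 0 < Nat.card (𝐂 S) := Nat.card_pos
    generalize Nat.card (𝐂 S) = m at *
    interval_cases m <;> omega
  · have : 8 ≤ 2 ^ (j + 1 + 2) := Nat.pow_le_pow_right (n := 2) two_pos (show 3 ≤ j + 1 + 2 by omega)
    nlinarith [Nat.mul_le_mul_left ((𝐍 S).index * Nat.card (𝐂 S)) this]

theorem three_le (hQ : SylowIn q Q ⊤) : 3 ≤ Nat.card Q := by
  have := Fact.mk h.hq
  have h1 := Nat.le_of_dvd Nat.card_pos (hQ.2.card_eq_or_dvd.resolve_left fun e =>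
    hQ.eq_bot_iff.1 (card_eq_one.1 e) (card_top (G := G) ▸ h.dq))
  have := h.hq.two_le
  have := h.q2
  omega

theorem not_dvd_cent {p : ℕ} [Fact p.Prime] (hA : Ab p G) (hQ : SylowIn q Q ⊤) (hd : p ∣ Nat.card (𝐂 Q)) : p = q := by
  have := Fact.mk h.hq
  obtain ⟨⟨x, hx⟩, h1⟩ := ne_bot_iff_exists_ne_one.1 (mt hQ.eq_bot_iff.1 (by rw [card_top, not_not]; exact h.dq))
  have h2 : x ≠ 1 := fun e => h1 (Subtype.ext e)
  exact h.eq_of_dvd_cent hA h2 h.hq h.dq (not_dvd_of_cent hQ (h.aq Q hQ.2 hx)) (h.cent_eq h.aq hQ hx h2 ▸ hd)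

theorem card_cent (hQ : SylowIn q Q ⊤) : ∃ a, Nat.card (𝐂 Q) = Nat.card Q * 2 ^ a := by
  have := Fact.mk h.hr
  have h1 := Transfer.card_mul_relIndex (h.aq Q hQ.2)
  refine ⟨_, h1.symm.trans (congrArg _ (Nat.eq_prime_pow_of_unique_prime_dvd index_ne_zero_of_finite fun {d} hd e => ?_))⟩
  have h2 : d ∣ Nat.card (𝐂 Q) := h1 ▸ e.mul_left _
  rcases h.all d hd (h2.trans (card_subgroup_dvd_card _)) with rfl | rfl | rfl
  exacts [rfl, absurd e (hQ.mono (h.aq Q hQ.2) le_top).3, absurd (h.not_dvd_cent h.ar hQ h2) h.qr.symm]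

theorem exists_inv (hS : SylowIn 2 S ⊤) (hQ : SylowIn q Q ⊤) {a : ℕ} (ha : Nat.card (𝐂 Q) = Nat.card Q * 2 ^ a)
    (h0 : a ≠ 0) : ∃ v : G, orderOf v = 2 ∧ Nat.card (𝐂 S) * 2 ^ a * Nat.card Q ≤ cc v := by
  have := Fact.mk h.hq
  obtain ⟨T, hT⟩ := exists_sylowIn 2 (𝐂 Q)
  have h1 : 2 ^ a ∣ Nat.card T := ((Nat.prime_two.coprime_iff_not_dvd.2 hT.3).pow_left a).dvd_of_dvd_mul_right
    (by rw [Transfer.card_mul_relIndex hT.1, ha]; exact dvd_mul_left _ _)
  have h2 := Core.inf_centralizer_ne_bot_of_isPGroup hT.2 hT.2 le_normalizer fun e => by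
    rw [e, card_bot, Nat.dvd_one, Nat.pow_eq_one] at h1; omega
  obtain ⟨v, hv, v2⟩ := exists_prime_mem Nat.prime_two
    ((hT.2.to_inf_left (K := 𝐂 T)).card_eq_or_dvd.resolve_left fun e => h2 (card_eq_one.1 e))
  obtain ⟨U, hTU, hU⟩ := exists_sylowIn_ge hT.2 le_top
  have h3 := Hall.card_mul_card_le (H := 𝐂 U) (K := T) (L := U ⊓ centralizer {v})
    (le_inf (h.cent_le hU) (centralizer_le (Set.singleton_subset_iff.2 (hTU hv.1)))) (le_inf hTU (le_cent_iff.2 hv.2))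
  rw [(eq_bot_iff_forall _).2 fun w (hw : w ∈ 𝐂 U ⊓ T) => by_contra fun e => h.q2 (h.excl w e _ _ h.hq Nat.prime_two
    h.dq h.d2 (not_dvd_of_cent hQ (hT.1 hw.2)) (not_dvd_of_cent hU hw.1)), card_bot, mul_one, card_cent_eq hU hS] at h3
  have h4 := Hall.card_mul_card_le (H := U ⊓ centralizer {v}) (K := Q) (L := centralizer {v}) inf_le_right
    (le_cent_iff.2 (hT.1 hv.1))
  rw [(IsPGroup.disjoint_of_ne 2 q h.q2.symm _ _ hU.2.to_inf_left hQ.2).eq_bot, card_bot, mul_one] at h4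
  exact ⟨v, v2, le_trans (Nat.mul_le_mul_right _ ((Nat.mul_le_mul_left _ (Nat.le_of_dvd Nat.card_pos h1)).trans h3)) h4⟩

theorem two_dvd (hQ : SylowIn q Q ⊤) (ha : Nat.card (𝐂 Q) = Nat.card Q * 2 ^ 0) {x : G} {k : ℕ}
    (hx : orderOf x = 2 ^ k) (h1 : x ≠ 1) : q ∣ cs x := by_contra fun h2 => by
  have := Fact.mk h.hq
  obtain ⟨g, hg⟩ := exists_conj_cent hQ h2
  obtain ⟨n, hn⟩ := hQ.2.exists_card_eq
  have h3 := (𝐂 Q).orderOf_dvd_natCard hg
  rw [ha, pow_zero, mul_one, hn, Invol.orderOf_conj, hx] at h3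
  exact h1 (orderOf_eq_one_iff.1 (hx ▸ Nat.Coprime.eq_one_of_dvd
    (((Nat.coprime_primes Nat.prime_two h.hq).2 h.q2.symm).pow k n) h3))

theorem ab_two [IsSimpleGroup G] (hG : ∃ x y : G, x * y ≠ y * x) : Ab 2 G := by
  have := Fact.mk h.hq
  have := Fact.mk h.hr
  obtain ⟨S⟩ : Nonempty (Sylow 2 G) := inferInstance
  have hS := sylowIn_top S
  obtain ⟨Q, hQ⟩ := exists_sylowIn q (⊤ : Subgroup G)
  obtain ⟨R, hR⟩ := exists_sylowIn r (⊤ : Subgroup G)
  refine ab_of hS (by_contra fun hn => ?_)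
  have h1 := h.eight hS hn
  have h2 := two_le_ee hG h.dq hQ
  have h3 := two_le_ee hG h.dr hR
  have h4 := h.sum
  have hg := h.card_eq hS hQ hR
  have q3 := h.three_le hQ
  have r3 := h.symm.three_le hR
  have g9 : 9 ≤ Nat.card G := by rw [hg, mul_assoc]; exact le_trans (by nlinarith) (Nat.le_mul_of_pos_left _ Nat.card_pos)
  have h5 : (𝐂 Q).relIndex (𝐍 Q) = 2 := by_contra fun e => by
    have := aa_lt hQ (e := 3) (by omega) (by norm_num)
    have := aa_lt hR h3 (by norm_num)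
    omega
  have h6 : (𝐂 R).relIndex (𝐍 R) = 2 := by_contra fun e => by
    have := aa_lt hR (e := 3) (by omega) (by norm_num)
    have := aa_lt hQ h2 (by norm_num)
    omega
  obtain ⟨l, hl⟩ := h.inv2 h.aq h.q2 h.dq hQ h5
  obtain ⟨m, hm⟩ := h.inv2 h.ar h.r2 h.dr hR h6
  obtain ⟨a, ha⟩ := h.card_cent hQ
  obtain ⟨b, hb⟩ := h.symm.card_cent hR
  obtain ⟨i, hi⟩ := hS.2.exists_card_eq
  obtain ⟨c, hc⟩ := (hS.2.to_le (h.cent_le hS)).exists_card_eq
  obtain ⟨z, hz, z2⟩ := h.exists_z hS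
  have h7 : cc z = 2 ^ i := by rw [cc, h.cent_two hS (Invol.ne_one_of_two z2) hz, hi]
  have h8 := TwoPr.card_eq Q
  have h9 := TwoPr.card_eq R
  have := arith (c := c) q3 r3 (Nat.pos_of_ne_zero fun e => by
      have := (𝐂 S).orderOf_dvd_natCard hz
      rw [hc, e, z2] at this; omega) (hi ▸ hg) (by rw [← ha, ← h7]; exact hl.bound z2)
    (by rw [← hb, ← h7]; exact hm.bound z2) (fun h0 => by
      obtain ⟨v, v2, hv⟩ := h.symm.exists_inv hS hR hb h0
      rw [← ha, ← hc]; exact lt_of_le_of_lt (by gcongr) (hl.bound v2)) (fun h0 => by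
      obtain ⟨v, v2, hv⟩ := h.exists_inv hS hQ ha h0
      rw [← hb, ← hc]; exact lt_of_le_of_lt (by gcongr) (hm.bound v2)) (by rw [← ha, ← h5]; exact h8)
    (by rw [← hb, ← h6]; exact h9) fun e => by
      have e1 := aa_le hS
      have e2 := aa_le hQ
      have e3 := aa_le hR
      have e4 := Nat.mul_le_mul_left (𝐍 S).index (card_le_of_le (le_normalizer (H := (S : Subgroup G))))
      rw [index_mul_card, hg, mul_assoc, mul_comm] at e4
      have e5 := Nat.le_of_mul_le_mul_left e4 Nat.card_pos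
      rw [hc, e] at e1
      rw [h5] at h8
      rw [h6] at h9
      omega
  rw [this.1] at ha
  rw [this.2] at hb
  have := Cfsg.Agent.S4355.result (fun x ⟨k, hk⟩ => by
    by_cases h1 : x = 1
    · rw [h1, cs_one]; norm_num
    obtain ⟨p, hp, hd, e⟩ := h.cover x h1
    rcases h.all p hp hd with rfl | rfl | rfl
    exacts [e, absurd (h.two_dvd hQ ha hk h1) e, absurd (h.symm.two_dvd hR hb hk h1) e]) S
  exact hn (le_centralizer _)

end Tri

end Cfsg.Lib.Exc.TwoPr
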