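import Cfsg.Agent.Lib.Exc.Two3
import Cfsg.Agent.Lib.Exc.EC
import Cfsg.Agent.Lib.Hall.SylNum
import Cfsg.Agent.Lib.Hall.MinNormal

/-!
# Groups whose class sizes have at most two prime divisors
-/

set_option autoImplicit false
set_option linter.unusedSectionVars false

namespace Cfsg.Lib.Exc.TwoPr

open Cfsg Cfsg.Lib.Hall Cfsg.Lib.Transfer Subgroup

universe u

variable {G : Type*} [Group G] [Finite G]

local notation "𝐂 " H:max => centralizer ((H : Subgroup G) : Set G)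
local notation "𝐍 " H:max => normalizer ((H : Subgroup G) : Set G)

/-- every class size has at most two prime divisors -/
def Sg (G : Type*) [Group G] : Prop := ∀ x : G, (cs x).primeFactors.card ≤ 2

theorem Sg.sub (h : Sg G) (N : Subgroup G) [N.Normal] : Sg N := fun x =>
  (Finset.card_le_card (Nat.primeFactors_mono (cs_subgroup_dvd x) (cs_ne_zero _))).trans (h x)

theorem Sg.quot (h : Sg G) (N : Subgroup G) [N.Normal] : Sg (G ⧸ N) := fun x => by
  obtain ⟨x, rfl⟩ := QuotientGroup.mk_surjective x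
  exact (Finset.card_le_card (Nat.primeFactors_mono (cs_mk_dvd N x) (cs_ne_zero _))).trans (h x)

/-- two prime divisors -/
def Big (n : ℕ) : Prop := ∃ a b : ℕ, a.Prime ∧ b.Prime ∧ a ≠ b ∧ a ∣ n ∧ b ∣ n

theorem Sg.dvd (h : Sg G) {y : G} {p m : ℕ} (hp : p.Prime) (h1 : p ∣ cs y) (h2 : m ∣ cs y) (hm : Big m) : p ∣ m := by
  obtain ⟨a, b, ha, hb, hab, h3, h4⟩ := hm
  by_contra h5
  have e1 : p ≠ a := fun e => h5 (e ▸ h3)
  have e2 : p ≠ b := fun e => h5 (e ▸ h4)
  have := (Finset.card_le_card (s := {p, a, b}) (by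
    simp [Finset.insert_subset_iff, cs_ne_zero, h3.trans h2, h4.trans h2, *])).trans (h y)
  rw [Finset.card_insert_of_notMem (by simp [e1, e2]), Finset.card_pair hab] at this
  omega

/-- what we know about the simple groups with the property -/
structure Good (G : Type*) [Group G] : Prop where
  nc : ∃ x y : G, x * y ≠ y * x
  ab : ∀ p, p.Prime → Ab p G
  cent : ∀ p, p.Prime → ∀ P : Subgroup G, SylowIn p P ⊤ → ∀ x ∈ P, x ≠ 1 → centralizer {x} = P
  big : ∀ x : G, x ≠ 1 → Big (cs x)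
  three : ∀ n, n ≠ 0 → n.primeFactors.card ≤ 2 → ∃ p, p.Prime ∧ p ∣ Nat.card G ∧ ¬ p ∣ n
  iso : Nat.card G = 60 ∧ Nonempty (G ≃* alternatingGroup (Fin 5)) ∨
    Nat.card G = 504 ∧ Nonempty (G ≃* Matrix.ProjectiveSpecialLinearGroup (Fin 2) (GaloisField 2 3))

theorem good [IsSimpleGroup G] (hG : ∃ x y : G, x * y ≠ y * x) (hσ : Sg G) : Good G := by
  obtain ⟨q, r, h⟩ := exists_tri hG hσ
  have a2 := h.ab_two hG
  have p2 := Nat.prime_two
  have ab : ∀ p, p.Prime → Ab p G := fun p hp P hP => by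
    have := Fact.mk hp
    rcases hP.card_eq_or_dvd with e | e
    · rw [card_eq_one.1 e]; exact bot_le
    · rcases h.all p hp (e.trans (card_subgroup_dvd_card _)) with rfl | rfl | rfl
      exacts [a2 P hP, h.aq P hP, h.ar P hP]
  have c3 : ({2, q, r} : Finset ℕ).card = 3 := by
    rw [Finset.card_insert_of_notMem (by simp [h.q2.symm, h.r2.symm]), Finset.card_pair h.qr]
  refine ⟨hG, ab, fun p hp P hP x hx h1 => ?_, fun x hx => ?_, fun n h0 hn => ?_, ?_⟩
  · have := Fact.mk hp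
    have h2 := ab p hp P hP.2 hx
    refine hP.eq_of_le (IsPGroup.of_card (Nat.eq_prime_pow_of_unique_prime_dvd Nat.card_pos.ne' fun {d} hd e => ?_))
      (Hall.le_cent_iff.2 h2) le_top
    have := Fact.mk hd
    exact h.eq_of_dvd_cent (ab d hd) h1 hp (dvd_of_isPGroup (isPGroup_zpowers_of_mem hP.2 hx) h1)
      (not_dvd_of_cent hP h2) e
  · obtain ⟨p, hp, hd, h1⟩ := h.cover x hx
    have key : ∀ a, a.Prime → a ∣ Nat.card G → a ≠ p → a ∣ cs x := fun a ha h2 h3 =>
      by_contra fun e => h3 (h.excl x hx a p ha hp h2 hd e h1)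
    rcases h.all p hp hd with rfl | rfl | rfl
    exacts [⟨q, r, h.hq, h.hr, h.qr, key q h.hq h.dq h.q2, key r h.hr h.dr h.r2⟩,
      ⟨2, r, p2, h.hr, h.r2.symm, key 2 p2 h.d2 h.q2.symm, key r h.hr h.dr h.qr.symm⟩,
      ⟨2, q, p2, h.hq, h.q2.symm, key 2 p2 h.d2 h.r2.symm, key q h.hq h.dq h.qr⟩]
  · by_contra! e
    have := (Finset.card_le_card (s := {2, q, r}) (by
      simp [Finset.insert_subset_iff, h0, p2, h.hq, h.hr, e 2 p2 h.d2, e q h.hq h.dq, e r h.hr h.dr])).trans hn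
    omega
  have nc : ¬ IsMulCommutative G := fun e => hG.elim fun x e1 => e1.elim fun y e2 => e2 (e.1.1 x y)
  obtain ⟨F, _, _, f, hf, hF, ⟨e⟩⟩ := AC.simple (G := G) (fun t ht x y h1 h2 => by
    have := (h.two_cent (Invol.ne_one_of_two ht) (a2.not_dvd ((isPGroup_zpowers_iff p2).2 ⟨1, ht⟩))).2
    exact a2 _ this (Hall.mem_cent_iff.2 h2) x (Hall.mem_cent_iff.2 h1)) nc (even_iff_two_dvd.2 h.d2)
  have h4 : 2 ^ 2 ∣ 2 ^ f := pow_dvd_pow 2 hf
  have h5 := Nat.le_of_dvd (by positivity) h4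
  have hc := Linear.card_PSL_two_of_even (F := F) (by
    rw [Nat.card_eq_fintype_card, hF]; exact even_iff_two_dvd.2 (dvd_trans (by norm_num) h4))
  rw [← Nat.card_congr e.toEquiv, Nat.card_eq_fintype_card (α := F), hF] at hc
  have key : ∀ a b : ℕ, a * b ∣ Nat.card G → a ≠ 0 → b ≠ 1 → ¬ 2 ∣ a → ¬ 2 ∣ b → a.Coprime b → 3 ∣ a → ∃ k, a = 3 ^ k :=
    fun a b h1 h2 h3 h6 h7 h8 h9 => ⟨_, Nat.eq_prime_pow_of_unique_prime_dvd h2 fun {d} hd e => by
      obtain ⟨p, hp, e1⟩ := Nat.exists_prime_and_dvd h3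
      have k : ∀ c, c.Prime → c ∣ a → c ≠ 2 ∧ c ≠ p ∧ (c = 2 ∨ c = q ∨ c = r) := fun c hc e => ⟨fun e2 => h6 (e2 ▸ e),
        fun e2 => hp.one_lt.ne' (Nat.eq_one_of_dvd_coprimes h8 (e2 ▸ e) e1), h.all c hc ((e.mul_right b).trans h1)⟩
      have := k d hd e
      have := k 3 Nat.prime_three h9
      have := h.all p hp ((e1.mul_left a).trans h1)
      have : p ≠ 2 := fun e2 => h7 (e2 ▸ e1)
      omega⟩
  have h6 : (2 ^ f - 1).Coprime (2 ^ f + 1) := by
    rw [show 2 ^ f + 1 = 2 + (2 ^ f - 1) by omega, Nat.coprime_add_self_right, Nat.coprime_two_right, Nat.odd_iff]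
    omega
  have h7 := not_three_dvd_two_pow f
  by_cases h8 : 3 ∣ 2 ^ f - 1
  · obtain ⟨k, hk⟩ := key _ _ (by rw [hc, mul_assoc]; exact dvd_mul_left _ _) (by omega) (by omega) (by omega) (by omega)
      h6 h8
    obtain rfl := three_pow_add_one (a := k) (by omega) hf
    exact Or.inl ⟨hc, Linear.nonempty_equiv_A5_of_simple hc⟩
  · obtain ⟨k, hk⟩ := key _ _ (by rw [hc, mul_assoc, mul_comm (_ + 1)]; exact dvd_mul_left _ _) (by omega) (by omega)
      (by omega) (by omega) h6.symm ((by omega : ∀ m : ℕ, 2 ^ 2 ≤ m → ¬ 3 ∣ m → ¬ 3 ∣ m - 1 → 3 ∣ m + 1) _ h5 h7 h8)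
    obtain rfl := three_pow_eq hk.symm hf
    obtain ⟨n, -, h9, e'⟩ := psl_galois (hF ▸ h4) ⟨e⟩
    obtain rfl : 3 = n := Nat.pow_right_injective le_rfl (hF.symm.trans h9)
    exact Or.inr ⟨hc, e'⟩

theorem ncard_sylowIn {p : ℕ} [Fact p.Prime] {P : Subgroup G} (hP : SylowIn p P ⊤) :
    {U : Subgroup G | SylowIn p U ⊤}.ncard = (𝐍 P).index := by
  obtain ⟨P, rfl⟩ := hP.exists_sylow_top
  refine Eq.trans ?_ P.card_eq_index_normalizer
  rw [← Set.ncard_range_of_injective (f := fun Q : Sylow p G => (Q : Subgroup G)) fun _ _ => Sylow.ext]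
  congr 1
  ext U
  exact ⟨fun h => h.exists_sylow_top, fun ⟨Q, e⟩ => e ▸ sylowIn_top Q⟩

theorem card_sylowIn {p k m : ℕ} [hp : Fact p.Prime] {P : Subgroup G} (hP : SylowIn p P ⊤) (h : Nat.card G = p ^ k * m)
    (hm : ¬ p ∣ m) : Nat.card P = p ^ k := by
  rw [hP.card_eq_pow, card_top, h, Nat.factorization_mul (pow_ne_zero _ hp.out.ne_zero) (by rintro rfl; exact hm (dvd_zero p)),
    Finsupp.add_apply, hp.out.factorization_pow, Finsupp.single_eq_same, Nat.factorization_eq_zero_of_not_dvd hm, add_zero]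

theorem map_cj (β : MulAut G) (g : G) (T : Subgroup G) :
    (cj g T).map β.toMonoidHom = cj (β g) (T.map β.toMonoidHom) := by
  rw [cj_def, cj_def, map_map, map_map]
  congr 1
  ext x
  simp

theorem map_fix {β : MulAut G} {A : Subgroup G} (h : ∀ a ∈ A, β a = a) : A.map β.toMonoidHom = A :=
  le_antisymm (map_le_iff_le_comap.2 fun a ha => by simpa [h a ha] using ha) fun a ha => ⟨a, ha, h a ha⟩

namespace Good

variable [IsSimpleGroup G] (h : Good G)
include h

theorem not_comm : ¬ IsMulCommutative G := fun e => h.nc.elim fun x e1 => e1.elim fun y e2 => e2 (e.1.1 x y)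

theorem dvd : 4 ∣ Nat.card G := by rcases h.iso with ⟨e, -⟩ | ⟨e, -⟩ <;> rw [e] <;> norm_num

theorem ex {p : ℕ} (hp : p.Prime) : ∃ x : G, x ≠ 1 ∧ ¬ p ∣ cs x := by
  have := Fact.mk hp
  by_cases hd : p ∣ Nat.card G
  · obtain ⟨x, hx⟩ := exists_prime_orderOf_dvd_card' p hd
    exact ⟨x, fun e => hp.one_lt.ne (by rw [← hx, e, orderOf_one]),
      (h.ab p hp).not_dvd ((isPGroup_zpowers_iff hp).2 ⟨1, by rw [hx, pow_one]⟩)⟩
  · obtain ⟨x, hx⟩ := exists_ne (1 : G)
    exact ⟨x, hx, fun e => hd (e.trans (cs_dvd_card x))⟩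

theorem cent_eq {p : ℕ} [hp : Fact p.Prime] {P : Subgroup G} (hP : SylowIn p P ⊤) (hd : p ∣ Nat.card G) : 𝐂 P = P := by
  obtain ⟨⟨x, hx⟩, h1⟩ := ne_bot_iff_exists_ne_one.1 (mt hP.eq_bot_iff.1 (by rwa [card_top, not_not]))
  exact le_antisymm ((centralizer_le (Set.singleton_subset_iff.2 hx)).trans
    (h.cent p hp.out P hP x hx fun e => h1 (Subtype.ext e)).le) (h.ab p hp.out P hP.2)

theorem inner_of_fix {β : MulAut G} {A T : Subgroup G} (hA : A ≤ 𝐂 A) (hβ : ∀ a ∈ A, β a = a) (hT : SylowIn 2 T ⊤)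
    (hTA : T ≠ A) (hd : A ⊓ 𝐍 T = ⊥) (hc : ({U : Subgroup G | SylowIn 2 U ⊤} \ {A}).ncard ≤ Nat.card A) :
    ∃ g, ∀ x, β x = g * x * g⁻¹ := by
  have tr : ∀ U, SylowIn 2 U ⊤ → U ≠ A → ∃ a ∈ A, cj a T = U := fun U hU h1 => by
    have := Set.eq_of_subset_of_ncard_le (s := (fun a => cj a T) '' A) (t := {U : Subgroup G | SylowIn 2 U ⊤} \ {A})
      (by
        rintro _ ⟨a, ha, rfl⟩
        exact ⟨hT.cj_of_mem (mem_top a), fun e => hTA (by
          rw [← cj_inv_cj a T, show cj a T = A from e, cj_eq_of_mem (A.inv_mem ha)])⟩)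
      (by
        rw [Set.InjOn.ncard_image fun a ha b hb e => ?_]
        · exact hc
        · have : b⁻¹ * a ∈ A ⊓ 𝐍 T := ⟨A.mul_mem (A.inv_mem hb) ha,
            cj_eq_iff.1 (by rw [cj_mul, show cj a T = _ from e, cj_inv_cj])⟩
          rw [hd, mem_bot] at this
          exact (inv_mul_eq_one.1 this).symm)
    exact this.ge ⟨hU, h1⟩
  have ms : ∀ (γ : MulAut G) U, SylowIn 2 U ⊤ → SylowIn 2 (U.map γ.toMonoidHom) ⊤ := fun γ U hU =>
    map_top_of_surjective γ.toMonoidHom γ.surjective ▸ hU.map _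
  obtain ⟨a, ha, e⟩ := tr _ (ms β T hT) fun e => hTA (map_injective β.injective (e.trans (map_fix hβ).symm))
  refine ⟨a, fun x => ?_⟩
  have fx : ∀ U, SylowIn 2 U ⊤ → U.map β.toMonoidHom = cj a U := fun U hU => by
    by_cases h1 : U = A
    · rw [h1, map_fix hβ, cj_eq_of_mem ha]
    · obtain ⟨b, hb, rfl⟩ := tr U hU h1
      rw [map_cj, hβ b hb, ← e, ← cj_mul, ← cj_mul, hA ha b hb]
  have k : (a * x * a⁻¹)⁻¹ * β x ∈ (𝐍 T).normalCore := fun b => cj_eq_iff.1 (by
    have hU := hT.cj_of_mem (mem_top (a⁻¹ * b⁻¹))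
    have h1 := map_cj β x (cj (a⁻¹ * b⁻¹) T)
    rw [fx _ (hU.cj_of_mem (mem_top x)), fx _ hU, ← cj_mul, ← cj_mul, ← cj_mul, ← cj_mul] at h1
    rw [show b * ((a * x * a⁻¹)⁻¹ * β x) * b⁻¹ = b * (a * x * a⁻¹)⁻¹ * (β x * a * (a⁻¹ * b⁻¹)) by group, cj_mul, ← h1,
      ← cj_mul, show b * (a * x * a⁻¹)⁻¹ * (a * x * (a⁻¹ * b⁻¹)) = 1 by group, cj_one])
  rw [((normalCore_normal _).eq_bot_or_eq_top).resolve_right fun e => Small.normalizer_ne_top_of_isPGroup h.not_comm hT.2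
    (mt hT.eq_bot_iff.1 (by rw [card_top, not_not]; exact dvd_trans (by norm_num) h.dvd))
      (top_le_iff.1 (e.ge.trans (normalCore_le _))), mem_bot] at k
  exact (inv_mul_eq_one.1 k).symm

theorem inner_aux {i k t u : ℕ} (ht : t.Prime) (hu : u.Prime) (t2 : t ≠ 2) (e1 : 2 ^ i = u + 1) (e2 : t ^ k = u + 2)
    (h2 : ¬ 2 ∣ t ^ k * u) (h3 : ¬ t ∣ 2 ^ i * u) (hc : Nat.card G = 2 ^ i * (t ^ k * u)) (α : MulAut G)
    (hα : ∀ g : G, ∃ p, p.Prime ∧ p ∣ Nat.card G ∧ ∃ P, SylowIn p P ⊤ ∧ ∀ a ∈ P, g * α a * g⁻¹ = a) :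
    ∃ g, ∀ x, α x = g * x * g⁻¹ := by
  classical
  have := Fact.mk ht
  have := Fact.mk hu
  have d2 : 2 ∣ Nat.card G := dvd_trans (by norm_num) h.dvd
  have du : u ∣ Nat.card G := hc ▸ (dvd_mul_left _ _).mul_left _
  have n2 : ∀ T : Subgroup G, SylowIn 2 T ⊤ → ¬ t ∣ Nat.card (𝐍 T) ∧ (𝐍 T).index = u + 2 := fun T hT => by
    have c1 := card_sylowIn hT hc h2
    have c2 : ¬ t ∣ Nat.card (𝐍 T) := fun e => by
      obtain ⟨x, hx, h4⟩ := exists_prime_mem ht e
      have hp := (isPGroup_zpowers_iff ht).2 ⟨1, h4.trans (pow_one t).symm⟩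
      have h5 := Hall.card_modEq_card_inf_centralizer hp (zpowers_le.2 hx)
      rw [(eq_bot_iff_forall _).2 fun y (hy : y ∈ T ⊓ 𝐂 (zpowers x)) => by_contra fun e => by
        have h6 := T.orderOf_dvd_natCard (h.cent 2 Nat.prime_two T hT y hy.1 e ▸
          Hall.mem_cent_iff.2 (hy.2 x (mem_zpowers x)))
        rw [h4, c1] at h6
        exact h3 (h6.mul_right _), card_bot, c1, e1] at h5
      exact h3 (((Nat.modEq_iff_dvd' (by omega)).1 h5.symm).mul_left _)
    have c3 := TwoPr.card_eq T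
    have c4 := three_le_ee h.nc d2 hT
    have c5 := Transfer.card_mul_relIndex (centralizer_le_normalizer (T : Set G))
    rw [h.cent_eq hT d2] at c3 c4 c5
    rw [c1, hc, mul_right_comm, mul_comm] at c3
    have c6 := Nat.eq_of_mul_eq_mul_left (by positivity) c3
    have c7 := (hu.eq_one_or_self_of_dvd _ (((ht.coprime_iff_not_dvd.2 fun e => c2 (c5 ▸ e.mul_left _)).symm.pow_right
      k).dvd_of_dvd_mul_left (Dvd.intro_left _ c6))).resolve_left (by omega)
    rw [c7, e2] at c6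
    exact ⟨c2, Nat.eq_of_mul_eq_mul_right hu.pos c6⟩
  by_contra hn
  have hβ : ∀ g : G, ∃ P : Sylow u G, ∀ a ∈ P, g * α a * g⁻¹ = a := fun g => by
    obtain ⟨p, hp, hd, P, hP, e⟩ := hα g
    have key : ∀ T : Subgroup G, SylowIn 2 T ⊤ → T ≠ P → P ⊓ 𝐍 T = ⊥ →
        ({U : Subgroup G | SylowIn 2 U ⊤} \ {P}).ncard ≤ Nat.card P → False := fun T h1 h4 h5 h6 => by
      obtain ⟨a, ha⟩ := h.inner_of_fix (β := MulAut.conj g * α) (h.ab p hp P hP.2) e h1 h4 h5 h6
      refine hn ⟨g⁻¹ * a, fun x => ?_⟩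
      rw [show g⁻¹ * a * x * (g⁻¹ * a)⁻¹ = g⁻¹ * (a * x * a⁻¹) * g by group, ← ha]
      simp [mul_assoc]
    rw [hc, hp.dvd_mul, hp.dvd_mul] at hd
    rcases hd with hd | hd | hd
    · obtain rfl := (Nat.prime_dvd_prime_iff_eq hp Nat.prime_two).1 (hp.dvd_of_dvd_pow hd)
      have c1 := ncard_sylowIn hP
      obtain ⟨T, hT, h4⟩ := Set.exists_ne_of_one_lt_ncard (s := {U : Subgroup G | SylowIn 2 U ⊤})
        (by rw [c1, (n2 P hP).2]; omega) P
      refine (key T hT h4 ((eq_bot_iff_forall _).2 fun a ha => by_contra fun h5 => h4 ?_) ?_).elim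
      · rw [← h.cent 2 hp P hP a ha.1 h5, h.cent 2 hp T hT a (hT.le_of_normalizes (isPGroup_zpowers_of_mem hP.2 ha.1)
          le_top (zpowers_le.2 ha.2) (mem_zpowers a)) h5]
      · rw [Set.ncard_sdiff_singleton_of_mem (show P ∈ {U : Subgroup G | SylowIn 2 U ⊤} from hP), c1, (n2 P hP).2, card_sylowIn hP hc h2, e1]; omega
    · obtain rfl := (Nat.prime_dvd_prime_iff_eq hp ht).1 (hp.dvd_of_dvd_pow hd)
      obtain ⟨T, hT⟩ := exists_sylowIn 2 (⊤ : Subgroup G)
      have c1 := card_sylowIn hP (by rw [hc, mul_left_comm]) h3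
      refine (key T hT (fun e => ?_) (disjoint_of_coprime_natCard (c1 ▸ (hp.coprime_iff_not_dvd.2 (n2 T hT).1).pow_left
        k)).eq_bot ((Set.ncard_sdiff_singleton_le _ _).trans ?_)).elim
      · rw [← e, card_sylowIn hT hc h2] at c1; omega
      · rw [ncard_sylowIn hT, (n2 T hT).2, c1, e2]
    · obtain rfl := (Nat.prime_dvd_prime_iff_eq hp hu).1 hd
      obtain ⟨P, rfl⟩ := hP.exists_sylow_top
      exact ⟨P, e⟩
  choose f hf using hβ
  have := Fintype.ofFinite G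
  have := Fintype.ofFinite (Sylow u G)
  obtain ⟨Q⟩ : Nonempty (Sylow u G) := inferInstance
  have c1 := Finset.card_le_mul_card_image_of_maps_to (f := f) (s := Finset.univ) (t := Finset.univ)
    (fun _ _ => Finset.mem_univ _) (Nat.card (𝐂 Q)) fun P _ => by
      rcases (Finset.univ.filter fun a => f a = P).eq_empty_or_nonempty with e | ⟨b, hb⟩
      · rw [e]; exact Nat.zero_le _
      rw [card_cent_eq (sylowIn_top Q) (sylowIn_top P), ← Clifford.card_elems]
      refine Finset.card_le_card_of_injOn (· * b⁻¹) (fun g hg => Clifford.mem_elems.2 fun a ha => ?_)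
        fun _ _ _ _ e => mul_right_cancel e
      have e1 := hf g a (by rwa [(Finset.mem_filter.1 hg).2])
      have e2 := hf b a (by rwa [(Finset.mem_filter.1 hb).2])
      calc a * (g * b⁻¹) = g * α a * g⁻¹ * (g * b⁻¹) := by rw [e1]
        _ = g * b⁻¹ * (b * α a * b⁻¹) := by group
        _ = _ := by rw [e2]
  rw [Finset.card_univ, Finset.card_univ, ← Nat.card_eq_fintype_card, ← Nat.card_eq_fintype_card,
    show Nat.card (Sylow u G) = (𝐍 Q).index from Q.card_eq_index_normalizer] at c1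
  have c2 := TwoPr.card_eq (Q : Subgroup G)
  have c3 := two_le_ee h.nc du (sylowIn_top Q)
  have c4 : 0 < Nat.card G := Nat.card_pos
  nlinarith [Nat.mul_le_mul_left ((𝐍 Q).index * Nat.card (𝐂 Q)) c3]

theorem inner (α : MulAut G)
    (hα : ∀ g : G, ∃ p, p.Prime ∧ p ∣ Nat.card G ∧ ∃ P, SylowIn p P ⊤ ∧ ∀ a ∈ P, g * α a * g⁻¹ = a) :
    ∃ g, ∀ x, α x = g * x * g⁻¹ := by
  rcases h.iso with ⟨e, -⟩ | ⟨e, -⟩
  · exact h.inner_aux (i := 2) (k := 1) Nat.prime_five Nat.prime_three (by norm_num) rfl rfl (by norm_num) (by norm_num)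
      e α hα
  · exact h.inner_aux (i := 3) (k := 2) Nat.prime_three Nat.prime_seven (by norm_num) rfl rfl (by norm_num) (by norm_num)
      e α hα

theorem commutator_eq : commutator G = ⊤ :=
  (inferInstance : (commutator G).Normal).eq_bot_or_eq_top.resolve_left fun e => h.not_comm ((commutator_eq_bot_iff G).1 e)

theorem center_eq : center G = ⊥ :=
  (inferInstance : (center G).Normal).eq_bot_or_eq_top.resolve_right fun e =>
    h.not_comm ⟨⟨fun a b => mem_center_iff.1 (e ▸ mem_top b) a⟩⟩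

end Good

theorem Sg.center {S : Subgroup G} [S.Normal] [IsSimpleGroup S] (h : Sg G) (hS : Good S) :
    center G ⊓ S = ⊥ ∧ center G ⊔ S = ⊤ := by
  have h1 : ∀ x ∈ S, x ∈ 𝐂 S → x = 1 := fun x hx e => congrArg Subtype.val
    (mem_bot.1 (hS.center_eq ▸ mem_center_iff.2 fun y => Subtype.ext (e y y.2) : (⟨x, hx⟩ : S) ∈ ⊥))
  have h2 : 𝐂 S ≤ Subgroup.center G := fun c hc => by_contra fun e => by
    obtain ⟨p, hp, hd⟩ := Nat.exists_prime_and_dvd (one_lt_cs e).ne'
    obtain ⟨x, hx, h3⟩ := hS.ex hp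
    have h4 : centralizer {c * x} ≤ centralizer {c} := fun g hg => by
      have e1 : c⁻¹ * (g * c * g⁻¹) = x * (g * (x : G)⁻¹ * g⁻¹) := by
        rw [show c⁻¹ * (g * c * g⁻¹) = c⁻¹ * (g * (c * x)) * ((x : G)⁻¹ * g⁻¹) by group, Hall.mem_cent_iff.1 hg]; group
      have := h1 _ (e1 ▸ mul_mem x.2 (Normal.conj_mem ‹_› _ (inv_mem x.2) g))
        (mul_mem (inv_mem hc) (Normal.conj_mem inferInstance _ hc g))
      exact Hall.mem_cent_iff.2 (mul_inv_eq_iff_eq_mul.1 (inv_mul_eq_one.1 this).symm)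
    have h5 : centralizer {c * x} ⊓ S ≤ centralizer {(x : G)} := fun g hg => by
      refine Hall.mem_cent_iff.2 (mul_left_cancel (a := c) ?_)
      rw [← mul_assoc, ← hc g hg.2, mul_assoc, Hall.mem_cent_iff.1 hg.1, mul_assoc]
    have h6 := relIndex_dvd_of_le_left S h5
    rw [inf_relIndex_right, ← cs_coe_eq_relIndex] at h6
    exact h3 (h.dvd hp (hd.trans (index_dvd_of_le h4)) (h6.trans (relIndex_dvd_index_of_normal_right _ _)) (hS.big x hx))
  refine ⟨(eq_bot_iff_forall _).2 fun x hx => h1 x hx.2 (center_le_centralizer _ hx.1), eq_top_iff.2 fun y _ => ?_⟩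
  obtain ⟨g, hg⟩ := hS.inner (MulAut.conjNormal y) fun g => by
    obtain ⟨p, hp, hd, h3⟩ := hS.three _ (cs_ne_zero ((g : G) * y)) (h _)
    have := Fact.mk hp
    obtain ⟨P, hP⟩ := exists_sylow_le_of_not_dvd_index (H := (centralizer {(g : G) * y}).subgroupOf S)
      fun e => h3 (e.trans (relIndex_dvd_index_of_normal_right _ S))
    refine ⟨p, hp, hd, P, sylowIn_top P, fun a ha => Subtype.ext ?_⟩
    have := Hall.mem_cent_iff.1 (hP ha)
    simp only [coe_mul, coe_inv, MulAut.conjNormal_apply, coe_subtype] at this ⊢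
    rw [show g * (y * a * y⁻¹) * (g : G)⁻¹ = g * y * a * (g * y)⁻¹ by group, ← this, mul_inv_cancel_right]
  rw [← mul_inv_cancel_left (g : G) y]
  refine mul_mem (mem_sup_right g.2) (mem_sup_left (h2 fun a ha => ?_))
  have := congrArg Subtype.val (hg ⟨a, ha⟩)
  simp only [coe_mul, coe_inv, MulAut.conjNormal_apply] at this
  calc a * ((g : G)⁻¹ * y) = (g : G)⁻¹ * (g * a * (g : G)⁻¹) * y := by group
    _ = _ := by rw [← this]; group

theorem Sg.split {Y : Type*} [Group Y] [Finite Y] [IsSimpleGroup Y] (h : Sg G) (hY : Good Y) {π : G →* Y}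
    (hs : Function.Surjective π) {p : ℕ} (hp : p.Prime) (hk : IsPGroup p π.ker) (hc : π.ker ≤ 𝐂 π.ker) :
    Nonempty (commutator G ≃* Y) := by
  have := Fact.mk hp
  have key : ∀ x : G, π x ≠ 1 → ¬ p ∣ cs (π x) → ¬ p ∣ cs x := fun x h1 h2 h3 =>
    h2 (h.dvd hp h3 (cs_map_dvd hs x) (hY.big _ h1))
  have pd : ∀ {A P : Subgroup G}, IsPGroup p P → ¬ P ≤ A → p ∣ A.relIndex P := fun {A P} hP h1 => by
    obtain ⟨k, hk⟩ := hP.index (A.subgroupOf P)
    exact (dvd_pow_self p fun e => h1 (relIndex_eq_one.1 (by rw [relIndex, hk, e, pow_zero]))).trans hk.symm.dvd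
  have h1 : π.ker ≤ Subgroup.center G := by
    rcases (Normal.map (inferInstance : (𝐂 π.ker).Normal) π hs).eq_bot_or_eq_top with e | e
    · obtain ⟨y, h1, h2⟩ := hY.ex hp
      obtain ⟨x, rfl⟩ := hs y
      exact absurd ((pd hk fun e1 => h1 (mem_bot.1 (e ▸ mem_map_of_mem π (Hall.le_cent_iff.1 e1)))).trans
        (relIndex_dvd_index_of_normal_right _ _)) (key x h1 h2)
    · have := comap_map_eq π (𝐂 π.ker)
      rw [e, comap_top, sup_eq_left.2 hc] at this
      exact centralizer_eq_top_iff_subset.1 this.symm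
  obtain ⟨P, hkP, hP⟩ := exists_sylowIn_ge hk le_top
  have hP' : SylowIn p (P.map π) ⊤ := map_top_of_surjective π hs ▸ hP.map π
  have h2 : P ≤ 𝐂 P := fun x hx => by_contra fun e => by
    have h2 : π x ≠ 1 := fun e1 => e (center_le_centralizer _ (h1 e1))
    have h3 : centralizer {x} ≤ P := by
      rw [← comap_map_eq_self hkP, ← hY.cent p hp _ hP' _ (mem_map_of_mem π hx) h2]
      exact map_le_iff_le_comap.1 (map_cent_le π x)
    refine key x h2 (not_dvd_of_cent hP' (hY.ab p hp _ hP'.2 (mem_map_of_mem π hx))) ?_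
    rw [← relIndex_mul_index h3]
    exact (pd hP.2 fun e1 => e (Hall.le_cent_iff.1 e1)).mul_right _
  have h3 := inf_commutator_inf_center_le P (coprime_relIndex_commutator (relIndex_top_right P ▸ hP.coprime))
  rw [commutator_eq_bot_iff_le_centralizer.2 h2] at h3
  refine ⟨MulEquiv.ofBijective (π.comp (commutator G).subtype) ⟨(injective_iff_map_eq_one _).2 fun x hx =>
    Subtype.ext (mem_bot.1 (h3 ⟨⟨hkP hx, x.2⟩, h1 hx⟩)), fun y => ?_⟩⟩
  have h4 : (commutator G).map π = ⊤ := by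
    rw [_root_.commutator_def, map_commutator, map_top_of_surjective π hs]; exact hY.commutator_eq
  obtain ⟨x, h5, h6⟩ := mem_map.1 (h4 ▸ mem_top y)
  exact ⟨⟨x, h5⟩, h6⟩

theorem exists_simple (G : Type u) [Group G] [Finite G] (h : Sg G) (hn : ¬ Group.IsSolvable G) :
    ∃ S : Subgroup G, S.Normal ∧ IsSimpleGroup S ∧ ∃ x y : S, x * y ≠ y * x := by
  induction hc : Nat.card G using Nat.strong_induction_on generalizing G with
  | _ n ih =>
  subst hc
  have : Nontrivial G := not_subsingleton_iff_nontrivial.1 fun _ => hn inferInstance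
  obtain ⟨N, hN, h0, hmin⟩ := exists_minNormal (G := G)
  by_cases hs : Group.IsSolvable N
  · obtain ⟨h1, p, hp, h2⟩ := minNormal_elementary h0 hmin
    obtain ⟨S, _, _, h3⟩ := ih _ (card_quotient_lt h0) (G ⧸ N) (h.quot N)
      (fun _ => hn (isSolvable_of_normal_quotient N)) rfl
    have hS := good h3 ((h.quot N).sub S)
    have h4 : ∀ x : S.comap (QuotientGroup.mk' N), x ∈ ((QuotientGroup.mk' N).subgroupComap S).ker → (x : G) ∈ N :=
      fun x hx => (QuotientGroup.eq_one_iff _).1 (congrArg Subtype.val hx)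
    obtain ⟨e⟩ := (h.sub (S.comap (QuotientGroup.mk' N))).split hS
      (MonoidHom.subgroupComap_surjective_of_surjective _ S (QuotientGroup.mk'_surjective N)) hp
      (isPGroup_of_pow_eq_one fun x hx => Subtype.ext (h2 _ (h4 x hx)))
      fun x hx y hy => Subtype.ext (setLike_mul_comm (h4 y hy) (h4 x hx))
    let e' := (equivMapOfInjective _ _ (S.comap (QuotientGroup.mk' N)).subtype_injective).symm.trans e
    obtain ⟨x, y, h5⟩ := h3
    exact ⟨_, inferInstance, e'.isSimpleGroup, e'.symm x, e'.symm y, fun e => h5 (by simpa using congrArg e' e)⟩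
  · have nc : ∃ x y : N, x * y ≠ y * x := by
      by_contra! e
      exact hs (Group.isSolvable_of_comm e)
    refine ⟨N, hN, ?_, nc⟩
    by_cases h1 : N = ⊤
    · subst h1
      have : IsSimpleGroup G := ⟨fun K hK => hmin K hK le_top⟩
      exact topEquiv.isSimpleGroup
    · obtain ⟨S, _, _, h3⟩ := ih _ (card_lt_of_ne_top h1) N (h.sub N) hs rfl
      have h4 := ((h.sub N).center (good h3 ((h.sub N).sub S))).2
      rcases char_eq_bot_or_top_of_minNormal hmin (Subgroup.center N) with e | e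
      · rw [e, bot_sup_eq] at h4
        subst h4
        exact topEquiv.symm.isSimpleGroup
      · obtain ⟨x, y, h5⟩ := nc
        exact absurd (mem_center_iff.1 (e ▸ mem_top y) x) h5

end Cfsg.Lib.Exc.TwoPr
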